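import Cfsg.Agent.Helper82.GaloisChar
import Cfsg.Agent.Helper79.CharBasic

set_option autoImplicit false

/-!
# Burnside-type sums (helper82)

For a character `χ` of a finite group and a subset `T` stable under the power maps
`g ↦ g ^ k` (`k` coprime to `|G|`): `#{g ∈ T | χ g ≠ 0} ≤ ∑_{g ∈ T} ‖χ g‖²`.
-/

namespace Cfsg.Agent.Helper82

open Cfsg

/-- Galois averaging with respect to any exponent `N` of `g`. -/
theorem totient_le_sum_normSq_char' {G : Type*} [Group G] {χ : G → ℂ} (hχ : IsCharacter G χ)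
    (g : G) (N : ℕ) (hN : 0 < N) (hgN : g ^ N = 1) (h0 : χ g ≠ 0) :
    (N.totient : ℝ) ≤
      ∑ k ∈ (Finset.range N).filter (fun k => k.Coprime N), ‖χ (g ^ k)‖ ^ 2 := by
  have hg : IsOfFinOrder g := isOfFinOrder_iff_pow_eq_one.2 ⟨N, hN, hgN⟩
  obtain ⟨n, ρ, rfl⟩ := hχ
  obtain ⟨b, μ, -, h2, -, h4⟩ := Cfsg.Agent.Helper80.exists_eigen_data_rep ρ g hg
  have hdvd : orderOf g ∣ N := orderOf_dvd_of_pow_eq_one hgN
  have h2' : ∀ i, μ i ^ N = 1 := by
    intro i
    obtain ⟨c, rfl⟩ := hdvd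
    rw [pow_mul, h2, one_pow]
  have h0' : ∑ i, μ i ≠ 0 := by
    have := h4 1
    simp only [pow_one] at this
    rw [← this]; exact h0
  have := totient_le_sum_normSq_powersum N hN μ h2' h0'
  simpa only [h4] using this

/-- Reindexing a sum over a power-stable finite set by a coprime power map. -/
theorem sum_pow_coprime_eq {G : Type*} [Group G] [Fintype G] [DecidableEq G] (T : Finset G)
    (k : ℕ) (hk : k.Coprime (Nat.card G)) (hT : ∀ g ∈ T, g ^ k ∈ T) {M : Type*} [AddCommMonoid M]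
    (f : G → M) : ∑ g ∈ T, f (g ^ k) = ∑ g ∈ T, f g := by
  have hinj : Function.Injective (fun g : G => g ^ k) := by
    have := (powCoprime (G := G) (by rwa [Nat.coprime_comm])).injective
    exact this
  have himg : T.image (fun g : G => g ^ k) = T := by
    apply Finset.eq_of_subset_of_card_le
    · intro x hx
      obtain ⟨g, hg, rfl⟩ := Finset.mem_image.1 hx
      exact hT g hg
    · rw [Finset.card_image_of_injective T hinj]
  calc ∑ g ∈ T, f (g ^ k) = ∑ x ∈ T.image (fun g : G => g ^ k), f x := by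
        rw [Finset.sum_image (fun a _ b _ h => hinj h)]
    _ = ∑ g ∈ T, f g := by rw [himg]

/-- **Burnside-type inequality.** On a power-stable set, the number of elements where a
character does not vanish is at most the sum of `‖χ g‖²`. -/
theorem card_nonvanishing_le_sum {G : Type*} [Group G] [Fintype G] [DecidableEq G] {χ : G → ℂ}
    (hχ : IsCharacter G χ) (T : Finset G)
    (hT : ∀ g ∈ T, ∀ k : ℕ, k.Coprime (Nat.card G) → g ^ k ∈ T) :
    ((T.filter (fun g => χ g ≠ 0)).card : ℝ) ≤ ∑ g ∈ T, ‖χ g‖ ^ 2 := by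
  classical
  set N := Nat.card G with hNdef
  have hN : 0 < N := Nat.card_pos
  set K := (Finset.range N).filter (fun k => k.Coprime N) with hK
  have hφ : (0 : ℝ) < (N.totient : ℝ) := by exact_mod_cast Nat.totient_pos.2 hN
  -- double sum
  have h1 : ∑ k ∈ K, ∑ g ∈ T, ‖χ (g ^ k)‖ ^ 2 = (K.card : ℝ) * ∑ g ∈ T, ‖χ g‖ ^ 2 := by
    rw [Finset.sum_congr rfl (fun k hk => sum_pow_coprime_eq T k (Finset.mem_filter.1 hk).2
      (fun g hg => hT g hg k (Finset.mem_filter.1 hk).2) (fun g => ‖χ g‖ ^ 2))]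
    rw [Finset.sum_const, nsmul_eq_mul]
  have hcard : K.card = N.totient := by
    rw [Nat.totient_eq_card_coprime]
    congr 1
    ext k
    simp only [hK, Finset.mem_filter, Finset.mem_range, Nat.coprime_comm]
  have h2 : ((T.filter (fun g => χ g ≠ 0)).card : ℝ) * (N.totient : ℝ) ≤
      ∑ g ∈ T, ∑ k ∈ K, ‖χ (g ^ k)‖ ^ 2 := by
    calc ((T.filter (fun g => χ g ≠ 0)).card : ℝ) * (N.totient : ℝ)
        = ∑ g ∈ T.filter (fun g => χ g ≠ 0), (N.totient : ℝ) := by
          rw [Finset.sum_const, nsmul_eq_mul]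
      _ ≤ ∑ g ∈ T.filter (fun g => χ g ≠ 0), ∑ k ∈ K, ‖χ (g ^ k)‖ ^ 2 := by
          apply Finset.sum_le_sum
          intro g hg
          have hgN : g ^ N = 1 := by rw [hNdef]; exact pow_card_eq_one'
          exact totient_le_sum_normSq_char' hχ g N hN hgN (Finset.mem_filter.1 hg).2
      _ ≤ ∑ g ∈ T, ∑ k ∈ K, ‖χ (g ^ k)‖ ^ 2 := by
          apply Finset.sum_le_sum_of_subset_of_nonneg (Finset.filter_subset _ _)
          intro g _ _
          exact Finset.sum_nonneg (fun k _ => sq_nonneg _)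
  rw [Finset.sum_comm, h1, hcard] at h2
  have h3 : ((T.filter (fun g => χ g ≠ 0)).card : ℝ) * (N.totient : ℝ) ≤
      (∑ g ∈ T, ‖χ g‖ ^ 2) * (N.totient : ℝ) := by
    rw [mul_comm (∑ g ∈ T, ‖χ g‖ ^ 2) (N.totient : ℝ)]; exact h2
  exact le_of_mul_le_mul_right h3 hφ

/-- `∑ ‖χ g‖² = |G|` for an irreducible character. -/
theorem sum_normSq_irr {G : Type*} [Group G] [Fintype G] (χ : IrrCharacter G) :
    ∑ g : G, ‖(χ : G → ℂ) g‖ ^ 2 = (Nat.card G : ℝ) := by
  have h := Cfsg.Agent.Helper79.classInner_irr_self χ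
  unfold classInner at h
  have hG0 : (Nat.card G : ℂ) ≠ 0 := by exact_mod_cast Nat.card_pos.ne'
  have h2 : ∑ g : G, (χ : G → ℂ) g * (starRingEnd ℂ) ((χ : G → ℂ) g) = (Nat.card G : ℂ) := by
    field_simp at h
    exact h
  have h3 : ((∑ g : G, ‖(χ : G → ℂ) g‖ ^ 2 : ℝ) : ℂ) = ((Nat.card G : ℝ) : ℂ) := by
    rw [Complex.ofReal_sum]
    simp only [Complex.ofReal_pow, Complex.ofReal_natCast]
    rw [← h2]
    refine Finset.sum_congr rfl (fun g _ => ?_)
    rw [Complex.mul_conj']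
  exact_mod_cast h3

/-- A power-stability helper: `g ≠ 1` is preserved by coprime powers. -/
theorem pow_ne_one_of_coprime {G : Type*} [Group G] [Finite G] {g : G} (hg : g ≠ 1) {k : ℕ}
    (hk : k.Coprime (Nat.card G)) : g ^ k ≠ 1 := by
  intro h
  apply hg
  have hinj := (powCoprime (G := G) (by rwa [Nat.coprime_comm])).injective
  apply hinj
  show g ^ k = 1 ^ k
  rw [h, one_pow]

/-- if `g ^ k ∈ H` with `k` coprime to `|G|` then `g ∈ H` -/
theorem mem_of_pow_mem_of_coprime {G : Type*} [Group G] [Finite G] (H : Subgroup G) {g : G}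
    {k : ℕ} (hk : k.Coprime (Nat.card G)) (h : g ^ k ∈ H) : g ∈ H := by
  have hko : k.Coprime (orderOf g) := hk.coprime_dvd_right (orderOf_dvd_natCard g)
  obtain ⟨m, hm⟩ := exists_pow_eq_self_of_coprime hko
  rw [← hm]
  exact H.pow_mem h m

end Cfsg.Agent.Helper82
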