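import Cfsg.Agent.Helper82.AutComplex
import Cfsg.Agent.Helper82.BurnsideSum
import Cfsg.Agent.Helper74.CharBasic
import Cfsg.Agent.Helper15.IndChar

set_option autoImplicit false

/-!
# Galois conjugates of characters are characters (helper82)

* `isCharacter_ringEquiv_comp`: for a ring automorphism `τ` of `ℂ` and a character `χ`, `τ ∘ χ`
  is a character (apply `τ` to the matrix entries).
* `galoisConj_isCharacter`, `galoisConj_isIrrCharacter`: for `k` coprime to `|G|`,
  `g ↦ χ (g ^ k)` is a character, irreducible if `χ` is.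
-/

namespace Cfsg.Agent.Helper82

open Cfsg

universe u

section conj
variable {G : Type u} [Group G]

/-- entrywise conjugate of a matrix representation by a ring automorphism of `ℂ` -/
noncomputable def conjRep (τ : ℂ ≃+* ℂ) {n : ℕ} (ρ : Representation ℂ G (Fin n → ℂ)) :
    Representation ℂ G (Fin n → ℂ) where
  toFun g := Matrix.toLin' ((Cfsg.Agent.Helper74.repMat ρ g).map τ)
  map_one' := by
    rw [Cfsg.Agent.Helper74.repMat_one, Matrix.map_one _ (map_zero τ) (map_one τ), Matrix.toLin'_one]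
    rfl
  map_mul' g h := by
    have hm : (Cfsg.Agent.Helper74.repMat ρ g * Cfsg.Agent.Helper74.repMat ρ h).map τ =
        (Cfsg.Agent.Helper74.repMat ρ g).map τ * (Cfsg.Agent.Helper74.repMat ρ h).map τ :=
      Matrix.map_mul (f := (τ : ℂ →+* ℂ))
    rw [Cfsg.Agent.Helper74.repMat_mul, hm, Matrix.toLin'_mul]
    rfl

theorem conjRep_character (τ : ℂ ≃+* ℂ) {n : ℕ} (ρ : Representation ℂ G (Fin n → ℂ)) (g : G) :
    (conjRep τ ρ).character g = τ (ρ.character g) := by
  rw [Cfsg.Agent.Helper74.character_eq_trace_repMat, Cfsg.Agent.Helper74.character_eq_trace_repMat]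
  have h1 : Cfsg.Agent.Helper74.repMat (conjRep τ ρ) g = (Cfsg.Agent.Helper74.repMat ρ g).map τ := by
    show LinearMap.toMatrix' (Matrix.toLin' ((Cfsg.Agent.Helper74.repMat ρ g).map τ)) = _
    rw [LinearMap.toMatrix'_toLin']
  rw [h1]
  simp only [Matrix.trace, Matrix.diag, Matrix.map_apply, map_sum]

/-- `τ ∘ χ` is a character. -/
theorem isCharacter_ringEquiv_comp (τ : ℂ ≃+* ℂ) {χ : G → ℂ} (hχ : IsCharacter G χ) :
    IsCharacter G (fun g => τ (χ g)) := by
  obtain ⟨n, ρ, rfl⟩ := hχ
  exact ⟨n, conjRep τ ρ, funext (fun g => conjRep_character τ ρ g)⟩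

end conj

section galois
variable {G : Type u} [Group G] [Finite G]

/-- For `k` coprime to `|G|`, `g ↦ χ (g ^ k)` is a character. -/
theorem galoisConj_isCharacter {χ : G → ℂ} (hχ : IsCharacter G χ) (k : ℕ)
    (hk : k.Coprime (Nat.card G)) : IsCharacter G (fun g => χ (g ^ k)) := by
  obtain ⟨τ, hτ⟩ := exists_ringAut_complex_pow (Nat.card G) Nat.card_pos k hk
  have h := isCharacter_ringEquiv_comp τ hχ
  have heq : (fun g => τ (χ g)) = fun g => χ (g ^ k) := by
    funext g
    obtain ⟨n, ρ, rfl⟩ := hχ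
    obtain ⟨b, μ, -, h2, -, h4⟩ :=
      Cfsg.Agent.Helper80.exists_eigen_data_rep ρ g (isOfFinOrder_of_finite g)
    have h41 := h4 1
    simp only [pow_one] at h41
    rw [h41, h4, map_sum]
    refine Finset.sum_congr rfl (fun i _ => ?_)
    apply hτ
    obtain ⟨c, hc⟩ := orderOf_dvd_natCard g
    rw [hc, pow_mul, h2, one_pow]
  rw [← heq]; exact h

/-- For `k` coprime to `|G|`, `g ↦ χ (g ^ k)` is an irreducible character if `χ` is. -/
theorem galoisConj_isIrrCharacter {χ : G → ℂ} (hχ : IsIrrCharacter G χ) (k : ℕ)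
    (hk : k.Coprime (Nat.card G)) : IsIrrCharacter G (fun g => χ (g ^ k)) := by
  classical
  have : Fintype G := Fintype.ofFinite G
  have hc : IsCharacter G χ := Cfsg.Agent.Helper74.isCharacter_of_isIrr hχ
  apply Cfsg.Agent.Helper15.isIrrCharacter_of_inner_self_eq_one (galoisConj_isCharacter hc k hk)
  have h1 := Cfsg.Agent.Helper79.classInner_irr_self (⟨χ, hχ⟩ : IrrCharacter G)
  unfold classInner at h1 ⊢
  rw [← h1]
  congr 1
  exact sum_pow_coprime_eq Finset.univ k hk (fun g _ => Finset.mem_univ _)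
    (fun g => χ g * (starRingEnd ℂ) (χ g))

end galois

end Cfsg.Agent.Helper82
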