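import Mathlib
import Cfsg.Prelude.Def_Blocks
import Cfsg.Prelude.Def_CharExt
import Cfsg.Agent.Helper15.DetChar
import Cfsg.Agent.Helper80.Degree
import Cfsg.Agent.Helper82.GaloisConj
import Cfsg.Agent.S0867

/-!
# Galois invariance of the canonical extension (helper82)

* `ringAut_char_eq_pow`: `τ (χ g) = χ (g ^ k)` if `τ` acts as the `k`-th power on `N`-th roots of
  unity and `g ^ N = 1`;
* `detChar_ringAut`: `detChar (τ ∘ χ) = τ ∘ detChar χ`;
* `detOrder_dvd_card`: `o(χ) ∣ |G|`;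
* `canonical_ext_pow_eq`: if `G ⊴ Γ` is a normal Hall subgroup, `χ̂ ∈ Irr Γ` extends `χ ∈ Irr G` and
  `o(χ̂)` is coprime to `|Γ : G|`, then `χ̂ (x ^ k) = χ̂ x` for `k ≡ 1 mod |G|`, `(k, |Γ|) = 1`.
-/

set_option autoImplicit false
set_option linter.unusedSectionVars false

namespace Cfsg.Agent.Helper82

open Cfsg

universe u

section

variable {G : Type u} [Group G] [Finite G]

theorem ringAut_char_eq_pow (τ : ℂ ≃+* ℂ) (N k : ℕ) (hτ : ∀ μ : ℂ, μ ^ N = 1 → τ μ = μ ^ k)
    {χ : G → ℂ} (hχ : IsCharacter G χ) (g : G) (hg : g ^ N = 1) : τ (χ g) = χ (g ^ k) := by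
  obtain ⟨n, ρ, rfl⟩ := hχ
  obtain ⟨b, μ, -, h2, -, h4⟩ :=
    Cfsg.Agent.Helper80.exists_eigen_data_rep ρ g (isOfFinOrder_of_finite g)
  have h41 := h4 1
  simp only [pow_one] at h41
  rw [h41, h4, map_sum]
  refine Finset.sum_congr rfl (fun i _ => ?_)
  apply hτ
  obtain ⟨c, hc⟩ := orderOf_dvd_of_pow_eq_one hg
  rw [hc, pow_mul, h2, one_pow]

theorem detChar_ringAut (τ : ℂ ≃+* ℂ) {χ : G → ℂ} (hχ : IsCharacter G χ) (g : G) :
    detChar (fun x => τ (χ x)) g = τ (detChar χ g) := by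
  obtain ⟨n, ρ, rfl⟩ := hχ
  have h1 : (fun x => τ (ρ.character x)) = (conjRep τ ρ).character :=
    funext fun x => (conjRep_character τ ρ x).symm
  rw [h1, Helper15.detChar_eq_det, Helper15.detChar_eq_det]
  show LinearMap.det (Matrix.toLin' ((Helper74.repMat ρ g).map τ)) = τ (LinearMap.det (ρ g))
  rw [LinearMap.det_toLin']
  have h2 : LinearMap.det (ρ g) = (Helper74.repMat ρ g).det := by
    rw [Helper74.repMat, LinearMap.det_toMatrix']
  rw [h2]
  have := RingHom.map_det (τ : ℂ →+* ℂ) (Helper74.repMat ρ g)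
  exact this.symm

theorem detOrder_ringAut (τ : ℂ ≃+* ℂ) {χ : G → ℂ} (hχ : IsCharacter G χ) :
    detOrder (fun x => τ (χ x)) = detOrder χ := by
  unfold detOrder
  have h1 : detChar (fun x => τ (χ x)) = fun g => τ (detChar χ g) :=
    funext fun g => detChar_ringAut τ hχ g
  rw [h1]
  let F : (G → ℂ) →* (G → ℂ) :=
    { toFun := fun f g => τ (f g)
      map_one' := by funext g; simp
      map_mul' := by intro a b; funext g; simp }
  have hF : Function.Injective F := by
    intro a b h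
    funext g
    exact τ.injective (congrFun h g)
  exact orderOf_injective F hF (detChar χ)

theorem detChar_pow_apply {χ : G → ℂ} (hχ : IsCharacter G χ) (g : G) (n : ℕ) :
    detChar χ (g ^ n) = detChar χ g ^ n := by
  induction n with
  | zero => rw [pow_zero, pow_zero]; exact (Helper15.isCharacter_detChar hχ).2
  | succ n ih => rw [pow_succ, Helper15.detChar_mul hχ, ih, pow_succ]

theorem detOrder_dvd_card {χ : G → ℂ} (hχ : IsCharacter G χ) : detOrder χ ∣ Nat.card G := by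
  unfold detOrder
  apply orderOf_dvd_of_pow_eq_one
  funext g
  rw [Pi.pow_apply, ← detChar_pow_apply hχ, pow_card_eq_one']
  exact (Helper15.isCharacter_detChar hχ).2

end

section

variable {Γ : Type u} [Group Γ] [Finite Γ] (G : Subgroup Γ) [hG : G.Normal]

/-- Uniqueness of the canonical extension (from `S0867`). -/
theorem canonical_ext_unique {χ : G → ℂ} (hχ : IsIrrCharacter G χ)
    (hinv : ∀ (x : Γ) (g : G), χ ⟨x * g * x⁻¹, hG.conj_mem (g : Γ) g.2 x⟩ = χ g)
    (hcop : Nat.Coprime G.index (Nat.card G))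
    {χ₁ χ₂ : Γ → ℂ} (h₁ : IsIrrCharacter Γ χ₁) (h₂ : IsIrrCharacter Γ χ₂)
    (he₁ : ∀ g : G, χ₁ g = χ g) (he₂ : ∀ g : G, χ₂ g = χ g)
    (hd₁ : Nat.Coprime G.index (detOrder χ₁)) (hd₂ : Nat.Coprime G.index (detOrder χ₂)) :
    χ₁ = χ₂ := by
  have hχc := Helper74.isCharacter_of_isIrr hχ
  have hd : χ 1 = (charDegree χ : ℂ) := (Helper80.IsCharacter.charDegree_cast hχc).symm
  have hdd : charDegree χ ∣ Nat.card G := Helper80.IsIrrCharacter.charDegree_dvd_card hχ
  have hcop' : Nat.Coprime G.index (detOrder χ * charDegree χ) :=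
    Nat.Coprime.mul_right (hcop.coprime_dvd_right (detOrder_dvd_card hχc))
      (hcop.coprime_dvd_right hdd)
  obtain ⟨χ₀, -, huniq⟩ := Cfsg.Agent.S0867.result G χ hχ hinv (charDegree χ) hd hcop'
  rw [huniq χ₁ h₁ he₁ hd₁, huniq χ₂ h₂ he₂ hd₂]

/-- **Galois invariance of the canonical extension.** -/
theorem canonical_ext_pow_eq {χ : G → ℂ} (hχ : IsIrrCharacter G χ)
    (hinv : ∀ (x : Γ) (g : G), χ ⟨x * g * x⁻¹, hG.conj_mem (g : Γ) g.2 x⟩ = χ g)
    (hcop : Nat.Coprime G.index (Nat.card G))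
    {χh : Γ → ℂ} (hχh : IsIrrCharacter Γ χh) (hext : ∀ g : G, χh g = χ g)
    (hdet : Nat.Coprime G.index (detOrder χh))
    (k : ℕ) (hk : k.Coprime (Nat.card Γ)) (hk1 : k ≡ 1 [MOD Nat.card G]) (x : Γ) :
    χh (x ^ k) = χh x := by
  obtain ⟨τ, hτ⟩ := exists_ringAut_complex_pow (Nat.card Γ) Nat.card_pos k hk
  have hχhc := Helper74.isCharacter_of_isIrr hχh
  have heq : (fun y => τ (χh y)) = fun y => χh (y ^ k) := by
    funext y
    exact ringAut_char_eq_pow τ (Nat.card Γ) k hτ hχhc y pow_card_eq_one'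
  have hirr : IsIrrCharacter Γ (fun y => χh (y ^ k)) := galoisConj_isIrrCharacter hχh k hk
  have hext' : ∀ g : G, (fun y => χh (y ^ k)) g = χ g := by
    intro g
    have h1 : ((g : Γ)) ^ k = (g : Γ) := by
      have h2 : (g : Γ) ^ Nat.card G = 1 := by
        have := pow_card_eq_one' (G := G) (x := g)
        exact_mod_cast congrArg Subtype.val this
      have := pow_eq_pow_of_modEq hk1 h2
      rwa [pow_one] at this
    show χh ((g : Γ) ^ k) = χ g
    rw [h1, hext]
  have hdet' : Nat.Coprime G.index (detOrder (fun y => χh (y ^ k))) := by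
    rw [← heq, detOrder_ringAut τ hχhc]
    exact hdet
  have := canonical_ext_unique G hχ hinv hcop hirr hχh hext' hext hdet' hdet
  exact congrFun this x

end

end Cfsg.Agent.Helper82
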