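import Cfsg.Agent.S0863
import Cfsg.Agent.Helper25.AbelianInertia
import Cfsg.Agent.Helper25.CliffordInd
import Cfsg.Agent.Helper25.IndTransSub
import Cfsg.Agent.Helper15.DetChar
import Cfsg.Agent.Helper15.TransferLin

set_option autoImplicit false

/-!
# Coprime extension with abelian quotient (helper82)

* `exists_hom_extension_of_coprime`: an invariant homomorphism `N →* A` (`A` commutative) of a
  normal Hall subgroup extends to `G` (Schur–Zassenhaus).
* `abelian_inertia_coprime`: invariant `θ ∈ Irr N`, `T/N` abelian of order prime to `|N|`: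
  `Ind θ` is the sum of `[T:N]` distinct extensions of `θ`.
-/

namespace Cfsg.Agent.Helper82

open Cfsg

universe u

theorem exists_hom_extension_of_coprime {G : Type*} [Group G] [Finite G] (N : Subgroup G)
    [hN : N.Normal] (hcop : Nat.Coprime (Nat.card N) N.index) {A : Type*} [CommGroup A]
    (δ : N →* A)
    (hinv : ∀ (g : G) (n : N), δ ⟨g * n * g⁻¹, hN.conj_mem (n : G) n.2 g⟩ = δ n) :
    ∃ μ : G →* A, ∀ n : N, μ n = δ n := by
  obtain ⟨K, hK⟩ := Subgroup.exists_right_complement'_of_coprime hcop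
  have hbij : Function.Bijective (fun x : N × K => (x.1 : G) * (x.2 : G)) := hK
  choose dec hdec using hbij.2
  have huniq : ∀ (n n' : N) (k k' : K), (n : G) * k = (n' : G) * k' → n = n' ∧ k = k' := by
    intro n n' k k' h
    have := hbij.1 (a₁ := (n, k)) (a₂ := (n', k')) h
    exact ⟨congrArg Prod.fst this, congrArg Prod.snd this⟩
  have hdec' : ∀ g : G, ((dec g).1 : G) * ((dec g).2 : G) = g := hdec
  have hmul : ∀ g h : G, (dec (g * h)).1 =
      (dec g).1 * ⟨((dec g).2 : G) * ((dec h).1 : G) * ((dec g).2 : G)⁻¹,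
        hN.conj_mem _ (dec h).1.2 _⟩ := by
    intro g h
    refine (huniq _ _ (dec (g * h)).2 ((dec g).2 * (dec h).2) ?_).1
    rw [hdec' (g * h)]
    conv_lhs => rw [← hdec' g, ← hdec' h]
    simp only [Subgroup.coe_mul]
    group
  refine ⟨{ toFun := fun g => δ (dec g).1
            map_one' := ?_
            map_mul' := ?_ }, ?_⟩
  · have h1 : dec 1 = (1, 1) := by
      apply hbij.1
      show ((dec 1).1 : G) * ((dec 1).2 : G) = ((1 : N) : G) * ((1 : K) : G)
      rw [hdec' 1]; simp
    rw [h1, map_one]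
  · intro g h
    show δ (dec (g * h)).1 = δ (dec g).1 * δ (dec h).1
    rw [hmul, map_mul, hinv]
  · intro n
    have h1 : dec (n : G) = (n, 1) := by
      apply hbij.1
      show ((dec (n : G)).1 : G) * ((dec (n : G)).2 : G) = (n : G) * ((1 : K) : G)
      rw [hdec' (n : G)]; simp
    show δ (dec (n : G)).1 = δ n
    rw [h1]

section main

variable {T : Type u} [Group T] [Fintype T] (N : Subgroup T) [hN : N.Normal]

theorem abelian_inertia_coprime {θ : N → ℂ} (hθ : IsIrrCharacter N θ)
    (hinv : ∀ t : T, Cfsg.Agent.Helper15.conjFun N t θ = θ)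
    (hab : ∀ x y : T, x * y * x⁻¹ * y⁻¹ ∈ N) (hcop : Nat.Coprime (Nat.card N) N.index) :
    ∃ C : Finset (T → ℂ), (∀ χ ∈ C, IsIrrCharacter T χ) ∧
      (∀ χ ∈ C, classInner (indFun N θ) χ ≠ 0) ∧
      C.card = N.index ∧ indFun N θ = ∑ χ ∈ C, χ ∧ ∀ χ ∈ C, χ 1 = θ 1 := by
  classical
  let _ : Fintype N := Fintype.ofFinite N
  obtain ⟨e, C, he, hCirr, hCne, hcard, hdec, hdeg⟩ :=
    Cfsg.Agent.Helper25.abelian_inertia N hθ hinv hab
  have hθc : IsCharacter N θ := Cfsg.Agent.Helper74.isCharacter_of_isIrr hθ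
  have hθ1 : θ 1 ≠ 0 := Cfsg.Agent.Helper80.IsIrrCharacter.map_one_ne_zero hθ
  -- the degree
  have hd : θ 1 = (Cfsg.charDegree θ : ℂ) := (Cfsg.Agent.Helper80.IsCharacter.charDegree_cast hθc).symm
  have hddvd : Cfsg.charDegree θ ∣ Nat.card N :=
    Cfsg.Agent.Helper80.IsIrrCharacter.charDegree_dvd_card hθ
  have hcopd : Nat.Coprime N.index (Cfsg.charDegree θ) :=
    (hcop.coprime_dvd_left hddvd).symm
  -- solvable quotient
  have hsolv : IsSolvable (T ⧸ N) := by
    apply isSolvable_of_comm
    intro a b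
    induction a using QuotientGroup.induction_on with
    | H x =>
      induction b using QuotientGroup.induction_on with
      | H y =>
        rw [← QuotientGroup.mk_mul, ← QuotientGroup.mk_mul, QuotientGroup.eq]
        have h := hab y⁻¹ x⁻¹
        have : (x * y)⁻¹ * (y * x) = y⁻¹ * x⁻¹ * y⁻¹⁻¹ * x⁻¹⁻¹ := by group
        rw [this]
        exact h
  -- the determinant extends
  have hD := Cfsg.Agent.Helper15.isCharacter_detChar hθc
  let δ : N →* ℂˣ := Cfsg.Agent.Helper15.linCharUnits hD.1 hD.2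
  have hδinv : ∀ (t : T) (n : N), δ ⟨t * n * t⁻¹, hN.conj_mem (n : T) n.2 t⟩ = δ n := by
    intro t n
    apply Units.ext
    rw [Cfsg.Agent.Helper15.linCharUnits_apply, Cfsg.Agent.Helper15.linCharUnits_apply]
    have h1 := Cfsg.Agent.Helper15.detChar_comp (MulAut.conjNormal t : N ≃* N).toMonoidHom hθc n
    have h2 : (fun x : N => θ ((MulAut.conjNormal t : N ≃* N).toMonoidHom x)) = θ := by
      funext x
      exact congrFun (hinv t) x
    rw [h2] at h1
    exact h1.symm
  obtain ⟨μ, hμ⟩ := exists_hom_extension_of_coprime N hcop δ hδinv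
  have hμc := Cfsg.Agent.Helper15.isCharacter_unitsFun μ
  obtain ⟨θhat, hθhat, hθhatN⟩ := (Cfsg.Agent.S0863.result N hsolv θ hθ
    (fun g n => congrFun (hinv g) n) (Cfsg.charDegree θ) hd hcopd).2
    ⟨Cfsg.Agent.Helper15.unitsFun μ, hμc.1, hμc.2, fun n => by
      rw [Cfsg.Agent.Helper15.unitsFun_apply, hμ n, Cfsg.Agent.Helper15.linCharUnits_apply]⟩
  -- `θhat` is a member of `C`
  have hθhatcf : IsClassFunction T θhat :=
    Cfsg.Agent.Helper74.isClassFunction_of_isCharacter (Cfsg.Agent.Helper74.isCharacter_of_isIrr hθhat)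
  have hres : (fun n : N => θhat n) = θ := funext hθhatN
  have hfr : classInner (indFun N θ) θhat = 1 := by
    rw [Cfsg.Agent.Helper15.frobenius_reciprocity N θ θhat hθhatcf, hres]
    exact Cfsg.Agent.Helper74.irr_inner_self ⟨θ, hθ⟩
  have hmem : θhat ∈ C := by
    by_contra hnot
    have h0 : classInner (indFun N θ) θhat = 0 := by
      rw [hdec, Cfsg.Agent.Helper74.classInner_smul_left, Cfsg.Agent.Helper15.classInner_finset_sum_left]
      rw [Finset.sum_eq_zero, mul_zero]
      intro χ hχ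
      have hne : (⟨χ, hCirr χ hχ⟩ : IrrCharacter T) ≠ ⟨θhat, hθhat⟩ := by
        intro h
        apply hnot
        have : χ = θhat := congrArg Subtype.val h
        rw [← this]; exact hχ
      exact Cfsg.Agent.Helper74.irr_inner_ne hne
    rw [hfr] at h0
    exact one_ne_zero h0
  have he1 : e = 1 := by
    have h1 := hdeg θhat hmem
    have h2 : θhat 1 = θ 1 := hθhatN 1
    rw [h2] at h1
    have h3 : ((e : ℂ) - 1) * θ 1 = 0 := by linear_combination -h1
    rcases mul_eq_zero.1 h3 with h4 | h4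
    · have : (e : ℂ) = 1 := by linear_combination h4
      exact_mod_cast this
    · exact absurd h4 hθ1
  subst he1
  refine ⟨C, hCirr, hCne, ?_, ?_, ?_⟩
  · have h1 : C.card * Nat.card N = N.index * Nat.card N := by
      rw [Subgroup.index_mul_card]
      simpa using hcard
    exact Nat.eq_of_mul_eq_mul_right Nat.card_pos h1
  · rw [hdec]; simp
  · intro χ hχ
    rw [hdeg χ hχ]; simp

end main

end Cfsg.Agent.Helper82
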