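import Cfsg.Agent.Helper57.BP.PartI

/-!
# S4705 (helper16's plan), piece (P01): a character of degree `< p - 1` with `P` not in its kernel
is not non-exceptional
-/

set_option autoImplicit false
set_option linter.unusedVariables false

namespace Cfsg.Agent.Helper82.B66

open Cfsg Cfsg.Agent.Helper16 Cfsg.Agent.Helper16.DefOne Cfsg.Agent.Helper82.DefOne
  Cfsg.Agent.Helper77.DefOne Cfsg.Agent.Helper57.BH Cfsg.Agent.Helper57.BP
open scoped ComplexConjugate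

universe u

variable {G : Type u} [Group G] [Fintype G] {p : ℕ} [Fact p.Prime] (P : Sylow p G)

/-- (P01) a character of degree `< p - 1` with `P` not in its kernel is not non-exceptional -/
theorem not_mem_X_of_lt (hP : Nat.card P = p) (θ : IrrCharacter (cen P)) (hθ : IsCanon P θ)
    {X Y : Set (IrrCharacter G)} {ε : IrrCharacter G → ℤ} {δ : ℤ} (D : IsRData P θ X Y ε δ)
    (ψ : IrrCharacter G) (hsmall : charDegree (ψ : G → ℂ) + 1 < p)
    (hker : ∃ x : G, x ∈ (P : Subgroup G) ∧ (ψ : G → ℂ) x ≠ (ψ : G → ℂ) 1) : ψ ∉ X := by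
  intro hψ
  have hp : p.Prime := Fact.out
  obtain ⟨x, hx, hxne⟩ := hker
  have hx1 : x ≠ 1 := by
    rintro rfl
    exact hxne rfl
  obtain ⟨w, hw⟩ : ∃ w : ℕ,
      w = (cen P).relIndex (nor P) / inertia P θ * charDegree (θ : cen P → ℂ) := ⟨_, rfl⟩
  obtain ⟨d, hd⟩ : ∃ d : ℕ, d = charDegree (ψ : G → ℂ) := ⟨_, rfl⟩
  have hvalall : ∀ y : G, y ∈ (P : Subgroup G) → y ≠ 1 →
      (ψ : G → ℂ) y = (ε ψ : ℂ) * (w : ℂ) := by
    intro y hy hy1
    have h1 := D.valX ψ hψ ⟨y, le_cen P hP hy⟩ (dvd_orderOf_of_mem P hP y hy hy1)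
    rw [finsum_orbit_apply_of_mem P hP θ hθ ⟨y, le_cen P hP hy⟩ hy] at h1
    rw [hw]
    exact h1
  have hval : (ψ : G → ℂ) x = (ε ψ : ℂ) * (w : ℂ) := hvalall x hx hx1
  have hdeg : (d : ℤ) ≡ ε ψ * (w : ℤ) [ZMOD p] := by
    rw [hd, hw]
    exact D.degX ψ hψ
  have hψchar : IsCharacter G (ψ : G → ℂ) := by
    obtain ⟨n, ρ, -, h⟩ := ψ.2
    exact ⟨n, ρ, h⟩
  have hnorm : ‖(ψ : G → ℂ) x‖ ≤ (d : ℝ) := by
    rw [hd]
    exact Helper74.norm_le_charDegree hψchar x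
  have hdpos : 0 < d := by
    rw [hd]
    exact Nat.pos_of_ne_zero (charDegree_ne_zero' ψ)
  have hwle : w ≤ d := by
    rw [hval] at hnorm
    have h2 : ‖(ε ψ : ℂ) * (w : ℂ)‖ = (w : ℝ) := by
      rcases D.eps ψ with h | h
      · rw [h]; simp
      · rw [h]; simp
    rw [h2] at hnorm
    exact_mod_cast hnorm
  rw [← hd] at hsmall
  rcases D.eps ψ with h | h
  · -- `ε = 1`
    rw [h, one_mul] at hdeg
    have h3 : d ≡ w [MOD p] := Int.natCast_modEq_iff.1 hdeg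
    have h4 : d = w := Nat.ModEq.eq_of_lt_of_lt h3 (by omega) (by omega)
    apply hxne
    rw [hval, h, irr_one_eq_natCast, ← hd, h4]
    simp
  · -- `ε = -1`
    rw [h] at hdeg
    have h3 : (p : ℤ) ∣ -1 * (w : ℤ) - (d : ℤ) := Int.modEq_iff_dvd.1 hdeg
    have h4 : (p : ℤ) ∣ ((w + d : ℕ) : ℤ) := by
      have := (dvd_neg (a := (p : ℤ))).2 h3
      have e : -(-1 * (w : ℤ) - (d : ℤ)) = ((w + d : ℕ) : ℤ) := by push_cast; ring
      rwa [e] at this
    have h5 : p ∣ w + d := Int.natCast_dvd_natCast.1 h4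
    have h6 := Nat.le_of_dvd (by omega) h5
    -- so `1 ≤ w`
    have hw1 : 1 ≤ w := by omega
    -- the `P`-sum
    have _ : Fintype (P : Subgroup G) := Fintype.ofFinite _
    obtain ⟨m, hm⟩ := Cfsg.Agent.Helper14.BH.pSum_isCharacter_nat P hP (ψ : G → ℂ) hψchar
    rw [Cfsg.Agent.Helper81.BH.pSum_eq_sum,
      Cfsg.Agent.Helper81.BH.sum_P_split P hP (ψ : G → ℂ) ((ε ψ : ℂ) * (w : ℂ)) hvalall,
      irr_one_eq_natCast ψ, ← hd, h] at hm
    -- `d - (p - 1) w = p m` in `ℂ`, hence in `ℤ`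
    have hm' : (d : ℤ) + ((p : ℤ) - 1) * (-1 * (w : ℤ)) = ((p * m : ℕ) : ℤ) := by
      have : (((d : ℤ) + ((p : ℤ) - 1) * (-1 * (w : ℤ)) : ℤ) : ℂ) = (((p * m : ℕ) : ℤ) : ℂ) := by
        push_cast
        push_cast at hm
        linear_combination hm
      exact_mod_cast this
    have hpm : (0 : ℤ) ≤ ((p * m : ℕ) : ℤ) := Int.natCast_nonneg _
    have hp1 : (1 : ℤ) ≤ (p : ℤ) - 1 := by
      have := hp.two_le
      omega
    have hw1' : (1 : ℤ) ≤ (w : ℤ) := by exact_mod_cast hw1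
    have hsm : (d : ℤ) + 1 < (p : ℤ) := by exact_mod_cast hsmall
    nlinarith

end Cfsg.Agent.Helper82.B66
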