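import Cfsg.Agent.Helper57.BP.PartI

/-!
# S4705 (helper16's plan), piece (P22): a character of `p'`-degree with the central character of
`ψ` lies in the block of `θ`
-/

set_option autoImplicit false
set_option linter.unusedVariables false

namespace Cfsg.Agent.Helper82.B66

open Cfsg Cfsg.Agent.Helper16 Cfsg.Agent.Helper16.DefOne Cfsg.Agent.Helper82.DefOne
  Cfsg.Agent.Helper77.DefOne Cfsg.Agent.Helper57.BH Cfsg.Agent.Helper57.BP
open scoped ComplexConjugate

universe u

variable {G : Type u} [Group G] [Fintype G] {p : ℕ} [Fact p.Prime] (P : Sylow p G)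

/-- (P22) a character of `p'`-degree with the central character of `ψ` lies in the block of `θ` -/
theorem mem_Rset_of_overChar (hP : Nat.card P = p)
    [((P : Subgroup G).subgroupOf (nor P)).Normal] (hmod : ModCount p P)
    (hcent : ∀ c : cen P, ¬ p ∣ orderOf c → (c : G) ∈ Subgroup.center G)
    (hZreg : ∀ z : G, z ∈ Subgroup.center G → ¬ p ∣ orderOf z)
    (θ : IrrCharacter (cen P)) (hθ : IsCanon P θ) (hθ1 : charDegree (θ : cen P → ℂ) = 1)
    (ψ : IrrCharacter G)
    (hψθ : ∀ c : cen P, ¬ p ∣ orderOf c →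
      (ψ : G → ℂ) (c : G) = (ψ : G → ℂ) 1 * (θ : cen P → ℂ) c)
    (χ : IrrCharacter G) (hχ : χ ∈ overChar ψ) (hdeg : ¬ p ∣ charDegree (χ : G → ℂ)) :
    χ ∈ Rset P θ := by
  have hp : p.Prime := Fact.out
  have hψ1 : (ψ : G → ℂ) 1 ≠ 0 := Helper76.irr_one_ne_zero ψ.2
  have hχ1 : (χ : G → ℂ) 1 ≠ 0 := Helper76.irr_one_ne_zero χ.2
  -- `C_G(P)` is abelian
  have hcomm : ∀ a b : cen P, a * b = b * a := by
    intro a b
    obtain ⟨u, y, hu, hy, huy, ⟨k, hk⟩, hyreg⟩ :=
      Helper70.DefOneXG.exists_pPart_decomp (p := p) (a : G)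
    have hzC : Subgroup.zpowers (a : G) ≤ cen P := by
      rw [Subgroup.zpowers_le]
      exact a.2
    have huP : u ∈ (P : Subgroup G) :=
      Helper70.DefOneXG.mem_sylow_of_pow P hk (Subgroup.centralizer_le_normalizer _ (hzC hu))
    have hyZ : y ∈ Subgroup.center G := by
      have := hcent ⟨y, hzC hy⟩ (by rw [← Subgroup.orderOf_coe]; exact hyreg)
      exact this
    have hub : u * (b : G) = (b : G) * u :=
      Subgroup.mem_centralizer_iff.mp b.2 u huP
    have hyb : y * (b : G) = (b : G) * y := (Subgroup.mem_center_iff.mp hyZ (b : G)).symm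
    apply Subtype.ext
    rw [Subgroup.coe_mul, Subgroup.coe_mul, ← huy]
    calc u * y * (b : G) = u * ((b : G) * y) := by rw [mul_assoc, hyb]
      _ = (b : G) * u * y := by rw [← mul_assoc, hub]
      _ = (b : G) * (u * y) := by rw [mul_assoc]
  obtain ⟨θ', hcan, hχR⟩ := (not_dvd_degree_iff P hP hmod χ).mp hdeg
  have hθ'1 : (θ' : cen P → ℂ) 1 = 1 := Helper76.irr_one_of_comm hcomm θ'.2
  have heq : θ' = θ := by
    apply canon_ext P hP θ' θ hcan hθ
    intro c hc
    have hcZ := hcent c hc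
    have h3 := Cfsg.Agent.Helper82.BP.central_of_mem_Rset P hP θ' χ hχR c hcZ hc
    rw [hθ'1, mul_one] at h3
    have h4 := hχ (c : G) hcZ
    have h5 := hψθ c hc
    rw [h5, h3] at h4
    have h6 : (χ : G → ℂ) 1 * (ψ : G → ℂ) 1 *
        ((θ' : cen P → ℂ) c - (θ : cen P → ℂ) c) = 0 := by
      linear_combination h4
    rcases mul_eq_zero.mp h6 with h | h
    · exact absurd h (mul_ne_zero hχ1 hψ1)
    · exact sub_eq_zero.mp h
  rw [heq] at hχR
  exact hχR

end Cfsg.Agent.Helper82.B66
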