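import Cfsg.Agent.Helper82.GaloisChar

set_option autoImplicit false

/-!
# Rationality of character values via Galois conjugates (helper82)

For `n`-th roots of unity `μ i`: the power sums `∑ μ i ^ k` (`k` coprime to `n`) are the Galois
conjugates of `∑ μ i`.  Hence `∑ μ i` is rational iff all those power sums coincide.
-/

namespace Cfsg.Agent.Helper82

open Polynomial

/-- A cyclotomic lift of a sum of roots of unity, with its conjugates. -/
theorem exists_cyclotomic_lift {ι : Type*} [Fintype ι] (n : ℕ) (hn : 0 < n) (μ : ι → ℂ)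
    (hμ : ∀ i, μ i ^ n = 1) :
    ∃ a : CyclotomicField n ℚ,
      (∀ σ : CyclotomicField n ℚ →ₐ[ℚ] ℂ, ∃ k, k < n ∧ k.Coprime n ∧ σ a = ∑ i, μ i ^ k) ∧
      (∀ k : ℕ, k.Coprime n → ∃ σ : CyclotomicField n ℚ →ₐ[ℚ] ℂ, σ a = ∑ i, μ i ^ k) := by
  classical
  have hn1 : NeZero n := ⟨hn.ne'⟩
  have hcyc : IsCyclotomicExtension {n} ℚ (CyclotomicField n ℚ) :=
    CyclotomicField.isCyclotomicExtension n ℚ
  let ζ' : CyclotomicField n ℚ := IsCyclotomicExtension.zeta n ℚ (CyclotomicField n ℚ)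
  have hζ' : IsPrimitiveRoot ζ' n := IsCyclotomicExtension.zeta_spec n ℚ (CyclotomicField n ℚ)
  let emb : CyclotomicField n ℚ →ₐ[ℚ] ℂ := IsAlgClosed.lift
  have hζ : IsPrimitiveRoot (emb ζ') n := hζ'.map_of_injective emb.injective
  have hex : ∀ i, ∃ j : ℕ, (emb ζ') ^ j = μ i := by
    intro i
    obtain ⟨j, _, hj⟩ := hζ.eq_pow_of_pow_eq_one (hμ i)
    exact ⟨j, hj⟩
  choose j hj using hex
  let a : CyclotomicField n ℚ := ∑ i, ζ' ^ j i
  have hσa : ∀ σ : CyclotomicField n ℚ →ₐ[ℚ] ℂ, σ a = ∑ i, (σ ζ') ^ j i := by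
    intro σ
    simp only [a, map_sum, map_pow]
  have hirr : Irreducible (cyclotomic n ℚ) := cyclotomic.irreducible_rat hn
  have hpow : ∀ k : ℕ, ∑ i, ((emb ζ') ^ k) ^ j i = ∑ i, μ i ^ k := by
    intro k
    refine Finset.sum_congr rfl (fun i _ => ?_)
    rw [← hj i, ← pow_mul, ← pow_mul, mul_comm]
  refine ⟨a, ?_, ?_⟩
  · intro σ
    have hσζ : IsPrimitiveRoot (σ ζ') n := hζ'.map_of_injective σ.injective
    obtain ⟨k, hk, hkc, hkeq⟩ := (hζ.isPrimitiveRoot_iff).1 hσζ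
    refine ⟨k, hk, hkc, ?_⟩
    rw [hσa, ← hkeq, hpow]
  · intro k hk
    have hprim : IsPrimitiveRoot ((emb ζ') ^ k) n := hζ.pow_of_coprime k hk
    let e := hζ'.embeddingsEquivPrimitiveRoots ℂ hirr
    let ξ : ↥(primitiveRoots n ℂ) := ⟨(emb ζ') ^ k, (mem_primitiveRoots hn).2 hprim⟩
    refine ⟨e.symm ξ, ?_⟩
    have h1 : (e (e.symm ξ) : ℂ) = (e.symm ξ) ζ' :=
      hζ'.embeddingsEquivPrimitiveRoots_apply_coe ℂ hirr (e.symm ξ)
    rw [e.apply_symm_apply] at h1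
    rw [hσa, ← h1, hpow]

/-- If all the Galois conjugates of a sum of roots of unity coincide, it is rational. -/
theorem powersum_rational {ι : Type*} [Fintype ι] (n : ℕ) (hn : 0 < n) (μ : ι → ℂ)
    (hμ : ∀ i, μ i ^ n = 1)
    (hall : ∀ k, k < n → k.Coprime n → ∑ i, μ i ^ k = ∑ i, μ i) :
    ∃ q : ℚ, ∑ i, μ i = (q : ℂ) := by
  classical
  have hn1 : NeZero n := ⟨hn.ne'⟩
  obtain ⟨a, h1, -⟩ := exists_cyclotomic_lift n hn μ hμ
  have htr := trace_eq_sum_embeddings (K := ℚ) (L := CyclotomicField n ℚ) ℂ (x := a)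
  have hconst : ∀ σ : CyclotomicField n ℚ →ₐ[ℚ] ℂ, σ a = ∑ i, μ i := by
    intro σ
    obtain ⟨k, hk, hkc, hσ⟩ := h1 σ
    rw [hσ, hall k hk hkc]
  rw [Finset.sum_congr rfl (fun σ _ => hconst σ), Finset.sum_const, nsmul_eq_mul] at htr
  have hcard : ((Finset.univ : Finset (CyclotomicField n ℚ →ₐ[ℚ] ℂ)).card : ℂ) ≠ 0 := by
    have : Nonempty (CyclotomicField n ℚ →ₐ[ℚ] ℂ) := ⟨IsAlgClosed.lift⟩
    have hpos : 0 < (Finset.univ : Finset (CyclotomicField n ℚ →ₐ[ℚ] ℂ)).card :=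
      Finset.card_pos.2 Finset.univ_nonempty
    exact_mod_cast hpos.ne'
  refine ⟨Algebra.trace ℚ (CyclotomicField n ℚ) a /
    ((Finset.univ : Finset (CyclotomicField n ℚ →ₐ[ℚ] ℂ)).card : ℚ), ?_⟩
  have h2 : (algebraMap ℚ ℂ) (Algebra.trace ℚ (CyclotomicField n ℚ) a) =
      ((Algebra.trace ℚ (CyclotomicField n ℚ) a : ℚ) : ℂ) := rfl
  rw [h2] at htr
  push_cast
  rw [htr]
  field_simp

/-- If a sum of roots of unity is rational, all its Galois conjugates coincide with it. -/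
theorem powersum_eq_of_rational {ι : Type*} [Fintype ι] (n : ℕ) (hn : 0 < n) (μ : ι → ℂ)
    (hμ : ∀ i, μ i ^ n = 1) (q : ℚ) (hq : ∑ i, μ i = (q : ℂ)) (k : ℕ) (hk : k.Coprime n) :
    ∑ i, μ i ^ k = (q : ℂ) := by
  classical
  have hn1 : NeZero n := ⟨hn.ne'⟩
  obtain ⟨a, -, h2⟩ := exists_cyclotomic_lift n hn μ hμ
  obtain ⟨σ1, hσ1⟩ := h2 1 (Nat.coprime_one_left n)
  simp only [pow_one] at hσ1
  have ha : a = algebraMap ℚ (CyclotomicField n ℚ) q := by
    have hinj : Function.Injective (σ1 : CyclotomicField n ℚ → ℂ) := σ1.injective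
    apply hinj
    rw [hσ1, hq, AlgHom.commutes]
    rfl
  obtain ⟨σ, hσ⟩ := h2 k hk
  rw [← hσ, ha, AlgHom.commutes]
  rfl

open Cfsg in
/-- character level: if `χ (g ^ k) = χ g` for all `k` coprime to an exponent `N` of `g`,
then `χ g` is rational. -/
theorem char_rational_of_pow_eq {G : Type*} [Group G] {χ : G → ℂ} (hχ : IsCharacter G χ) (g : G)
    (N : ℕ) (hN : 0 < N) (hgN : g ^ N = 1)
    (hall : ∀ k, k < N → k.Coprime N → χ (g ^ k) = χ g) : ∃ q : ℚ, χ g = (q : ℂ) := by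
  have hg : IsOfFinOrder g := isOfFinOrder_iff_pow_eq_one.2 ⟨N, hN, hgN⟩
  obtain ⟨n, ρ, rfl⟩ := hχ
  obtain ⟨b, μ, -, h2, -, h4⟩ := Cfsg.Agent.Helper80.exists_eigen_data_rep ρ g hg
  have hdvd : orderOf g ∣ N := orderOf_dvd_of_pow_eq_one hgN
  have h2' : ∀ i, μ i ^ N = 1 := by
    intro i
    obtain ⟨c, rfl⟩ := hdvd
    rw [pow_mul, h2, one_pow]
  have h41 : ρ.character g = ∑ i, μ i := by
    have := h4 1
    simpa only [pow_one] using this
  have := powersum_rational N hN μ h2' (fun k hk hkc => by rw [← h4, ← h41]; exact hall k hk hkc)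
  rw [h41]; exact this

open Cfsg in
/-- character level: a rational character value is shared by all coprime powers. -/
theorem char_pow_eq_of_rational {G : Type*} [Group G] {χ : G → ℂ} (hχ : IsCharacter G χ) (g : G)
    (N : ℕ) (hN : 0 < N) (hgN : g ^ N = 1) (q : ℚ) (hq : χ g = (q : ℂ)) (k : ℕ)
    (hk : k.Coprime N) : χ (g ^ k) = (q : ℂ) := by
  have hg : IsOfFinOrder g := isOfFinOrder_iff_pow_eq_one.2 ⟨N, hN, hgN⟩
  obtain ⟨n, ρ, rfl⟩ := hχ
  obtain ⟨b, μ, -, h2, -, h4⟩ := Cfsg.Agent.Helper80.exists_eigen_data_rep ρ g hg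
  have hdvd : orderOf g ∣ N := orderOf_dvd_of_pow_eq_one hgN
  have h2' : ∀ i, μ i ^ N = 1 := by
    intro i
    obtain ⟨c, rfl⟩ := hdvd
    rw [pow_mul, h2, one_pow]
  have h41 : ρ.character g = ∑ i, μ i := by
    have := h4 1
    simpa only [pow_one] using this
  rw [h4]
  exact powersum_eq_of_rational N hN μ h2' q (by rw [← h41]; exact hq) k hk

end Cfsg.Agent.Helper82
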