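import Mathlib
import Cfsg.Agent.Helper17.G5040a

/-!
# Order 5040, case `n_5 = 126`, `|C(P_5)| = 20`: Sylow 2 bookkeeping (helper17's WANTED #5040-F)
-/

set_option autoImplicit false
set_option linter.style.haveILetI false
set_option linter.unusedVariables false
set_option maxHeartbeats 1000000

namespace Cfsg.Agent.Helper82.Kill126B

open Subgroup Cfsg.Agent.Helper17

variable {G : Type*} [Group G]

theorem card_mul_relIndex' {H K : Subgroup G} (h : H ≤ K) :
    Nat.card H * H.relIndex K = Nat.card K := by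
  have := Subgroup.relIndex_mul_relIndex (⊥ : Subgroup G) H K (bot_le : (⊥ : Subgroup G) ≤ H) h
  simpa [Subgroup.relIndex_bot_left] using this

/-- Product formula inequality: `|A| |B| ≤ |T| |A ∩ B|` for `A, B ≤ T`. -/
theorem card_mul_card_le [Finite G] {A B T : Subgroup G} (hA : A ≤ T) (hB : B ≤ T) :
    Nat.card A * Nat.card B ≤ Nat.card T * Nat.card (A ⊓ B : Subgroup G) := by
  have h1 : Nat.card (A ⊓ B : Subgroup G) * (A ⊓ B).relIndex A = Nat.card A :=
    card_mul_relIndex' inf_le_left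
  have h2 : Nat.card B * B.relIndex T = Nat.card T := card_mul_relIndex' hB
  have h3 : (A ⊓ B).relIndex A = B.relIndex A := Subgroup.inf_relIndex_left A B
  have h4 : B.relIndex A ≤ B.relIndex T :=
    Subgroup.relIndex_le_of_le_right hA Subgroup.index_ne_zero_of_finite
  rw [h3] at h1
  calc Nat.card A * Nat.card B = Nat.card (A ⊓ B : Subgroup G) * B.relIndex A * Nat.card B := by
        rw [h1]
    _ ≤ Nat.card (A ⊓ B : Subgroup G) * B.relIndex T * Nat.card B := by
        apply Nat.mul_le_mul_right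
        exact Nat.mul_le_mul_left _ h4
    _ = Nat.card T * Nat.card (A ⊓ B : Subgroup G) := by
        rw [← h2]; ring

/-- A subgroup of relative index two is normalized by the bigger group, and contains squares. -/
theorem conj_mem_of_relIndex_two {T S : Subgroup G} (hTS : T ≤ S) (h2 : T.relIndex S = 2)
    {s t : G} (hs : s ∈ S) (ht : t ∈ T) : s * t * s⁻¹ ∈ T ∧ s * s ∈ T := by
  have hn : (T.subgroupOf S).Normal := Subgroup.normal_of_index_eq_two h2
  constructor
  · have := hn.conj_mem ⟨t, hTS ht⟩ (Subgroup.mem_subgroupOf.mpr ht) ⟨s, hs⟩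
    rw [Subgroup.mem_subgroupOf] at this
    simpa using this
  · have := Subgroup.sq_mem_of_index_two h2 (⟨s, hs⟩ : S)
    rw [Subgroup.mem_subgroupOf] at this
    simpa [pow_two] using this


theorem mul_mem_iff_of_relIndex_two {H K : Subgroup G} (h : H.relIndex K = 2) {a b : G}
    (ha : a ∈ K) (hb : b ∈ K) : a * b ∈ H ↔ (a ∈ H ↔ b ∈ H) := by
  have := Subgroup.mul_mem_iff_of_index_two (H := H.subgroupOf K) h (a := ⟨a, ha⟩) (b := ⟨b, hb⟩)
  simpa [Subgroup.mem_subgroupOf] using this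

/-- helper17's WANTED #5040-F. -/
theorem kill_126_B {G : Type*} [Group G] [Finite G] [IsSimpleGroup G] (hcard : Nat.card G = 5040) (P : Sylow 5 G) (h126 : Nat.card (Sylow 5 G) = 126) (hC5 : Nat.card (Subgroup.centralizer ((P : Subgroup G) : Set G)) = 20) (c : G) (hc : orderOf c = 2) (hcP : c ∈ Subgroup.centralizer ((P : Subgroup G) : Set G)) (hNc : Subgroup.normalizer ((P : Subgroup G) : Set G) ≤ Subgroup.centralizer ({c} : Set G)) (hC : Nat.card (Subgroup.centralizer ({c} : Set G)) = 40) (huniq : ∀ g : G, g * c * g⁻¹ ∈ Subgroup.centralizer ((P : Subgroup G) : Set G) → g * c * g⁻¹ = c) (h240 : ∀ e : G, orderOf e = 2 → e ∈ Subgroup.centralizer ((P : Subgroup G) : Set G) → Nat.card (Subgroup.centralizer ({e} : Set G)) = 240 → False) : False := by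
  haveI : Fact (Nat.Prime 5) := ⟨by norm_num⟩
  haveI : Fact (Nat.Prime 2) := ⟨Nat.prime_two⟩
  obtain ⟨hP, hN, -⟩ := G5040.local5 hcard P h126
  set N := normalizer ((P : Subgroup G) : Set G) with hNdef
  set C5 := centralizer ((P : Subgroup G) : Set G) with hC5def
  have hC5N : C5 ≤ N := Subgroup.centralizer_le_normalizer _
  have hNeq : N = centralizer ({c} : Set G) :=
    Subgroup.eq_of_le_of_card_ge hNc (by rw [hC, hN])
  have hcN : c ∈ N := hC5N hcP
  have hcc : c * c = 1 := by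
    have := pow_orderOf_eq_one c
    rwa [hc, pow_two] at this
  have hc1' : c ≠ 1 := by
    rintro rfl
    rw [orderOf_one] at hc
    omega
  -- Sylow 2-subgroup `T` of `N` containing `c`
  have hc2grp : IsPGroup 2 (Subgroup.zpowers (⟨c, hcN⟩ : N)) := by
    apply IsPGroup.of_card (n := 1)
    rw [Nat.card_zpowers, pow_one, ← Subgroup.orderOf_coe]
    exact hc
  obtain ⟨Q, hQ⟩ := hc2grp.exists_le_sylow
  set T : Subgroup G := (Q : Subgroup N).map N.subtype with hTdef
  have hTcard : Nat.card T = 8 := by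
    rw [hTdef, Subgroup.card_subtype]
    have := card_sylow_subgroup_of_card_eq (G := N) (p := 2) (k := 3) (m := 5)
      (by rw [hN]; norm_num) (by norm_num) Q
    simpa using this
  have hTN : T ≤ N := Subgroup.map_subtype_le _
  have hcT : c ∈ T := by
    rw [hTdef, Subgroup.mem_map]
    exact ⟨⟨c, hcN⟩, hQ (Subgroup.mem_zpowers _), rfl⟩
  have hT2 : IsPGroup 2 T := IsPGroup.of_card (n := 3) (by rw [hTcard]; norm_num)
  obtain ⟨S, hTS⟩ := hT2.exists_le_sylow
  have hScard : Nat.card (S : Subgroup G) = 16 := by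
    have := card_sylow_subgroup_of_card_eq (G := G) (p := 2) (k := 4) (m := 315)
      (by rw [hcard]; norm_num) (by norm_num) S
    simpa using this
  -- `S ⊓ N = T`
  have hSN : (S : Subgroup G) ⊓ N = T := by
    symm
    apply Subgroup.eq_of_le_of_card_ge (le_inf hTS hTN)
    have h1 : Nat.card ((S : Subgroup G) ⊓ N : Subgroup G) ∣ 16 :=
      hScard ▸ Subgroup.card_dvd_of_le inf_le_left
    have h2 : Nat.card ((S : Subgroup G) ⊓ N : Subgroup G) ∣ 40 :=
      hN ▸ Subgroup.card_dvd_of_le inf_le_right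
    have := Nat.dvd_gcd h1 h2
    norm_num at this
    rw [hTcard]
    exact Nat.le_of_dvd (by norm_num) this
  have hrel : T.relIndex (S : Subgroup G) = 2 := by
    have := card_mul_relIndex' hTS
    rw [hTcard, hScard] at this
    omega
  -- `σ ∈ S \ T`
  obtain ⟨σ, hσS, hσT⟩ : ∃ σ, σ ∈ (S : Subgroup G) ∧ σ ∉ T := by
    by_contra hno
    push_neg at hno
    have hle : (S : Subgroup G) ≤ T := hno
    have := Subgroup.card_le_of_le hle
    omega
  have hσN : σ ∉ N := fun h => hσT (hSN ▸ ⟨hσS, h⟩)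
  have hσσ : σ * σ ∈ T := (conj_mem_of_relIndex_two hTS hrel hσS hcT).2
  have hconjT : ∀ t ∈ T, σ * t * σ⁻¹ ∈ T := fun t ht =>
    (conj_mem_of_relIndex_two hTS hrel hσS ht).1
  have hconjT' : ∀ t ∈ T, σ⁻¹ * t * σ ∈ T := fun t ht => by
    have := (conj_mem_of_relIndex_two hTS hrel ((S : Subgroup G).inv_mem hσS) ht).1
    simpa using this
  -- (2) the conjugate `c1`
  set c1 : G := σ * c * σ⁻¹ with hc1def
  have hc1T : c1 ∈ T := hconjT c hcT
  have hc1ne : c1 ≠ c := by
    intro h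
    apply hσN
    rw [hNeq, Subgroup.mem_centralizer_singleton_iff]
    have : σ * c * σ⁻¹ = c := h
    calc σ * c = σ * c * σ⁻¹ * σ := by group
      _ = c * σ := by rw [this]
  have hc1C5 : c1 ∉ C5 := fun h => hc1ne (huniq σ h)
  have hcZ : ∀ t ∈ T, t * c = c * t := by
    intro t ht
    have := hNc (hTN ht)
    rwa [Subgroup.mem_centralizer_singleton_iff] at this
  have hc1Z : ∀ t ∈ T, t * c1 = c1 * t := by
    intro t ht
    have h2 := hcZ _ (hconjT' t ht)
    calc t * c1 = σ * ((σ⁻¹ * t * σ) * c) * σ⁻¹ := by rw [hc1def]; group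
      _ = σ * (c * (σ⁻¹ * t * σ)) * σ⁻¹ := by rw [h2]
      _ = c1 * t := by rw [hc1def]; group
  -- (3) `K = T ⊓ C5` has order 4 and `T` is abelian
  set K : Subgroup G := T ⊓ C5 with hKdef
  have hKT : K ≤ T := inf_le_left
  have hKC5 : K ≤ C5 := inf_le_right
  have hKcard : Nat.card K = 4 := by
    have h1 : Nat.card K ∣ 8 := hTcard ▸ Subgroup.card_dvd_of_le hKT
    have h2 : Nat.card K ∣ 20 := hC5 ▸ Subgroup.card_dvd_of_le hKC5
    have h4 := Nat.dvd_gcd h1 h2
    norm_num at h4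
    have hle := card_mul_card_le hTN hC5N
    rw [hTcard, hC5, hN] at hle
    have : Nat.card K ≤ 4 := Nat.le_of_dvd (by norm_num) h4
    have hK' : Nat.card (T ⊓ C5 : Subgroup G) = Nat.card K := rfl
    omega
  have hcK : c ∈ K := ⟨hcT, hcP⟩
  have hc1K : c1 ∉ K := fun h => hc1C5 h.2
  have hKrel : K.relIndex T = 2 := by
    have := card_mul_relIndex' hKT
    rw [hKcard, hTcard] at this
    omega
  have hKcomm : ∀ a ∈ K, ∀ b ∈ K, a * b = b * a := by
    intro a ha b hb
    have h := IsPGroup.commutative_of_card_eq_prime_sq (p := 2) (G := K)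
      (by rw [hKcard]; norm_num) ⟨a, ha⟩ ⟨b, hb⟩
    exact congrArg Subtype.val h
  have hdecomp : ∀ t ∈ T, ∃ z k : G, (∀ s ∈ T, s * z = z * s) ∧ z ∈ T ∧ k ∈ K ∧ t = z * k := by
    intro t ht
    by_cases htK : t ∈ K
    · exact ⟨1, t, fun s _ => by simp, T.one_mem, htK, by simp⟩
    · have hmem : c1 * t ∈ K := by
        rw [mul_mem_iff_of_relIndex_two hKrel hc1T ht]
        exact ⟨fun h => absurd h hc1K, fun h => absurd h htK⟩
      refine ⟨c1⁻¹, c1 * t, ?_, T.inv_mem hc1T, hmem, by group⟩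
      intro s hs
      have := hc1Z s hs
      calc s * c1⁻¹ = c1⁻¹ * (c1 * s) * c1⁻¹ := by group
        _ = c1⁻¹ * (s * c1) * c1⁻¹ := by rw [this]
        _ = c1⁻¹ * s := by group
  have hTcomm : ∀ a ∈ T, ∀ b ∈ T, a * b = b * a := by
    intro a ha b hb
    obtain ⟨z₁, k₁, hz₁, hz₁T, hk₁, rfl⟩ := hdecomp a ha
    obtain ⟨z₂, k₂, hz₂, hz₂T, hk₂, rfl⟩ := hdecomp b hb
    have e1 : k₁ * z₂ = z₂ * k₁ := hz₂ k₁ (hKT hk₁)
    have e2 : k₂ * z₁ = z₁ * k₂ := hz₁ k₂ (hKT hk₂)
    have e3 : z₂ * z₁ = z₁ * z₂ := hz₁ z₂ hz₂T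
    have e4 : k₁ * k₂ = k₂ * k₁ := hKcomm k₁ hk₁ k₂ hk₂
    calc z₁ * k₁ * (z₂ * k₂) = z₁ * (k₁ * z₂) * k₂ := by group
      _ = z₁ * (z₂ * k₁) * k₂ := by rw [e1]
      _ = (z₁ * z₂) * (k₁ * k₂) := by group
      _ = (z₂ * z₁) * (k₂ * k₁) := by rw [e3, e4]
      _ = z₂ * (z₁ * k₂) * k₁ := by group
      _ = z₂ * (k₂ * z₁) * k₁ := by rw [e2]
      _ = z₂ * k₂ * (z₁ * k₁) := by group
  -- (4) the conjugate `K1 = σ K σ⁻¹`
  set K1 : Subgroup G := K.map (MulAut.conj σ).toMonoidHom with hK1def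
  have hmemK1 : ∀ x, x ∈ K1 ↔ ∃ k ∈ K, σ * k * σ⁻¹ = x := by
    intro x
    rw [hK1def, Subgroup.mem_map]
    rfl
  have hK1T : K1 ≤ T := by
    intro x hx
    obtain ⟨k, hk, rfl⟩ := (hmemK1 x).mp hx
    exact hconjT k (hKT hk)
  have hK1card : Nat.card K1 = 4 := by
    rw [hK1def, Subgroup.card_map_of_injective (MulAut.conj σ).injective, hKcard]
  have hcK1 : c ∉ K1 := by
    intro h
    obtain ⟨k, hk, hkc⟩ := (hmemK1 c).mp h
    have hk' : σ⁻¹ * c * σ⁻¹⁻¹ = k := by rw [← hkc]; group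
    have hmem : σ⁻¹ * c * σ⁻¹⁻¹ ∈ C5 := by rw [hk']; exact hKC5 hk
    have := huniq σ⁻¹ hmem
    apply hσN
    rw [hNeq, Subgroup.mem_centralizer_singleton_iff]
    calc σ * c = σ * (σ⁻¹ * c * σ⁻¹⁻¹) := by rw [this]
      _ = c * σ := by group
  set E : Subgroup G := K ⊓ K1 with hEdef
  have hEcard : Nat.card E = 2 := by
    have h1 : Nat.card E ∣ 4 := hKcard ▸ Subgroup.card_dvd_of_le inf_le_left
    have hle := card_mul_card_le hKT hK1T
    rw [hKcard, hK1card, hTcard] at hle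
    have hE' : Nat.card (K ⊓ K1 : Subgroup G) = Nat.card E := rfl
    have hne4 : Nat.card E ≠ 4 := by
      intro h4
      have hEK : E = K := Subgroup.eq_of_le_of_card_ge inf_le_left (by rw [h4, hKcard])
      have hKK1 : K ≤ K1 := by rw [← hEK]; exact inf_le_right
      exact hcK1 (hKK1 hcK)
    have hle4 : Nat.card E ≤ 4 := Nat.le_of_dvd (by norm_num) h1
    have hmem : Nat.card E ∈ Nat.divisors 4 := Nat.mem_divisors.mpr ⟨h1, by norm_num⟩
    have key : ∀ n ∈ Nat.divisors 4, 16 ≤ 8 * n → n ≠ 4 → n = 2 := by decide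
    exact key _ hmem (by omega) hne4
  -- the involution `e`
  obtain ⟨⟨e, heE⟩, he1⟩ : ∃ x : E, x ≠ 1 := by
    haveI : Nontrivial E := by
      rw [← Finite.one_lt_card_iff_nontrivial, hEcard]; norm_num
    exact exists_ne 1
  have he1' : e ≠ 1 := fun h => he1 (Subtype.ext h)
  have heuniq : ∀ x ∈ E, x ≠ 1 → x = e := by
    intro x hx hx1
    obtain ⟨y, -, hy⟩ := (Nat.card_eq_two_iff' (1 : E)).mp hEcard
    have h1 := hy ⟨x, hx⟩ (fun h => hx1 (congrArg Subtype.val h))
    have h2 := hy ⟨e, heE⟩ he1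
    exact congrArg Subtype.val (h1.trans h2.symm)
  have he2 : orderOf e = 2 := by
    have h1 : orderOf e ∣ 2 := by
      have := orderOf_dvd_natCard (⟨e, heE⟩ : E)
      rwa [hEcard, Subgroup.orderOf_mk] at this
    rcases (Nat.dvd_prime Nat.prime_two).mp h1 with h | h
    · exact absurd (orderOf_eq_one_iff.mp h) he1'
    · exact h
  have heK : e ∈ K := heE.1
  have heK1 : e ∈ K1 := heE.2
  have heT : e ∈ T := hKT heK
  -- (5) `σ` centralizes `e`
  have hσe : σ * e * σ⁻¹ = e := by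
    apply heuniq
    · refine ⟨?_, (hmemK1 _).mpr ⟨e, heK, rfl⟩⟩
      obtain ⟨k, hk, hke⟩ := (hmemK1 e).mp heK1
      have hk' : (σ * σ) * k = k * (σ * σ) := hTcomm _ hσσ _ (hKT hk)
      have : σ * e * σ⁻¹ = k := by
        rw [← hke]
        calc σ * (σ * k * σ⁻¹) * σ⁻¹ = (σ * σ) * k * (σ * σ)⁻¹ := by group
          _ = k * (σ * σ) * (σ * σ)⁻¹ := by rw [hk']
          _ = k := by group
      rw [this]; exact hk
    · intro h
      apply he1'
      calc e = σ⁻¹ * (σ * e * σ⁻¹) * σ := by group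
        _ = 1 := by rw [h]; group
  have hσCe : σ ∈ centralizer ({e} : Set G) := by
    rw [Subgroup.mem_centralizer_singleton_iff]
    calc σ * e = σ * e * σ⁻¹ * σ := by group
      _ = e * σ := by rw [hσe]
  have hTCe : T ≤ centralizer ({e} : Set G) := by
    intro t ht
    rw [Subgroup.mem_centralizer_singleton_iff]
    exact hTcomm t ht e heT
  have h16 : 16 ∣ Nat.card (centralizer ({e} : Set G)) := by
    set H : Subgroup G := (S : Subgroup G) ⊓ centralizer ({e} : Set G) with hHdef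
    have hTH : T ≤ H := le_inf hTS hTCe
    have hσH : σ ∈ H := ⟨hσS, hσCe⟩
    have h8 : 8 ∣ Nat.card H := hTcard ▸ Subgroup.card_dvd_of_le hTH
    have hd16 : Nat.card H ∣ 16 := hScard ▸ Subgroup.card_dvd_of_le inf_le_left
    have hne8 : Nat.card H ≠ 8 := by
      intro h
      have : T = H := Subgroup.eq_of_le_of_card_ge hTH (by rw [h, hTcard])
      exact hσT (this ▸ hσH)
    have hH16 : Nat.card H = 16 := by
      have hmem : Nat.card H ∈ Nat.divisors 16 := Nat.mem_divisors.mpr ⟨hd16, by norm_num⟩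
      have key : ∀ n ∈ Nat.divisors 16, 8 ∣ n → n ≠ 8 → n = 16 := by decide
      exact key _ hmem h8 hne8
    rw [← hH16]
    exact Subgroup.card_dvd_of_le inf_le_right
  -- (6) `N ≤ C(e)`
  have heC5 : e ∈ C5 := hKC5 heK
  have hPCe : (P : Subgroup G) ≤ centralizer ({e} : Set G) := by
    intro x hx
    rw [Subgroup.mem_centralizer_singleton_iff]
    exact (heC5 x hx)
  have hsup : (P : Subgroup G) ⊔ T = N := by
    apply Subgroup.eq_of_le_of_card_ge (sup_le le_normalizer hTN)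
    have h5 : 5 ∣ Nat.card ((P : Subgroup G) ⊔ T : Subgroup G) := by
      have := Subgroup.card_dvd_of_le (le_sup_left : (P : Subgroup G) ≤ (P : Subgroup G) ⊔ T)
      rwa [hP] at this
    have h8 : 8 ∣ Nat.card ((P : Subgroup G) ⊔ T : Subgroup G) := by
      have := Subgroup.card_dvd_of_le (le_sup_right : T ≤ (P : Subgroup G) ⊔ T)
      rwa [hTcard] at this
    have h40 : 40 ∣ Nat.card ((P : Subgroup G) ⊔ T : Subgroup G) :=
      Nat.Coprime.mul_dvd_of_dvd_of_dvd (by norm_num : Nat.Coprime 5 8) h5 h8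
    rw [hN]
    exact Nat.le_of_dvd Nat.card_pos h40
  have hNCe : N ≤ centralizer ({e} : Set G) := by
    rw [← hsup]
    exact sup_le hPCe hTCe
  rcases G5040.card_centralizer_c hcard P h126 e he2 hNCe with h40 | h240'
  · rw [h40] at h16
    norm_num at h16
  · exact h240 e he2 heC5 h240'

end Cfsg.Agent.Helper82.Kill126B
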