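import Cfsg.Agent.Helper82.BurnsideSum
import Cfsg.Agent.Helper79.CharComplete
import Cfsg.Agent.Helper80.Pullback
import Cfsg.Agent.Helper80.Degree
import Cfsg.Agent.Helper80.Linear
import Cfsg.Agent.Helper15.CliffordCorr
import Cfsg.Agent.Helper76.CharBasic

set_option autoImplicit false

/-!
# Knörr-type bound for `k(GV)` (helper82)

`X = V ⋊ G`, `V` an abelian normal Sylow `p`-subgroup, `v ∈ V`:
`k(X) + |G| ≤ |C_G(v)| |V| + k(G)`.
-/

namespace Cfsg.Agent.Helper82

open Cfsg
open scoped ComplexConjugate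

universe u

section colsum
variable {G : Type u} [Group G] [Fintype G]

/-- column orthogonality, real form: `∑_χ ‖χ g‖² = |C_G(g)|` -/
theorem sum_irr_normSq_eq_card_centralizer [Fintype (IrrCharacter G)] (g : G) :
    ∑ χ : IrrCharacter G, ‖(χ : G → ℂ) g‖ ^ 2 =
      (Nat.card ↥(Subgroup.centralizer ({g} : Set G)) : ℝ) := by
  classical
  have h3 := Cfsg.Agent.Helper79.column_orthogonality (G := G) g g
  rw [if_pos (IsConj.refl g)] at h3
  have : ((∑ χ : IrrCharacter G, ‖(χ : G → ℂ) g‖ ^ 2 : ℝ) : ℂ) =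
      ((Nat.card ↥(Subgroup.centralizer ({g} : Set G)) : ℝ) : ℂ) := by
    rw [← Complex.ofReal_natCast] at h3
    rw [← h3]
    push_cast
    refine Finset.sum_congr rfl fun χ _ => ?_
    rw [Complex.mul_conj']
  exact_mod_cast this

end colsum

section grp
variable {X : Type u} [Group X]

/-- If `V` and `G` are complementary and `V ≤ H`, then `|H| = |V| * |G ⊓ H|`. -/
theorem card_eq_card_mul_card_inf_of_isComplement' [Finite X] (V G H : Subgroup X)
    (hGV : Subgroup.IsComplement' V G) (hVH : V ≤ H) :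
    Nat.card H = Nat.card V * Nat.card ↥(G ⊓ H) := by
  rw [← Nat.card_prod]
  symm
  refine Nat.card_congr (Equiv.ofBijective
    (fun x : V × ↥(G ⊓ H) => (⟨(x.1 : X) * (x.2 : X), H.mul_mem (hVH x.1.2) x.2.2.2⟩ : H)) ⟨?_, ?_⟩)
  · rintro ⟨a, c⟩ ⟨a', c'⟩ h
    have h1 : (a : X) * (c : X) = (a' : X) * (c' : X) := congrArg Subtype.val h
    have huniq := (Subgroup.isComplement_iff_existsUnique.1 hGV) ((a : X) * (c : X))
    have e1 := huniq.unique (y₁ := (⟨a, ⟨c, c.2.1⟩⟩ : ↥V × ↥G)) (y₂ := (⟨a', ⟨c', c'.2.1⟩⟩ : ↥V × ↥G))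
      rfl h1.symm
    have ea : a = a' := congrArg Prod.fst e1
    have ec : (c : X) = (c' : X) := congrArg (fun z : ↥V × ↥G => (z.2 : X)) e1
    exact Prod.ext ea (Subtype.ext ec)
  · rintro ⟨h, hh⟩
    obtain ⟨⟨a, g⟩, hag, -⟩ := (Subgroup.isComplement_iff_existsUnique.1 hGV) h
    have hg : (g : X) ∈ H := by
      have : (g : X) = (a : X)⁻¹ * h := by rw [← hag]; group
      rw [this]
      exact H.mul_mem (H.inv_mem (hVH a.2)) hh
    exact ⟨(a, ⟨g, ⟨g.2, hg⟩⟩), Subtype.ext hag⟩

/-- coprime powers have the same centralizer -/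
theorem centralizer_pow_coprime [Finite X] (v : X) {k : ℕ} (hk : k.Coprime (Nat.card X)) :
    Subgroup.centralizer ({v ^ k} : Set X) = Subgroup.centralizer ({v} : Set X) := by
  have hko : k.Coprime (orderOf v) := hk.coprime_dvd_right (orderOf_dvd_natCard v)
  obtain ⟨m, hm⟩ := exists_pow_eq_self_of_coprime hko
  ext x
  simp only [Subgroup.mem_centralizer_iff, Set.mem_singleton_iff, forall_eq]
  constructor
  · intro h
    have h' : Commute (v ^ k) x := h
    have := h'.pow_left m
    rw [hm] at this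
    exact this
  · intro h
    have h' : Commute v x := h
    exact h'.pow_left k

end grp



section nonvanish
variable {X : Type u} [Group X] [Finite X]

/-- irreducible characters of a commutative finite group are linear and take root-of-unity values -/
theorem irr_pow_eq_one_of_comm {A : Type u} [Group A] [Finite A] (hA : ∀ a b : A, a * b = b * a)
    {φ : A → ℂ} (hφ : IsIrrCharacter A φ) (a : A) (m : ℕ) (ha : a ^ m = 1) : φ a ^ m = 1 := by
  have hc : IsCharacter A φ := Cfsg.Agent.Helper80.IsIrrCharacter.isCharacter hφ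
  have hcenter : Subgroup.center A = ⊤ := by
    ext x
    simp only [Subgroup.mem_center_iff, Subgroup.mem_top, iff_true]
    intro g
    exact hA g x
  have h1 := Cfsg.Agent.Helper80.IsIrrCharacter.charDegree_sq_le_index_center hφ
  rw [hcenter, Subgroup.index_top] at h1
  have hpos := Cfsg.Agent.Helper80.IsIrrCharacter.charDegree_pos hφ
  have hd : charDegree φ = 1 := by nlinarith
  have hφ1 : φ 1 = 1 := by
    rw [← Cfsg.Agent.Helper80.IsCharacter.charDegree_cast hc, hd, Nat.cast_one]
  obtain ⟨f, hf⟩ := Cfsg.Agent.Helper80.IsCharacter.exists_monoidHom hc hφ1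
  rw [hf, ← Units.val_pow_eq_pow_val, ← map_pow, ha, map_one, Units.val_one]

/-- **Nonvanishing**: an irreducible character of `X` does not vanish on an abelian normal
`p`-subgroup of index prime to `p`. -/
theorem irr_ne_zero_on_abelian_normal_sylow (p : ℕ) [Fact p.Prime] (V : Subgroup X) [V.Normal]
    (hVp : IsPGroup p V) (hidx : ¬ p ∣ V.index) (hab : ∀ a ∈ V, ∀ b ∈ V, a * b = b * a)
    (χ : IrrCharacter X) (v : X) (hv : v ∈ V) : (χ : X → ℂ) v ≠ 0 := by
  classical
  have : Fintype X := Fintype.ofFinite X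
  have : Fintype V := Fintype.ofFinite V
  have : Fintype (IrrCharacter V) := Cfsg.Agent.Helper74.irrFintype V
  have hχc : IsCharacter X (χ : X → ℂ) := Cfsg.Agent.Helper79.irr_isCharacter χ
  have hres : IsCharacter V (fun n : V => (χ : X → ℂ) n) :=
    Cfsg.Agent.Helper74.isCharacter_restrict V hχc
  -- a constituent
  have hex : ∃ θ : IrrCharacter V, classInner (fun n : V => (χ : X → ℂ) n) (θ : V → ℂ) ≠ 0 := by
    by_contra hcon
    push Not at hcon
    have hdec := Cfsg.Agent.Helper74.isCharacter_eq_sum_irr hres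
    have h0 : (fun n : V => (χ : X → ℂ) n) = 0 := by
      rw [hdec]
      apply Finset.sum_eq_zero
      intro ψ _
      rw [hcon ψ, zero_smul]
    have := congrFun h0 1
    exact Cfsg.Agent.Helper79.irr_one_ne_zero χ this
  obtain ⟨θ, hθ⟩ := hex
  have hcl := Cfsg.Agent.Helper15.clifford_restrict V χ.2 θ.2 hθ
  have hval := congrFun hcl ⟨v, hv⟩
  simp only [Pi.smul_apply, Finset.sum_apply, smul_eq_mul] at hval
  rw [hval]
  apply mul_ne_zero hθ
  -- the sum of roots of unity
  obtain ⟨j, hj⟩ := (IsPGroup.iff_orderOf.1 hVp) ⟨v, hv⟩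
  have hvj : (⟨v, hv⟩ : V) ^ (p ^ j) = 1 := by rw [← hj]; exact pow_orderOf_eq_one _
  have hVcomm : ∀ a b : V, a * b = b * a := fun a b => Subtype.ext (hab a a.2 b b.2)
  intro hsum
  have hdvd := Cfsg.Agent.Helper76.dvd_card_of_sum_rootsOfUnity_eq_zero p j
    ((Cfsg.Agent.Helper15.conjOrbit V (θ : V → ℂ)).val.map (fun φ => φ ⟨v, hv⟩))
    (by
      intro μ hμ
      rw [Multiset.mem_map] at hμ
      obtain ⟨φ, hφ, rfl⟩ := hμ
      have hφirr : IsIrrCharacter V φ :=
        Cfsg.Agent.Helper15.isIrrCharacter_of_mem_conjOrbit V θ.2 (Finset.mem_def.2 hφ)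
      exact irr_pow_eq_one_of_comm hVcomm hφirr _ _ hvj)
    (by
      rw [← hsum]
      rfl)
  rw [Multiset.card_map, Finset.card_val, Cfsg.Agent.Helper15.card_conjOrbit] at hdvd
  have hle : V ≤ Cfsg.Agent.Helper15.inertia V (θ : V → ℂ) :=
    Cfsg.Agent.Helper15.le_inertia V (Cfsg.Agent.Helper74.isClassFunction_of_isCharacter
      (Cfsg.Agent.Helper74.irr_isCharacter θ))
  exact hidx (dvd_trans hdvd (Subgroup.index_dvd_of_le hle))

end nonvanish



section inflated
variable {X : Type u} [Group X] [Finite X]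

/-- The irreducible characters of `X` with `V` in the kernel correspond to those of a
complement `G`: their number is `k(G)`. -/
theorem card_irr_over_trivial (V G : Subgroup X) [V.Normal] (hGV : Subgroup.IsComplement' V G) :
    Nat.card {χ : IrrCharacter X // ∀ n ∈ V, χ.1 n = χ.1 1} = Nat.card (ConjClasses G) := by
  have e1 := Cfsg.Agent.Helper80.irrQuotientEquiv V
  have e2 := Cfsg.Agent.Helper80.irrCongr (hGV.symm.QuotientMulEquiv)
  have : Fintype ↥G := Fintype.ofFinite _
  rw [← Cfsg.Agent.Helper79.card_irr_eq_card_conjClasses]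
  exact Nat.card_congr (e1.symm.trans e2)

/-- ... and the squares of their degrees add up to `|G|`. -/
theorem sum_degree_sq_irr_over_trivial (V G : Subgroup X) [V.Normal]
    (hGV : Subgroup.IsComplement' V G)
    [Fintype {χ : IrrCharacter X // ∀ n ∈ V, χ.1 n = χ.1 1}] :
    ∑ χ : {χ : IrrCharacter X // ∀ n ∈ V, χ.1 n = χ.1 1},
      charDegree (χ.1 : X → ℂ) ^ 2 = Nat.card G := by
  classical
  have : Fintype X := Fintype.ofFinite X
  have : Fintype (X ⧸ V) := Fintype.ofFinite _
  have : Fintype (IrrCharacter (X ⧸ V)) := Cfsg.Agent.Helper74.irrFintype _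
  have hq := Cfsg.Agent.Helper79.sum_charDegree_sq (G := X ⧸ V)
  have hcard : Nat.card (X ⧸ V) = Nat.card G :=
    Nat.card_congr (hGV.symm.QuotientMulEquiv).toEquiv
  rw [← hcard, ← hq]
  symm
  refine Fintype.sum_equiv (Cfsg.Agent.Helper80.irrQuotientEquiv V) _ _ (fun ψ => ?_)
  have h1 : ((Cfsg.Agent.Helper80.irrQuotientEquiv V ψ).1 : X → ℂ) 1 = ψ.1 1 := by
    rw [Cfsg.Agent.Helper80.irrQuotientEquiv_apply]
    rfl
  unfold charDegree
  rw [h1]

end inflated


section main
variable {X : Type u} [Group X] [Finite X]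

/-- **Knörr-type bound.** -/
theorem knorr_bound (p : ℕ) [Fact p.Prime] (V : Subgroup X) [V.Normal]
    (hVp : IsPGroup p V) (hidx : ¬ p ∣ V.index) (hab : ∀ a ∈ V, ∀ b ∈ V, a * b = b * a)
    (G : Subgroup X) (hGV : Subgroup.IsComplement' V G) (v : X) (hv : v ∈ V) :
    Nat.card (ConjClasses X) + Nat.card G ≤
      Nat.card ↥(G ⊓ Subgroup.centralizer ({v} : Set X)) * Nat.card V +
        Nat.card (ConjClasses G) := by
  classical
  have : Fintype X := Fintype.ofFinite X
  have : Fintype (IrrCharacter X) := Cfsg.Agent.Helper74.irrFintype X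
  set N := Nat.card X with hNdef
  have hN : 0 < N := Nat.card_pos
  set K := (Finset.range N).filter (fun k => k.Coprime N) with hK
  have hKcard : K.card = N.totient := by
    rw [Nat.totient_eq_card_coprime]
    congr 1
    ext k
    simp only [hK, Finset.mem_filter, Finset.mem_range, Nat.coprime_comm]
  have hφ : (0 : ℝ) < (N.totient : ℝ) := by exact_mod_cast Nat.totient_pos.2 hN
  set c := Nat.card ↥(G ⊓ Subgroup.centralizer ({v} : Set X)) with hc
  -- centralizer order
  have hVle : V ≤ Subgroup.centralizer ({v} : Set X) := by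
    intro a ha
    rw [Subgroup.mem_centralizer_iff]
    intro y hy
    rw [Set.mem_singleton_iff] at hy
    subst hy
    exact hab y hv a ha
  have hcent : Nat.card ↥(Subgroup.centralizer ({v} : Set X)) = Nat.card V * c :=
    card_eq_card_mul_card_inf_of_isComplement' V G _ hGV hVle
  -- column sums
  have hcol : ∀ k ∈ K, ∑ χ : IrrCharacter X, ‖(χ : X → ℂ) (v ^ k)‖ ^ 2 =
      ((Nat.card V * c : ℕ) : ℝ) := by
    intro k hk
    rw [sum_irr_normSq_eq_card_centralizer, centralizer_pow_coprime v (Finset.mem_filter.1 hk).2,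
      hcent]
  have hdouble : ∑ χ : IrrCharacter X, ∑ k ∈ K, ‖(χ : X → ℂ) (v ^ k)‖ ^ 2 =
      (N.totient : ℝ) * ((Nat.card V * c : ℕ) : ℝ) := by
    rw [Finset.sum_comm, Finset.sum_congr rfl hcol, Finset.sum_const, nsmul_eq_mul, hKcard]
  -- lower bound termwise
  let P : IrrCharacter X → Prop := fun χ => ∀ n ∈ V, χ.1 n = χ.1 1
  have hlow : ∀ χ : IrrCharacter X,
      (N.totient : ℝ) * (if P χ then ((charDegree (χ : X → ℂ) ^ 2 : ℕ) : ℝ) else 1) ≤
        ∑ k ∈ K, ‖(χ : X → ℂ) (v ^ k)‖ ^ 2 := by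
    intro χ
    by_cases hP : P χ
    · rw [if_pos hP]
      have : ∀ k ∈ K, ‖(χ : X → ℂ) (v ^ k)‖ ^ 2 = ((charDegree (χ : X → ℂ) ^ 2 : ℕ) : ℝ) := by
        intro k _
        rw [hP (v ^ k) (V.pow_mem hv k), Cfsg.Agent.Helper79.irr_one, Complex.norm_natCast]
        push_cast; ring
      rw [Finset.sum_congr rfl this, Finset.sum_const, nsmul_eq_mul, hKcard]
    · rw [if_neg hP, mul_one]
      have hvN : v ^ N = 1 := by rw [hNdef]; exact pow_card_eq_one'
      exact totient_le_sum_normSq_char' (Cfsg.Agent.Helper79.irr_isCharacter χ) v N hN hvN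
        (irr_ne_zero_on_abelian_normal_sylow p V hVp hidx hab χ v hv)
  have hsumlow := Finset.sum_le_sum (fun χ (_ : χ ∈ (Finset.univ : Finset (IrrCharacter X))) => hlow χ)
  rw [hdouble, ← Finset.mul_sum] at hsumlow
  have hmain : ∑ χ : IrrCharacter X, (if P χ then ((charDegree (χ : X → ℂ) ^ 2 : ℕ) : ℝ) else 1) ≤
      ((Nat.card V * c : ℕ) : ℝ) := le_of_mul_le_mul_left hsumlow hφ
  -- evaluate the left side
  have hsplit : ∑ χ : IrrCharacter X, (if P χ then ((charDegree (χ : X → ℂ) ^ 2 : ℕ) : ℝ) else 1) =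
      ∑ χ ∈ Finset.univ.filter P, ((charDegree (χ : X → ℂ) ^ 2 : ℕ) : ℝ) +
        ((Finset.univ.filter (fun χ => ¬ P χ)).card : ℝ) := by
    rw [← Finset.sum_filter_add_sum_filter_not Finset.univ P]
    congr 1
    · exact Finset.sum_congr rfl (fun χ hχ => by rw [if_pos (Finset.mem_filter.1 hχ).2])
    · rw [Finset.sum_congr rfl (g := fun _ => (1 : ℝ))
        (fun χ hχ => by rw [if_neg (Finset.mem_filter.1 hχ).2]), Finset.sum_const, nsmul_eq_mul,
        mul_one]
  have hsq : ∑ χ ∈ Finset.univ.filter P, ((charDegree (χ : X → ℂ) ^ 2 : ℕ) : ℝ) =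
      (Nat.card G : ℝ) := by
    rw [← Nat.cast_sum]
    congr 1
    rw [← sum_degree_sq_irr_over_trivial V G hGV]
    exact (Finset.sum_subtype (Finset.univ.filter P) (p := P) (by simp)
      (fun χ => charDegree (χ : X → ℂ) ^ 2))
  have hcardP : (Finset.univ.filter P).card = Nat.card (ConjClasses G) := by
    rw [← card_irr_over_trivial V G hGV, Nat.card_eq_fintype_card, Fintype.card_subtype]
  have hcardall : (Finset.univ.filter P).card + (Finset.univ.filter (fun χ => ¬ P χ)).card =
      Nat.card (ConjClasses X) := by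
    rw [Finset.card_filter_add_card_filter_not, Finset.card_univ, ← Nat.card_eq_fintype_card,
      Cfsg.Agent.Helper79.card_irr_eq_card_conjClasses]
  rw [hsplit, hsq] at hmain
  have hfinal : ((Nat.card (ConjClasses X) + Nat.card G : ℕ) : ℝ) ≤
      ((c * Nat.card V + Nat.card (ConjClasses G) : ℕ) : ℝ) := by
    rw [← hcardall, ← hcardP]
    push_cast at hmain ⊢
    linarith
  exact_mod_cast hfinal

end main

end Cfsg.Agent.Helper82
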