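import Mathlib
import Cfsg.Agent.Helper17.SylowKit
import Cfsg.Agent.Helper9.FratIdx
import Cfsg.Agent.Helper20.Fpf
import Cfsg.Agent.Helper31.Fpf7920

/-!
# S2490, piece (S-A) of WANTED #4202/#4209: `simple_of_no22`

A group of order `7920` without elements of order `22`, in which moreover `3` is disconnected from
`2` or from `11`, and `5` is disconnected from `2` or from `11`, is simple.
-/

set_option autoImplicit false
set_option linter.style.haveILetI false
set_option linter.unusedVariables false
set_option maxHeartbeats 1000000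

namespace Cfsg.Agent.Helper82.S2490

open Subgroup Cfsg.Agent.Helper17

theorem comm_of_card_prime {G : Type*} [Group G] (K : Subgroup G) {p : ℕ} [Fact p.Prime]
    (hK : Nat.card K = p) : ∀ a ∈ K, ∀ b ∈ K, a * b = b * a := by
  haveI : IsCyclic K := isCyclic_of_prime_card hK
  intro a ha b hb
  have h := (IsCyclic.commGroup (α := K)).mul_comm ⟨a, ha⟩ ⟨b, hb⟩
  exact congrArg Subtype.val h

theorem simple_of_no22 {G : Type*} [Group G] [Finite G] (hG : Nat.card G = 7920)
    (h22 : ∀ g : G, orderOf g ≠ 22)
    (h3 : (∀ g : G, orderOf g ≠ 6) ∨ (∀ g : G, orderOf g ≠ 33))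
    (h5 : (∀ g : G, orderOf g ≠ 10) ∨ (∀ g : G, orderOf g ≠ 55)) : IsSimpleGroup G := by
  classical
  haveI f11 : Fact (Nat.Prime 11) := ⟨by norm_num⟩
  haveI f2 : Fact (Nat.Prime 2) := ⟨by norm_num⟩
  haveI f3 : Fact (Nat.Prime 3) := ⟨by norm_num⟩
  haveI f5 : Fact (Nat.Prime 5) := ⟨by norm_num⟩
  have hnt : Nontrivial G := by
    rw [← Finite.one_lt_card_iff_nontrivial, hG]; norm_num
  have hcard11 : Nat.card G = 11 ^ 1 * 720 := hG.trans (by norm_num)
  obtain ⟨P⟩ : Nonempty (Sylow 11 G) := inferInstance
  have hP : Nat.card (P : Subgroup G) = 11 := by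
    have := card_sylow_subgroup_of_card_eq (p := 11) (k := 1) (m := 720) hcard11 (by norm_num) P
    simpa using this
  -- (a) `|N(P)| = 55`
  have hNP : Nat.card (normalizer ((P : Subgroup G) : Set G)) = 55 := by
    obtain ⟨hf10, -⟩ := relIndex_dvd_of_card_sylow_prime P hP
    have hcf := card_centralizer_mul_relIndex (P : Subgroup G)
    have hn := card_normalizer_mul_card_sylow P
    have hmod : Nat.card (Sylow 11 G) ≡ 1 [MOD 11] := card_sylow_modEq_one 11 G
    have hdvd : Nat.card (Sylow 11 G) ∣ 720 := card_sylow_dvd_of_card_eq hcard11 (by norm_num)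
    -- `P ≤ C(P)`
    have hPC : (P : Subgroup G) ≤ centralizer ((P : Subgroup G) : Set G) := by
      intro x hx
      rw [Subgroup.mem_centralizer_iff]
      intro y hy
      exact comm_of_card_prime (P : Subgroup G) hP y hy x hx
    have h11c : 11 ∣ Nat.card (centralizer ((P : Subgroup G) : Set G)) := by
      have := Subgroup.card_dvd_of_le hPC
      rwa [hP] at this
    -- `|C(P)|` is odd
    have hodd : ¬ 2 ∣ Nat.card (centralizer ((P : Subgroup G) : Set G)) := by
      intro h2
      obtain ⟨z', hz'⟩ := exists_prime_orderOf_dvd_card'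
        (G := ↥(centralizer ((P : Subgroup G) : Set G))) 2 h2
      obtain ⟨x', hx'⟩ := exists_prime_orderOf_dvd_card' (G := ↥(P : Subgroup G)) 11 (by rw [hP])
      have hz2 : orderOf (z' : G) = 2 := by rw [Subgroup.orderOf_coe, hz']
      have hx11 : orderOf (x' : G) = 11 := by rw [Subgroup.orderOf_coe, hx']
      have hcomm : Commute (x' : G) (z' : G) := by
        have := (Subgroup.mem_centralizer_iff.mp z'.2) (x' : G) x'.2
        exact this
      have := hcomm.orderOf_mul_eq_mul_orderOf_of_coprime (by rw [hz2, hx11]; norm_num)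
      rw [hz2, hx11] at this
      exact h22 _ this
    rw [hG] at hn
    have key : ∀ n ∈ Nat.divisors 720, n % 11 = 1 → n = 1 ∨ n = 12 ∨ n = 45 ∨ n = 144 := by
      decide +kernel
    have hn11 := key _ (Nat.mem_divisors.mpr ⟨hdvd, by norm_num⟩) hmod
    have key2 : ∀ f ∈ Nat.divisors 10, f = 1 ∨ f = 2 ∨ f = 5 ∨ f = 10 := by decide
    have hf := key2 _ (Nat.mem_divisors.mpr ⟨hf10, by norm_num⟩)
    generalize Nat.card (Sylow 11 G) = n11 at hn hn11
    generalize (centralizer ((P : Subgroup G) : Set G)).relIndex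
      (normalizer ((P : Subgroup G) : Set G)) = f at hcf hf
    generalize Nat.card (centralizer ((P : Subgroup G) : Set G)) = c at hcf h11c hodd
    generalize Nat.card (normalizer ((P : Subgroup G) : Set G)) = NP at hcf hn ⊢
    rcases hn11 with rfl | rfl | rfl | rfl <;> rcases hf with rfl | rfl | rfl | rfl <;> omega
  -- (b)
  by_contra hsimple
  obtain ⟨N, hNn, hNbot, hNtop⟩ : ∃ N : Subgroup G, N.Normal ∧ N ≠ ⊥ ∧ N ≠ ⊤ := by
    by_contra hcon
    push Not at hcon
    apply hsimple
    exact { exists_pair_ne := hnt.exists_pair_ne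
            eq_bot_or_eq_top_of_normal := fun N hN => by
              by_contra h'; push Not at h'; exact h'.2 (hcon N hN h'.1) }
  haveI := hNn
  have hki := N.card_mul_index
  rw [hG] at hki
  have hk1 : Nat.card N ≠ 1 := fun h1 => hNbot (Subgroup.card_eq_one.mp h1)
  have hkG : Nat.card N ≠ 7920 := fun h1 => hNtop (Subgroup.eq_top_of_card_eq N (h1.trans hG.symm))
  by_cases h11 : 11 ∣ Nat.card N
  · -- (b1)
    have hPN : (P : Subgroup G) ≤ N := Cfsg.Agent.Helper9.FratIdx.sylow_le_normal N P (by rw [hP]; exact h11)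
    have hfr := Cfsg.Agent.Helper9.FratIdx.frattini_index N P hPN
    rw [hNP] at hfr
    have hi11 : ¬ 11 ∣ N.index := by
      intro hi
      obtain ⟨a, ha⟩ := h11
      obtain ⟨b, hb⟩ := hi
      rw [ha, hb] at hki
      have : 121 * (a * b) = 7920 := by rw [← hki]; ring
      omega
    have hi1 : N.index ≠ 1 := fun h1 => hNtop (Subgroup.index_eq_one.mp h1)
    have hidx5 : N.index = 5 ∧ Nat.card (normalizer ((P : Subgroup G) : Set G) ⊓ N : Subgroup G) = 11 := by
      have hmem : N.index ∈ Nat.divisors 55 := Nat.mem_divisors.mpr ⟨⟨_, hfr⟩, by norm_num⟩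
      have key : ∀ i ∈ Nat.divisors 55, ¬ 11 ∣ i → i ≠ 1 → i = 5 := by decide
      have h5' := key _ hmem hi11 hi1
      rw [h5'] at hfr
      exact ⟨h5', by omega⟩
    obtain ⟨hidx5, hw⟩ := hidx5
    have hk : Nat.card N = 2 ^ 4 * 99 := by rw [hidx5] at hki; omega
    -- in `↥N`
    set P' : Sylow 11 N := P.subtype hPN with hP'
    have hP'card : Nat.card (P' : Subgroup N) = 11 := by
      rw [hP', Sylow.coe_subtype]
      exact (Nat.card_congr (Subgroup.subgroupOfEquivOfLe hPN).toEquiv).trans hP
    have hab : ∀ a ∈ (P' : Subgroup N), ∀ b ∈ (P' : Subgroup N), a * b = b * a :=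
      fun a ha b hb => comm_of_card_prime (P' : Subgroup N) hP'card a ha b hb
    have hself : Nat.card (normalizer ((P' : Subgroup N) : Set N)) = Nat.card (P' : Subgroup N) := by
      rw [hP'card]
      have e1 : normalizer ((P' : Subgroup N) : Set N)
          = (normalizer ((P : Subgroup G) : Set G)).subgroupOf N := by
        rw [hP', Sylow.coe_subtype, Subgroup.subgroupOf_normalizer_eq hPN]
      rw [e1, ← inf_subgroupOf_right]
      exact (Nat.card_congr (Subgroup.subgroupOfEquivOfLe inf_le_right).toEquiv).trans hw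
    have hno : ∀ g : N, orderOf g ≠ 11 * 2 := by
      intro g
      rw [← Subgroup.orderOf_coe]
      exact h22 _
    have := Cfsg.Agent.Helper31.Fpf7920.burnside_fpf (p := 11) (r := 2) (by norm_num) hno P' hab hself
      4 99 hk (by norm_num)
    rw [hP'card] at this
    norm_num at this
  · have hi11 : 11 ^ 1 ∣ N.index := by
      have h1 : 11 ∣ Nat.card N * N.index := by rw [hki]; norm_num
      rw [pow_one]
      exact ((Nat.Prime.dvd_mul (by norm_num)).mp h1).resolve_left h11
    have hN0 : Nat.card N ≠ 0 := Nat.card_pos.ne'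
    by_cases h2 : 2 ∣ Nat.card N
    · -- (b2)
      obtain ⟨a, m, hm, hk⟩ := Nat.exists_eq_pow_mul_and_not_dvd hN0 2 (by norm_num)
      have ha4 : a ≤ 4 := by
        by_contra hlt
        push Not at hlt
        have h32 : 2 ^ 5 ∣ Nat.card N := by
          rw [hk]
          exact Dvd.dvd.mul_right (pow_dvd_pow 2 hlt) m
        have : 2 ^ 5 ∣ 7920 := by rw [← hki]; exact Dvd.dvd.mul_right h32 _
        norm_num at this
      have ha0 : a ≠ 0 := by
        rintro rfl
        rw [pow_zero, one_mul] at hk
        exact hm (hk ▸ h2)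
      have := Cfsg.Agent.Helper20.Fpf.frat_pow_dvd N (q := 11) (r := 2) (by norm_num)
        (fun g => h22 g) 1 hi11 a m hk hm
      interval_cases a
      · exact absurd rfl ha0
      all_goals norm_num at this
    · -- (b3): `|N|` divides `45`
      have hdvd : Nat.card N ∣ 45 := by
        have h1 : Nat.card N ∣ 7920 := ⟨N.index, hki.symm⟩
        have hc : Nat.Coprime (Nat.card N) 176 := by
          have h176 : (176 : ℕ) = 2 ^ 4 * 11 := by norm_num
          rw [h176]
          apply Nat.Coprime.mul_right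
          · apply Nat.Coprime.pow_right
            exact ((Nat.Prime.coprime_iff_not_dvd Nat.prime_two).mpr h2).symm
          · exact ((Nat.Prime.coprime_iff_not_dvd (by norm_num : Nat.Prime 11)).mpr h11).symm
        have h2' : (7920 : ℕ) = 45 * 176 := by norm_num
        rw [h2'] at h1
        exact hc.dvd_of_dvd_mul_right h1
      have hi16 : 2 ^ 4 ∣ N.index := by
        have h1 : 2 ^ 4 ∣ Nat.card N * N.index := by rw [hki]; norm_num
        have hc : Nat.Coprime (2 ^ 4) (Nat.card N) := by
          apply Nat.Coprime.pow_left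
          exact (Nat.Prime.coprime_iff_not_dvd Nat.prime_two).mpr h2
        exact hc.dvd_of_dvd_mul_left h1
      have hmem : Nat.card N ∈ Nat.divisors 45 := Nat.mem_divisors.mpr ⟨hdvd, by norm_num⟩
      have key : ∀ k ∈ Nat.divisors 45, k ≠ 1 →
          k = 3 ^ 1 * 1 ∨ k = 3 ^ 2 * 1 ∨ k = 3 ^ 1 * 5 ∨ k = 3 ^ 2 * 5 ∨ k = 5 ^ 1 * 1 := by decide
      have three : ∀ a m : ℕ, (a = 1 ∨ a = 2) → ¬ 3 ∣ m → Nat.card N = 3 ^ a * m → False := by
        intro a m ha hm hk
        rcases h3 with h6 | h33
        · have := Cfsg.Agent.Helper20.Fpf.frat_pow_dvd N (q := 2) (r := 3) (by norm_num)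
            (fun g => h6 g) 4 hi16 a m hk hm
          rcases ha with rfl | rfl <;> norm_num at this
        · have := Cfsg.Agent.Helper20.Fpf.frat_pow_dvd N (q := 11) (r := 3) (by norm_num)
            (fun g => h33 g) 1 hi11 a m hk hm
          rcases ha with rfl | rfl <;> norm_num at this
      rcases key _ hmem hk1 with hk | hk | hk | hk | hk
      · exact three 1 1 (Or.inl rfl) (by norm_num) hk
      · exact three 2 1 (Or.inr rfl) (by norm_num) hk
      · exact three 1 5 (Or.inl rfl) (by norm_num) hk
      · exact three 2 5 (Or.inr rfl) (by norm_num) hk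
      · rcases h5 with h10 | h55
        · have := Cfsg.Agent.Helper20.Fpf.frat_pow_dvd N (q := 2) (r := 5) (by norm_num)
            (fun g => h10 g) 4 hi16 1 1 hk (by norm_num)
          norm_num at this
        · have := Cfsg.Agent.Helper20.Fpf.frat_pow_dvd N (q := 11) (r := 5) (by norm_num)
            (fun g => h55 g) 1 hi11 1 1 hk (by norm_num)
          norm_num at this

end Cfsg.Agent.Helper82.S2490
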