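import Mathlib
import Cfsg.Prelude.Def_Solvable
import Cfsg.Agent.Lib.Cores

/-!
# A witness for "the quotient `G / N` has characteristic `p`" (helper82)

`CharPWitness p N U`: `N ≤ U` are normal subgroups of `G`, `U / N` is a `p`-group and every element
of `G` centralizing `U` modulo `N` lies in `U` (so `C_{G/N}(U/N) ≤ U/N`).
-/

set_option autoImplicit false

namespace Cfsg.Agent.Helper82

open Cfsg

variable {G : Type*} [Group G]

/-- `N ≤ U` normal in `G`, `U/N` a `p`-group, `C_{G/N}(U/N) ≤ U/N`. -/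
structure CharPWitness (p : ℕ) (N U : Subgroup G) : Prop where
  le : N ≤ U
  normalN : N.Normal
  normalU : U.Normal
  pgroup : ∀ u ∈ U, ∃ k : ℕ, u ^ (p ^ k) ∈ N
  cent : ∀ g : G, (∀ u ∈ U, g * u * g⁻¹ * u⁻¹ ∈ N) → g ∈ U

/-- From a witness, `C(O_p(G/N)) ≤ O_p(G/N)` in the quotient. -/
theorem CharPWitness.centralizer_pCore_le {p : ℕ} {N U : Subgroup G} (h : CharPWitness p N U)
    [hN : N.Normal] :
    Subgroup.centralizer (pCore p (G ⧸ N) : Set (G ⧸ N)) ≤ pCore p (G ⧸ N) := by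
  have hUn : U.Normal := h.normalU
  set W : Subgroup (G ⧸ N) := U.map (QuotientGroup.mk' N) with hW
  have hWn : W.Normal := Subgroup.Normal.map hUn _ (QuotientGroup.mk'_surjective N)
  have hWp : IsPGroup p W := by
    rintro ⟨w, hw⟩
    obtain ⟨u, hu, rfl⟩ := hw
    obtain ⟨k, hk⟩ := h.pgroup u hu
    refine ⟨k, ?_⟩
    apply Subtype.ext
    show (QuotientGroup.mk' N u) ^ (p ^ k) = 1
    rw [← map_pow]
    exact (QuotientGroup.eq_one_iff _).mpr hk
  have hWle : W ≤ pCore p (G ⧸ N) := Cfsg.Agent.Lib.le_pCore hWn hWp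
  intro x hx
  apply hWle
  obtain ⟨g, rfl⟩ := QuotientGroup.mk'_surjective N x
  refine ⟨g, ?_, rfl⟩
  apply h.cent
  intro u hu
  have hu' : QuotientGroup.mk' N u ∈ pCore p (G ⧸ N) := hWle ⟨u, hu, rfl⟩
  have hc := (Subgroup.mem_centralizer_iff.mp hx) _ hu'
  -- hc : mk u * mk g = mk g * mk u
  rw [← QuotientGroup.eq_one_iff]
  have : (QuotientGroup.mk' N) (g * u * g⁻¹ * u⁻¹) = 1 := by
    rw [map_mul, map_mul, map_mul, map_inv, map_inv, ← hc]
    group
  exact this

end Cfsg.Agent.Helper82
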