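import Mathlib

set_option autoImplicit false

/-!
# Automorphisms of `ℂ` acting on roots of unity by a power map (helper82)

* `exists_ringEquiv_extending`: every automorphism of a subfield `K` of an algebraically closed
  field `L` extends to an automorphism of `L` (transcendence basis + uniqueness of algebraic
  closures).
* `exists_ringAut_complex_pow`: for `k` coprime to `N` there is a ring automorphism `τ` of `ℂ`
  with `τ μ = μ ^ k` for every `N`-th root of unity `μ`.
-/

namespace Cfsg.Agent.Helper82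

open Polynomial

/-- Extension of automorphisms to an algebraically closed overfield. -/
theorem exists_ringEquiv_extending {K : Type*} [Field K] (L : Type*) [Field L] [Algebra K L]
    [IsAlgClosed L] (σ : K ≃+* K) :
    ∃ τ : L ≃+* L, ∀ x : K, τ (algebraMap K L x) = algebraMap K L (σ x) := by
  classical
  obtain ⟨s, hs⟩ := exists_isTranscendenceBasis K L
  let v : s → L := fun x => (x : L)
  have hv : IsTranscendenceBasis K v := hs
  haveI hcl : IsAlgClosure (Algebra.adjoin K (Set.range v)) L :=
    IsAlgClosed.isAlgClosure_of_transcendence_basis v hv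
  let e0 : MvPolynomial s K ≃ₐ[K] Algebra.adjoin K (Set.range v) := hv.1.aevalEquiv
  let m : MvPolynomial s K ≃+* MvPolynomial s K := MvPolynomial.mapEquiv s σ
  let e : Algebra.adjoin K (Set.range v) ≃+* Algebra.adjoin K (Set.range v) :=
    e0.symm.toRingEquiv.trans (m.trans e0.toRingEquiv)
  refine ⟨IsAlgClosure.equivOfEquiv L L e, fun x => ?_⟩
  have h1 : algebraMap K L x =
      algebraMap (Algebra.adjoin K (Set.range v)) L
        (algebraMap K (Algebra.adjoin K (Set.range v)) x) := rfl
  have h2 : e (algebraMap K (Algebra.adjoin K (Set.range v)) x) =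
      algebraMap K (Algebra.adjoin K (Set.range v)) (σ x) := by
    show e0 (m (e0.symm (algebraMap K (Algebra.adjoin K (Set.range v)) x))) = _
    rw [AlgEquiv.commutes]
    have : m (algebraMap K (MvPolynomial s K) x) = algebraMap K (MvPolynomial s K) (σ x) := by
      show MvPolynomial.mapEquiv s σ (MvPolynomial.C x) = MvPolynomial.C (σ x)
      simp
    rw [this, AlgEquiv.commutes]
  rw [h1, IsAlgClosure.equivOfEquiv_algebraMap, h2]
  rfl

/-- An automorphism of `ℂ` raising all `N`-th roots of unity to the `k`-th power. -/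
theorem exists_ringAut_complex_pow (N : ℕ) (hN : 0 < N) (k : ℕ) (hk : k.Coprime N) :
    ∃ τ : ℂ ≃+* ℂ, ∀ μ : ℂ, μ ^ N = 1 → τ μ = μ ^ k := by
  classical
  have hn1 : NeZero N := ⟨hN.ne'⟩
  have hcyc : IsCyclotomicExtension {N} ℚ (CyclotomicField N ℚ) :=
    CyclotomicField.isCyclotomicExtension N ℚ
  let ζ' : CyclotomicField N ℚ := IsCyclotomicExtension.zeta N ℚ (CyclotomicField N ℚ)
  have hζ' : IsPrimitiveRoot ζ' N := IsCyclotomicExtension.zeta_spec N ℚ (CyclotomicField N ℚ)
  let emb : CyclotomicField N ℚ →ₐ[ℚ] ℂ := IsAlgClosed.lift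
  have hζ : IsPrimitiveRoot (emb ζ') N := hζ'.map_of_injective emb.injective
  have hirr : Irreducible (cyclotomic N ℚ) := cyclotomic.irreducible_rat hN
  let σ : CyclotomicField N ℚ ≃ₐ[ℚ] CyclotomicField N ℚ :=
    IsCyclotomicExtension.fromZetaAut (hζ'.pow_of_coprime k hk) hirr
  have hσ : σ ζ' = ζ' ^ k := IsCyclotomicExtension.fromZetaAut_spec (hζ'.pow_of_coprime k hk) hirr
  letI : Algebra (CyclotomicField N ℚ) ℂ := emb.toRingHom.toAlgebra
  obtain ⟨τ, hτ⟩ := exists_ringEquiv_extending (K := CyclotomicField N ℚ) ℂ σ.toRingEquiv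
  refine ⟨τ, fun μ hμ => ?_⟩
  obtain ⟨j, _, rfl⟩ := hζ.eq_pow_of_pow_eq_one hμ
  have h1 : τ (emb ζ') = emb (ζ' ^ k) := by
    have := hτ ζ'
    rw [show (σ.toRingEquiv ζ') = ζ' ^ k from hσ] at this
    exact this
  rw [map_pow, h1, map_pow, ← pow_mul, ← pow_mul, mul_comm]

end Cfsg.Agent.Helper82
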