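import Cfsg.Agent.Helper16.CoverUnder
import Cfsg.Agent.Helper78.IrrTransport
import Cfsg.Agent.S0964

/-!
# Alperin–Dade: the final deduction (WANTED #4134 (AD-F), for helper16's S4551)

If `|G : N| · ω_θ(e_{B₀(G)}|_N) = 1` for every `θ` in the principal block of the normal subgroup
`N`, then restriction is a bijection `B₀(G) → B₀(N)`.
-/

set_option autoImplicit false
set_option linter.unusedSectionVars false
set_option linter.unusedVariables false
set_option linter.style.haveILetI false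
set_option maxHeartbeats 800000

namespace Cfsg.Agent.Helper82.ADFinal

open Cfsg Cfsg.Agent.Helper16
open scoped ComplexConjugate

variable {G : Type*} [Group G] [Fintype G] {M : Ideal AlgInt} {p : ℕ}

/-- A sum of natural numbers, each of which is `0` or at least `d > 0`, equal to `d`:
exactly one term is nonzero. -/
theorem unique_of_sum_eq {ι : Type*} [Fintype ι] [DecidableEq ι] (t : ι → ℕ) (d : ℕ) (hd : 0 < d)
    (hge : ∀ i, t i ≠ 0 → d ≤ t i) (hsum : ∑ i, t i = d) :
    ∃ i₀, t i₀ = d ∧ ∀ i, t i ≠ 0 → i = i₀ := by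
  have hex : ∃ i₀, t i₀ ≠ 0 := by
    by_contra hcon
    push Not at hcon
    rw [Finset.sum_eq_zero (fun i _ => hcon i)] at hsum
    omega
  obtain ⟨i₀, hi₀⟩ := hex
  have hsplit := Finset.add_sum_erase Finset.univ t (Finset.mem_univ i₀)
  have h1 := hge i₀ hi₀
  have hrest : ∑ i ∈ Finset.univ.erase i₀, t i = 0 := by omega
  refine ⟨i₀, by omega, ?_⟩
  intro i hi
  by_contra hne
  have := (Finset.sum_eq_zero_iff.mp hrest) i (Finset.mem_erase.mpr ⟨hne, Finset.mem_univ i⟩)
  exact hi this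

theorem alperinDade_of_omega [Fact p.Prime] (hM : IsPModular p M)
    (N : Subgroup G) [N.Normal] [Fintype N]
    (hstar : ∀ θ : IrrCharacter N, θ ∈ principalBlock M N →
      (N.index : ℂ) * omega (θ : N → ℂ) (Helper77.resFun N (blockCoeff (principalBlock M G))) = 1) :
    (∀ χ ∈ principalBlock M G, ∃ θ ∈ principalBlock M ↥N, ∀ n : N, (χ : G → ℂ) n = (θ : N → ℂ) n) ∧
    ∀ θ ∈ principalBlock M ↥N, ∃! χ : IrrCharacter G, χ ∈ principalBlock M G ∧
      ∀ n : N, (χ : G → ℂ) n = (θ : N → ℂ) n := by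
  classical
  haveI hMp : M.IsPrime := IsPModular.isPrime hM
  obtain ⟨B, hBdef⟩ : ∃ B : Set (IrrCharacter G), B = principalBlock M G := ⟨_, rfl⟩
  rw [← hBdef] at hstar ⊢
  -- restrictions are characters; multiplicities are natural numbers
  have hres : ∀ χ : IrrCharacter G, IsCharacter N (fun n : N => (χ : G → ℂ) n) := fun χ =>
    Helper74.isCharacter_restrict N (Helper74.irr_isCharacter χ)
  have hnat : ∀ (χ : IrrCharacter G) (θ : IrrCharacter N),
      ∃ m : ℕ, classInner (fun n : N => (χ : G → ℂ) n) (θ : N → ℂ) = m := fun χ θ =>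
    Helper74.isCharacter_inner_irr_nat (hres χ) θ
  choose a ha using hnat
  -- degrees
  have hdG : ∀ χ : IrrCharacter G, (χ : G → ℂ) 1 = (charDegree (χ : G → ℂ) : ℂ) :=
    fun χ => Helper79.irr_one χ
  have hdN : ∀ θ : IrrCharacter N, (θ : N → ℂ) 1 = (charDegree (θ : N → ℂ) : ℂ) :=
    fun θ => Helper79.irr_one θ
  have hdNpos : ∀ θ : IrrCharacter N, 0 < charDegree (θ : N → ℂ) :=
    fun θ => Helper79.irr_charDegree_pos θ
  have hdGpos : ∀ χ : IrrCharacter G, 0 < charDegree (χ : G → ℂ) :=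
    fun χ => Helper79.irr_charDegree_pos χ
  -- the degree of `χ` is the sum of the degrees of its constituents on `N`
  have hdeg : ∀ χ : IrrCharacter G, charDegree (χ : G → ℂ)
      = ∑ θ : IrrCharacter N, a χ θ * charDegree (θ : N → ℂ) := by
    intro χ
    have h1 := congrFun (Helper74.isCharacter_eq_sum_irr (hres χ)) 1
    simp only [Finset.sum_apply, Pi.smul_apply, smul_eq_mul] at h1
    have h2 : ((charDegree (χ : G → ℂ) : ℕ) : ℂ)
        = ((∑ θ : IrrCharacter N, a χ θ * charDegree (θ : N → ℂ) : ℕ) : ℂ) := by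
      push_cast
      rw [← hdG χ]
      have h3 : (χ : G → ℂ) ((1 : N) : G) = (χ : G → ℂ) 1 := by simp
      rw [← h3, h1]
      refine Finset.sum_congr rfl (fun θ _ => ?_)
      rw [ha χ θ, hdN θ]
    exact_mod_cast h2
  have hdeg_ge : ∀ (χ : IrrCharacter G) (θ : IrrCharacter N),
      a χ θ * charDegree (θ : N → ℂ) ≤ charDegree (χ : G → ℂ) := by
    intro χ θ
    rw [hdeg χ]
    exact Finset.single_le_sum (f := fun θ' => a χ θ' * charDegree (θ' : N → ℂ))
      (fun _ _ => Nat.zero_le _) (Finset.mem_univ θ)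
  -- the sum `∑_n conj (χ n) θ n`
  have hN0 : (Nat.card N : ℂ) ≠ 0 := by exact_mod_cast Nat.card_pos.ne'
  have hG0 : (Nat.card G : ℂ) ≠ 0 := by exact_mod_cast Nat.card_pos.ne'
  have hinner : ∀ (χ : IrrCharacter G) (θ : IrrCharacter N),
      ∑ n : N, conj ((χ : G → ℂ) n) * (θ : N → ℂ) n = (Nat.card N : ℂ) * (a χ θ : ℂ) := by
    intro χ θ
    have h1 := ha χ θ
    unfold classInner at h1
    have h2 : ∑ n : N, (χ : G → ℂ) n * conj ((θ : N → ℂ) n) = (Nat.card N : ℂ) * (a χ θ : ℂ) := by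
      rw [← h1, ← mul_assoc, mul_inv_cancel₀ hN0, one_mul]
    have h3 := congrArg conj h2
    rw [map_sum, map_mul, Complex.conj_natCast, Complex.conj_natCast] at h3
    rw [← h3]
    refine Finset.sum_congr rfl (fun n _ => ?_)
    rw [map_mul, Complex.conj_conj]
  -- (F1) in natural numbers
  have hidx : (N.index : ℂ) * (Nat.card N : ℂ) = (Nat.card G : ℂ) := by
    have := N.index_mul_card
    exact_mod_cast this
  have F1 : ∀ θ : IrrCharacter N, θ ∈ principalBlock M N →
      ∑ χ : IrrCharacter G, (if χ ∈ B then charDegree (χ : G → ℂ) * a χ θ else 0)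
        = charDegree (θ : N → ℂ) := by
    intro θ hθ
    have h1 := hstar θ hθ
    unfold omega at h1
    have hθ1 : (θ : N → ℂ) 1 ≠ 0 := Helper79.irr_one_ne_zero θ
    have h2 : (N.index : ℂ) * ∑ n : N, Helper77.resFun N (blockCoeff B) n * (θ : N → ℂ) n
        = (θ : N → ℂ) 1 := by
      field_simp at h1
      linear_combination h1
    have h3 : ∑ n : N, Helper77.resFun N (blockCoeff B) n * (θ : N → ℂ) n
        = (Nat.card G : ℂ)⁻¹ * ∑ χ : IrrCharacter G,
            (if χ ∈ B then (1 : ℂ) else 0) * (χ : G → ℂ) 1 * ((Nat.card N : ℂ) * (a χ θ : ℂ)) := by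
      have h4 : ∀ n : N, Helper77.resFun N (blockCoeff B) n * (θ : N → ℂ) n
          = (Nat.card G : ℂ)⁻¹ * ∑ χ : IrrCharacter G,
            (if χ ∈ B then (1 : ℂ) else 0) * (χ : G → ℂ) 1 *
              (conj ((χ : G → ℂ) n) * (θ : N → ℂ) n) := by
        intro n
        show blockCoeff B (n : G) * _ = _
        rw [blockCoeff_eq_sum, mul_assoc, Finset.sum_mul]
        congr 1
        refine Finset.sum_congr rfl (fun χ _ => ?_)
        ring
      simp_rw [h4]
      rw [← Finset.mul_sum, Finset.sum_comm]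
      congr 1
      refine Finset.sum_congr rfl (fun χ _ => ?_)
      rw [← Finset.mul_sum, hinner χ θ]
    rw [h3, hdN θ] at h2
    have h5 : ((∑ χ : IrrCharacter G, (if χ ∈ B then charDegree (χ : G → ℂ) * a χ θ else 0) : ℕ) : ℂ)
        = ((charDegree (θ : N → ℂ) : ℕ) : ℂ) := by
      rw [← h2]
      push_cast
      rw [← mul_assoc, Finset.mul_sum]
      refine Finset.sum_congr rfl (fun χ _ => ?_)
      by_cases hχ : χ ∈ B
      · rw [if_pos hχ, if_pos hχ, hdG χ]
        field_simp
        linear_combination (-(charDegree (χ : G → ℂ) : ℂ) * (a χ θ : ℂ)) * hidx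
      · rw [if_neg hχ, if_neg hχ]
        simp
    exact_mod_cast h5
  -- KEY
  have KEY : ∀ θ : IrrCharacter N, θ ∈ principalBlock M N →
      ∃ χ₀ : IrrCharacter G, χ₀ ∈ B ∧ (∀ n : N, (χ₀ : G → ℂ) n = (θ : N → ℂ) n) ∧
        ∀ χ : IrrCharacter G, χ ∈ B → a χ θ ≠ 0 → χ = χ₀ := by
    intro θ hθ
    set d := charDegree (θ : N → ℂ) with hd
    have hdpos : 0 < d := hdNpos θ
    set t : IrrCharacter G → ℕ := fun χ => if χ ∈ B then charDegree (χ : G → ℂ) * a χ θ else 0
      with ht
    have hge : ∀ χ, t χ ≠ 0 → d ≤ t χ := by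
      intro χ hχ
      simp only [ht] at hχ ⊢
      by_cases hB : χ ∈ B
      · rw [if_pos hB] at hχ ⊢
        have ha0 : a χ θ ≠ 0 := fun h0 => hχ (by rw [h0, mul_zero])
        have h1 := hdeg_ge χ θ
        calc d ≤ a χ θ * d := Nat.le_mul_of_pos_left _ (Nat.pos_of_ne_zero ha0)
          _ ≤ charDegree (χ : G → ℂ) := h1
          _ ≤ charDegree (χ : G → ℂ) * a χ θ := Nat.le_mul_of_pos_right _ (Nat.pos_of_ne_zero ha0)
      · rw [if_neg hB] at hχ
        exact absurd rfl hχ
    obtain ⟨χ₀, hχ₀, huniq⟩ := unique_of_sum_eq t d hdpos hge (F1 θ hθ)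
    have hχ₀B : χ₀ ∈ B := by
      by_contra hB
      simp only [ht] at hχ₀
      rw [if_neg hB] at hχ₀
      omega
    have hχ₀' : charDegree (χ₀ : G → ℂ) * a χ₀ θ = d := by
      simp only [ht] at hχ₀
      rwa [if_pos hχ₀B] at hχ₀
    have ha0 : a χ₀ θ ≠ 0 := by
      intro h0
      rw [h0, mul_zero] at hχ₀'
      omega
    have h1 := hdeg_ge χ₀ θ
    -- a = 1 and degrees agree
    have ha1 : a χ₀ θ = 1 := by
      have h2 : a χ₀ θ * d * a χ₀ θ ≤ d := by
        calc a χ₀ θ * d * a χ₀ θ ≤ charDegree (χ₀ : G → ℂ) * a χ₀ θ :=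
              Nat.mul_le_mul_right _ h1
          _ = d := hχ₀'
      by_contra hne
      have h3 : 2 ≤ a χ₀ θ := by omega
      have h4 : 2 * d * 2 ≤ a χ₀ θ * d * a χ₀ θ :=
        Nat.mul_le_mul (Nat.mul_le_mul_right _ h3) h3
      omega
    have hdeq : charDegree (χ₀ : G → ℂ) = d := by rw [ha1, mul_one] at hχ₀'; exact hχ₀'
    -- all other multiplicities vanish
    have hothers : ∀ θ' : IrrCharacter N, θ' ≠ θ → a χ₀ θ' = 0 := by
      intro θ' hne
      have h2 := hdeg χ₀
      rw [← Finset.add_sum_erase Finset.univ _ (Finset.mem_univ θ), ha1, one_mul, hdeq] at h2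
      have h3 : ∑ x ∈ Finset.univ.erase θ, a χ₀ x * charDegree (x : N → ℂ) = 0 := by omega
      have h4 := (Finset.sum_eq_zero_iff.mp h3) θ' (Finset.mem_erase.mpr ⟨hne, Finset.mem_univ θ'⟩)
      rcases Nat.mul_eq_zero.mp h4 with h5 | h5
      · exact h5
      · have := hdNpos θ'; omega
    refine ⟨χ₀, hχ₀B, ?_, ?_⟩
    · intro n
      have h2 := congrFun (Helper74.isCharacter_eq_sum_irr (hres χ₀)) n
      simp only [Finset.sum_apply, Pi.smul_apply, smul_eq_mul] at h2
      rw [h2, Finset.sum_eq_single θ]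
      · rw [ha χ₀ θ, ha1]; simp
      · intro θ' _ hne
        rw [ha χ₀ θ', hothers θ' hne]; simp
      · intro h; exact absurd (Finset.mem_univ θ) h
    · intro χ hχB haχ
      apply huniq
      simp only [ht]
      rw [if_pos hχB]
      exact Nat.mul_ne_zero (hdGpos χ).ne' haχ
  -- a(χ, θ) when χ restricts to θ
  have ha_of_res : ∀ (χ : IrrCharacter G) (θ : IrrCharacter N),
      (∀ n : N, (χ : G → ℂ) n = (θ : N → ℂ) n) → a χ θ = 1 := by
    intro χ θ h
    have h1 := ha χ θ
    have h2 : (fun n : N => (χ : G → ℂ) n) = (θ : N → ℂ) := funext h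
    rw [h2, Helper79.classInner_irr_self] at h1
    exact_mod_cast h1.symm
  constructor
  · -- every `χ ∈ B` restricts to a member of the principal block of `N`
    intro χ hχ
    -- a constituent
    have hex : ∃ θ : IrrCharacter N, a χ θ ≠ 0 := by
      by_contra hcon
      push Not at hcon
      have h1 := hdeg χ
      rw [Finset.sum_eq_zero (fun θ _ => by rw [hcon θ, zero_mul])] at h1
      have := hdGpos χ
      omega
    obtain ⟨θ, hθa⟩ := hex
    have hθne : classInner (fun n : N => (χ : G → ℂ) n) (θ : N → ℂ) ≠ 0 := by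
      rw [ha χ θ]; exact_mod_cast hθa
    -- `θ` lies in the principal block of `N`
    have hθP : θ ∈ principalBlock M N := by
      have hone : classInner (fun n : N => ((Helper79.principalIrr G : IrrCharacter G) : G → ℂ) n)
          ((Helper79.principalIrr N : IrrCharacter N) : N → ℂ) ≠ 0 := by
        have : (fun n : N => ((Helper79.principalIrr G : IrrCharacter G) : G → ℂ) n)
            = ((Helper79.principalIrr N : IrrCharacter N) : N → ℂ) := rfl
        rw [this, Helper79.classInner_irr_self]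
        exact one_ne_zero
      obtain ⟨g, θ', hθ', hconj⟩ := Cfsg.Agent.S0964.result p M hM N B
        (hBdef ▸ Helper78.isPBlock_principalBlock M G) (principalBlock M N)
        (Helper78.isPBlock_principalBlock M N) (Helper79.principalIrr G)
        (hBdef ▸ Helper78.principalIrr_mem_principalBlock M hMp G) (Helper79.principalIrr N)
        (Helper78.principalIrr_mem_principalBlock M hMp N) hone χ hχ θ hθne
      have hθeq : (θ : N → ℂ) = Helper15.conjFun N g (θ' : N → ℂ) := by
        funext n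
        rw [Helper15.conjFun_apply]
        exact hconj n
      have h1 : SameBlock M (fun _ : N => (1 : ℂ)) (θ' : N → ℂ) := hθ'
      have h2 := sameBlock_conjFun N h1 g
      have h3 : Helper15.conjFun N g (fun _ : N => (1 : ℂ)) = fun _ : N => (1 : ℂ) := rfl
      rw [h3, ← hθeq] at h2
      exact h2
    obtain ⟨χ₀, hχ₀B, hχ₀res, huniq⟩ := KEY θ hθP
    have := huniq χ hχ hθa
    exact ⟨θ, hθP, fun n => by rw [this]; exact hχ₀res n⟩
  · intro θ hθ
    obtain ⟨χ₀, hχ₀B, hχ₀res, huniq⟩ := KEY θ hθ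
    refine ⟨χ₀, ⟨hχ₀B, hχ₀res⟩, ?_⟩
    rintro χ ⟨hχB, hχres⟩
    apply huniq χ hχB
    rw [ha_of_res χ θ hχres]
    exact one_ne_zero

end Cfsg.Agent.Helper82.ADFinal
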