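import Mathlib
import Cfsg.Agent.Helper43.EB.Defs

/-!
# S5877 (helper43 #9543): piece (L8a) `exists_central_elt` (helper82), CORE form

The statement of (L8a) with the three leaves it uses, (L2a) `finrank_inter_translate`,
(L2b) `fix_inter_translate` (for `k = 1`) and (L6) `exists_fixed_mod` (for the group `↥Γ`), as explicit
hypotheses; imports only `Mathlib` and `Helper43.EB.Defs`.
-/

set_option autoImplicit false

namespace Cfsg.Agent.Helper82.EBL8aCore

open Cfsg.Agent.Helper43.EB Module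

variable {F : Type*} [Field F] {V : Type*} [AddCommGroup V] [Module F V]

theorem sc_comm (c : Fˣ) (b : (Module.End F V)ˣ) : sc c * b = b * sc c := by
  apply Units.ext
  rw [Units.val_mul, Units.val_mul, sc_val, smul_mul_assoc, one_mul, mul_smul_comm, mul_one]

theorem sc_mul (c d : Fˣ) : (sc (c * d) : (Module.End F V)ˣ) = sc c * sc d := by
  unfold sc
  rw [map_mul]

theorem sc_inv (c : Fˣ) : (sc c⁻¹ : (Module.End F V)ˣ) = (sc c)⁻¹ := by
  unfold sc
  rw [map_inv]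

theorem sc_pow (c : Fˣ) (k : ℕ) : (sc (c ^ k) : (Module.End F V)ˣ) = sc c ^ k := by
  unfold sc
  rw [map_pow]

theorem sc_one : (sc 1 : (Module.End F V)ˣ) = 1 := by
  unfold sc
  rw [map_one]

/-- for units of `End V` (`V ≠ 0`), scalar means in the image of `sc` -/
theorem isScalar_iff (h10 : (1 : Module.End F V) ≠ 0) (a : (Module.End F V)ˣ) :
    IsScalar (a : Module.End F V) ↔ ∃ c : Fˣ, a = sc c := by
  constructor
  · rintro ⟨c, hc⟩
    have hc0 : c ≠ 0 := by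
      rintro rfl
      rw [zero_smul] at hc
      apply h10
      calc (1 : Module.End F V) = ((a⁻¹ : (Module.End F V)ˣ) : Module.End F V) * (a : Module.End F V) := by
            rw [← Units.val_mul, inv_mul_cancel, Units.val_one]
        _ = 0 := by rw [hc, mul_zero]
    refine ⟨Units.mk0 c hc0, ?_⟩
    apply Units.ext
    rw [sc_val, hc]
    rfl
  · rintro ⟨c, rfl⟩
    exact ⟨c, sc_val c⟩

/-- (L8a) if some eigenspace of `g` has dimension more than `dim V / 2` and `g ^ r = 1`, then `g`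
commutes with a non-scalar `z ∈ Γ` with `z ^ r = 1` -/
theorem exists_central_elt_core [FiniteDimensional F V] {r : ℕ} {ω : F}
    {Γ : Subgroup (Module.End F V)ˣ} (hΓ : SympType r ω Γ)
    (hP : HasPow r Γ)
    {g : (Module.End F V)ˣ} (hg : g ∈ Subgroup.normalizer (Γ : Set (Module.End F V)ˣ))
    (hns : ¬ IsScalar (g : Module.End F V)) (hgr : g ^ r = 1) (c : F)
    (hlt : finrank F V < 2 * finrank F (Module.End.eigenspace (g : Module.End F V) c))
    (hL2a : ∀ x : (Module.End F V)ˣ,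
      2 * finrank F (Module.End.eigenspace (g : Module.End F V) c) ≤ finrank F V +
        finrank F ↥(Module.End.eigenspace (g : Module.End F V) c ⊓
          (Module.End.eigenspace (g : Module.End F V) c).map (x : Module.End F V)))
    (hL2b : ∀ (x : (Module.End F V)ˣ) (u : V),
      u ∈ Module.End.eigenspace (g : Module.End F V) c ⊓
        (Module.End.eigenspace (g : Module.End F V) c).map (x : Module.End F V) →
      ((x * g * x⁻¹ * g⁻¹ : (Module.End F V)ˣ) : Module.End F V) u = u)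
    (hL6 : ∀ (Z : Subgroup ↥Γ), (∀ a ∈ Z, ∀ b : ↥Γ, a * b = b * a) →
      (∀ a b : ↥Γ, a * b * a⁻¹ * b⁻¹ ∈ Z) → (∀ a : ↥Γ, a ^ r ∈ Z) → ∀ φ : MulAut ↥Γ,
      (∀ a : ↥Γ, a ∈ Z ↔ φ a ∈ Z) → φ ^ r = 1 → ∀ y : ↥Γ, y ∉ Z →
      ∃ z : ↥Γ, z ∉ Z ∧ z * (φ z)⁻¹ ∈ Z) :
    ∃ z ∈ Γ, z ^ r = 1 ∧ ¬ IsScalar (z : Module.End F V) ∧ z * g = g * z := by
  classical
  have h10 : (1 : Module.End F V) ≠ 0 := by
    intro h
    apply hns
    refine ⟨0, ?_⟩
    rw [zero_smul]
    calc (g : Module.End F V) = (g : Module.End F V) * 1 := (mul_one _).symm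
      _ = 0 := by rw [h, mul_zero]
  have hsc_iff := isScalar_iff (F := F) (V := V) h10
  -- a non-scalar element of `Γ`
  obtain ⟨y₀, hy₀Γ, hy₀⟩ : ∃ y ∈ Γ, ¬ IsScalar ((y : (Module.End F V)ˣ) : Module.End F V) := by
    by_contra hcon
    push Not at hcon
    apply hns
    apply hΓ.schur
    intro a ha
    obtain ⟨c', hc'⟩ := (hsc_iff a).1 (hcon a ha)
    rw [hc']
    have h := congrArg Units.val (sc_comm c' g)
    rw [Units.val_mul, Units.val_mul] at h
    exact h.symm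
  -- the scalar subgroup of `Γ`
  obtain ⟨Z, hZdef⟩ : ∃ Z : Subgroup ↥Γ, Z =
      (MonoidHom.range (Units.map (algebraMap F (Module.End F V)).toMonoidHom)).subgroupOf Γ :=
    ⟨_, rfl⟩
  have hZ_iff : ∀ a : ↥Γ, a ∈ Z ↔ ∃ c : Fˣ, (a : (Module.End F V)ˣ) = sc c := by
    intro a
    rw [hZdef, Subgroup.mem_subgroupOf, MonoidHom.mem_range]
    constructor
    · rintro ⟨c, hc⟩
      exact ⟨c, hc.symm⟩
    · rintro ⟨c, hc⟩
      exact ⟨c, hc.symm⟩
  -- conjugation by `g`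
  have hgn : ∀ a, a ∈ Γ ↔ g * a * g⁻¹ ∈ Γ := fun a => Subgroup.mem_normalizer_iff.1 hg a
  have hgn' : ∀ a, a ∈ Γ → g⁻¹ * a * g ∈ Γ := by
    intro a ha
    rw [hgn]
    have : g * (g⁻¹ * a * g) * g⁻¹ = a := by group
    rw [this]
    exact ha
  obtain ⟨φ, hφ⟩ : ∃ φ : MulAut ↥Γ, ∀ a : ↥Γ, ((φ a : ↥Γ) : (Module.End F V)ˣ) = g * a * g⁻¹ := by
    refine ⟨{ toFun := fun a => ⟨g * a * g⁻¹, (hgn a).1 a.2⟩
              invFun := fun a => ⟨g⁻¹ * a * g, hgn' a a.2⟩
              left_inv := ?_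
              right_inv := ?_
              map_mul' := ?_ }, fun a => rfl⟩
    · intro a
      apply Subtype.ext
      show g⁻¹ * (g * (a : (Module.End F V)ˣ) * g⁻¹) * g = a
      group
    · intro a
      apply Subtype.ext
      show g * (g⁻¹ * (a : (Module.End F V)ˣ) * g) * g⁻¹ = a
      group
    · intro a b
      apply Subtype.ext
      show g * ((a * b : ↥Γ) : (Module.End F V)ˣ) * g⁻¹ =
        (g * (a : (Module.End F V)ˣ) * g⁻¹) * (g * (b : (Module.End F V)ˣ) * g⁻¹)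
      rw [Subgroup.coe_mul]
      group
  have hφpow : ∀ (k : ℕ) (a : ↥Γ),
      (((φ ^ k) a : ↥Γ) : (Module.End F V)ˣ) = g ^ k * a * (g ^ k)⁻¹ := by
    intro k
    induction k with
    | zero =>
      intro a
      rw [pow_zero, pow_zero, MulAut.one_apply, one_mul, inv_one, mul_one]
    | succ k ih =>
      intro a
      rw [pow_succ, MulAut.mul_apply, ih, hφ, pow_succ]
      group
  have hφr : φ ^ r = 1 := by
    apply MulEquiv.ext
    intro a
    apply Subtype.ext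
    rw [hφpow, hgr, MulAut.one_apply, one_mul, inv_one, mul_one]
  have hZc : ∀ a ∈ Z, ∀ b : ↥Γ, a * b = b * a := by
    intro a ha b
    obtain ⟨c', hc'⟩ := (hZ_iff a).1 ha
    apply Subtype.ext
    rw [Subgroup.coe_mul, Subgroup.coe_mul, hc']
    exact sc_comm c' (b : (Module.End F V)ˣ)
  have hcomm : ∀ a b : ↥Γ, a * b * a⁻¹ * b⁻¹ ∈ Z := by
    intro a b
    rw [hZ_iff, ← hsc_iff]
    obtain ⟨k, hk⟩ := hΓ.comm a a.2 b b.2
    refine ⟨ω ^ k, ?_⟩
    have h1 : ((a * b * a⁻¹ * b⁻¹ : ↥Γ) : (Module.End F V)ˣ) =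
        ((a : (Module.End F V)ˣ) * b) * ((b : (Module.End F V)ˣ) * a)⁻¹ := by
      simp only [Subgroup.coe_mul, Subgroup.coe_inv]
      group
    rw [h1, Units.val_mul, Units.val_mul, hk, smul_mul_assoc, ← Units.val_mul, ← Units.val_mul,
      mul_inv_cancel, Units.val_one]
  have hpow : ∀ a : ↥Γ, a ^ r ∈ Z := by
    intro a
    obtain ⟨c', hc'⟩ := hP a a.2
    rw [hZ_iff]
    refine ⟨(c' ^ r)⁻¹, ?_⟩
    rw [(Commute.mul_pow (sc_comm c' (a : (Module.End F V)ˣ)) r)] at hc'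
    rw [Subgroup.coe_pow, sc_inv, sc_pow]
    exact eq_inv_of_mul_eq_one_right hc'
  have hφZ : ∀ a : ↥Γ, a ∈ Z ↔ φ a ∈ Z := by
    intro a
    rw [hZ_iff, hZ_iff, hφ]
    constructor
    · rintro ⟨c', hc'⟩
      refine ⟨c', ?_⟩
      rw [hc', ← sc_comm c' g, mul_inv_cancel_right]
    · rintro ⟨c', hc'⟩
      refine ⟨c', ?_⟩
      have h1 : (a : (Module.End F V)ˣ) = g⁻¹ * (g * a * g⁻¹) * g := by group
      rw [h1, hc', ← sc_comm c' g⁻¹, inv_mul_cancel_right]
  obtain ⟨z₀, hz₀Z, hz₀⟩ := hL6 Z hZc hcomm hpow φ hφZ hφr ⟨y₀, hy₀Γ⟩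
    (by
      rw [hZ_iff, ← hsc_iff]
      exact hy₀)
  obtain ⟨d, hd⟩ := (hZ_iff _).1 hz₀
  have hd' : (z₀ : (Module.End F V)ˣ) * g * (z₀ : (Module.End F V)ˣ)⁻¹ * g⁻¹ = sc d := by
    rw [← hd, Subgroup.coe_mul, Subgroup.coe_inv, hφ]
    group
  -- a non-zero vector in `W ⊓ z₀ W`
  have hL2a := hL2a (z₀ : (Module.End F V)ˣ)
  have hpos : 0 < finrank F ↥(Module.End.eigenspace (g : Module.End F V) c ⊓
      (Module.End.eigenspace (g : Module.End F V) c).map
        (((z₀ : (Module.End F V)ˣ) : Module.End F V))) := by omega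
  rw [Module.finrank_pos_iff] at hpos
  obtain ⟨u, hu⟩ := exists_ne (0 : ↥(Module.End.eigenspace (g : Module.End F V) c ⊓
      (Module.End.eigenspace (g : Module.End F V) c).map
        (((z₀ : (Module.End F V)ˣ) : Module.End F V))))
  have hu0 : (u : V) ≠ 0 := fun h => hu (Subtype.ext h)
  have hL2b := hL2b (z₀ : (Module.End F V)ˣ) (u : V) u.2
  rw [hd', sc_apply] at hL2b
  have hd1 : d = 1 := by
    have h1 : ((d : F) - 1) • (u : V) = 0 := by rw [sub_smul, one_smul, hL2b, sub_self]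
    rcases smul_eq_zero.1 h1 with h2 | h2
    · apply Units.ext
      rw [Units.val_one]
      exact sub_eq_zero.1 h2
    · exact absurd h2 hu0
  have hzg : (z₀ : (Module.End F V)ˣ) * g = g * z₀ := by
    rw [hd1, sc_one] at hd'
    have h1 : (z₀ : (Module.End F V)ˣ) * g =
        ((z₀ : (Module.End F V)ˣ) * g * (z₀ : (Module.End F V)ˣ)⁻¹ * g⁻¹) * (g * z₀) := by group
    rw [h1, hd', one_mul]
  -- scale
  obtain ⟨c', hc'⟩ := hP z₀ z₀.2
  refine ⟨sc c' * (z₀ : (Module.End F V)ˣ), Γ.mul_mem (hΓ.scalar_mem c') z₀.2, hc', ?_, ?_⟩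
  · intro hsc
    obtain ⟨e, he⟩ := (hsc_iff _).1 hsc
    apply hz₀Z
    rw [hZ_iff]
    refine ⟨c'⁻¹ * e, ?_⟩
    rw [sc_mul, sc_inv, ← he, inv_mul_cancel_left]
  · rw [mul_assoc, hzg, ← mul_assoc, sc_comm c' g, mul_assoc]

end Cfsg.Agent.Helper82.EBL8aCore
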