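import Mathlib
import Cfsg.Prelude.Def_GeometricClasses
import Cfsg.Agent.Helper43.EB.Defs

/-!
# S5877 (helper43 #9543): piece (B1) `exists_sympType` (helper82)

`R ≤ GL_n(F)` with centre of prime order `r`, `R' = Z(R)`, acting absolutely irreducibly: there is
a primitive `r`-th root of unity `ω` such that the image of `R · scalars` in the units of
`End (Fin n → F)` is of symplectic type for `(r, ω)`.

`concGroup` below is the same definition as `Cfsg.Agent.Helper43.EB.concGroup` of the skeleton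
(`SkelC`), which is not on main; the two are definitionally equal.
-/

set_option autoImplicit false

namespace Cfsg.Agent.Helper82.EBB1

open Cfsg.Agent.Helper43.EB Module
open scoped commutatorElement

variable {F : Type*} [Field F] {n : ℕ}

/-- the image in the units of `End (Fin n → F)` of the product of `R` with the scalars
(same body as `Cfsg.Agent.Helper43.EB.concGroup`) -/
def concGroup (R : Subgroup (Matrix.GeneralLinearGroup (Fin n) F)) :
    Subgroup (Module.End F (Fin n → F))ˣ :=
  (R ⊔ Cfsg.Geo.scalars (Fin n) F).map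
    (Matrix.GeneralLinearGroup.toLin (n := Fin n) (R := F)).toMonoidHom

theorem toLin_val (g : Matrix.GeneralLinearGroup (Fin n) F) :
    ((Matrix.GeneralLinearGroup.toLin g : (Module.End F (Fin n → F))ˣ) : Module.End F (Fin n → F)) =
      Matrix.toLin' (g : Matrix (Fin n) (Fin n) F) := by
  rw [Matrix.toLin'_apply']
  rfl

/-- elements of `R ⊔ scalars` are scalar multiples of elements of `R` -/
theorem exists_of_mem_sup (R : Subgroup (Matrix.GeneralLinearGroup (Fin n) F))
    {g : Matrix.GeneralLinearGroup (Fin n) F} (hg : g ∈ R ⊔ Cfsg.Geo.scalars (Fin n) F) :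
    ∃ x ∈ R, ∃ c : Fˣ, (g : Matrix (Fin n) (Fin n) F) = (c : F) • (x : Matrix (Fin n) (Fin n) F) := by
  have h : g ∈ ((R ⊔ Cfsg.Geo.scalars (Fin n) F : Subgroup _) : Set _) := hg
  rw [Subgroup.mul_normal] at h
  obtain ⟨x, hx, s, hs, rfl⟩ := Set.mem_mul.1 h
  obtain ⟨c, hc⟩ := (Cfsg.Geo.mem_scalars_iff s).1 hs
  refine ⟨x, hx, c, ?_⟩
  rw [Units.val_mul, hc, Matrix.mul_smul, Matrix.mul_one]

theorem smul_one_inj (hn : n ≠ 0) {c d : F}
    (h : c • (1 : Matrix (Fin n) (Fin n) F) = d • (1 : Matrix (Fin n) (Fin n) F)) : c = d := by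
  obtain ⟨k, hk⟩ := Nat.exists_eq_succ_of_ne_zero hn
  subst hk
  have := congrFun (congrFun h 0) 0
  simpa using this

/-- (B1) the hypotheses of S5877 give a primitive `r`-th root of unity and a group of symplectic
type -/
theorem exists_sympType {r : ℕ} (R : Subgroup (Matrix.GeneralLinearGroup (Fin n) F)) (hr : r.Prime)
    (hZ : Nat.card (Subgroup.center R) = r) (hext : commutator R = Subgroup.center R)
    (hirr : Cfsg.Geo.ActsAbsolutelyIrreducibly (Cfsg.Geo.matrixSet R)) :
    ∃ ω : F, IsPrimitiveRoot ω r ∧ SympType r ω (concGroup R) := by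
  haveI : Fact r.Prime := ⟨hr⟩
  -- central elements are scalar
  have hcs : ∀ z : R, z ∈ Subgroup.center R →
      ∃ c : F, ((z : Matrix.GeneralLinearGroup (Fin n) F) : Matrix (Fin n) (Fin n) F) =
        c • (1 : Matrix (Fin n) (Fin n) F) := by
    intro z hz
    apply hirr.2
    rintro s ⟨g, hg, rfl⟩
    have h1 : (⟨g, hg⟩ : R) * z = z * ⟨g, hg⟩ := Subgroup.mem_center_iff.1 hz ⟨g, hg⟩
    have h2 := congrArg (fun y : R => ((y : Matrix.GeneralLinearGroup (Fin n) F) :
      Matrix (Fin n) (Fin n) F)) h1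
    simp only [Subgroup.coe_mul, Units.val_mul] at h2
    exact h2.symm
  -- the centre is cyclic of order `r`
  haveI hfin : Finite (Subgroup.center R) := Nat.finite_of_card_ne_zero (by rw [hZ]; exact hr.ne_zero)
  haveI hcyc : IsCyclic (Subgroup.center R) := isCyclic_of_prime_card hZ
  obtain ⟨z₀, hz₀⟩ := IsCyclic.exists_generator (α := Subgroup.center R)
  have hz₀1 : z₀ ≠ 1 := by
    intro h
    have hall : ∀ x : Subgroup.center R, x = 1 := by
      intro x
      have := hz₀ x
      rw [h, Subgroup.zpowers_one_eq_bot, Subgroup.mem_bot] at this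
      exact this
    have hsub : Subsingleton (Subgroup.center R) := ⟨fun a b => (hall a).trans (hall b).symm⟩
    have : Nat.card (Subgroup.center R) = 1 := Nat.card_unique
    rw [hZ] at this
    exact hr.one_lt.ne' this
  -- `n ≠ 0`
  have hn : n ≠ 0 := by
    rintro rfl
    apply hz₀1
    apply Subtype.ext
    apply Subtype.ext
    apply Units.ext
    exact Subsingleton.elim _ _
  obtain ⟨ω, hω⟩ := hcs z₀.1 z₀.2
  have hz₀r : z₀ ^ r = 1 := by
    rw [← hZ]
    exact pow_card_eq_one'
  have hωr : ω ^ r = 1 := by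
    have h1 := congrArg (fun y : Subgroup.center R => (((y : R) : Matrix.GeneralLinearGroup (Fin n) F) :
      Matrix (Fin n) (Fin n) F)) hz₀r
    simp only [Subgroup.coe_pow, Units.val_pow_eq_pow_val, Subgroup.coe_one, Units.val_one] at h1
    rw [hω, smul_pow, one_pow] at h1
    apply smul_one_inj hn
    rw [h1, one_smul]
  have hω1 : ω ≠ 1 := by
    rintro rfl
    apply hz₀1
    apply Subtype.ext
    apply Subtype.ext
    apply Units.ext
    rw [hω, one_smul]
    rfl
  have hprim : IsPrimitiveRoot ω r := by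
    have h := orderOf_eq_prime hωr hω1
    rw [← h]
    exact IsPrimitiveRoot.orderOf ω
  -- every central element is `ω ^ k • 1`
  have hpow : ∀ z : R, z ∈ Subgroup.center R → ∃ k : ℕ,
      ((z : Matrix.GeneralLinearGroup (Fin n) F) : Matrix (Fin n) (Fin n) F) =
        ω ^ k • (1 : Matrix (Fin n) (Fin n) F) := by
    intro z hz
    have hmem := hz₀ ⟨z, hz⟩
    rw [← mem_powers_iff_mem_zpowers] at hmem
    obtain ⟨k, hk⟩ := hmem
    refine ⟨k, ?_⟩
    have h1 := congrArg (fun y : Subgroup.center R => (((y : R) : Matrix.GeneralLinearGroup (Fin n) F) :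
      Matrix (Fin n) (Fin n) F)) hk
    simp only [Subgroup.coe_pow, Units.val_pow_eq_pow_val] at h1
    rw [hω, smul_pow, one_pow] at h1
    exact h1.symm
  refine ⟨ω, hprim, ⟨?_, ?_, ?_⟩⟩
  · -- scalars
    intro c
    refine ⟨Units.map (Matrix.scalar (Fin n) : F →+* Matrix (Fin n) (Fin n) F).toMonoidHom c,
      Subgroup.mem_sup_right ⟨c, rfl⟩, ?_⟩
    apply Units.ext
    apply LinearMap.ext
    intro v
    show ((Matrix.GeneralLinearGroup.toLin _ : (Module.End F (Fin n → F))ˣ) :
      Module.End F (Fin n → F)) v = _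
    rw [toLin_val, sc_apply, Matrix.toLin'_apply]
    simp [Matrix.scalar_apply, ← Matrix.smul_one_eq_diagonal, Matrix.smul_mulVec]
  · -- commutation
    rintro a ⟨g₁, hg₁, rfl⟩ b ⟨g₂, hg₂, rfl⟩
    obtain ⟨x₁, hx₁, c₁, h1⟩ := exists_of_mem_sup R hg₁
    obtain ⟨x₂, hx₂, c₂, h2⟩ := exists_of_mem_sup R hg₂
    have hcomm : (⁅(⟨x₁, hx₁⟩ : R), (⟨x₂, hx₂⟩ : R)⁆ : R) ∈ Subgroup.center R := by
      rw [← hext, commutator_def]
      exact Subgroup.commutator_mem_commutator (Subgroup.mem_top _) (Subgroup.mem_top _)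
    obtain ⟨k, hk⟩ := hpow _ hcomm
    refine ⟨k, ?_⟩
    have hk' : (x₁ : Matrix (Fin n) (Fin n) F) * (x₂ : Matrix (Fin n) (Fin n) F) =
        ω ^ k • ((x₂ : Matrix (Fin n) (Fin n) F) * (x₁ : Matrix (Fin n) (Fin n) F)) := by
      have h3 : x₁ * x₂ = (⁅(⟨x₁, hx₁⟩ : R), (⟨x₂, hx₂⟩ : R)⁆ : R).1 * (x₂ * x₁) := by
        rw [commutatorElement_def]
        simp only [Subgroup.coe_mul, Subgroup.coe_inv]
        group
      have h4 := congrArg (fun y : Matrix.GeneralLinearGroup (Fin n) F =>
        (y : Matrix (Fin n) (Fin n) F)) h3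
      simp only [Units.val_mul] at h4
      rw [h4, hk, Matrix.smul_mul, Matrix.one_mul]
    show ((Matrix.GeneralLinearGroup.toLin g₁ : (Module.End F (Fin n → F))ˣ) :
        Module.End F (Fin n → F)) *
      ((Matrix.GeneralLinearGroup.toLin g₂ : (Module.End F (Fin n → F))ˣ) :
        Module.End F (Fin n → F)) = ω ^ k •
      (((Matrix.GeneralLinearGroup.toLin g₂ : (Module.End F (Fin n → F))ˣ) :
        Module.End F (Fin n → F)) *
      ((Matrix.GeneralLinearGroup.toLin g₁ : (Module.End F (Fin n → F))ˣ) :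
        Module.End F (Fin n → F)))
    rw [toLin_val, toLin_val, Module.End.mul_eq_comp, Module.End.mul_eq_comp,
      ← Matrix.toLin'_mul, ← Matrix.toLin'_mul, ← map_smul, h1, h2]
    congr 1
    rw [Matrix.smul_mul, Matrix.mul_smul, Matrix.smul_mul, Matrix.mul_smul, hk']
    simp only [smul_smul]
    congr 1
    ring
  · -- Schur
    intro M hM
    obtain ⟨c, hc⟩ := hirr.2 (LinearMap.toMatrix' M) (by
      rintro s ⟨g, hg, rfl⟩
      have h1 := hM (Matrix.GeneralLinearGroup.toLin g) ⟨g, Subgroup.mem_sup_left hg, rfl⟩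
      rw [toLin_val] at h1
      have h2 := congrArg LinearMap.toMatrix' h1
      rw [LinearMap.toMatrix'_mul, LinearMap.toMatrix'_mul, LinearMap.toMatrix'_toLin'] at h2
      exact h2)
    refine ⟨c, ?_⟩
    rw [← Matrix.toLin'_toMatrix' M, hc, map_smul, Matrix.toLin'_one]
    rfl

end Cfsg.Agent.Helper82.EBB1
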