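import Mathlib
import Cfsg.Prelude.Def_Blocks
import Cfsg.Agent.Helper15.IndChar
import Cfsg.Agent.Helper79.CharComplete
import Cfsg.Agent.Helper80.Pullback
import Cfsg.Agent.Helper80.Linear
import Cfsg.Agent.Helper81.Gallagher
import Cfsg.Agent.Helper81.RootCount
import Cfsg.Agent.Helper82.Knorr

/-!
# Orthogonality of extensions on a coset (helper82)

`G ⊴ Γ` with `Γ ⧸ G` abelian, `χ, ψ ∈ Irr Γ`, `ψ_G` irreducible.  If `χ = ν ψ` with `ν` a linear
character of `Γ/G` forces `χ = ψ` (e.g. both are canonical extensions), then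
`|G|⁻¹ ∑_{g ∈ G} χ(g s) conj ψ(g s) = [χ = ψ]` (Isaacs 8.14).
-/

set_option autoImplicit false
set_option linter.unusedSectionVars false

namespace Cfsg.Agent.Helper82

open Cfsg
open scoped ComplexConjugate

universe u

section

variable {Γ : Type u} [Group Γ] [Fintype Γ] (G : Subgroup Γ) [hG : G.Normal]

/-- Sum over a coset `G s` as a sum over the fibre of `Γ → Γ ⧸ G`. -/
theorem sum_fiber_mk_eq_sum_subgroup [DecidableEq (Γ ⧸ G)] [Fintype G] (s : Γ) (f : Γ → ℂ) :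
    ∑ x : Γ, (if (x : Γ ⧸ G) = (s : Γ ⧸ G) then f x else 0) = ∑ g : G, f ((g : Γ) * s) := by
  classical
  rw [← Finset.sum_filter]
  symm
  refine Finset.sum_bij (fun (g : G) _ => (g : Γ) * s) ?_ ?_ ?_ ?_
  · intro g _
    rw [Finset.mem_filter]
    refine ⟨Finset.mem_univ _, ?_⟩
    rw [QuotientGroup.eq]
    have : ((g : Γ) * s)⁻¹ * s = s⁻¹ * (g : Γ)⁻¹ * s := by group
    rw [this]
    have := hG.conj_mem _ (G.inv_mem g.2) s⁻¹
    rwa [inv_inv] at this
  · intro g _ g' _ h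
    exact Subtype.ext (mul_right_cancel h)
  · intro x hx
    rw [Finset.mem_filter] at hx
    have h1 : x⁻¹ * s ∈ G := QuotientGroup.eq.mp hx.2
    have h2 : x * s⁻¹ ∈ G := by
      have h3 := hG.conj_mem _ (G.inv_mem h1) x
      have : x * (x⁻¹ * s)⁻¹ * x⁻¹ = x * s⁻¹ := by group
      rwa [this] at h3
    exact ⟨⟨x * s⁻¹, h2⟩, Finset.mem_univ _, by simp⟩
  · intro g _; rfl

/-- **Coset orthogonality** for extensions. -/
theorem coset_orthogonality [Fintype G] (hab : ∀ a b : Γ ⧸ G, a * b = b * a)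
    {χ ψ : Γ → ℂ} (hχ : IsIrrCharacter Γ χ) (hψ : IsIrrCharacter Γ ψ)
    (hψG : IsIrrCharacter G (fun g : G => ψ g)) (s : Γ)
    (hcan : ∀ ν : Γ →* ℂˣ, (∀ g ∈ G, ν g = 1) → (∀ x, χ x = (ν x : ℂ) * ψ x) → χ = ψ) :
    (Nat.card G : ℂ)⁻¹ * ∑ g : G, χ ((g : Γ) * s) * conj (ψ ((g : Γ) * s)) =
      if χ = ψ then 1 else 0 := by
  classical
  let _ : Fintype (Γ ⧸ G) := Fintype.ofFinite _
  let _ := Helper74.irrFintype (Γ ⧸ G)
  have hG0 : (Nat.card G : ℂ) ≠ 0 := by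
    have : 0 < Nat.card G := Nat.card_pos
    exact_mod_cast this.ne'
  have hΓ0 : (Nat.card Γ : ℂ) ≠ 0 := by
    have : 0 < Nat.card Γ := Nat.card_pos
    exact_mod_cast this.ne'
  have hQ0 : (Nat.card (Γ ⧸ G) : ℂ) ≠ 0 := by
    have : 0 < Nat.card (Γ ⧸ G) := Nat.card_pos
    exact_mod_cast this.ne'
  have hcard : (Nat.card Γ : ℂ) = (Nat.card (Γ ⧸ G) : ℂ) * (Nat.card G : ℂ) := by
    have := Subgroup.card_eq_card_quotient_mul_card_subgroup G
    exact_mod_cast this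
  -- every irreducible character of the abelian quotient is a linear character
  have hlin : ∀ lam : IrrCharacter (Γ ⧸ G), ∃ ν : (Γ ⧸ G) →* ℂˣ,
      ∀ q, (lam : Γ ⧸ G → ℂ) q = ((ν q : ℂˣ) : ℂ) := by
    intro lam
    have h1 : (lam : Γ ⧸ G → ℂ) 1 = 1 := by
      have := irr_pow_eq_one_of_comm hab lam.2 (1 : Γ ⧸ G) 1 (pow_one 1)
      simpa using this
    exact Helper80.IsCharacter.exists_monoidHom (Helper74.irr_isCharacter lam) h1
  choose ν hν using hlin
  -- the key Fourier identity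
  have hfourier : (Nat.card G : ℂ)⁻¹ * ∑ g : G, χ ((g : Γ) * s) * conj (ψ ((g : Γ) * s)) =
      ∑ lam : IrrCharacter (Γ ⧸ G), (lam : Γ ⧸ G → ℂ) (s : Γ ⧸ G) *
        classInner χ (fun x => (lam : Γ ⧸ G → ℂ) (x : Γ ⧸ G) * ψ x) := by
    have hcol : ∀ x : Γ, ∑ lam : IrrCharacter (Γ ⧸ G), (lam : Γ ⧸ G → ℂ) (s : Γ ⧸ G) *
        conj ((lam : Γ ⧸ G → ℂ) (x : Γ ⧸ G)) =
        if (x : Γ ⧸ G) = (s : Γ ⧸ G) then (Nat.card (Γ ⧸ G) : ℂ) else 0 := by
      intro x
      rw [Helper79.column_orthogonality (G := Γ ⧸ G) (s : Γ ⧸ G) (x : Γ ⧸ G)]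
      have h1 : IsConj (x : Γ ⧸ G) (s : Γ ⧸ G) ↔ (x : Γ ⧸ G) = (s : Γ ⧸ G) := by
        rw [isConj_iff]
        constructor
        · rintro ⟨c, hc⟩
          rw [← hc, hab c, mul_inv_cancel_right]
        · intro h; exact ⟨1, by simp [h]⟩
      have h2 : Subgroup.centralizer ({(x : Γ ⧸ G)} : Set (Γ ⧸ G)) = ⊤ := by
        ext y
        simp only [Subgroup.mem_centralizer_iff, Set.mem_singleton_iff, Subgroup.mem_top,
          iff_true]
        rintro _ rfl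
        exact hab _ _
      simp only [h1, h2, Subgroup.card_top]
    unfold classInner
    simp only [map_mul]
    calc (Nat.card G : ℂ)⁻¹ * ∑ g : G, χ ((g : Γ) * s) * conj (ψ ((g : Γ) * s))
        = (Nat.card G : ℂ)⁻¹ * ∑ x : Γ, (if (x : Γ ⧸ G) = (s : Γ ⧸ G) then
            χ x * conj (ψ x) else 0) := by
          rw [sum_fiber_mk_eq_sum_subgroup G s (fun x => χ x * conj (ψ x))]
      _ = (Nat.card Γ : ℂ)⁻¹ * ∑ x : Γ, χ x * conj (ψ x) *
            (if (x : Γ ⧸ G) = (s : Γ ⧸ G) then (Nat.card (Γ ⧸ G) : ℂ) else 0) := by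
          rw [hcard, Finset.mul_sum, Finset.mul_sum]
          refine Finset.sum_congr rfl fun x _ => ?_
          split_ifs
          · field_simp
          · simp
      _ = (Nat.card Γ : ℂ)⁻¹ * ∑ x : Γ, χ x * conj (ψ x) *
            ∑ lam : IrrCharacter (Γ ⧸ G), (lam : Γ ⧸ G → ℂ) (s : Γ ⧸ G) *
              conj ((lam : Γ ⧸ G → ℂ) (x : Γ ⧸ G)) := by
          congr 1
          refine Finset.sum_congr rfl fun x _ => ?_
          rw [hcol x]
      _ = (Nat.card Γ : ℂ)⁻¹ * ∑ lam : IrrCharacter (Γ ⧸ G), ∑ x : Γ,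
            (lam : Γ ⧸ G → ℂ) (s : Γ ⧸ G) * (χ x *
              (conj ((lam : Γ ⧸ G → ℂ) (x : Γ ⧸ G)) * conj (ψ x))) := by
          congr 1
          rw [Finset.sum_comm]
          refine Finset.sum_congr rfl fun x _ => ?_
          rw [Finset.mul_sum]
          refine Finset.sum_congr rfl fun lam _ => ?_
          ring
      _ = _ := by
          rw [Finset.mul_sum]
          refine Finset.sum_congr rfl fun lam _ => ?_
          rw [← Finset.mul_sum]
          ring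
  rw [hfourier]
  -- twisting by a linear character keeps irreducibility
  have hnorm : ∀ (lam : IrrCharacter (Γ ⧸ G)) (q : Γ ⧸ G),
      (lam : Γ ⧸ G → ℂ) q * conj ((lam : Γ ⧸ G → ℂ) q) = 1 := by
    intro lam q
    rw [hν lam q]
    have h1 : ((ν lam q : ℂˣ) : ℂ) ^ (Nat.card (Γ ⧸ G)) = 1 := by
      rw [← Units.val_pow_eq_pow_val, ← map_pow, pow_card_eq_one', map_one, Units.val_one]
    have h2 : ‖((ν lam q : ℂˣ) : ℂ)‖ = 1 :=
      Complex.norm_eq_one_of_pow_eq_one h1 Nat.card_pos.ne'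
    rw [Complex.mul_conj, Complex.normSq_eq_norm_sq, h2]
    simp
  have htw : ∀ lam : IrrCharacter (Γ ⧸ G),
      IsIrrCharacter Γ (fun x => (lam : Γ ⧸ G → ℂ) (x : Γ ⧸ G) * ψ x) := by
    intro lam
    have hc : IsCharacter Γ (fun x => (lam : Γ ⧸ G → ℂ) (x : Γ ⧸ G) * ψ x) :=
      Helper74.isCharacter_mul
        (Helper80.IsCharacter.comp_hom (Helper74.irr_isCharacter lam) (QuotientGroup.mk' G))
        (Helper74.isCharacter_of_isIrr hψ)
    apply Helper15.isIrrCharacter_of_inner_self_eq_one hc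
    have h1 : classInner ψ ψ = 1 := Helper74.irr_inner_self ⟨ψ, hψ⟩
    rw [← h1]
    unfold classInner
    congr 1
    refine Finset.sum_congr rfl fun x _ => ?_
    rw [map_mul]
    calc (lam : Γ ⧸ G → ℂ) (x : Γ ⧸ G) * ψ x * (conj ((lam : Γ ⧸ G → ℂ) (x : Γ ⧸ G)) * conj (ψ x))
        = ((lam : Γ ⧸ G → ℂ) (x : Γ ⧸ G) * conj ((lam : Γ ⧸ G → ℂ) (x : Γ ⧸ G))) *
            (ψ x * conj (ψ x)) := by ring
      _ = ψ x * conj (ψ x) := by rw [hnorm, one_mul]
  -- if `χ = lam ψ` then `χ = ψ` and `lam = 1`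
  have hkey : ∀ lam : IrrCharacter (Γ ⧸ G),
      χ = (fun x : Γ => (lam : Γ ⧸ G → ℂ) (x : Γ ⧸ G) * ψ x) →
      χ = ψ ∧ ∀ q, (lam : Γ ⧸ G → ℂ) q = 1 := by
    intro lam h
    let ν' : Γ →* ℂˣ := (ν lam).comp (QuotientGroup.mk' G)
    have hν'G : ∀ g ∈ G, ν' g = 1 := by
      intro g hg
      show ν lam (QuotientGroup.mk' G g) = 1
      rw [QuotientGroup.mk'_apply, (QuotientGroup.eq_one_iff g).mpr hg, map_one]
    have hν'x : ∀ x, χ x = (ν' x : ℂ) * ψ x := by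
      intro x
      rw [congrFun h x, hν lam]
      rfl
    have h1 : χ = ψ := hcan ν' hν'G hν'x
    refine ⟨h1, fun q => ?_⟩
    obtain ⟨x, rfl⟩ := QuotientGroup.mk_surjective q
    have h2 := Helper81.linear_eq_one_of_mul_eq hψ G hψG ν' hν'G
      (fun y => by rw [← hν'x y, h1]) x
    rw [hν lam]
    have : ν lam (x : Γ ⧸ G) = ν' x := rfl
    rw [this, h2, Units.val_one]
  by_cases hχψ : χ = ψ
  · rw [if_pos hχψ]
    rw [Finset.sum_eq_single (Helper81.trivialIrr (Γ ⧸ G))]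
    · have : (fun x : Γ => (Helper81.trivialIrr (Γ ⧸ G) : Γ ⧸ G → ℂ) (x : Γ ⧸ G) * ψ x) = ψ := by
        funext x; simp
      rw [this, hχψ, Helper74.irr_inner_self ⟨ψ, hψ⟩]
      simp
    · intro lam _ hne
      have h0 : classInner χ (fun x => (lam : Γ ⧸ G → ℂ) (x : Γ ⧸ G) * ψ x) = 0 := by
        apply Helper74.irr_inner_ne (χ := ⟨χ, hχ⟩) (ψ := ⟨_, htw lam⟩)
        intro heq
        apply hne
        have h3 := (hkey lam (congrArg Subtype.val heq)).2
        apply Subtype.ext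
        funext q
        rw [h3 q]; rfl
      rw [h0, mul_zero]
    · intro h; exact absurd (Finset.mem_univ _) h
  · rw [if_neg hχψ]
    apply Finset.sum_eq_zero
    intro lam _
    have h0 : classInner χ (fun x => (lam : Γ ⧸ G → ℂ) (x : Γ ⧸ G) * ψ x) = 0 := by
      apply Helper74.irr_inner_ne (χ := ⟨χ, hχ⟩) (ψ := ⟨_, htw lam⟩)
      intro heq
      exact hχψ (hkey lam (congrArg Subtype.val heq)).1
    rw [h0, mul_zero]

end

end Cfsg.Agent.Helper82
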