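import Mathlib
import Cfsg.Prelude.Def_Blocks
import Cfsg.Agent.Helper82.CosetOrth

/-!
# Coset sums under a Frobenius-type action (helper82)

`N ≤ G` normal subgroups of `Γ` such that no element of `Γ` outside `G` centralises a
non-identity coset of `N` in `G`.  For `u ∉ G` every coset `N g u` (`g ∈ G`) contains a
`G`-conjugate of `u`; hence coset sums of class functions over `G u` reduce to `N u`.
-/

set_option autoImplicit false
set_option linter.unusedSectionVars false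

namespace Cfsg.Agent.Helper82

open Cfsg
open scoped ComplexConjugate

universe u

section

variable {Γ : Type u} [Group Γ] [Finite Γ] (G N : Subgroup Γ) [hG : G.Normal] [hN : N.Normal]

/-- Every coset `N g u` with `g ∈ G` contains a `G`-conjugate of `u`. -/
theorem exists_conj_mem_coset
    (hfrob : ∀ x : Γ, x ∉ G → ∀ g : Γ, g ∈ G → x * g * x⁻¹ * g⁻¹ ∈ N → g ∈ N)
    (u : Γ) (hu : u ∉ G) (g : Γ) (hg : g ∈ G) :
    ∃ y ∈ G, ∃ n ∈ N, y * u * y⁻¹ = n * g * u := by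
  classical
  let π := QuotientGroup.mk' N
  let Gb : Subgroup (Γ ⧸ N) := G.map π
  have hu' : u⁻¹ ∉ G := fun h => hu (by simpa using G.inv_mem h)
  -- the commutator map on `Gb`
  have hcmem : ∀ yb : Gb, (yb : Γ ⧸ N) * π u * (yb : Γ ⧸ N)⁻¹ * (π u)⁻¹ ∈ Gb := by
    rintro ⟨yb, y, hy, rfl⟩
    refine ⟨y * u * y⁻¹ * u⁻¹, ?_, by simp [π]⟩
    have h1 : u * y⁻¹ * u⁻¹ ∈ G := hG.conj_mem _ (G.inv_mem hy) u
    have h2 : y * u * y⁻¹ * u⁻¹ = y * (u * y⁻¹ * u⁻¹) := by group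
    rw [h2]
    exact G.mul_mem hy h1
  let c : Gb → Gb := fun yb => ⟨_, hcmem yb⟩
  have hcinj : Function.Injective c := by
    rintro ⟨yb, y, hy, rfl⟩ ⟨yb', y', hy', rfl⟩ h
    have h1 : π y * π u * (π y)⁻¹ * (π u)⁻¹ = π y' * π u * (π y')⁻¹ * (π u)⁻¹ :=
      congrArg Subtype.val h
    apply Subtype.ext
    show π y = π y'
    -- `m = y'⁻¹ y` commutes with `u` modulo `N`
    have h2 : π (u⁻¹ * (y'⁻¹ * y) * u⁻¹⁻¹ * (y'⁻¹ * y)⁻¹) = 1 := by
      have h3 : π y * π u * (π y)⁻¹ = π y' * π u * (π y')⁻¹ := by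
        have := congrArg (· * π u) h1
        simpa using this
      simp only [map_mul, map_inv, inv_inv]
      have h4 : (π y')⁻¹ * π y * π u = π u * ((π y')⁻¹ * π y) := by
        calc (π y')⁻¹ * π y * π u = (π y')⁻¹ * (π y * π u * (π y)⁻¹) * π y := by group
          _ = (π y')⁻¹ * (π y' * π u * (π y')⁻¹) * π y := by rw [h3]
          _ = π u * ((π y')⁻¹ * π y) := by group
      calc (π u)⁻¹ * ((π y')⁻¹ * π y) * π u * ((π y')⁻¹ * π y)⁻¹
          = (π u)⁻¹ * ((π y')⁻¹ * π y * π u) * ((π y')⁻¹ * π y)⁻¹ := by group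
        _ = (π u)⁻¹ * (π u * ((π y')⁻¹ * π y)) * ((π y')⁻¹ * π y)⁻¹ := by rw [h4]
        _ = 1 := by group
    have h5 : u⁻¹ * (y'⁻¹ * y) * u⁻¹⁻¹ * (y'⁻¹ * y)⁻¹ ∈ N :=
      (QuotientGroup.eq_one_iff _).mp h2
    have h6 : y'⁻¹ * y ∈ N :=
      hfrob u⁻¹ hu' (y'⁻¹ * y) (G.mul_mem (G.inv_mem hy') hy) h5
    have h7 : π (y'⁻¹ * y) = 1 := (QuotientGroup.eq_one_iff _).mpr h6
    have h8 : (π y')⁻¹ * π y = 1 := by simpa using h7
    exact (inv_mul_eq_one.mp h8).symm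
  have hcsurj : Function.Surjective c := Finite.injective_iff_surjective.mp hcinj
  obtain ⟨⟨yb, y, hy, rfl⟩, hyb⟩ := hcsurj ⟨π g, g, hg, rfl⟩
  have h1 : π y * π u * (π y)⁻¹ * (π u)⁻¹ = π g := congrArg Subtype.val hyb
  refine ⟨y, hy, y * u * y⁻¹ * u⁻¹ * g⁻¹, ?_, by group⟩
  apply (QuotientGroup.eq_one_iff _).mp
  show π (y * u * y⁻¹ * u⁻¹ * g⁻¹) = 1
  simp only [map_mul, map_inv]
  rw [h1]
  group

end

section sums

variable {Γ : Type u} [Group Γ] [Fintype Γ] (G N : Subgroup Γ) [hG : G.Normal] [hN : N.Normal]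
  [Fintype G] [Fintype N]

/-- Coset sums over `G u` reduce to coset sums over `N u`. -/
theorem card_mul_sum_coset_frob (hNG : N ≤ G)
    (hfrob : ∀ x : Γ, x ∉ G → ∀ g : Γ, g ∈ G → x * g * x⁻¹ * g⁻¹ ∈ N → g ∈ N)
    (u : Γ) (hu : u ∉ G) {f : Γ → ℂ} (hf : IsClassFunction Γ f) :
    (Nat.card N : ℂ) * ∑ g : G, f ((g : Γ) * u) = (Nat.card G : ℂ) * ∑ n : N, f ((n : Γ) * u) := by
  classical
  -- each coset sum equals the sum over `N u`
  have hcoset : ∀ g : G, ∑ n : N, f ((n : Γ) * (g : Γ) * u) = ∑ n : N, f ((n : Γ) * u) := by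
    intro g
    obtain ⟨y, hy, n₀, hn₀, hyu⟩ := exists_conj_mem_coset G N hfrob u hu (g : Γ) g.2
    -- `n g u = n n₀⁻¹ y u y⁻¹`
    let e : N ≃ N :=
      { toFun := fun n => ⟨y⁻¹ * ((n : Γ) * n₀⁻¹) * y, by
          have := hN.conj_mem _ (N.mul_mem n.2 (N.inv_mem hn₀)) y⁻¹
          simpa using this⟩
        invFun := fun n => ⟨y * (n : Γ) * y⁻¹ * n₀, N.mul_mem (hN.conj_mem _ n.2 y) hn₀⟩
        left_inv := fun n => by
          apply Subtype.ext
          show y * (y⁻¹ * ((n : Γ) * n₀⁻¹) * y) * y⁻¹ * n₀ = (n : Γ)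
          group
        right_inv := fun n => by
          apply Subtype.ext
          show y⁻¹ * ((y * (n : Γ) * y⁻¹ * n₀) * n₀⁻¹) * y = (n : Γ)
          group }
    apply Fintype.sum_equiv e
    intro n
    show f ((n : Γ) * (g : Γ) * u) = f (y⁻¹ * ((n : Γ) * n₀⁻¹) * y * u)
    have h1 : (n : Γ) * (g : Γ) * u = (n : Γ) * n₀⁻¹ * (y * u * y⁻¹) := by
      rw [hyu]; group
    have h2 : (n : Γ) * n₀⁻¹ * (y * u * y⁻¹) =
        y * (y⁻¹ * ((n : Γ) * n₀⁻¹) * y * u) * y⁻¹ := by group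
    rw [h1, h2]
    exact hf _ _
  have h1 : ∑ g : G, ∑ n : N, f ((n : Γ) * (g : Γ) * u) =
      (Nat.card G : ℂ) * ∑ n : N, f ((n : Γ) * u) := by
    rw [Finset.sum_congr rfl (fun g _ => hcoset g), Finset.sum_const, Finset.card_univ,
      nsmul_eq_mul, Nat.card_eq_fintype_card]
  have h2 : ∑ g : G, ∑ n : N, f ((n : Γ) * (g : Γ) * u) =
      (Nat.card N : ℂ) * ∑ g : G, f ((g : Γ) * u) := by
    rw [Finset.sum_comm]
    have h3 : ∀ n : N, ∑ g : G, f ((n : Γ) * (g : Γ) * u) = ∑ g : G, f ((g : Γ) * u) := by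
      intro n
      let e : G ≃ G := Equiv.mulLeft (⟨(n : Γ), hNG n.2⟩ : G)
      apply Fintype.sum_equiv e
      intro g
      rfl
    rw [Finset.sum_congr rfl (fun n _ => h3 n), Finset.sum_const, Finset.card_univ,
      nsmul_eq_mul, Nat.card_eq_fintype_card]
  rw [← h1, h2]

/-- The norm of an extension on a coset `N u`, `u ∉ G`. -/
theorem sum_coset_normSq_frob (hNG : N ≤ G)
    (hfrob : ∀ x : Γ, x ∉ G → ∀ g : Γ, g ∈ G → x * g * x⁻¹ * g⁻¹ ∈ N → g ∈ N)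
    (hab : ∀ a b : Γ ⧸ G, a * b = b * a) {χh : Γ → ℂ} (hχh : IsIrrCharacter Γ χh)
    (hχG : IsIrrCharacter G (fun g : G => χh g)) (u : Γ) (hu : u ∉ G) :
    ∑ n : N, χh ((n : Γ) * u) * conj (χh ((n : Γ) * u)) = (Nat.card N : ℂ) := by
  have hcf := Helper74.isClassFunction_of_isCharacter (Helper74.isCharacter_of_isIrr hχh)
  have hf : IsClassFunction Γ (fun x => χh x * conj (χh x)) := by
    intro g h
    show χh (h * g * h⁻¹) * conj (χh (h * g * h⁻¹)) = χh g * conj (χh g)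
    rw [hcf]
  have h1 := card_mul_sum_coset_frob G N hNG hfrob u hu hf
  have h2 := coset_orthogonality G hab hχh hχh hχG u (fun _ _ _ => rfl)
  rw [if_pos rfl] at h2
  have hG0 : (Nat.card G : ℂ) ≠ 0 := by
    have : 0 < Nat.card G := Nat.card_pos
    exact_mod_cast this.ne'
  have h3 : ∑ g : G, χh ((g : Γ) * u) * conj (χh ((g : Γ) * u)) = (Nat.card G : ℂ) := by
    have := congrArg (fun z => (Nat.card G : ℂ) * z) h2
    simpa [mul_inv_cancel_left₀ hG0] using this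
  rw [h3] at h1
  have h4 : (Nat.card G : ℂ) * (Nat.card N : ℂ) =
      (Nat.card G : ℂ) * ∑ n : N, χh ((n : Γ) * u) * conj (χh ((n : Γ) * u)) := by
    rw [← h1]; ring
  exact (mul_left_cancel₀ hG0 h4).symm

end sums

end Cfsg.Agent.Helper82
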