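import Mathlib
import Cfsg.Prelude.Def_Blocks
import Cfsg.Agent.Helper15.Gallagher
import Cfsg.Agent.Helper15.IndFun
import Cfsg.Agent.Helper74.CharBasic

/-!
# Gallagher decomposition of a character lying over an extendible character (helper82)

If `θh ∈ Irr U` restricts irreducibly to `N ⊴ U` and the character `Ψ` of `U` restricts to a
multiple of `θh_N`, then `Ψ = Φ * θh` for a character `Φ` of `U` with `N` in its kernel.
-/

set_option autoImplicit false
set_option linter.unusedSectionVars false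

namespace Cfsg.Agent.Helper82

open Cfsg
open scoped ComplexConjugate

universe u

theorem gallagher_decomp {U : Type u} [Group U] [Fintype U] (N : Subgroup U) [hN : N.Normal]
    [Fintype N] {θh : U → ℂ} (hθh : IsIrrCharacter U θh)
    (hθN : IsIrrCharacter N (fun n : N => θh n))
    {Ψ : U → ℂ} (hΨ : IsCharacter U Ψ) (e : ℂ) (hΨN : ∀ n : N, Ψ n = e * θh n) :
    ∃ Φ : U → ℂ, IsCharacter U Φ ∧ (∀ (n : N) (u : U), Φ ((n : U) * u) = Φ u) ∧
      ∀ u, Ψ u = Φ u * θh u := by
  classical
  let _ := Helper74.irrFintype U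
  set θ : N → ℂ := fun n => θh n with hθdef
  -- multiplicities
  choose a ha using fun ψ : IrrCharacter U => Helper74.isCharacter_inner_irr_nat hΨ ψ
  have hdec : Ψ = ∑ ψ : IrrCharacter U, (a ψ : ℂ) • (ψ : U → ℂ) := by
    have h := Helper74.isCharacter_eq_sum_irr hΨ
    rw [h]
    refine Finset.sum_congr rfl fun ψ _ => ?_
    rw [ha ψ]
  -- constituents lie over `θ`
  have hover : ∀ ψ : IrrCharacter U, a ψ ≠ 0 →
      classInner (indFun N θ) (ψ : U → ℂ) ≠ 0 := by
    intro ψ hψ
    have hψc := Helper74.irr_isCharacter ψ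
    rw [Helper15.frobenius_reciprocity N θ (ψ : U → ℂ)
      (Helper74.isClassFunction_of_isCharacter hψc)]
    set A : N → ℂ := fun n : N => (ψ : U → ℂ) n with hA
    have hAc : IsCharacter N A := Helper74.isCharacter_restrict N hψc
    -- natural inner products
    choose k hk using fun ψ' : IrrCharacter U =>
      Helper15.isCharacter_inner_nat
        (Helper74.isCharacter_restrict N (Helper74.irr_isCharacter ψ')) hAc
    have hkψ : k ψ ≠ 0 := by
      intro h0
      have h1 := hk ψ
      rw [h0, Nat.cast_zero] at h1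
      have h2 : A = 0 := Helper74.classInner_self_eq_zero h1
      have h3 : A 1 = 0 := by rw [h2]; rfl
      have h4 : (ψ : U → ℂ) 1 = 0 := h3
      have h5 := Helper80.IsIrrCharacter.charDegree_pos ψ.2
      have h6 := Helper80.IsCharacter.charDegree_cast hψc
      rw [h4] at h6
      have : charDegree (ψ : U → ℂ) = 0 := by exact_mod_cast h6
      omega
    have hres : (fun n : N => Ψ n) = ∑ ψ' : IrrCharacter U, (a ψ' : ℂ) •
        (fun n : N => (ψ' : U → ℂ) n) := by
      funext n
      rw [hdec]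
      simp only [Finset.sum_apply, Pi.smul_apply]
    have h2 : classInner (fun n : N => Ψ n) A = ((∑ ψ' : IrrCharacter U, a ψ' * k ψ' : ℕ) : ℂ) := by
      rw [hres, Helper74.classInner_sum_left]
      push_cast
      refine Finset.sum_congr rfl fun ψ' _ => ?_
      rw [Helper74.classInner_smul_left, hk ψ']
    have h1 : classInner (fun n : N => Ψ n) A = e * classInner θ A := by
      have : (fun n : N => Ψ n) = e • θ := by
        funext n
        rw [hΨN n]
        rfl
      rw [this, Helper74.classInner_smul_left]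
    have hpos : 0 < ∑ ψ' : IrrCharacter U, a ψ' * k ψ' := by
      apply Finset.sum_pos'
      · intro ψ' _; exact Nat.zero_le _
      · exact ⟨ψ, Finset.mem_univ _, Nat.mul_pos (Nat.pos_of_ne_zero hψ) (Nat.pos_of_ne_zero hkψ)⟩
    intro h0
    rw [h0, mul_zero] at h1
    rw [h1] at h2
    have : (∑ ψ' : IrrCharacter U, a ψ' * k ψ' : ℕ) = 0 := by exact_mod_cast h2.symm
    omega
  -- Gallagher
  have hgal := Helper15.gallagher_bijOn N hθh hθN
  have hβ : ∀ ψ : IrrCharacter U, a ψ ≠ 0 → ∃ β : U → ℂ, IsIrrCharacter U β ∧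
      classInner (indFun N (fun _ => (1 : ℂ))) β ≠ 0 ∧ β * θh = (ψ : U → ℂ) := by
    intro ψ h
    obtain ⟨β, ⟨hβ1, hβ2⟩, hβ3⟩ := hgal.surjOn ⟨ψ.2, hover ψ h⟩
    exact ⟨β, hβ1, hβ2, hβ3⟩
  let B : IrrCharacter U → U → ℂ := fun ψ =>
    if h : a ψ ≠ 0 then Classical.choose (hβ ψ h) else 0
  have hB1 : ∀ ψ : IrrCharacter U, a ψ ≠ 0 → IsIrrCharacter U (B ψ) ∧
      classInner (indFun N (fun _ => (1 : ℂ))) (B ψ) ≠ 0 ∧ B ψ * θh = (ψ : U → ℂ) := by
    intro ψ h
    have := Classical.choose_spec (hβ ψ h)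
    simp only [B, dif_pos h]
    exact this
  have hB0 : ∀ ψ : IrrCharacter U, a ψ = 0 → B ψ = 0 := by
    intro ψ h
    simp only [B]
    rw [dif_neg (not_not.mpr h)]
  refine ⟨∑ ψ : IrrCharacter U, (a ψ : ℂ) • B ψ, ?_, ?_, ?_⟩
  · apply Helper74.isCharacter_of_mem_irrSpanNat
    apply AddSubmonoid.sum_mem
    intro ψ _
    rw [Nat.cast_smul_eq_nsmul]
    apply AddSubmonoid.nsmul_mem
    by_cases h : a ψ = 0
    · rw [hB0 ψ h]; exact AddSubmonoid.zero_mem _
    · exact AddSubmonoid.subset_closure (s := {ψ | IsIrrCharacter U ψ}) (hB1 ψ h).1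
  · intro n u
    simp only [Finset.sum_apply, Pi.smul_apply]
    refine Finset.sum_congr rfl fun ψ _ => ?_
    by_cases h : a ψ = 0
    · rw [hB0 ψ h]; rfl
    · obtain ⟨h1, h2, -⟩ := hB1 ψ h
      congr 1
      apply Helper15.normal_mul_of_inner_one_ne_zero N h1 _ n u
      rw [← Helper74.classInner_conj_symm, ← Helper15.frobenius_reciprocity N _ _
        (Helper74.isClassFunction_of_isCharacter (Helper74.isCharacter_of_isIrr h1))]
      intro h0
      apply h2
      have := congrArg conj h0
      simpa using this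
  · intro u
    rw [hdec]
    simp only [Finset.sum_apply, Pi.smul_apply, Finset.sum_mul]
    refine Finset.sum_congr rfl fun ψ _ => ?_
    by_cases h : a ψ = 0
    · rw [h]; simp
    · obtain ⟨-, -, h3⟩ := hB1 ψ h
      have := congrFun h3 u
      rw [Pi.mul_apply] at this
      rw [← this]
      simp only [smul_eq_mul]
      ring

end Cfsg.Agent.Helper82
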