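import Mathlib
import Cfsg.Prelude.Def_Blocks
import Cfsg.Agent.Helper15.ElemFacts
import Cfsg.Agent.Helper74.CharBasic
import Cfsg.Agent.Helper79.CharComplete
import Cfsg.Agent.Helper80.CharLevel

/-!
# Characters of abelian groups of absolute value at most one off the identity (helper82)

`char_unit_off_one`: a character `F` of a finite abelian group `A` with `‖F t‖ ≤ 1` for all
`t ≠ 1` and `F t₀ ≠ 0` for some `t₀ ≠ 1` is `m ρ + ε μ` for the regular character `ρ`, a sign
`ε` and a linear character `μ`.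
-/

set_option autoImplicit false
set_option linter.unusedSectionVars false

namespace Cfsg.Agent.Helper82

open Cfsg
open scoped ComplexConjugate

universe u

/-- A purely arithmetic step: `b : ι → ℕ` with `∑ b² = ∑ b` has all `b i ≤ 1`. -/
theorem le_one_of_sum_sq_eq_sum {ι : Type*} [Fintype ι] (b : ι → ℕ)
    (h : ∑ i, (b i) ^ 2 = ∑ i, b i) (i : ι) : b i ≤ 1 := by
  classical
  by_contra hcon
  push Not at hcon
  have hlt : ∑ i, b i < ∑ i, (b i) ^ 2 := by
    apply Finset.sum_lt_sum
    · intro j _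
      nlinarith [Nat.zero_le (b j)]
    · exact ⟨i, Finset.mem_univ _, by nlinarith⟩
  omega

theorem sum_le_sum_sq {ι : Type*} [Fintype ι] (b : ι → ℕ) :
    ∑ i, b i ≤ ∑ i, (b i) ^ 2 := by
  apply Finset.sum_le_sum
  intro j _
  nlinarith [Nat.zero_le (b j)]

section

variable {A : Type u} [Group A] [Fintype A]

/-- The regular character of an abelian group as a sum of its irreducible characters: value
at `1`. -/
theorem sum_irr_one_of_comm (hA : ∀ a b : A, a * b = b * a) [Fintype (IrrCharacter A)] :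
    ∑ lam : IrrCharacter A, (lam : A → ℂ) 1 = (Nat.card A : ℂ) := by
  classical
  have h := Helper79.column_orthogonality (G := A) 1 1
  rw [if_pos (IsConj.refl 1)] at h
  have hc : Subgroup.centralizer ({1} : Set A) = ⊤ := by
    rw [eq_top_iff]
    intro x _
    rw [Subgroup.mem_centralizer_iff]
    intro y hy
    rw [Set.mem_singleton_iff.mp hy]; simp
  rw [hc, Subgroup.card_top] at h
  rw [← h]
  refine Finset.sum_congr rfl fun lam _ => ?_
  rw [Helper15.irr_one_eq_one_of_comm hA lam.2]
  simp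

theorem card_irr_of_comm (hA : ∀ a b : A, a * b = b * a) [Fintype (IrrCharacter A)] :
    Fintype.card (IrrCharacter A) = Nat.card A := by
  have h := sum_irr_one_of_comm hA
  have h2 : ∑ lam : IrrCharacter A, (lam : A → ℂ) 1 = (Fintype.card (IrrCharacter A) : ℂ) := by
    rw [Finset.card_univ.symm, Finset.card_eq_sum_ones]
    push_cast
    refine Finset.sum_congr rfl fun lam _ => ?_
    exact Helper15.irr_one_eq_one_of_comm hA lam.2
  rw [h2] at h
  exact_mod_cast h

/-- The regular character of an abelian group vanishes off the identity. -/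
theorem sum_irr_apply_of_ne_one (hA : ∀ a b : A, a * b = b * a) [Fintype (IrrCharacter A)]
    {t : A} (ht : t ≠ 1) : ∑ lam : IrrCharacter A, (lam : A → ℂ) t = 0 := by
  classical
  have h := Helper79.column_orthogonality (G := A) t 1
  rw [if_neg (by rw [isConj_one_right]; exact ht)] at h
  rw [← h]
  refine Finset.sum_congr rfl fun lam _ => ?_
  rw [Helper15.irr_one_eq_one_of_comm hA lam.2]
  simp


/-- **Characters of an abelian group of absolute value at most `1` off the identity.** -/
theorem char_unit_off_one (hA : ∀ a b : A, a * b = b * a)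
    {F : A → ℂ} (hF : IsCharacter A F) (hle : ∀ t : A, t ≠ 1 → ‖F t‖ ≤ 1)
    (hne : ∃ t : A, t ≠ 1 ∧ F t ≠ 0) :
    ∃ (ε : ℤ) (μ : IrrCharacter A) (m : ℕ), (ε = 1 ∨ ε = -1) ∧
      F 1 = (m : ℂ) * (Nat.card A : ℂ) + (ε : ℂ) ∧
      ∀ t : A, t ≠ 1 → F t = (ε : ℂ) * (μ : A → ℂ) t := by
  classical
  let _ := Helper74.irrFintype A
  have hn0 : 0 < Nat.card A := Nat.card_pos
  have hlin : ∀ lam : IrrCharacter A, (lam : A → ℂ) 1 = 1 := fun lam =>
    Helper15.irr_one_eq_one_of_comm hA lam.2
  have hcardι : Fintype.card (IrrCharacter A) = Nat.card A := card_irr_of_comm hA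
  haveI : Nonempty (IrrCharacter A) := by
    rw [← Fintype.card_pos_iff, hcardι]; exact hn0
  -- multiplicities
  choose a ha using fun lam : IrrCharacter A => Helper74.isCharacter_inner_irr_nat hF lam
  have hdec : F = ∑ lam : IrrCharacter A, (a lam : ℂ) • (lam : A → ℂ) := by
    have h := Helper74.isCharacter_eq_sum_irr hF
    rw [h]
    refine Finset.sum_congr rfl fun lam _ => ?_
    rw [ha lam]
  -- the minimal multiplicity
  obtain ⟨μ₀, hμ₀⟩ := Finite.exists_min a
  set m := a μ₀ with hm
  let b : IrrCharacter A → ℕ := fun lam => a lam - m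
  have hab : ∀ lam, a lam = m + b lam := fun lam => by
    have := hμ₀ lam
    show a lam = m + (a lam - m)
    omega
  have hb0 : b μ₀ = 0 := by show a μ₀ - m = 0; omega
  -- the reduced character
  set ν : A → ℂ := ∑ lam : IrrCharacter A, (b lam : ℂ) • (lam : A → ℂ) with hν
  have hν1 : ν 1 = ((∑ lam, b lam : ℕ) : ℂ) := by
    rw [hν, Finset.sum_apply]
    push_cast
    refine Finset.sum_congr rfl fun lam _ => ?_
    rw [Pi.smul_apply, hlin lam, smul_eq_mul, mul_one]
  have hF1 : F 1 = (m : ℂ) * (Nat.card A : ℂ) + ((∑ lam, b lam : ℕ) : ℂ) := by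
    rw [← hν1, hν, ← sum_irr_one_of_comm hA]
    conv_lhs => rw [hdec]
    rw [Finset.sum_apply, Finset.sum_apply, Finset.mul_sum, ← Finset.sum_add_distrib]
    refine Finset.sum_congr rfl fun lam _ => ?_
    rw [Pi.smul_apply, Pi.smul_apply, hab lam]
    push_cast
    simp only [smul_eq_mul]
    ring
  have hFt : ∀ t : A, t ≠ 1 → F t = ν t := by
    intro t ht
    have h0 := sum_irr_apply_of_ne_one hA ht
    conv_lhs => rw [hdec]
    rw [hν, Finset.sum_apply, Finset.sum_apply]
    have : ∑ lam : IrrCharacter A, ((a lam : ℂ) • (lam : A → ℂ)) t =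
        (m : ℂ) * ∑ lam : IrrCharacter A, (lam : A → ℂ) t +
          ∑ lam : IrrCharacter A, ((b lam : ℂ) • (lam : A → ℂ)) t := by
      rw [Finset.mul_sum, ← Finset.sum_add_distrib]
      refine Finset.sum_congr rfl fun lam _ => ?_
      rw [Pi.smul_apply, Pi.smul_apply, hab lam]
      push_cast
      simp only [smul_eq_mul]
      ring
    rw [this, h0, mul_zero, zero_add]
  -- inner products of `ν`
  have hνinner : ∀ lam' : IrrCharacter A, classInner ν (lam' : A → ℂ) = (b lam' : ℂ) := by
    intro lam'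
    rw [hν, Helper74.classInner_sum_left]
    simp only [Helper74.classInner_smul_left]
    rw [Finset.sum_eq_single lam']
    · rw [Helper74.irr_inner_self, mul_one]
    · intro lam _ hne'
      rw [Helper74.irr_inner_ne hne', mul_zero]
    · intro hh; exact absurd (Finset.mem_univ _) hh
  have hνν : classInner ν ν = ((∑ lam, (b lam) ^ 2 : ℕ) : ℂ) := by
    conv_lhs => rw [hν]
    rw [Helper74.classInner_sum_left]
    push_cast
    refine Finset.sum_congr rfl fun lam _ => ?_
    rw [Helper74.classInner_smul_left, ← Helper74.classInner_conj_symm, hνinner lam,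
      Complex.conj_natCast]
    ring
  -- notation
  set d : ℕ := ∑ lam, b lam with hd
  set Q : ℕ := ∑ lam, (b lam) ^ 2 with hQ
  have hnC : (Nat.card A : ℂ) ≠ 0 := by exact_mod_cast hn0.ne'
  have hμ₀le : ∀ t : A, ‖(μ₀ : A → ℂ) t‖ ≤ 1 := by
    intro t
    have h1 := Helper80.IsCharacter.norm_le (Helper74.irr_isCharacter μ₀) t
    have h2 := Helper80.IsCharacter.charDegree_cast (Helper74.irr_isCharacter μ₀)
    rw [hlin μ₀] at h2
    have h3 : charDegree (μ₀ : A → ℂ) = 1 := by exact_mod_cast h2
    rw [h3] at h1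
    simpa using h1
  have hcarderase : (Finset.univ.erase (1 : A)).card = Nat.card A - 1 := by
    rw [Finset.card_erase_of_mem (Finset.mem_univ _), Finset.card_univ, Nat.card_eq_fintype_card]
  -- `[ν, μ₀] = 0`
  have h0 : (d : ℂ) + ∑ t ∈ Finset.univ.erase (1 : A), F t * conj ((μ₀ : A → ℂ) t) = 0 := by
    have h := hνinner μ₀
    rw [hb0, Nat.cast_zero] at h
    unfold classInner at h
    have h2 : ∑ t : A, ν t * conj ((μ₀ : A → ℂ) t) = 0 := by
      rcases mul_eq_zero.mp h with h3 | h3
      · exact absurd (inv_eq_zero.mp h3) hnC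
      · exact h3
    rw [← Finset.add_sum_erase Finset.univ _ (Finset.mem_univ (1 : A))] at h2
    rw [hν1, hlin μ₀, map_one, mul_one] at h2
    rw [← h2]
    congr 1
    refine Finset.sum_congr rfl fun t ht => ?_
    rw [hFt t (Finset.ne_of_mem_erase ht)]
  have hdle : (d : ℝ) ≤ (Nat.card A : ℝ) - 1 := by
    have h1 : (d : ℂ) = -∑ t ∈ Finset.univ.erase (1 : A), F t * conj ((μ₀ : A → ℂ) t) :=
      eq_neg_of_add_eq_zero_left h0
    have h2 : ‖(d : ℂ)‖ = (d : ℝ) := by simp
    rw [← h2, h1, norm_neg]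
    calc ‖∑ t ∈ Finset.univ.erase (1 : A), F t * conj ((μ₀ : A → ℂ) t)‖
        ≤ ∑ t ∈ Finset.univ.erase (1 : A), ‖F t * conj ((μ₀ : A → ℂ) t)‖ := norm_sum_le _ _
      _ ≤ ∑ _t ∈ Finset.univ.erase (1 : A), (1 : ℝ) := by
          apply Finset.sum_le_sum
          intro t ht
          rw [norm_mul, Complex.norm_conj]
          have h3 := hle t (Finset.ne_of_mem_erase ht)
          have h4 := hμ₀le t
          have h5 := norm_nonneg (F t)
          have h6 := norm_nonneg ((μ₀ : A → ℂ) t)
          nlinarith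
      _ = (Nat.card A : ℝ) - 1 := by
          rw [Finset.sum_const, hcarderase, nsmul_eq_mul, mul_one, Nat.cast_sub hn0, Nat.cast_one]
  -- the norm of `ν`
  set R : ℝ := ∑ t ∈ Finset.univ.erase (1 : A), ‖F t‖ ^ 2 with hR
  have hnorm : (Nat.card A : ℝ) * (Q : ℝ) = (d : ℝ) ^ 2 + R := by
    have h := hνν
    unfold classInner at h
    have h2 : ∑ t : A, ν t * conj (ν t) = (Nat.card A : ℂ) * (Q : ℂ) := by
      rw [← h, mul_inv_cancel_left₀ hnC]
    rw [← Finset.add_sum_erase Finset.univ _ (Finset.mem_univ (1 : A))] at h2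
    rw [hν1] at h2
    have h3 : (((d : ℝ) ^ 2 + R : ℝ) : ℂ) = (((Nat.card A : ℝ) * (Q : ℝ) : ℝ) : ℂ) := by
      rw [hR]
      push_cast
      rw [← h2]
      congr 1
      · rw [Complex.conj_natCast]; ring
      · refine Finset.sum_congr rfl fun t ht => ?_
        rw [← hFt t (Finset.ne_of_mem_erase ht), Complex.mul_conj']
    exact_mod_cast h3.symm
  have hRle : R ≤ (Nat.card A : ℝ) - 1 := by
    calc R ≤ ∑ _t ∈ Finset.univ.erase (1 : A), (1 : ℝ) := by
          apply Finset.sum_le_sum
          intro t ht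
          have h3 := hle t (Finset.ne_of_mem_erase ht)
          have h5 := norm_nonneg (F t)
          nlinarith
      _ = (Nat.card A : ℝ) - 1 := by
          rw [Finset.sum_const, hcarderase, nsmul_eq_mul, mul_one, Nat.cast_sub hn0, Nat.cast_one]
  have hRpos : 0 < R := by
    obtain ⟨t₀, ht₀, hFt₀⟩ := hne
    have hmem : t₀ ∈ Finset.univ.erase (1 : A) := Finset.mem_erase.mpr ⟨ht₀, Finset.mem_univ _⟩
    have h1 : ‖F t₀‖ ^ 2 ≤ R :=
      Finset.single_le_sum (f := fun t => ‖F t‖ ^ 2) (fun t _ => by positivity) hmem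
    have h2 : 0 < ‖F t₀‖ ^ 2 := by
      have := norm_pos_iff.mpr hFt₀
      positivity
    linarith
  have hQd : d ≤ Q := sum_le_sum_sq b
  have hd0 : d ≠ 0 := by
    intro hd0
    have hall : ∀ lam, b lam = 0 := by
      intro lam
      have := (Finset.sum_eq_zero_iff.mp (hd.symm.trans hd0 ▸ rfl : ∑ lam, b lam = 0)) lam
        (Finset.mem_univ _)
      exact this
    have hQ0 : Q = 0 := by
      rw [hQ]
      apply Finset.sum_eq_zero
      intro lam _
      rw [hall lam]; rfl
    rw [hQ0, hd0] at hnorm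
    simp at hnorm
    linarith
  -- arithmetic
  have hd1 : (1 : ℝ) ≤ (d : ℝ) := by
    have : 1 ≤ d := Nat.one_le_iff_ne_zero.mpr hd0
    exact_mod_cast this
  have hQdR : (d : ℝ) ≤ (Q : ℝ) := by exact_mod_cast hQd
  have hNpos : (0 : ℝ) < (Nat.card A : ℝ) := by exact_mod_cast hn0
  have hkey1 : (Nat.card A : ℝ) * (d : ℝ) ≤ (d : ℝ) ^ 2 + R := by
    rw [← hnorm]
    exact mul_le_mul_of_nonneg_left hQdR hNpos.le
  have hkey2 : 0 ≤ ((d : ℝ) - 1) * ((Nat.card A : ℝ) - 1 - (d : ℝ)) :=
    mul_nonneg (by linarith) (by linarith)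
  have hprod0 : ((d : ℝ) - 1) * ((Nat.card A : ℝ) - 1 - (d : ℝ)) = 0 := by
    nlinarith
  have hQeq : Q = d := by
    have h1 : (Nat.card A : ℝ) * (Q : ℝ) = (Nat.card A : ℝ) * (d : ℝ) := by nlinarith
    have h2 : (Q : ℝ) = (d : ℝ) := mul_left_cancel₀ hNpos.ne' h1
    exact_mod_cast h2
  have hble : ∀ lam, b lam ≤ 1 := le_one_of_sum_sq_eq_sum b hQeq
  rcases mul_eq_zero.mp hprod0 with hcase | hcase
  · -- `d = 1`: `ν` is a linear character
    have hd_one : d = 1 := by
      have : (d : ℝ) = 1 := by linarith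
      exact_mod_cast this
    obtain ⟨μ, hμ⟩ : ∃ μ, b μ ≠ 0 := by
      by_contra hcon
      push Not at hcon
      apply hd0
      rw [hd]
      exact Finset.sum_eq_zero fun lam _ => hcon lam
    have hbμ : b μ = 1 := by have := hble μ; omega
    have hothers : ∀ lam, lam ≠ μ → b lam = 0 := by
      intro lam hne'
      have h1 := Finset.add_sum_erase Finset.univ b (Finset.mem_univ μ)
      rw [← hd, hd_one, hbμ] at h1
      have h2 : ∑ x ∈ Finset.univ.erase μ, b x = 0 := by omega
      exact Finset.sum_eq_zero_iff.mp h2 lam (Finset.mem_erase.mpr ⟨hne', Finset.mem_univ _⟩)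
    refine ⟨1, μ, m, Or.inl rfl, ?_, ?_⟩
    · rw [hF1, hd_one]; push_cast; ring
    · intro t ht
      rw [hFt t ht, hν, Finset.sum_apply, Finset.sum_eq_single μ]
      · rw [Pi.smul_apply, hbμ]; push_cast; simp
      · intro lam _ hne'
        rw [Pi.smul_apply, hothers lam hne']; simp
      · intro hh; exact absurd (Finset.mem_univ _) hh
  · -- `d = n - 1`: `ν` is the regular character minus a linear character
    have hd_n : d + 1 = Nat.card A := by
      have : (d : ℝ) + 1 = (Nat.card A : ℝ) := by linarith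
      exact_mod_cast this
    have hones : ∀ lam, lam ≠ μ₀ → b lam = 1 := by
      intro lam₁ hne₁
      by_contra hcon
      have hb1 : b lam₁ = 0 := by have := hble lam₁; omega
      have hlt : ∑ lam, b lam < ∑ lam : IrrCharacter A, (if lam = μ₀ then 0 else 1) := by
        apply Finset.sum_lt_sum
        · intro lam _
          by_cases hlam : lam = μ₀
          · rw [if_pos hlam, hlam, hb0]
          · rw [if_neg hlam]; exact hble lam
        · exact ⟨lam₁, Finset.mem_univ _, by rw [if_neg hne₁, hb1]; exact Nat.one_pos⟩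
      have hsum : ∑ lam : IrrCharacter A, (if lam = μ₀ then 0 else 1) =
          Fintype.card (IrrCharacter A) - 1 := by
        rw [← Finset.add_sum_erase Finset.univ _ (Finset.mem_univ μ₀), if_pos rfl, zero_add]
        rw [Finset.sum_congr rfl (g := fun _ => 1)]
        · rw [Finset.sum_const, Finset.card_erase_of_mem (Finset.mem_univ _), Finset.card_univ]
          simp
        · intro lam hlam
          rw [if_neg (Finset.ne_of_mem_erase hlam)]
      rw [hsum, hcardι, ← hd] at hlt
      omega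
    refine ⟨-1, μ₀, m + 1, Or.inr rfl, ?_, ?_⟩
    · rw [hF1, ← hd_n]; push_cast; ring
    · intro t ht
      have h0' := sum_irr_apply_of_ne_one hA ht
      rw [hFt t ht, hν, Finset.sum_apply]
      rw [← Finset.add_sum_erase Finset.univ _ (Finset.mem_univ μ₀)] at h0' ⊢
      rw [Pi.smul_apply, hb0]
      have h3 : ∑ x ∈ Finset.univ.erase μ₀, ((b x : ℂ) • (x : A → ℂ)) t =
          ∑ x ∈ Finset.univ.erase μ₀, (x : A → ℂ) t := by
        refine Finset.sum_congr rfl fun lam hlam => ?_
        rw [Pi.smul_apply, hones lam (Finset.ne_of_mem_erase hlam)]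
        simp
      rw [h3]
      have h4 : ∑ x ∈ Finset.univ.erase μ₀, (x : A → ℂ) t = -(μ₀ : A → ℂ) t := by
        linear_combination h0'
      rw [h4]
      push_cast
      simp

end

end Cfsg.Agent.Helper82
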