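import Mathlib
import Cfsg.Prelude.Def_Blocks
import Cfsg.Agent.S0886
import Cfsg.Agent.Helper15.CliffordCorr
import Cfsg.Agent.Helper80.Pullback
import Cfsg.Agent.Helper82.FrobCoset
import Cfsg.Agent.Helper82.GallagherDecomp
import Cfsg.Agent.Helper82.UnitOffOne

/-!
# Fully ramified characters under a cyclic Frobenius action (helper82)

`N ≤ G` normal in `Γ`, `Γ/G` cyclic, `Γ/N` Frobenius with kernel `G/N`.  If `θ ∈ Irr N` is
`Γ`-invariant and `θ^G = e χ`, then `|Γ:G|` divides `e - 1` or `e + 1`.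
-/

set_option autoImplicit false
set_option linter.unusedSectionVars false

namespace Cfsg.Agent.Helper82

open Cfsg
open scoped ComplexConjugate

universe u

theorem comm_of_isCyclic {A : Type*} [Group A] [h : IsCyclic A] (a b : A) : a * b = b * a := by
  obtain ⟨g, hg⟩ := h.exists_generator
  obtain ⟨i, rfl⟩ := Subgroup.mem_zpowers_iff.mp (hg a)
  obtain ⟨j, rfl⟩ := Subgroup.mem_zpowers_iff.mp (hg b)
  rw [← zpow_add, ← zpow_add, add_comm]

section grp

variable {Γ : Type u} [Group Γ] (G N : Subgroup Γ) [hN : N.Normal]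

/-- `N ⟨x⟩ ∩ G = N` when `x ∉ G` acts without fixed points on `G/N`. -/
theorem mem_of_mem_sup_zpowers_of_mem
    (hfrob : ∀ x : Γ, x ∉ G → ∀ g : Γ, g ∈ G → x * g * x⁻¹ * g⁻¹ ∈ N → g ∈ N)
    (hNG : N ≤ G) (x : Γ) (hx : x ∉ G) (u : Γ) (hu : u ∈ N ⊔ Subgroup.zpowers x) (huG : u ∈ G) :
    u ∈ N := by
  have h1 : u ∈ ((N ⊔ Subgroup.zpowers x : Subgroup Γ) : Set Γ) := hu
  rw [Subgroup.normal_mul] at h1
  obtain ⟨n, hn, z, hz, rfl⟩ := Set.mem_mul.mp h1
  have hzG : z ∈ G := by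
    have : z = n⁻¹ * (n * z) := by group
    rw [this]
    exact G.mul_mem (G.inv_mem (hNG hn)) huG
  obtain ⟨k, rfl⟩ := Subgroup.mem_zpowers_iff.mp hz
  have hcomm : x * x ^ k * x⁻¹ * (x ^ k)⁻¹ = 1 := by
    have : x * x ^ k = x ^ k * x := by
      rw [← zpow_one_add, ← zpow_add_one, add_comm]
    rw [this]; group
  have hzN : x ^ k ∈ N := hfrob x hx (x ^ k) hzG (by rw [hcomm]; exact N.one_mem)
  exact N.mul_mem hn hzN

end grp

section partI

variable {Γ : Type u} [Group Γ] [Fintype Γ] (G N : Subgroup Γ) [hG : G.Normal] [hN : N.Normal]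
  [Fintype G] [Fintype N]

/-- Consequences of full ramification inside `G`: `e ≠ 0`, `χ_N = e θ`, and `χ` is
`Γ`-invariant. -/
theorem fully_ramified_basic (hNG : N ≤ G) (θ : IrrCharacter N)
    (hinv : ∀ (x : Γ) (n : N), (θ : N → ℂ) ⟨x * n * x⁻¹, hN.conj_mem n n.2 x⟩ = (θ : N → ℂ) n)
    (χ : IrrCharacter G) (e : ℕ)
    (hram : indFun (N.subgroupOf G) (fun n : N.subgroupOf G => (θ : N → ℂ) ⟨(n : G), n.2⟩) =
      fun g => (e : ℂ) * (χ : G → ℂ) g) :
    e ≠ 0 ∧ (∀ n : N, (χ : G → ℂ) ⟨n, hNG n.2⟩ = (e : ℂ) * (θ : N → ℂ) n) ∧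
      ∀ (x : Γ) (g : G), (χ : G → ℂ) ⟨x * g * x⁻¹, hG.conj_mem g g.2 x⟩ = (χ : G → ℂ) g := by
  classical
  set H : Subgroup G := N.subgroupOf G with hH
  haveI : H.Normal := Subgroup.normal_subgroupOf
  set θ'' : H → ℂ := fun n : H => (θ : N → ℂ) ⟨(n : G), n.2⟩ with hθ''
  have hχc := Helper74.irr_isCharacter χ
  have hχcf := Helper74.isClassFunction_of_isCharacter hχc
  -- `θ''` is irreducible
  have hθ''irr : IsIrrCharacter H θ'' :=
    Helper80.IsIrrCharacter.comp_surjective θ.2 (Subgroup.subgroupOfEquivOfLe hNG).toMonoidHom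
      (Subgroup.subgroupOfEquivOfLe hNG).surjective
  have hθ1 : (θ : N → ℂ) 1 ≠ 0 := by
    have h5 := Helper80.IsIrrCharacter.charDegree_pos θ.2
    have h6 := Helper80.IsCharacter.charDegree_cast (Helper74.irr_isCharacter θ)
    intro h0
    rw [h0] at h6
    have : charDegree (θ : N → ℂ) = 0 := by exact_mod_cast h6
    omega
  -- `e ≠ 0`
  have he : e ≠ 0 := by
    intro h0
    have h1 := congrFun hram 1
    rw [Helper15.indFun_apply_one, h0, Nat.cast_zero, zero_mul] at h1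
    rcases mul_eq_zero.mp h1 with h2 | h2
    · have : H.index ≠ 0 := Subgroup.index_ne_zero_of_finite
      exact this (by exact_mod_cast h2)
    · exact hθ1 h2
  have heC : (e : ℂ) ≠ 0 := by exact_mod_cast he
  -- `⟨χ_H, θ''⟩ = e`
  have hinner : classInner (fun n : H => (χ : G → ℂ) n) θ'' = (e : ℂ) := by
    have h1 := Helper15.frobenius_reciprocity' H θ'' (χ : G → ℂ) hχcf
    rw [← h1, hram]
    have : (fun g => (e : ℂ) * (χ : G → ℂ) g) = (e : ℂ) • (χ : G → ℂ) := rfl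
    rw [this, Helper74.classInner_smul_right, Helper74.irr_inner_self, Complex.conj_natCast,
      mul_one]
  -- invariance of `θ''` in `G`
  have hinv'' : ∀ g : G, Helper15.conjFun H g θ'' = θ'' := by
    intro g
    funext n
    rw [Helper15.conjFun_apply]
    exact hinv (g : Γ) ⟨((n : G) : Γ), n.2⟩
  have hres := Helper15.restrict_eq_smul_of_invariant H χ.2 hθ''irr
    (by rw [hinner]; exact heC) hinv''
  rw [hinner] at hres
  have hχN : ∀ n : N, (χ : G → ℂ) ⟨n, hNG n.2⟩ = (e : ℂ) * (θ : N → ℂ) n := by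
    intro n
    have := congrFun hres ⟨⟨(n : Γ), hNG n.2⟩, n.2⟩
    exact this
  refine ⟨he, hχN, ?_⟩
  -- invariance of `χ`
  intro x g
  set χx : G → ℂ := Helper15.conjFun G x (χ : G → ℂ) with hχx
  have hχxirr : IsIrrCharacter G χx := Helper15.isIrrCharacter_conjFun G χ.2 x
  have hχxcf := Helper74.isClassFunction_of_isCharacter (Helper74.isCharacter_of_isIrr hχxirr)
  have hresx : (fun n : H => χx n) = fun n : H => (χ : G → ℂ) n := by
    funext n
    show (χ : G → ℂ) ⟨x * ((n : G) : Γ) * x⁻¹, _⟩ = (χ : G → ℂ) (n : G)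
    have h1 := hχN ⟨x * ((n : G) : Γ) * x⁻¹, hN.conj_mem _ n.2 x⟩
    have h2 := hχN ⟨((n : G) : Γ), n.2⟩
    have h3 := hinv x ⟨((n : G) : Γ), n.2⟩
    rw [h3] at h1
    exact h1.trans h2.symm
  have h1 := Helper15.frobenius_reciprocity' H θ'' χx hχxcf
  rw [hresx, hinner, hram] at h1
  have : (fun g => (e : ℂ) * (χ : G → ℂ) g) = (e : ℂ) • (χ : G → ℂ) := rfl
  rw [this, Helper74.classInner_smul_right, Complex.conj_natCast] at h1
  have hχχx : (⟨χx, hχxirr⟩ : IrrCharacter G) = χ := by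
    by_contra hne
    have h2 := Helper74.irr_inner_ne hne
    simp only at h2
    rw [h2, mul_zero] at h1
    exact heC h1.symm
  have h3 : χx = (χ : G → ℂ) := congrArg Subtype.val hχχx
  have h4 := congrFun h3 g
  rw [hχx, Helper15.conjFun_apply] at h4
  exact h4

end partI

section main

variable {Γ : Type u} [Group Γ] [Fintype Γ] (G N : Subgroup Γ) [hG : G.Normal] [hN : N.Normal]
  [Fintype G] [Fintype N]

/-- **Fully ramified sections under a cyclic Frobenius action**: `|Γ:G|` divides `e ∓ 1`. -/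
theorem frobenius_fully_ramified (hNG : N ≤ G) (hGlt : G ≠ ⊤) (hcyc : IsCyclic (Γ ⧸ G))
    (hfrob : ∀ x : Γ, x ∉ G → ∀ g : Γ, g ∈ G → x * g * x⁻¹ * g⁻¹ ∈ N → g ∈ N)
    (θ : IrrCharacter N)
    (hinv : ∀ (x : Γ) (n : N), (θ : N → ℂ) ⟨x * n * x⁻¹, hN.conj_mem n n.2 x⟩ = (θ : N → ℂ) n)
    (χ : IrrCharacter G) (e : ℕ)
    (hram : indFun (N.subgroupOf G) (fun n : N.subgroupOf G => (θ : N → ℂ) ⟨(n : G), n.2⟩) =
      fun g => (e : ℂ) * (χ : G → ℂ) g) :
    (G.index : ℤ) ∣ (e : ℤ) - 1 ∨ (G.index : ℤ) ∣ (e : ℤ) + 1 := by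
  classical
  obtain ⟨he, hχN, hχinv⟩ := fully_ramified_basic G N hNG θ hinv χ e hram
  have heC : (e : ℂ) ≠ 0 := by exact_mod_cast he
  have hab : ∀ a b : Γ ⧸ G, a * b = b * a := fun a b => comm_of_isCyclic a b
  have hθ1 : (θ : N → ℂ) 1 ≠ 0 := by
    have h5 := Helper80.IsIrrCharacter.charDegree_pos θ.2
    have h6 := Helper80.IsCharacter.charDegree_cast (Helper74.irr_isCharacter θ)
    intro h0
    rw [h0] at h6
    have : charDegree (θ : N → ℂ) = 0 := by exact_mod_cast h6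
    omega
  -- the extension of `χ` to `Γ`
  obtain ⟨χh, hχh, hχhext⟩ := Cfsg.Agent.S0886.result G hcyc (χ : G → ℂ) χ.2 hχinv
  have hχhG : IsIrrCharacter G (fun g : G => χh g) := by
    have : (fun g : G => χh g) = (χ : G → ℂ) := funext hχhext
    rw [this]; exact χ.2
  have hχhc := Helper74.isCharacter_of_isIrr hχh
  -- a generator of `Γ ⧸ G`
  obtain ⟨q₀, hq₀⟩ := hcyc.exists_generator
  obtain ⟨x, rfl⟩ := QuotientGroup.mk_surjective q₀
  have hxG : x ∉ G := by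
    intro hx
    apply hGlt
    rw [eq_top_iff]
    intro y _
    obtain ⟨k, hk⟩ := Subgroup.mem_zpowers_iff.mp (hq₀ (y : Γ ⧸ G))
    have h1 : ((x : Γ ⧸ G)) = 1 := (QuotientGroup.eq_one_iff x).mpr hx
    rw [h1, one_zpow] at hk
    exact (QuotientGroup.eq_one_iff y).mp hk.symm
  -- the subgroup `U = N ⟨x⟩`
  set U : Subgroup Γ := N ⊔ Subgroup.zpowers x with hU
  have hNU : N ≤ U := le_sup_left
  have hxU : x ∈ U := (le_sup_right : Subgroup.zpowers x ≤ U) (Subgroup.mem_zpowers x)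
  have hUG : ∀ u ∈ U, u ∈ G → u ∈ N := fun u hu huG =>
    mem_of_mem_sup_zpowers_of_mem G N hfrob hNG x hxG u hu huG
  set N' : Subgroup U := N.subgroupOf U with hN'
  haveI hN'n : N'.Normal := Subgroup.normal_subgroupOf
  let eN : N' ≃* N := Subgroup.subgroupOfEquivOfLe hNU
  -- `U ⧸ N'` is cyclic
  have hcycU : IsCyclic (U ⧸ N') := by
    let f : Multiplicative ℤ →* U ⧸ N' :=
      (QuotientGroup.mk' N').comp (zpowersHom U ⟨x, hxU⟩)
    apply isCyclic_of_surjective f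
    intro q
    obtain ⟨u, rfl⟩ := QuotientGroup.mk_surjective q
    have h1 : (u : Γ) ∈ ((N ⊔ Subgroup.zpowers x : Subgroup Γ) : Set Γ) := u.2
    rw [Subgroup.normal_mul] at h1
    obtain ⟨n, hn, z, hz, hnz⟩ := Set.mem_mul.mp h1
    obtain ⟨k, rfl⟩ := Subgroup.mem_zpowers_iff.mp hz
    refine ⟨Multiplicative.ofAdd k, ?_⟩
    show ((((⟨x, hxU⟩ : U) ^ k : U)) : U ⧸ N') = (u : U ⧸ N')
    rw [QuotientGroup.eq]
    show ((((⟨x, hxU⟩ : U) ^ k)⁻¹ * u : U) : Γ) ∈ N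
    have h2 : ((((⟨x, hxU⟩ : U) ^ k)⁻¹ * u : U) : Γ) = (x ^ k)⁻¹ * n * (x ^ k) := by
      push_cast
      rw [← hnz]; group
    rw [h2]
    have := hN.conj_mem n hn (x ^ k)⁻¹
    simpa using this
  have habU : ∀ a b : U ⧸ N', a * b = b * a := fun a b => comm_of_isCyclic a b
  -- the character `θ'` of `N'` and its extension to `U`
  set θ' : N' → ℂ := fun n : N' => (θ : N → ℂ) ⟨((n : U) : Γ), n.2⟩ with hθ'
  have hθ'irr : IsIrrCharacter N' θ' :=
    Helper80.IsIrrCharacter.comp_surjective θ.2 eN.toMonoidHom eN.surjective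
  have hθ'inv : ∀ (g : U) (n : N'), θ' ⟨g * n * g⁻¹, hN'n.conj_mem (n : U) n.2 g⟩ = θ' n := by
    intro g n
    exact hinv (g : Γ) ⟨((n : U) : Γ), n.2⟩
  obtain ⟨θh, hθh, hθhext⟩ := Cfsg.Agent.S0886.result N' hcycU θ' hθ'irr hθ'inv
  have hθhN : IsIrrCharacter N' (fun n : N' => θh n) := by
    have : (fun n : N' => θh n) = θ' := funext hθhext
    rw [this]; exact hθ'irr
  -- Gallagher decomposition of `χh_U`
  have hΨ : IsCharacter U (fun u : U => χh (u : Γ)) := Helper74.isCharacter_restrict U hχhc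
  have hΨN : ∀ n : N', (fun u : U => χh (u : Γ)) n = (e : ℂ) * θh n := by
    intro n
    show χh (((n : U) : Γ)) = (e : ℂ) * θh n
    rw [hθhext n]
    have h1 := hχhext ⟨((n : U) : Γ), hNG n.2⟩
    have h2 := hχN ⟨((n : U) : Γ), n.2⟩
    exact h1.trans h2
  obtain ⟨Φ, hΦ, hΦN, hΦeq⟩ := gallagher_decomp N' hθh hθhN hΨ (e : ℂ) hΨN
  -- `Φ 1 = e`
  have hΦ1 : Φ 1 = (e : ℂ) := by
    have h1 : χh ((1 : U) : Γ) = Φ 1 * θh 1 := hΦeq 1
    have h2 : χh ((1 : U) : Γ) = (e : ℂ) * θh 1 := hΨN 1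
    have h3 : θh (1 : U) ≠ 0 := by
      have h4 : θh ((1 : N') : U) = θ' 1 := hθhext 1
      have h5 : θh (1 : U) = θ' 1 := h4
      rw [h5]
      exact hθ1
    rw [h2] at h1
    exact (mul_right_cancel₀ h3 h1).symm
  -- `‖Φ u‖ = 1` off `G`
  have hΦnorm : ∀ u : U, (u : Γ) ∉ G → ‖Φ u‖ = 1 := by
    intro u hu
    have h1 := sum_coset_normSq_frob G N hNG hfrob hab hχh hχhG (u : Γ) hu
    have h2 := coset_orthogonality N' habU hθh hθh hθhN u (fun _ _ _ => rfl)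
    rw [if_pos rfl] at h2
    have hcard : Nat.card N' = Nat.card N := Nat.card_congr eN.toEquiv
    have hN0 : (Nat.card N : ℂ) ≠ 0 := by
      have : 0 < Nat.card N := Nat.card_pos
      exact_mod_cast this.ne'
    have h3 : ∑ n : N, χh ((n : Γ) * (u : Γ)) * conj (χh ((n : Γ) * (u : Γ))) =
        ∑ n' : N', χh ((((n' : U) * u : U) : Γ)) * conj (χh ((((n' : U) * u : U) : Γ))) := by
      symm
      apply Fintype.sum_equiv eN.toEquiv
      intro n'
      rfl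
    have h4 : ∀ n' : N', χh ((((n' : U) * u : U) : Γ)) * conj (χh ((((n' : U) * u : U) : Γ))) =
        (Φ u * conj (Φ u)) * (θh ((n' : U) * u) * conj (θh ((n' : U) * u))) := by
      intro n'
      have : χh ((((n' : U) * u : U) : Γ)) = Φ ((n' : U) * u) * θh ((n' : U) * u) :=
        hΦeq ((n' : U) * u)
      rw [this, hΦN n' u, map_mul]
      ring
    rw [h3, Finset.sum_congr rfl (fun n' _ => h4 n'), ← Finset.mul_sum] at h1
    rw [hcard] at h2
    have h5 : ∑ n' : N', θh ((n' : U) * u) * conj (θh ((n' : U) * u)) = (Nat.card N : ℂ) := by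
      have := congrArg (fun z => (Nat.card N : ℂ) * z) h2
      simpa [mul_inv_cancel_left₀ hN0] using this
    rw [h5] at h1
    have h6 : Φ u * conj (Φ u) = 1 := by
      have : Φ u * conj (Φ u) * (Nat.card N : ℂ) = 1 * (Nat.card N : ℂ) := by rw [h1, one_mul]
      exact mul_right_cancel₀ hN0 this
    rw [Complex.mul_conj'] at h6
    have h7 : ‖Φ u‖ ^ 2 = 1 := by exact_mod_cast h6
    have h8 : 0 ≤ ‖Φ u‖ := norm_nonneg _
    nlinarith
  -- descend to `Γ ⧸ G`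
  let φ : U →* Γ ⧸ G := (QuotientGroup.mk' G).comp U.subtype
  have hφapply : ∀ u : U, φ u = ((u : Γ) : Γ ⧸ G) := fun _ => rfl
  have hφsurj : Function.Surjective φ := by
    intro q
    obtain ⟨k, hk⟩ := Subgroup.mem_zpowers_iff.mp (hq₀ q)
    refine ⟨(⟨x, hxU⟩ : U) ^ k, ?_⟩
    rw [map_zpow, hφapply]
    exact hk
  have hφker : ∀ u : U, φ u = 1 → Φ u = Φ 1 := by
    intro u hu
    have h1 : (u : Γ) ∈ G := (QuotientGroup.eq_one_iff (u : Γ)).mp hu
    have h2 : (u : Γ) ∈ N := hUG u u.2 h1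
    have h3 := hΦN ⟨u, h2⟩ 1
    rw [mul_one] at h3
    exact h3
  obtain ⟨Φb, hΦb, hΦbeq⟩ := Helper80.IsCharacter.exists_descend hΦ φ hφsurj hφker
  let _ : Fintype (Γ ⧸ G) := Fintype.ofFinite _
  have hle : ∀ q : Γ ⧸ G, q ≠ 1 → ‖Φb q‖ ≤ 1 := by
    intro q hq
    obtain ⟨u, rfl⟩ := hφsurj q
    rw [← hΦbeq u]
    have hu : (u : Γ) ∉ G := fun h => hq ((QuotientGroup.eq_one_iff (u : Γ)).mpr h)
    exact (hΦnorm u hu).le
  have hne : ∃ q : Γ ⧸ G, q ≠ 1 ∧ Φb q ≠ 0 := by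
    refine ⟨φ ⟨x, hxU⟩, ?_, ?_⟩
    · intro h
      exact hxG ((QuotientGroup.eq_one_iff x).mp h)
    · rw [← hΦbeq]
      have := hΦnorm ⟨x, hxU⟩ hxG
      intro h0
      rw [h0, norm_zero] at this
      exact zero_ne_one this
  obtain ⟨ε, μ, m, hε, hF1, -⟩ := char_unit_off_one hab hΦb hle hne
  have h1 : Φb 1 = (e : ℂ) := by
    have := hΦbeq 1
    rw [map_one] at this
    rw [← this, hΦ1]
  rw [h1, ← Subgroup.index_eq_card] at hF1
  have h2 : (e : ℤ) = (m : ℤ) * (G.index : ℤ) + ε := by exact_mod_cast hF1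
  rcases hε with rfl | rfl
  · left
    exact ⟨m, by rw [h2]; ring⟩
  · right
    exact ⟨m, by rw [h2]; ring⟩

end main

end Cfsg.Agent.Helper82
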