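import Mathlib
import Cfsg.Prelude.Def_Blocks
import Cfsg.Agent.S0886
import Cfsg.Agent.Helper15.IndChar
import Cfsg.Agent.Helper15.ConjChar
import Cfsg.Agent.Helper74.CharBasic
import Cfsg.Agent.Helper79.CharComplete
import Cfsg.Agent.Helper80.Pullback
import Cfsg.Agent.Helper80.CharLevel
import Cfsg.Agent.Helper82.CosetOrth
import Cfsg.Agent.Helper82.UnitOffOne
import Cfsg.Agent.Helper82.FrobRamified

/-!
# Fully ramified characters and self-centralizing cyclic subgroups (helper82)

If `χ ∈ Irr(H)` is fully ramified over `Z ◁ H` (`χ_Z = e θ`, `e² = |H : Z|`) and `Z < H`, then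
`H / Z` has no self-centralizing cyclic subgroup.
-/

set_option autoImplicit false
set_option linter.unusedSectionVars false

namespace Cfsg.Agent.Helper82

open Cfsg
open scoped ComplexConjugate

universe u

section comp

variable {U N : Type u} [Group U] [Fintype U] [Group N] [Fintype N]

/-- If the pullbacks of a character `A` and an irreducible character `β` along a homomorphism
are orthogonal, then so are `A` and `β`. -/
theorem classInner_irr_eq_zero_of_comp (f : N →* U) {A : U → ℂ} (hA : IsCharacter U A)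
    (β : IrrCharacter U) (h : classInner (A ∘ f) ((β : U → ℂ) ∘ f) = 0) :
    classInner A (β : U → ℂ) = 0 := by
  classical
  let _ := Helper74.irrFintype U
  have hdec := Helper74.isCharacter_eq_sum_irr hA
  have hAf : A ∘ f = ∑ ψ : IrrCharacter U, classInner A (ψ : U → ℂ) • ((ψ : U → ℂ) ∘ f) := by
    funext n
    have := congrFun hdec (f n)
    simp only [Function.comp, Finset.sum_apply, Pi.smul_apply] at this ⊢
    exact this
  rw [hAf, Helper74.classInner_sum_left] at h
  have hterm : ∀ ψ : IrrCharacter U, ∃ m : ℕ,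
      classInner (classInner A (ψ : U → ℂ) • ((ψ : U → ℂ) ∘ f)) ((β : U → ℂ) ∘ f) = m := by
    intro ψ
    obtain ⟨a, ha⟩ := Helper74.isCharacter_inner_irr_nat hA ψ
    obtain ⟨n, hn⟩ := Helper15.isCharacter_inner_nat
      (Helper74.isCharacter_comp f (Helper74.irr_isCharacter ψ))
      (Helper74.isCharacter_comp f (Helper74.irr_isCharacter β))
    refine ⟨a * n, ?_⟩
    rw [Helper74.classInner_smul_left, ha, hn]; push_cast; ring
  choose m hm using hterm
  simp only [hm] at h
  have h0 : ∑ ψ, m ψ = 0 := by exact_mod_cast h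
  have hβ0 : m β = 0 := Finset.sum_eq_zero_iff.mp h0 β (Finset.mem_univ _)
  have h1 := hm β
  rw [hβ0, Helper74.classInner_smul_left, Nat.cast_zero] at h1
  rcases mul_eq_zero.mp h1 with h2 | h2
  · exact h2
  · exfalso
    have h3 := Helper74.classInner_self_eq_zero h2
    have h4 := congrFun h3 1
    simp only [Function.comp, map_one, Pi.zero_apply] at h4
    exact Helper80.IsIrrCharacter.map_one_ne_zero β.2 h4

/-- If the pullbacks of two characters along a homomorphism are orthogonal, then the characters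
are orthogonal. -/
theorem classInner_eq_zero_of_comp (f : N →* U) {A B : U → ℂ} (hA : IsCharacter U A)
    (hB : IsCharacter U B) (h : classInner (A ∘ f) (B ∘ f) = 0) : classInner A B = 0 := by
  classical
  let _ := Helper74.irrFintype U
  have hdec := Helper74.isCharacter_eq_sum_irr hB
  have hBf : B ∘ f = ∑ ψ : IrrCharacter U, classInner B (ψ : U → ℂ) • ((ψ : U → ℂ) ∘ f) := by
    funext n
    have := congrFun hdec (f n)
    simp only [Function.comp, Finset.sum_apply, Pi.smul_apply] at this ⊢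
    exact this
  have hAf := Helper74.isCharacter_comp f hA
  rw [hBf, Helper74.classInner_sum_right] at h
  have hterm : ∀ ψ : IrrCharacter U, ∃ m : ℕ,
      classInner (A ∘ f) (classInner B (ψ : U → ℂ) • ((ψ : U → ℂ) ∘ f)) = m := by
    intro ψ
    obtain ⟨a, ha⟩ := Helper74.isCharacter_inner_irr_nat hB ψ
    obtain ⟨n, hn⟩ := Helper15.isCharacter_inner_nat hAf
      (Helper74.isCharacter_comp f (Helper74.irr_isCharacter ψ))
    refine ⟨a * n, ?_⟩
    rw [Helper74.classInner_smul_right, ha, hn, Complex.conj_natCast]; push_cast; ring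
  choose m hm using hterm
  simp only [hm] at h
  have h0 : ∑ ψ, m ψ = 0 := by exact_mod_cast h
  have hall : ∀ ψ, m ψ = 0 := fun ψ => Finset.sum_eq_zero_iff.mp h0 ψ (Finset.mem_univ _)
  conv_lhs => rw [hdec]
  rw [Helper74.classInner_sum_right]
  refine Finset.sum_eq_zero fun ψ _ => ?_
  rw [Helper74.classInner_smul_right]
  have h1 := hm ψ
  rw [hall ψ, Helper74.classInner_smul_right, Nat.cast_zero] at h1
  rcases mul_eq_zero.mp h1 with h2 | h2
  · rw [h2, zero_mul]
  · rw [classInner_irr_eq_zero_of_comp f hA ψ h2, mul_zero]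

end comp

section ram

variable {H : Type u} [Group H] [Fintype H] (Z : Subgroup H) [Fintype Z]

/-- A sum over `H` of a function vanishing off `Z` is a sum over `Z`. -/
theorem sum_eq_sum_subgroup_of_vanish (F : H → ℂ) (hF : ∀ g, g ∉ Z → F g = 0) :
    ∑ h : H, F h = ∑ z : Z, F z := by
  classical
  rw [← Finset.sum_subtype (Finset.univ.filter (· ∈ Z)) (by simp) F]
  symm
  apply Finset.sum_subset (Finset.subset_univ _)
  intro x _ hx
  apply hF
  simpa using hx

/-- An irreducible character whose restriction to `Z` has norm `|H|` vanishes off `Z`. -/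
theorem vanish_off_of_sum_normSq (χ : IrrCharacter H)
    (h : ∑ z : Z, (χ : H → ℂ) z * conj ((χ : H → ℂ) z) = (Nat.card H : ℂ)) {g : H} (hg : g ∉ Z) :
    (χ : H → ℂ) g = 0 := by
  classical
  have h1 := Helper74.irr_inner_self χ
  rw [Helper74.classInner_def] at h1
  have hH0 : (Nat.card H : ℂ) ≠ 0 := by
    have : 0 < Nat.card H := Nat.card_pos
    exact_mod_cast this.ne'
  have h2 : ∑ x : H, (χ : H → ℂ) x * conj ((χ : H → ℂ) x) = (Nat.card H : ℂ) := by
    field_simp at h1
    exact h1
  have h3 : ∑ x : H, Complex.normSq ((χ : H → ℂ) x) = (Nat.card H : ℝ) := by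
    have : ((∑ x : H, Complex.normSq ((χ : H → ℂ) x) : ℝ) : ℂ) = ((Nat.card H : ℝ) : ℂ) := by
      push_cast
      rw [← h2]
      refine Finset.sum_congr rfl fun x _ => ?_
      rw [Complex.mul_conj]
    exact_mod_cast this
  have h4 : ∑ z : Z, Complex.normSq ((χ : H → ℂ) z) = (Nat.card H : ℝ) := by
    have : ((∑ z : Z, Complex.normSq ((χ : H → ℂ) z) : ℝ) : ℂ) = ((Nat.card H : ℝ) : ℂ) := by
      push_cast
      rw [← h]
      refine Finset.sum_congr rfl fun x _ => ?_
      rw [Complex.mul_conj]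
    exact_mod_cast this
  have h5 : ∑ x ∈ Finset.univ.filter (· ∈ Z), Complex.normSq ((χ : H → ℂ) x) =
      ∑ z : Z, Complex.normSq ((χ : H → ℂ) z) :=
    Finset.sum_subtype (Finset.univ.filter (· ∈ Z)) (by simp) _
  have h6 := Finset.sum_filter_add_sum_filter_not Finset.univ (· ∈ Z)
    (fun x => Complex.normSq ((χ : H → ℂ) x))
  rw [h5, h4, h3] at h6
  have h7 : ∑ x ∈ Finset.univ.filter (fun x => ¬ x ∈ Z), Complex.normSq ((χ : H → ℂ) x) = 0 := by
    linarith
  have h8 := (Finset.sum_eq_zero_iff_of_nonneg (fun i _ => Complex.normSq_nonneg _)).mp h7 g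
    (by simp [hg])
  exact Complex.normSq_eq_zero.mp h8

/-- If `χ` vanishes off `Z` and `χ_Z = e θ`, then every character induced from a character `η`
of an intermediate subgroup with `η_Z = θ` vanishes off `Z`. -/
theorem indFun_eq_zero_of_fully_ramified (χ : IrrCharacter H) (θ : Z → ℂ) (e : ℂ) (he : e ≠ 0)
    (hχZ : ∀ z : Z, (χ : H → ℂ) z = e * θ z) (hvan : ∀ g : H, g ∉ Z → (χ : H → ℂ) g = 0)
    (K : Subgroup H) [Fintype K] (hZK : Z ≤ K) {η : K → ℂ} (hη : IsCharacter K η)
    (hηZ : ∀ z : Z, η ⟨z, hZK z.2⟩ = θ z) {g : H} (hg : g ∉ Z) : indFun K η g = 0 := by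
  classical
  let _ := Helper74.irrFintype H
  have hΘ := Helper15.isCharacter_indFun K hη
  have hdec := Helper74.isCharacter_eq_sum_irr hΘ
  have hH0 : (Nat.card H : ℂ) ≠ 0 := by
    have : 0 < Nat.card H := Nat.card_pos
    exact_mod_cast this.ne'
  have key : ∀ ψ : IrrCharacter H, ψ ≠ χ → classInner (indFun K η) (ψ : H → ℂ) = 0 := by
    intro ψ hψ
    rw [Helper15.frobenius_reciprocity K η _ (Helper74.irr_isClassFunction ψ)]
    apply classInner_eq_zero_of_comp (Subgroup.inclusion hZK) hη
      (Helper74.isCharacter_restrict K (Helper74.irr_isCharacter ψ))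
    have h1 : η ∘ (Subgroup.inclusion hZK) = θ := funext fun z => hηZ z
    have h2 : (fun k : K => (ψ : H → ℂ) k) ∘ (Subgroup.inclusion hZK) =
        fun z : Z => (ψ : H → ℂ) z := rfl
    rw [h1, h2]
    have h3 := Helper74.irr_inner_ne hψ.symm
    rw [Helper74.classInner_def] at h3
    have h4 : ∑ x : H, (χ : H → ℂ) x * conj ((ψ : H → ℂ) x) = 0 := by
      rcases mul_eq_zero.mp h3 with h | h
      · exact absurd h (inv_ne_zero hH0)
      · exact h
    rw [sum_eq_sum_subgroup_of_vanish Z _ (fun g hg => by rw [hvan g hg, zero_mul])] at h4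
    rw [Helper74.classInner_def]
    have h5 : ∑ z : Z, (χ : H → ℂ) z * conj ((ψ : H → ℂ) z) =
        e * ∑ z : Z, θ z * conj ((ψ : H → ℂ) z) := by
      rw [Finset.mul_sum]
      refine Finset.sum_congr rfl fun z _ => ?_
      rw [hχZ z, mul_assoc]
    rw [h5] at h4
    rcases mul_eq_zero.mp h4 with h | h
    · exact absurd h he
    · rw [h, mul_zero]
  have h1 := congrFun hdec g
  rw [h1, Finset.sum_apply]
  refine Finset.sum_eq_zero fun ψ _ => ?_
  by_cases hψ : ψ = χ
  · rw [hψ, Pi.smul_apply, hvan g hg, smul_zero]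
  · rw [key ψ hψ, zero_smul, Pi.zero_apply]

end ram

section indsum

variable {H : Type u} [Group H] [Fintype H] {A : Type u} [Group A] [Fintype A]

/-- Column orthogonality in an abelian group. -/
theorem sum_irr_mul_conj_of_comm (hA : ∀ a b : A, a * b = b * a) [Fintype (IrrCharacter A)]
    (a b : A) [Decidable (a = b)] :
    ∑ μ : IrrCharacter A, (μ : A → ℂ) a * conj ((μ : A → ℂ) b) =
      if a = b then (Nat.card A : ℂ) else 0 := by
  classical
  have h := Helper79.column_orthogonality (G := A) a b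
  rw [h]
  have hconj : IsConj b a ↔ a = b := by
    constructor
    · intro hc
      obtain ⟨c, hc⟩ := isConj_iff.mp hc
      rw [← hc, hA c b, mul_assoc, mul_inv_cancel, mul_one]
    · intro hab
      rw [hab]
  have hcen : Subgroup.centralizer ({b} : Set A) = ⊤ := by
    rw [eq_top_iff]
    intro x _
    rw [Subgroup.mem_centralizer_iff]
    intro y _
    exact hA y x
  by_cases hab : a = b
  · rw [if_pos (hconj.mpr hab), if_pos hab, hcen, Nat.card_congr Subgroup.topEquiv.toEquiv]
  · rw [if_neg (fun hc => hab (hconj.mp hc)), if_neg hab]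

/-- The key computation: summing the induced characters of the twists `η · (μ ∘ φ)` against
`conj μ (φ g)` isolates `η g`, when the coset of `g` is self-centralizing. -/
theorem sum_irr_conj_mul_indFun (hA : ∀ a b : A, a * b = b * a) [Fintype (IrrCharacter A)]
    (K : Subgroup H) [Fintype K] (φ : K →* A) {η : K → ℂ} (hη : IsClassFunction K η) (g : K)
    (hself : ∀ x : H, ∀ hx : x⁻¹ * (g : H) * x ∈ K, φ ⟨x⁻¹ * g * x, hx⟩ = φ g → x ∈ K) :
    ∑ μ : IrrCharacter A, conj ((μ : A → ℂ) (φ g)) *
        indFun K (fun k => η k * (μ : A → ℂ) (φ k)) g = (Nat.card A : ℂ) * η g := by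
  classical
  have hK0 : (Nat.card K : ℂ) ≠ 0 := by
    have : 0 < Nat.card K := Nat.card_pos
    exact_mod_cast this.ne'
  have hinner : ∀ x : H, ∑ μ : IrrCharacter A, conj ((μ : A → ℂ) (φ g)) *
      extendByZero K (fun k => η k * (μ : A → ℂ) (φ k)) (x⁻¹ * (g : H) * x) =
      if x ∈ K then (Nat.card A : ℂ) * η g else 0 := by
    intro x
    by_cases hxK : x⁻¹ * (g : H) * x ∈ K
    · have h1 : ∀ μ : IrrCharacter A, conj ((μ : A → ℂ) (φ g)) *
          extendByZero K (fun k => η k * (μ : A → ℂ) (φ k)) (x⁻¹ * (g : H) * x) =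
          η ⟨x⁻¹ * g * x, hxK⟩ *
            ((μ : A → ℂ) (φ ⟨x⁻¹ * g * x, hxK⟩) * conj ((μ : A → ℂ) (φ g))) := by
        intro μ
        rw [Helper15.extendByZero_of_mem K _ hxK]
        ring
      simp only [h1]
      rw [← Finset.mul_sum, sum_irr_mul_conj_of_comm hA]
      by_cases hx : x ∈ K
      · have h2 : φ ⟨x⁻¹ * g * x, hxK⟩ = φ g := by
          have : (⟨x⁻¹ * g * x, hxK⟩ : K) = (⟨x, hx⟩ : K)⁻¹ * g * ⟨x, hx⟩ := by
            apply Subtype.ext; simp
          rw [this, map_mul, map_mul, map_inv, hA _ (φ g), mul_assoc, inv_mul_cancel, mul_one]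
        have h3 : η ⟨x⁻¹ * g * x, hxK⟩ = η g := by
          have : (⟨x⁻¹ * g * x, hxK⟩ : K) = (⟨x, hx⟩ : K)⁻¹ * g * (⟨x, hx⟩ : K)⁻¹⁻¹ := by
            apply Subtype.ext; simp
          rw [this]
          exact hη g _
        rw [if_pos h2, if_pos hx, h3]
        ring
      · rw [if_neg hx, if_neg (fun h2 => hx (hself x hxK h2)), mul_zero]
    · have hx : x ∉ K := by
        intro hx
        apply hxK
        exact K.mul_mem (K.mul_mem (K.inv_mem hx) g.2) hx
      rw [if_neg hx]
      refine Finset.sum_eq_zero fun μ _ => ?_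
      rw [Helper15.extendByZero_of_not_mem K _ hxK, mul_zero]
  simp only [Helper15.indFun_apply]
  have h1 : ∀ μ : IrrCharacter A, conj ((μ : A → ℂ) (φ g)) * ((Nat.card K : ℂ)⁻¹ *
      ∑ x : H, extendByZero K (fun k => η k * (μ : A → ℂ) (φ k)) (x⁻¹ * (g : H) * x)) =
      (Nat.card K : ℂ)⁻¹ * ∑ x : H, conj ((μ : A → ℂ) (φ g)) *
        extendByZero K (fun k => η k * (μ : A → ℂ) (φ k)) (x⁻¹ * (g : H) * x) := by
    intro μ
    rw [Finset.mul_sum, Finset.mul_sum, Finset.mul_sum]
    refine Finset.sum_congr rfl fun x _ => ?_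
    ring
  simp only [h1]
  rw [← Finset.mul_sum, Finset.sum_comm]
  simp only [hinner]
  rw [sum_eq_sum_subgroup_of_vanish K _ (fun x hx => by rw [if_neg hx])]
  have h2 : ∀ k : K, (if (k : H) ∈ K then (Nat.card A : ℂ) * η g else 0) =
      (Nat.card A : ℂ) * η g := fun k => by rw [if_pos k.2]
  simp only [h2]
  rw [Finset.sum_const, Finset.card_univ, nsmul_eq_mul, ← Nat.card_eq_fintype_card]
  field_simp

end indsum

end Cfsg.Agent.Helper82
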