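import Mathlib
import Cfsg.Prelude.Def_Blocks
import Cfsg.Prelude.Def_Transfer
import Cfsg.Agent.Helper82.FrobRamified
import Cfsg.Agent.Helper82.RamifiedCyclic
import Cfsg.Agent.Helper82.UnitOffOne
import Cfsg.Agent.Helper76.CharCentral
import Cfsg.Agent.Helper81.CliffordInd

/-! Extraspecial-type groups: the faithful central character is fully ramified, and a cyclic
Frobenius action has order dividing `p ^ n ± 1` (helper82). -/

set_option autoImplicit false

namespace Cfsg.Agent.Helper82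

open Cfsg
open scoped ComplexConjugate
open scoped commutatorElement

universe u

/-- A group of prime order has a faithful irreducible character. -/
theorem exists_faithful_irr_of_card_prime {A : Type u} [Group A] [Fintype A] {p : ℕ}
    (hp : p.Prime) (hA : Nat.card A = p) (hcomm : ∀ a b : A, a * b = b * a) :
    ∃ θ : IrrCharacter A, ∀ a : A, (θ : A → ℂ) a = 1 → a = 1 := by
  classical
  let _ := Helper74.irrFintype A
  have h2 : 1 < Nat.card A := by rw [hA]; exact hp.one_lt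
  obtain ⟨a0, ha0⟩ : ∃ a0 : A, a0 ≠ 1 := by
    have : Nontrivial A := Finite.one_lt_card_iff_nontrivial.mp h2
    exact exists_ne 1
  have hsum := sum_irr_apply_of_ne_one hcomm ha0
  obtain ⟨θ, hθ⟩ : ∃ θ : IrrCharacter A, (θ : A → ℂ) a0 ≠ 1 := by
    by_contra hcon
    push Not at hcon
    rw [Finset.sum_congr rfl (fun lam _ => hcon lam)] at hsum
    rw [Finset.sum_const, Finset.card_univ, card_irr_of_comm hcomm, hA, nsmul_eq_mul,
      mul_one] at hsum
    have : p = 0 := by exact_mod_cast hsum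
    exact hp.ne_zero this
  have hmul := fun a b : A => Helper76.irr_mul_of_comm hcomm θ.2 a b
  have hone := Helper76.irr_one_of_comm hcomm θ.2
  let S : Subgroup A :=
    { carrier := {a | (θ : A → ℂ) a = 1}
      one_mem' := hone
      mul_mem' := by
        intro a b ha hb
        show (θ : A → ℂ) (a * b) = 1
        rw [hmul, ha, hb, mul_one]
      inv_mem' := by
        intro a ha
        show (θ : A → ℂ) a⁻¹ = 1
        have h1 := hmul a⁻¹ a
        rw [inv_mul_cancel, hone, (ha : (θ : A → ℂ) a = 1), mul_one] at h1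
        exact h1.symm }
  have hdvd : Nat.card S ∣ p := by
    rw [← hA]; exact Subgroup.card_subgroup_dvd_card S
  rcases (Nat.dvd_prime hp).mp hdvd with h1 | h1
  · refine ⟨θ, fun a ha => ?_⟩
    have hbot : S = ⊥ := Subgroup.card_eq_one.mp h1
    have : a ∈ S := ha
    rw [hbot, Subgroup.mem_bot] at this
    exact this
  · exfalso
    have htop : S = ⊤ := Subgroup.eq_top_of_card_eq S (by rw [h1, hA])
    have : a0 ∈ S := by rw [htop]; exact Subgroup.mem_top _
    exact hθ this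


/-- **Extraspecial-type groups**: if `H0` is a central subgroup of prime order `p` of a group `P0`
of order `p ^ (2 n + 1)` such that every element off `H0` has a nontrivial commutator in `H0`,
then a faithful irreducible character `θ` of `H0` is fully ramified in `P0`:
`θ ^ P0 = p ^ n • χ`. -/
theorem extraspecial_fully_ramified {P0 : Type u} [Group P0] [Fintype P0] (H0 : Subgroup P0)
    [Fintype H0] {p n : ℕ} (hp : p.Prime)
    (hcen : ∀ z ∈ H0, ∀ x : P0, x * z = z * x)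
    (hcardH : Nat.card H0 = p) (hcardP : Nat.card P0 = p ^ (2 * n + 1))
    (hnc : ∀ g : P0, g ∉ H0 → ∃ x : P0, x * g * x⁻¹ * g⁻¹ ∈ H0 ∧ x * g * x⁻¹ * g⁻¹ ≠ 1)
    {θ : H0 → ℂ} (hθ : IsIrrCharacter H0 θ) (hfaith : ∀ z : H0, θ z = 1 → z = 1) :
    ∃ χ : IrrCharacter P0, indFun H0 θ = fun g => ((p ^ n : ℕ) : ℂ) * (χ : P0 → ℂ) g := by
  classical
  haveI hH0n : H0.Normal := ⟨fun z hz x => by
    rw [hcen z hz x, mul_inv_cancel_right]; exact hz⟩
  have hcommH : ∀ a b : H0, a * b = b * a := fun a b => Subtype.ext (hcen b b.2 a)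
  have hθ1 : θ 1 = 1 := Helper76.irr_one_of_comm hcommH hθ
  have hθc := Helper74.isCharacter_of_isIrr hθ
  have hΨ := Helper15.isCharacter_indFun H0 hθc
  have hΨ1 : indFun H0 θ 1 ≠ 0 := by
    rw [Helper15.indFun_apply_one, hθ1, mul_one]
    have : H0.index ≠ 0 := Subgroup.index_ne_zero_of_finite
    exact_mod_cast this
  obtain ⟨χ, hχ⟩ := Helper81.exists_irr_constituent hΨ hΨ1
  have hχcf := Helper74.irr_isClassFunction χ
  have hχθ : classInner (fun z : H0 => (χ : P0 → ℂ) z) θ ≠ 0 := by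
    rw [Helper15.frobenius_reciprocity H0 θ _ hχcf] at hχ
    intro h0
    apply hχ
    rw [← Helper15.classInner_conj_symm, h0, map_zero]
  have hinv : ∀ g : P0, Helper15.conjFun H0 g θ = θ := by
    intro g; funext z
    rw [Helper15.conjFun_apply]
    refine congrArg θ (Subtype.ext ?_)
    show g * z * g⁻¹ = z
    rw [hcen z z.2 g, mul_inv_cancel_right]
  have hres := Helper15.restrict_eq_smul_of_invariant H0 χ.2 hθ hχθ hinv
  set c := classInner (fun z : H0 => (χ : P0 → ℂ) z) θ with hc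
  have hresz : ∀ z : H0, (χ : P0 → ℂ) z = c * θ z := fun z => congrFun hres z
  have hχ1 : (χ : P0 → ℂ) 1 = c := by
    have := hresz 1
    rw [hθ1, mul_one] at this
    exact this
  obtain ⟨d, hd0, hd⟩ := Helper76.irr_exists_degree χ.2
  have hcd : c = d := by rw [← hχ1, hd]
  have hdC : (d : ℂ) ≠ 0 := by exact_mod_cast hd0.ne'
  -- vanishing off `H0`
  have hvan : ∀ g : P0, g ∉ H0 → (χ : P0 → ℂ) g = 0 := by
    intro g hg
    obtain ⟨x, hxz, hx1⟩ := hnc g hg
    set z := x * g * x⁻¹ * g⁻¹ with hz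
    obtain ⟨cz, hcz⟩ := Helper76.irr_exists_central_scalar χ.2 z
      (by rw [Subgroup.mem_center_iff]; intro y; exact hcen z hxz y)
    have h1 := hcz 1
    rw [mul_one, hd] at h1
    have h2 := hresz ⟨z, hxz⟩
    rw [hcd] at h2
    have hczθ : cz = θ ⟨z, hxz⟩ := by
      have h3 : cz * (d : ℂ) = (d : ℂ) * θ ⟨z, hxz⟩ := h1.symm.trans h2
      rw [mul_comm] at h3
      exact mul_left_cancel₀ hdC h3
    have h3 : (χ : P0 → ℂ) (x * g * x⁻¹) = (χ : P0 → ℂ) g := hχcf g x
    have h4 : x * g * x⁻¹ = z * g := by rw [hz]; group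
    rw [h4, hcz g, hczθ] at h3
    have hne : θ ⟨z, hxz⟩ ≠ 1 := fun h => hx1 (congrArg Subtype.val (hfaith ⟨z, hxz⟩ h))
    have h5 : (θ ⟨z, hxz⟩ - 1) * (χ : P0 → ℂ) g = 0 := by rw [sub_mul, one_mul, h3, sub_self]
    rcases mul_eq_zero.mp h5 with h | h
    · exact absurd (sub_eq_zero.mp h) hne
    · exact h
  -- the norm computation
  have hnorm : (d : ℂ) ^ 2 * (Nat.card H0 : ℂ) = (Nat.card P0 : ℂ) := by
    have h1 := Helper74.irr_inner_self χ
    have h2 := Helper74.irr_inner_self (⟨θ, hθ⟩ : IrrCharacter H0)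
    rw [Helper74.classInner_def] at h1 h2
    have hP : (Nat.card P0 : ℂ) ≠ 0 := by
      have : Nat.card P0 ≠ 0 := Nat.card_pos.ne'
      exact_mod_cast this
    have hH : (Nat.card H0 : ℂ) ≠ 0 := by
      have : Nat.card H0 ≠ 0 := Nat.card_pos.ne'
      exact_mod_cast this
    have h1' : ∑ g : P0, (χ : P0 → ℂ) g * conj ((χ : P0 → ℂ) g) = (Nat.card P0 : ℂ) := by
      field_simp at h1
      exact h1
    have h2' : ∑ z : H0, θ z * conj (θ z) = (Nat.card H0 : ℂ) := by
      field_simp at h2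
      exact h2
    rw [sum_eq_sum_subgroup_of_vanish (Z := H0)
      (fun g => (χ : P0 → ℂ) g * conj ((χ : P0 → ℂ) g))
      (fun g hg => by simp only [hvan g hg, zero_mul])] at h1'
    rw [← h1', ← h2', Finset.mul_sum]
    refine Finset.sum_congr rfl fun z _ => ?_
    rw [hresz z, hcd, map_mul, Complex.conj_natCast]
    ring
  have hdn : d = p ^ n := by
    rw [hcardH, hcardP] at hnorm
    have h1 : d ^ 2 * p = p ^ (2 * n + 1) := by exact_mod_cast hnorm
    have h2 : d ^ 2 = (p ^ n) ^ 2 := by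
      have h3 : p ^ (2 * n + 1) = (p ^ n) ^ 2 * p := by ring
      rw [h3] at h1
      exact Nat.eq_of_mul_eq_mul_right hp.pos h1
    exact Nat.pow_left_injective (by norm_num : 2 ≠ 0) h2
  refine ⟨χ, ?_⟩
  funext g
  by_cases hg : g ∈ H0
  · have h1 := Helper15.indFun_normal_apply H0 θ ⟨g, hg⟩
    have h2 : ∑ y : P0, Helper15.conjFun H0 y θ ⟨g, hg⟩ = (Nat.card P0 : ℂ) * θ ⟨g, hg⟩ := by
      rw [Finset.sum_congr rfl (fun y _ => by rw [hinv y])]
      rw [Finset.sum_const, Finset.card_univ, nsmul_eq_mul, Nat.card_eq_fintype_card]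
    rw [h2] at h1
    have h3 : indFun H0 θ g = (Nat.card H0 : ℂ)⁻¹ * ((Nat.card P0 : ℂ) * θ ⟨g, hg⟩) := h1
    rw [h3, ← hnorm]
    have h4 := hresz ⟨g, hg⟩
    have h5 : (χ : P0 → ℂ) g = c * θ ⟨g, hg⟩ := h4
    rw [h5, hcd, ← hdn]
    have hH : (Nat.card H0 : ℂ) ≠ 0 := by
      have : Nat.card H0 ≠ 0 := Nat.card_pos.ne'
      exact_mod_cast this
    field_simp
  · rw [Helper15.indFun_normal_of_not_mem H0 θ hg, hvan g hg, mul_zero]


/-- **Cyclic Frobenius action on an extraspecial-type section**: `Z ≤ Q` normal in `K`, `Z`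
central of prime order `p`, `|Q| = p ^ (2 n + 1)`, every element of `Q` off `Z` has a nontrivial
commutator in `Z`, `K / Q` cyclic and no element of `K` off `Q` fixes a nontrivial coset of `Z` in
`Q`. Then `|K : Q|` divides `p ^ n - 1` or `p ^ n + 1`. -/
theorem extraspecial_frobenius_dvd {K : Type u} [Group K] [Fintype K] (Q Z : Subgroup K)
    [hQ : Q.Normal] [hZ : Z.Normal] [Fintype Q] [Fintype Z] {p n : ℕ} (hp : p.Prime)
    (hZQ : Z ≤ Q) (hQtop : Q ≠ ⊤) (hcyc : IsCyclic (K ⧸ Q))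
    (hZcen : ∀ z ∈ Z, ∀ x : K, x * z = z * x)
    (hZcard : Nat.card Z = p)
    (hnc : ∀ g ∈ Q, g ∉ Z → ∃ x ∈ Q, x * g * x⁻¹ * g⁻¹ ∈ Z ∧ x * g * x⁻¹ * g⁻¹ ≠ 1)
    (hcard : Nat.card Q = p ^ (2 * n + 1))
    (hfrob : ∀ x : K, x ∉ Q → ∀ g : K, g ∈ Q → x * g * x⁻¹ * g⁻¹ ∈ Z → g ∈ Z) :
    (Q.index : ℤ) ∣ ((p ^ n : ℕ) : ℤ) - 1 ∨ (Q.index : ℤ) ∣ ((p ^ n : ℕ) : ℤ) + 1 := by
  classical
  have hcommZ : ∀ a b : Z, a * b = b * a := fun a b => Subtype.ext (hZcen b b.2 a)
  obtain ⟨θ, hθf⟩ := exists_faithful_irr_of_card_prime hp hZcard hcommZ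
  set H0 : Subgroup Q := Z.subgroupOf Q with hH0
  set θ'' : H0 → ℂ := fun n : H0 => (θ : Z → ℂ) ⟨(n : Q), n.2⟩ with hθ''
  have hθ''irr : IsIrrCharacter H0 θ'' :=
    Helper80.IsIrrCharacter.comp_surjective θ.2 (Subgroup.subgroupOfEquivOfLe hZQ).toMonoidHom
      (Subgroup.subgroupOfEquivOfLe hZQ).surjective
  have hcardH0 : Nat.card H0 = p := by
    rw [← hZcard]
    exact Nat.card_congr (Subgroup.subgroupOfEquivOfLe hZQ).toEquiv
  have hcen : ∀ z ∈ H0, ∀ x : Q, x * z = z * x := by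
    intro z hz x
    exact Subtype.ext (hZcen (z : K) hz (x : K))
  have hnc' : ∀ g : Q, g ∉ H0 →
      ∃ x : Q, x * g * x⁻¹ * g⁻¹ ∈ H0 ∧ x * g * x⁻¹ * g⁻¹ ≠ 1 := by
    intro g hg
    obtain ⟨x, hxQ, hxz, hx1⟩ := hnc (g : K) g.2 hg
    refine ⟨⟨x, hxQ⟩, hxz, ?_⟩
    intro h1
    exact hx1 (congrArg Subtype.val h1)
  have hfaith' : ∀ z : H0, θ'' z = 1 → z = 1 := by
    intro z hz
    have h1 := hθf ⟨((z : Q) : K), z.2⟩ hz
    apply Subtype.ext
    apply Subtype.ext
    have h2 : (((z : Q) : K)) = ((1 : Z) : K) := congrArg Subtype.val h1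
    exact h2
  obtain ⟨χ, hχ⟩ := extraspecial_fully_ramified H0 hp hcen hcardH0 hcard hnc' hθ''irr hfaith'
  have hinv : ∀ (x : K) (n : Z),
      (θ : Z → ℂ) ⟨x * n * x⁻¹, hZ.conj_mem n n.2 x⟩ = (θ : Z → ℂ) n := by
    intro x n
    refine congrArg (θ : Z → ℂ) (Subtype.ext ?_)
    show x * n * x⁻¹ = n
    rw [hZcen n n.2 x, mul_inv_cancel_right]
  exact frobenius_fully_ramified Q Z hZQ hQtop hcyc hfrob θ hinv χ (p ^ n) hχ


section ambient

variable {G : Type*} [Group G]

/-- If `h` commutes with `z` and `h g h⁻¹ = z g` then `h ^ k g h ^ (-k) = z ^ k g`. -/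
theorem pow_conj_eq_pow_mul {h g z : G} (hz : h * z = z * h) (hg : h * g * h⁻¹ = z * g) (k : ℕ) :
    h ^ k * g * (h ^ k)⁻¹ = z ^ k * g := by
  induction k with
  | zero => simp
  | succ k ih =>
    have hzk : h * z ^ k = z ^ k * h := by
      have : Commute h z := hz
      exact (this.pow_right k).eq
    calc h ^ (k + 1) * g * (h ^ (k + 1))⁻¹ = h * (h ^ k * g * (h ^ k)⁻¹) * h⁻¹ := by
          rw [pow_succ']; group
      _ = h * (z ^ k * g) * h⁻¹ := by rw [ih]
      _ = (h * z ^ k) * g * h⁻¹ := by group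
      _ = z ^ k * (h * g * h⁻¹) := by rw [hzk]; group
      _ = z ^ k * (z * g) := by rw [hg]
      _ = z ^ (k + 1) * g := by rw [pow_succ]; group

end ambient

/-- **Cyclic `p'`-groups acting on extraspecial groups with `C_P(x) = Z(P)`**: the order of the
acting group divides `p ^ n + 1` or `p ^ n - 1`. -/
theorem cyclic_on_extraspecial_dvd {G : Type u} [Group G] [Finite G] {p : ℕ} [hpf : Fact p.Prime]
    (P H : Subgroup G) (hP : Cfsg.IsExtraspecial p ↥P) (n : ℕ)
    (hn : Nat.card P = p ^ (2 * n + 1)) (hH : IsCyclic H) (hcop : (Nat.card H).Coprime p)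
    (hHP : H ≤ Subgroup.normalizer (P : Set G))
    (hfix : ∀ x ∈ H, x ≠ 1 →
      P ⊓ Subgroup.centralizer {x} = (Subgroup.center ↥P).map P.subtype) :
    Nat.card H ∣ p ^ n + 1 ∨ Nat.card H ∣ p ^ n - 1 := by
  classical
  have hp : p.Prime := hpf.out
  by_cases hHbot : H = ⊥
  · left
    rw [hHbot, Subgroup.card_bot]
    exact one_dvd _
  set ZG : Subgroup G := (Subgroup.center ↥P).map P.subtype with hZG
  have hZGP : ZG ≤ P := Subgroup.map_subtype_le _
  have hZGcard : Nat.card ZG = p := by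
    rw [hZG, Subgroup.card_map_of_injective P.subtype_injective]
    exact hP.2
  -- elements of `ZG` commute with `P`
  have hZGcomm : ∀ z ∈ ZG, ∀ a ∈ P, a * z = z * a := by
    intro z hz a ha
    obtain ⟨c, hc, rfl⟩ := Subgroup.mem_map.mp hz
    have := Subgroup.mem_center_iff.mp hc ⟨a, ha⟩
    exact congrArg Subtype.val this
  -- elements of `ZG` commute with `H`
  have hZGcommH : ∀ z ∈ ZG, ∀ h ∈ H, h * z = z * h := by
    intro z hz h hh
    by_cases h1 : h = 1
    · rw [h1, one_mul, mul_one]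
    · have h2 : z ∈ P ⊓ Subgroup.centralizer {h} := by rw [hfix h hh h1]; exact hz
      have h3 := Subgroup.mem_centralizer_iff.mp h2.2 h (Set.mem_singleton h)
      exact h3
  have hZGcen : ∀ z ∈ ZG, ∀ x ∈ H ⊔ P, x * z = z * x := by
    intro z hz x hx
    have h1 : H ⊔ P ≤ Subgroup.centralizer {z} := by
      apply sup_le
      · intro h hh
        rw [Subgroup.mem_centralizer_iff]
        intro y hy
        rw [Set.mem_singleton_iff.mp hy]
        exact (hZGcommH z hz h hh).symm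
      · intro a ha
        rw [Subgroup.mem_centralizer_iff]
        intro y hy
        rw [Set.mem_singleton_iff.mp hy]
        exact (hZGcomm z hz a ha).symm
    have h2 := Subgroup.mem_centralizer_iff.mp (h1 hx) z (Set.mem_singleton z)
    exact h2.symm
  -- commutators of `P` lie in `ZG`
  have hcommP : ∀ a ∈ P, ∀ g ∈ P, a * g * a⁻¹ * g⁻¹ ∈ ZG := by
    intro a ha g hg
    have h1 : ⁅(⟨a, ha⟩ : ↥P), (⟨g, hg⟩ : ↥P)⁆ ∈ commutator ↥P := by
      rw [commutator_def]
      exact Subgroup.commutator_mem_commutator (Subgroup.mem_top _) (Subgroup.mem_top _)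
    rw [hP.1.2.2] at h1
    have h2 := Subgroup.mem_map_of_mem P.subtype h1
    rw [commutatorElement_def] at h2
    exact h2
  -- noncentral elements have a nontrivial commutator
  have hncP : ∀ g ∈ P, g ∉ ZG → ∃ x ∈ P, x * g * x⁻¹ * g⁻¹ ∈ ZG ∧ x * g * x⁻¹ * g⁻¹ ≠ 1 := by
    intro g hg hgZ
    have h1 : (⟨g, hg⟩ : P) ∉ Subgroup.center ↥P := by
      intro hc
      exact hgZ (Subgroup.mem_map_of_mem P.subtype hc)
    rw [Subgroup.mem_center_iff] at h1
    push Not at h1
    obtain ⟨x, hx⟩ := h1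
    refine ⟨x, x.2, hcommP x x.2 g hg, ?_⟩
    intro h2
    apply hx
    apply Subtype.ext
    show (x : G) * g = g * x
    have h3 : (x : G) * g * (x : G)⁻¹ * g⁻¹ * (g * x) = 1 * (g * x) := by rw [h2]
    rw [one_mul] at h3
    rw [← h3]; group
  -- the fixed-point-free condition for elements of `H`
  have hG1 : ∀ h ∈ H, h ≠ 1 → ∀ g ∈ P, h * g * h⁻¹ * g⁻¹ ∈ ZG → g ∈ ZG := by
    intro h hh h1 g hg hz
    set z := h * g * h⁻¹ * g⁻¹ with hzdef
    have hconj : h * g * h⁻¹ = z * g := by rw [hzdef]; group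
    have hk := pow_conj_eq_pow_mul (hZGcommH z hz h hh) hconj (orderOf h)
    rw [pow_orderOf_eq_one, one_mul, inv_one, mul_one] at hk
    have hzk : z ^ orderOf h = 1 := by
      have : z ^ orderOf h * g = 1 * g := by rw [one_mul]; exact hk.symm
      exact mul_right_cancel this
    have hzp : z ^ p = 1 := by
      have h2 : (⟨z, hz⟩ : ZG) ^ Nat.card ZG = 1 := pow_card_eq_one'
      rw [hZGcard] at h2
      exact congrArg Subtype.val h2
    have hoh : orderOf h ∣ Nat.card H := by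
      have h2 : orderOf (⟨h, hh⟩ : H) ∣ Nat.card H := orderOf_dvd_natCard _
      rwa [Subgroup.orderOf_mk] at h2
    have hcop2 : (orderOf h).Coprime p := Nat.Coprime.coprime_dvd_left hoh hcop
    have hz1 : z = 1 := by
      have h2 : orderOf z ∣ Nat.gcd (orderOf h) p :=
        Nat.dvd_gcd (orderOf_dvd_of_pow_eq_one hzk) (orderOf_dvd_of_pow_eq_one hzp)
      rw [hcop2] at h2
      exact orderOf_eq_one_iff.mp (Nat.dvd_one.mp h2)
    rw [hz1, one_mul] at hconj
    have h3 : g ∈ P ⊓ Subgroup.centralizer {h} := by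
      refine ⟨hg, ?_⟩
      show g ∈ Subgroup.centralizer {h}
      rw [Subgroup.mem_centralizer_iff]
      intro y hy
      rw [Set.mem_singleton_iff.mp hy]
      have : h * g * h⁻¹ * h = g * h := by rw [hconj]
      rw [← this]; group
    rw [hfix h hh h1] at h3
    exact h3
  -- coprimality
  have hcopHP : (Nat.card H).Coprime (Nat.card P) := by
    rw [hn]; exact Nat.Coprime.pow_right _ hcop
  have hinf : H ⊓ P = ⊥ := (Subgroup.disjoint_of_coprime_natCard hcopHP).eq_bot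
  -- the general fixed-point-free condition
  have hG2 : ∀ x ∈ H ⊔ P, x ∉ P → ∀ g ∈ P, x * g * x⁻¹ * g⁻¹ ∈ ZG → g ∈ ZG := by
    intro x hx hxP g hg hxz
    have h1 : x ∈ ((H ⊔ P : Subgroup G) : Set G) := hx
    rw [Subgroup.coe_mul_of_left_le_normalizer_right H P hHP] at h1
    obtain ⟨h, hh, a, ha, rfl⟩ := Set.mem_mul.mp h1
    have hh1 : h ≠ 1 := by
      intro h1'
      apply hxP
      rw [h1', one_mul]; exact ha
    set z1 := a * g * a⁻¹ * g⁻¹ with hz1
    have hz1Z : z1 ∈ ZG := hcommP a ha g hg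
    have h2 : h * a * g * (h * a)⁻¹ * g⁻¹ = z1 * (h * g * h⁻¹ * g⁻¹) := by
      have h3 : h * a * g * (h * a)⁻¹ * g⁻¹ = h * z1 * g * h⁻¹ * g⁻¹ := by rw [hz1]; group
      rw [h3, hZGcommH z1 hz1Z h hh]; group
    rw [h2] at hxz
    have h3 : h * g * h⁻¹ * g⁻¹ ∈ ZG := by
      have := ZG.mul_mem (ZG.inv_mem hz1Z) hxz
      rwa [inv_mul_cancel_left] at this
    exact hG1 h hh hh1 g hg h3
  -- the ambient group `K = H P`
  set Γ0 : Subgroup G := H ⊔ P with hΓ0
  letI : Fintype Γ0 := Fintype.ofFinite _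
  set Q : Subgroup Γ0 := P.subgroupOf Γ0 with hQ
  set Z : Subgroup Γ0 := ZG.subgroupOf Γ0 with hZ
  haveI hQn : Q.Normal := Subgroup.normal_subgroupOf_sup_of_le_normalizer hHP
  have hZcenK : ∀ z ∈ Z, ∀ x : Γ0, x * z = z * x := by
    intro z hz x
    exact Subtype.ext (hZGcen (z : G) hz (x : G) x.2)
  haveI hZn : Z.Normal := ⟨fun z hz x => by
    rw [hZcenK z hz x, mul_inv_cancel_right]; exact hz⟩
  letI : Fintype Q := Fintype.ofFinite _
  letI : Fintype Z := Fintype.ofFinite _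
  have hPΓ : P ≤ Γ0 := le_sup_right
  have hZΓ : ZG ≤ Γ0 := hZGP.trans hPΓ
  have hZQ : Z ≤ Q := fun z hz => hZGP hz
  have hQtop : Q ≠ ⊤ := by
    intro htop
    rw [hQ, Subgroup.subgroupOf_eq_top] at htop
    have hHP' : H ≤ P := le_sup_left.trans htop
    apply hHbot
    rw [← inf_eq_left.mpr hHP', hinf]
  have e1 := QuotientGroup.quotientInfEquivProdNormalizerQuotient H P hHP
  have hcyc : IsCyclic (Γ0 ⧸ Q) := by
    haveI := Subgroup.normal_subgroupOf_of_le_normalizer hHP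
    haveI : IsCyclic (H ⧸ P.subgroupOf H) :=
      isCyclic_of_surjective (QuotientGroup.mk' (P.subgroupOf H))
        (QuotientGroup.mk'_surjective _)
    exact isCyclic_of_surjective e1 e1.surjective
  have hZcard : Nat.card Z = p := by
    rw [← hZGcard]
    exact Nat.card_congr (Subgroup.subgroupOfEquivOfLe hZΓ).toEquiv
  have hQcard : Nat.card Q = p ^ (2 * n + 1) := by
    rw [← hn]
    exact Nat.card_congr (Subgroup.subgroupOfEquivOfLe hPΓ).toEquiv
  have hncK : ∀ g ∈ Q, g ∉ Z → ∃ x ∈ Q, x * g * x⁻¹ * g⁻¹ ∈ Z ∧ x * g * x⁻¹ * g⁻¹ ≠ 1 := by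
    intro g hg hgZ
    obtain ⟨x, hxP, hxz, hx1⟩ := hncP (g : G) hg hgZ
    refine ⟨⟨x, hPΓ hxP⟩, hxP, hxz, ?_⟩
    intro h1
    exact hx1 (congrArg Subtype.val h1)
  have hfrobK : ∀ x : Γ0, x ∉ Q → ∀ g : Γ0, g ∈ Q → x * g * x⁻¹ * g⁻¹ ∈ Z → g ∈ Z := by
    intro x hx g hg hxz
    exact hG2 (x : G) x.2 hx (g : G) hg hxz
  have key := extraspecial_frobenius_dvd Q Z hp hZQ hQtop hcyc hZcenK hZcard hncK hQcard hfrobK
  -- the index
  have hindex : Q.index = Nat.card H := by
    haveI := Subgroup.normal_subgroupOf_of_le_normalizer hHP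
    have h1 : Q.index = Nat.card (Γ0 ⧸ Q) := rfl
    rw [h1, ← Nat.card_congr e1.toEquiv]
    have h2 : Nat.card (H ⧸ P.subgroupOf H) = (P.subgroupOf H).index := rfl
    rw [h2]
    have h3 : P.subgroupOf H = ⊥ := by
      rw [Subgroup.subgroupOf_eq_bot, disjoint_iff, inf_comm]; exact hinf
    rw [h3, Subgroup.index_bot]
  rw [hindex] at key
  have hpn : 1 ≤ p ^ n := Nat.one_le_pow _ _ hp.pos
  rcases key with h | h
  · right
    have h1 : ((p ^ n : ℕ) : ℤ) - 1 = ((p ^ n - 1 : ℕ) : ℤ) := by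
      rw [Nat.cast_sub hpn]; simp
    rw [h1] at h
    exact Int.natCast_dvd_natCast.mp h
  · left
    have h1 : ((p ^ n : ℕ) : ℤ) + 1 = ((p ^ n + 1 : ℕ) : ℤ) := by simp
    rw [h1] at h
    exact Int.natCast_dvd_natCast.mp h

end Cfsg.Agent.Helper82
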