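import Cfsg.Agent.Helper57.BP.Lemmas

/-!
# S4504, piece (T4) of helper57's plan: the `p`-regular elements of `C_G(P)` are central
-/

set_option autoImplicit false

namespace Cfsg.Agent.Helper82.BP

open Cfsg Cfsg.Agent.Helper16 Cfsg.Agent.Helper16.DefOne Cfsg.Agent.Helper82.DefOne
  Cfsg.Agent.Helper77.DefOne Cfsg.Agent.Helper57.BH Cfsg.Agent.Helper57.BP
open scoped ComplexConjugate

universe u

variable {G : Type u} [Group G] [Fintype G] {p : ℕ} [Fact p.Prime] (P : Sylow p G)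

/-- (T4) the `p`-regular elements of `C_G(P)` are central in `G`, and `ψ` is `f θ` on them -/
theorem regular_mem_center (hP : Nat.card P = p)
    {θ : IrrCharacter (cen P)} {ψ ψ₂ : IrrCharacter G}
    {φ₀ φ₂ : IrrCharacter (cen P)} {Xθ Yθ : Set (IrrCharacter G)} {εθ : IrrCharacter G → ℤ}
    (hE : IsExcPair P θ ψ ψ₂ φ₀ φ₂ Xθ Yθ εθ) (hinv : ∀ n : nor P, n • θ = θ)
    (hfaith : ∀ g : G, (ψ : G → ℂ) g = (ψ : G → ℂ) 1 → g = 1)
    (c : cen P) (hc : ¬ p ∣ orderOf c) :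
    (c : G) ∈ Subgroup.center G ∧
      (ψ : G → ℂ) (c : G) = ((cen P).relIndex (nor P) : ℂ) * (θ : cen P → ℂ) c := by
  have : Finite (IrrCharacter (cen P)) := Helper79.irr_finite'
  have hval : (ψ : G → ℂ) (c : G) =
      ((cen P).relIndex (nor P) : ℂ) * (θ : cen P → ℂ) c := by
    rw [hE.hsum c]
    have h1 : ∀ φ ∈ MulAction.orbit (nor P) φ₀, (φ : cen P → ℂ) c = (θ : cen P → ℂ) c := by
      rintro φ ⟨n, rfl⟩
      rw [can_apply_regular P hP (n • φ₀) c hc, can_smul P hP, hE.h1, hinv]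
    rw [finsum_mem_congr rfl h1]
    have hfin : (MulAction.orbit (nor P) φ₀).Finite := Set.toFinite _
    rw [finsum_mem_eq_finite_toFinset_sum _ hfin, Finset.sum_const, nsmul_eq_mul]
    congr 1
    rw [← card_orbit_of_not_isCanon P hP φ₀ hE.h2, ← Set.ncard_eq_toFinset_card _ hfin]
    rw [Nat.card_coe_set_eq]
  refine ⟨?_, hval⟩
  apply mem_center_of_mem_charCenter ψ hfaith
  rw [Helper74.mem_charCenter_iff, hval, norm_mul, hE.hdeg]
  have hθ1 : (θ : cen P → ℂ) 1 = 1 := by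
    rw [Helper78.irrChar_one_eq_charDegree θ.2, hE.hdegθ]
    simp
  have hθc : IsCharacter (cen P) (θ : cen P → ℂ) := by
    obtain ⟨n, ρ, -, h⟩ := θ.2
    exact ⟨n, ρ, h⟩
  have h2 := Helper79.isCharacter_linear_mul_conj hθc hθ1 c
  have h3 : ‖(θ : cen P → ℂ) c‖ = 1 := by
    rw [Helper74.mul_conj_eq_norm_sq] at h2
    have h4 : ‖(θ : cen P → ℂ) c‖ ^ 2 = 1 := by exact_mod_cast h2
    have h5 : 0 ≤ ‖(θ : cen P → ℂ) c‖ := norm_nonneg _
    nlinarith
  rw [h3, mul_one]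
  simp

end Cfsg.Agent.Helper82.BP
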