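import Cfsg.Agent.Helper57.BP.Lemmas
import Cfsg.Agent.Helper70.DefOneXG
import Cfsg.Agent.Helper76.FaithfulCentral

/-!
# S4504, piece (U2) of helper57's plan: only the block of `θ` contributes at elements of order `p`
-/

set_option autoImplicit false
set_option linter.unusedVariables false

namespace Cfsg.Agent.Helper82.BP

open Cfsg Cfsg.Agent.Helper16 Cfsg.Agent.Helper16.DefOne Cfsg.Agent.Helper82.DefOne
  Cfsg.Agent.Helper77.DefOne Cfsg.Agent.Helper57.BH Cfsg.Agent.Helper57.BP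
open scoped ComplexConjugate

universe u

variable {G : Type u} [Group G] [Fintype G] {p : ℕ} [Fact p.Prime] (P : Sylow p G)

/-- a constituent of the restriction of `χ` to a subgroup has the same central character on the
centre of `G` -/
theorem central_of_constituent (H : Subgroup G) [Fintype H] (χ : IrrCharacter G)
    (φ : IrrCharacter H)
    (hne : classInner (fun c : H => (χ : G → ℂ) (c : G)) (φ : H → ℂ) ≠ 0)
    (ζ : H) (hζ : (ζ : G) ∈ Subgroup.center G) :
    (χ : G → ℂ) (ζ : G) * (φ : H → ℂ) 1 = (χ : G → ℂ) 1 * (φ : H → ℂ) ζ := by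
  have hζH : ζ ∈ Subgroup.center H := by
    rw [Subgroup.mem_center_iff]
    intro h
    apply Subtype.ext
    have := Subgroup.mem_center_iff.mp hζ (h : G)
    simpa using this
  obtain ⟨a, ha⟩ : ∃ a : ℂ, a = Helper76.centralLam (χ : G → ℂ) (ζ : G) := ⟨_, rfl⟩
  obtain ⟨b, hb⟩ : ∃ b : ℂ, b = Helper76.centralLam (φ : H → ℂ) ζ := ⟨_, rfl⟩
  have hS : ∑ c : H, (χ : G → ℂ) (c : G) * conj ((φ : H → ℂ) c) ≠ 0 := by
    intro h0
    apply hne
    rw [Helper74.classInner_def, h0, mul_zero]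
  have h1 : ∑ c : H, (χ : G → ℂ) (c : G) * conj ((φ : H → ℂ) c) =
      a * conj b * ∑ c : H, (χ : G → ℂ) (c : G) * conj ((φ : H → ℂ) c) := by
    rw [Finset.mul_sum]
    rw [← Equiv.sum_comp (Equiv.mulLeft ζ)
      (fun c : H => (χ : G → ℂ) (c : G) * conj ((φ : H → ℂ) c))]
    refine Finset.sum_congr rfl fun c _ => ?_
    simp only [Equiv.coe_mulLeft, Subgroup.coe_mul]
    rw [Helper76.centralLam_spec χ.2 hζ (c : G), Helper76.centralLam_spec φ.2 hζH c, map_mul,
      ← ha, ← hb]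
    ring
  have h2 : a * conj b = 1 := by
    have h3 : (a * conj b - 1) * ∑ c : H, (χ : G → ℂ) (c : G) * conj ((φ : H → ℂ) c) = 0 := by
      rw [sub_mul, one_mul, ← h1, sub_self]
    rcases mul_eq_zero.mp h3 with h | h
    · exact sub_eq_zero.mp h
    · exact absurd h hS
  have hbn : ‖b‖ = 1 := by
    rw [hb]
    exact Helper76.norm_monoidHom_eq_one
      (Helper76.centralLamHom φ.2 (Subgroup.center H) le_rfl) ⟨ζ, hζH⟩
  have hbb : b * conj b = 1 := by
    rw [Helper74.mul_conj_eq_norm_sq, hbn]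
    simp
  have hab : a = b := by
    calc a = a * (b * conj b) := by rw [hbb, mul_one]
      _ = (a * conj b) * b := by ring
      _ = b := by rw [h2, one_mul]
  have hχ1 : (χ : G → ℂ) 1 ≠ 0 := Helper76.irr_one_ne_zero χ.2
  have hφ1 : (φ : H → ℂ) 1 ≠ 0 := Helper76.irr_one_ne_zero φ.2
  rw [ha, hb] at hab
  unfold Helper76.centralLam at hab
  field_simp at hab
  linear_combination hab

/-- the central character of a member of `R_θ'` is that of `θ'` -/
theorem central_of_mem_Rset (hP : Nat.card P = p) (θ' : IrrCharacter (cen P))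
    (χ : IrrCharacter G) (hχ : χ ∈ Rset P θ') (ζ : cen P)
    (hζ : (ζ : G) ∈ Subgroup.center G) (hζreg : ¬ p ∣ orderOf ζ) :
    (χ : G → ℂ) (ζ : G) * (θ' : cen P → ℂ) 1 = (χ : G → ℂ) 1 * (θ' : cen P → ℂ) ζ := by
  let _ : Fintype (cen P) := Fintype.ofFinite _
  obtain ⟨φ, hφ, hrow⟩ := hχ
  have h1reg : ¬ p ∣ orderOf (1 : cen P) := by
    rw [orderOf_one]
    exact (Fact.out : p.Prime).not_dvd_one
  by_cases hm : mult P χ φ = 0
  · -- then `θ'` itself is a constituent
    have hm' : mult P χ (can P φ) ≠ 0 := by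
      intro h
      apply hrow
      unfold rowZ
      rw [hm, h, sub_zero]
    rw [hφ] at hm'
    have hne : classInner (fun c : cen P => (χ : G → ℂ) (c : G)) (θ' : cen P → ℂ) ≠ 0 := by
      rw [← mult_cast P χ θ']
      exact_mod_cast hm'
    exact central_of_constituent (cen P) χ θ' hne ζ hζ
  · have hne : classInner (fun c : cen P => (χ : G → ℂ) (c : G)) (φ : cen P → ℂ) ≠ 0 := by
      rw [← mult_cast P χ φ]
      exact_mod_cast hm
    have h := central_of_constituent (cen P) χ φ hne ζ hζ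
    rw [can_apply_regular P hP φ ζ hζreg, can_apply_regular P hP φ 1 h1reg, hφ] at h
    exact h

/-- (U2) only the characters of the block of `θ` contribute at elements of order `p` -/
theorem tsum_overChar_eq_Rset (hP : Nat.card P = p)
    [((P : Subgroup G).subgroupOf (nor P)).Normal] (hmod : ModCount p P)
    (hcent : ∀ c : cen P, ¬ p ∣ orderOf c → (c : G) ∈ Subgroup.center G)
    (hZreg : ∀ ζ : G, ζ ∈ Subgroup.center G → ¬ p ∣ orderOf ζ)
    (θ : IrrCharacter (cen P)) (hθ : IsCanon P θ) (hθ1 : charDegree (θ : cen P → ℂ) = 1)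
    (ψ : IrrCharacter G)
    (hψθ : ∀ c : cen P, ¬ p ∣ orderOf c →
      (ψ : G → ℂ) (c : G) = (ψ : G → ℂ) 1 * (θ : cen P → ℂ) c)
    (x v : G) (hx : x ∈ (P : Subgroup G)) (hx1 : x ≠ 1) (w : G) :
    Cfsg.Agent.Helper57.BP.tsum (overChar ψ) x v w =
      Cfsg.Agent.Helper57.BP.tsum (Rset P θ) x v w := by
  have hp : p.Prime := Fact.out
  have hθone : (θ : cen P → ℂ) 1 = 1 := by
    rw [Helper78.irrChar_one_eq_charDegree θ.2, hθ1]
    simp
  have hψ1 : (ψ : G → ℂ) 1 ≠ 0 := Helper76.irr_one_ne_zero ψ.2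
  -- the centre of `G` lies in `C_G(P)`
  have hZC : ∀ ζ : G, ζ ∈ Subgroup.center G → ζ ∈ cen P := by
    intro ζ hζ
    rw [Subgroup.mem_centralizer_iff]
    intro y _
    exact (Subgroup.mem_center_iff.mp hζ y)
  have hregC : ∀ (ζ : G) (hζ : ζ ∈ Subgroup.center G),
      ¬ p ∣ orderOf (⟨ζ, hZC ζ hζ⟩ : cen P) := by
    intro ζ hζ
    rw [← Subgroup.orderOf_coe]
    exact hZreg ζ hζ
  -- `C_G(P)` is abelian
  have hcomm : ∀ a b : cen P, a * b = b * a := by
    intro a b
    obtain ⟨u, y, hu, hy, huy, ⟨k, hk⟩, hyreg⟩ :=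
      Helper70.DefOneXG.exists_pPart_decomp (p := p) (a : G)
    have hzC : Subgroup.zpowers (a : G) ≤ cen P := by
      rw [Subgroup.zpowers_le]
      exact a.2
    have huP : u ∈ (P : Subgroup G) :=
      Helper70.DefOneXG.mem_sylow_of_pow P hk (Subgroup.centralizer_le_normalizer _ (hzC hu))
    have hyZ : y ∈ Subgroup.center G := by
      have := hcent ⟨y, hzC hy⟩ (by rw [← Subgroup.orderOf_coe]; exact hyreg)
      exact this
    have hub : u * (b : G) = (b : G) * u :=
      Subgroup.mem_centralizer_iff.mp b.2 u huP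
    have hyb : y * (b : G) = (b : G) * y := (Subgroup.mem_center_iff.mp hyZ (b : G)).symm
    apply Subtype.ext
    rw [Subgroup.coe_mul, Subgroup.coe_mul, ← huy]
    calc u * y * (b : G) = u * ((b : G) * y) := by rw [mul_assoc, hyb]
      _ = (b : G) * u * y := by rw [← mul_assoc, hub]
      _ = (b : G) * (u * y) := by rw [mul_assoc]
  -- the central character of `ψ`
  have hψZ : ∀ (ζ : G) (hζ : ζ ∈ Subgroup.center G),
      (ψ : G → ℂ) ζ = (ψ : G → ℂ) 1 * (θ : cen P → ℂ) ⟨ζ, hZC ζ hζ⟩ :=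
    fun ζ hζ => hψθ ⟨ζ, hZC ζ hζ⟩ (hregC ζ hζ)
  -- `R_θ ⊆ overChar ψ`
  have hsub : ∀ χ : IrrCharacter G, χ ∈ Rset P θ → χ ∈ overChar ψ := by
    intro χ hχ ζ hζ
    have h := central_of_mem_Rset P hP θ χ hχ ⟨ζ, hZC ζ hζ⟩ hζ (hregC ζ hζ)
    rw [hθone, mul_one] at h
    change (χ : G → ℂ) ζ = _ at h
    rw [h, hψZ ζ hζ]
    ring
  -- a character of `overChar ψ` not vanishing at `x` lies in `R_θ`
  have hmem : ∀ χ : IrrCharacter G, χ ∈ overChar ψ → (χ : G → ℂ) x ≠ 0 → χ ∈ Rset P θ := by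
    intro χ hχ hχx
    have hxC : x ∈ cen P := le_cen P hP hx
    have hxs : p ∣ orderOf (⟨x, hxC⟩ : cen P) := by
      rw [← Subgroup.orderOf_coe]
      rw [Helper70.DefOneXG.orderOf_eq_of_mem_sylow P hP hx hx1]
    have h1 := apply_singular_eq P hP χ ⟨x, hxC⟩ hxs
    have h2 : ∃ φ : IrrCharacter (cen P), rowZ P χ φ ≠ 0 := by
      by_contra hall
      push Not at hall
      apply hχx
      change (χ : G → ℂ) x = _ at h1
      rw [h1]
      apply finsum_eq_zero_of_forall_eq_zero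
      intro φ
      rw [hall φ]
      simp
    obtain ⟨φ, hφ⟩ := h2
    have hχR : χ ∈ Rset P (can P φ) := ⟨φ, rfl, hφ⟩
    have hcan : IsCanon P (can P φ) := isCanon_can P hP φ
    have hχ1 : (χ : G → ℂ) 1 ≠ 0 := Helper76.irr_one_ne_zero χ.2
    have hθ'1 : (can P φ : cen P → ℂ) 1 = 1 :=
      Helper76.irr_one_of_comm hcomm (can P φ).2
    have heq : can P φ = θ := by
      apply canon_ext P hP (can P φ) θ hcan hθ
      intro c hc
      have hcZ := hcent c hc
      have h3 := central_of_mem_Rset P hP (can P φ) χ hχR c hcZ hc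
      rw [hθ'1, mul_one] at h3
      have h4 := hχ (c : G) hcZ
      have h5 := hψθ c hc
      rw [h5, h3] at h4
      -- χ 1 * θ' c * ψ 1 = ψ 1 * θ c * χ 1
      have h6 : (χ : G → ℂ) 1 * (ψ : G → ℂ) 1 *
          ((can P φ : cen P → ℂ) c - (θ : cen P → ℂ) c) = 0 := by
        linear_combination h4
      rcases mul_eq_zero.mp h6 with h | h
      · exact absurd h (mul_ne_zero hχ1 hψ1)
      · exact sub_eq_zero.mp h
    rw [heq] at hχR
    exact hχR
  unfold Cfsg.Agent.Helper57.BP.tsum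
  apply finsum_mem_inter_support_eq
  ext χ
  simp only [Set.mem_inter_iff, Function.mem_support]
  constructor
  · rintro ⟨h1, h2⟩
    refine ⟨hmem χ h1 ?_, h2⟩
    intro h0
    apply h2
    rw [h0]
    simp
  · rintro ⟨h1, h2⟩
    exact ⟨hsub χ h1, h2⟩

end Cfsg.Agent.Helper82.BP
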