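import Cfsg.Agent.Helper57.BP.Lemmas

/-!
# S4504, piece (U3) of helper57's plan: the class-constant sum over the block of `θ`
-/

set_option autoImplicit false
set_option linter.unusedVariables false

namespace Cfsg.Agent.Helper82.BP

open Cfsg Cfsg.Agent.Helper16 Cfsg.Agent.Helper16.DefOne Cfsg.Agent.Helper82.DefOne
  Cfsg.Agent.Helper77.DefOne Cfsg.Agent.Helper57.BH Cfsg.Agent.Helper57.BP
open scoped ComplexConjugate

universe u

variable {G : Type u} [Group G] [Fintype G] {p : ℕ} [Fact p.Prime] (P : Sylow p G)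

/-- (U3) the sum over the block of `θ` -/
theorem tsum_Rset_theta_sub (hP : Nat.card P = p)
    [((P : Subgroup G).subgroupOf (nor P)).Normal] (hmod : ModCount p P)
    {θ : IrrCharacter (cen P)} {ψ ψ₂ : IrrCharacter G}
    {φ₀ φ₂ : IrrCharacter (cen P)} {Xθ Yθ : Set (IrrCharacter G)} {εθ : IrrCharacter G → ℤ}
    (hE : IsExcPair P θ ψ ψ₂ φ₀ φ₂ Xθ Yθ εθ) (hinv : ∀ n : nor P, n • θ = θ)
    (hY : Yθ = {ψ, ψ₂})
    (x v : G) (hx : x ∈ (P : Subgroup G)) (hx1 : x ≠ 1) (hv : v ∈ (P : Subgroup G))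
    (hv1 : v ≠ 1) (z : G) (hz : ¬ p ∣ orderOf z) :
    Cfsg.Agent.Helper57.BP.tsum (Rset P θ) x x z - Cfsg.Agent.Helper57.BP.tsum (Rset P θ) x v z =
      ((ψ : G → ℂ) x * (ψ : G → ℂ) x + (ψ₂ : G → ℂ) x * (ψ₂ : G → ℂ) x -
        (ψ : G → ℂ) x * (ψ : G → ℂ) v - (ψ₂ : G → ℂ) x * (ψ₂ : G → ℂ) v) *
        conj ((ψ : G → ℂ) z) / ((cen P).relIndex (nor P) : ℂ) := by
  classical
  have : Finite (IrrCharacter G) := Helper79.irr_finite'
  have hD := hE.Dθ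
  -- the non-exceptional characters take the same value at `x` and `v`
  have hX : ∀ χ ∈ Xθ, (χ : G → ℂ) x = (χ : G → ℂ) v := by
    intro χ hχ
    have h1 := hD.valX χ hχ ⟨x, le_cen P hP hx⟩ (dvd_orderOf_of_mem P hP x hx hx1)
    have h2 := hD.valX χ hχ ⟨v, le_cen P hP hv⟩ (dvd_orderOf_of_mem P hP v hv hv1)
    rw [finsum_orbit_apply_of_mem P hP θ hE.hθ _ hx] at h1
    rw [finsum_orbit_apply_of_mem P hP θ hE.hθ _ hv] at h2
    exact h1.trans h2.symm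
  unfold Cfsg.Agent.Helper57.BP.tsum
  rw [hD.union, finsum_mem_union hD.disj (Set.toFinite _) (Set.toFinite _),
    finsum_mem_union hD.disj (Set.toFinite _) (Set.toFinite _)]
  have hXeq : ∑ᶠ χ ∈ Xθ, (χ : G → ℂ) x * (χ : G → ℂ) x * conj ((χ : G → ℂ) z) / (χ : G → ℂ) 1 =
      ∑ᶠ χ ∈ Xθ, (χ : G → ℂ) x * (χ : G → ℂ) v * conj ((χ : G → ℂ) z) / (χ : G → ℂ) 1 :=
    finsum_mem_congr rfl (fun χ hχ => by rw [← hX χ hχ])
  rw [hXeq, add_sub_add_left_eq_sub, hY, finsum_mem_pair hE.hne, finsum_mem_pair hE.hne,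
    hE.hreg z hz, irr_one_eq_natCast ψ, irr_one_eq_natCast ψ₂, hE.hdeg, hE.hdeg₂]
  ring

end Cfsg.Agent.Helper82.BP
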