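import Mathlib
import Cfsg.Prelude.Def_Transfer
import Cfsg.Agent.Helper44.CliffDefs
import Cfsg.Agent.Helper89.HeisTwoES
import Cfsg.Agent.Helper53.Heis

/-!
# S3084 (helper44's plan), piece (Q1): `Q0 n` is extraspecial of order `2^(2n+1)`

Also: the isomorphism `heisEquiv : HeisTwo (betForm n) ≃* Q0 n`, `(c, u) ↦ sg c • T u`, the
uniqueness of the expression `± T u` and the nondegeneracy of `bil`.
-/

set_option autoImplicit false
open scoped MatrixGroups

namespace Cfsg.Agent.Helper82.Cliff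

open Matrix Cfsg.Agent.Helper44.Cliff

variable {n : ℕ}

/-- `bet` as a bilinear form -/
def betForm (n : ℕ) : LinearMap.BilinForm (ZMod 2) (U0 n) :=
  LinearMap.mk₂ (ZMod 2) (fun u v : U0 n => bet u v)
    (fun u u' v => bet_add_left u u' v)
    (fun c u v => by
      unfold bet
      rw [Prod.smul_snd, dotProduct_smul])
    (fun u v v' => bet_add_right u v v')
    (fun c u v => by
      unfold bet
      rw [Prod.smul_fst, smul_dotProduct])

@[simp] theorem betForm_apply (u v : U0 n) : betForm n u v = bet u v := rfl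

theorem polar_betForm (u v : U0 n) :
    Cfsg.Agent.Helper89.HeisTwo.polar (betForm n) u v = bil u v := by
  rw [Cfsg.Agent.Helper89.HeisTwo.polar_apply, betForm_apply, betForm_apply, bet_add_bet]

/-- uniqueness of the expression `± T u` -/
theorem Q1_T_unique (ε δ : ZMod 2) (u v : U0 n) (h : sg ε • T u = sg δ • T v) :
    u = v ∧ ε = δ := by
  have hent : ∀ x y : X n, sg ε * T u x y = sg δ * T v x y := by
    intro x y
    have := congrFun (congrFun h x) y
    simpa [Matrix.smul_apply] using this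
  -- second coordinates
  have h2 : u.2 = v.2 := by
    have h0 := hent 0 (0 + u.2)
    rw [T_apply, if_pos rfl, T_apply] at h0
    by_contra hne
    rw [if_neg (by
      intro h'
      apply hne
      exact add_left_cancel h'), mul_zero] at h0
    exact mul_ne_zero (sg_ne_zero _) (sg_ne_zero _) h0
  have hεδ : ε = δ := by
    have h0 := hent 0 (0 + u.2)
    rw [T_apply, if_pos rfl, T_apply, if_pos (by rw [h2]), dotProduct_zero, dotProduct_zero,
      sg_zero, mul_one, mul_one] at h0
    exact sg_injective h0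
  have h1 : u.1 = v.1 := by
    funext i
    have h0 := hent (Pi.single i 1) (Pi.single i 1 + u.2)
    rw [T_apply, if_pos rfl, T_apply, if_pos (by rw [h2]), hεδ] at h0
    have h3 := mul_left_cancel₀ (sg_ne_zero δ) h0
    have h4 := sg_injective h3
    rw [dotProduct_single, dotProduct_single, mul_one, mul_one] at h4
    exact h4
  exact ⟨Prod.ext h1 h2, hεδ⟩

/-- nondegeneracy of `bil` -/
theorem Q1_bil_nondeg (u : U0 n) (hu : u ≠ 0) : ∃ v : U0 n, bil u v ≠ 0 := by
  have hz : ∀ t : ZMod 2, t ≠ 0 → t = 1 := by decide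
  by_cases h1 : u.1 = 0
  · have h2 : u.2 ≠ 0 := by
      intro h2
      apply hu
      exact Prod.ext h1 h2
    obtain ⟨i, hi⟩ := Function.ne_iff.mp h2
    refine ⟨(Pi.single i 1, 0), ?_⟩
    unfold bil
    simp only [dotProduct_zero, zero_add, single_dotProduct, one_mul]
    exact hi
  · obtain ⟨i, hi⟩ := Function.ne_iff.mp h1
    refine ⟨(0, Pi.single i 1), ?_⟩
    unfold bil
    simp only [zero_dotProduct, add_zero, dotProduct_single, mul_one]
    exact hi

/-- the unit `± T u` -/
def pauli (c : ZMod 2) (u : U0 n) : GL (X n) (ZMod 3) :=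
  ⟨sg c • T u, sg c • (sg (q0 u) • T u),
    by rw [Matrix.smul_mul, Matrix.mul_smul, T_mul_inv, smul_smul, sg_mul_self, one_smul],
    by rw [Matrix.smul_mul, Matrix.mul_smul, T_inv_mul, smul_smul, sg_mul_self, one_smul]⟩

@[simp] theorem pauli_val (c : ZMod 2) (u : U0 n) :
    ((pauli c u : GL (X n) (ZMod 3)) : Matrix (X n) (X n) (ZMod 3)) = sg c • T u := rfl

theorem pauli_mem (c : ZMod 2) (u : U0 n) : pauli c u ∈ Q0 n := ⟨c, u, rfl⟩

/-- the homomorphism `(c, u) ↦ sg c • T u` -/
def heisHom (n : ℕ) : Cfsg.Agent.Helper89.HeisTwo (betForm n) →* ↥(Q0 n) where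
  toFun a := ⟨pauli a.c a.w, pauli_mem a.c a.w⟩
  map_one' := by
    apply Subtype.ext
    apply Units.ext
    change sg (0 : ZMod 2) • T (0 : U0 n) = 1
    rw [sg_zero, one_smul, T_zero]
  map_mul' a b := by
    apply Subtype.ext
    apply Units.ext
    change sg (a.c + b.c + bet a.w b.w) • T (a.w + b.w) = (sg a.c • T a.w) * (sg b.c • T b.w)
    rw [Matrix.smul_mul, Matrix.mul_smul, T_mul, smul_smul, smul_smul, sg_add, sg_add]

theorem heisHom_val (a : Cfsg.Agent.Helper89.HeisTwo (betForm n)) :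
    (((heisHom n a : ↥(Q0 n)) : GL (X n) (ZMod 3)) : Matrix (X n) (X n) (ZMod 3)) =
      sg a.c • T a.w := rfl

theorem heisHom_bijective (n : ℕ) : Function.Bijective (heisHom n) := by
  constructor
  · intro a b hab
    have h : sg a.c • T a.w = sg b.c • T b.w := by
      rw [← heisHom_val, ← heisHom_val, hab]
    obtain ⟨h1, h2⟩ := Q1_T_unique _ _ _ _ h
    exact Cfsg.Agent.Helper89.HeisTwo.ext h2 h1
  · rintro ⟨g, ε, u, hg⟩
    refine ⟨⟨ε, u⟩, ?_⟩
    apply Subtype.ext
    apply Units.ext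
    rw [heisHom_val]
    exact hg.symm

/-- the isomorphism of the Heisenberg group of `bet` with `Q0 n` -/
noncomputable def heisEquiv (n : ℕ) : Cfsg.Agent.Helper89.HeisTwo (betForm n) ≃* ↥(Q0 n) :=
  MulEquiv.ofBijective (heisHom n) (heisHom_bijective n)

theorem heisEquiv_val (a : Cfsg.Agent.Helper89.HeisTwo (betForm n)) :
    (((heisEquiv n a : ↥(Q0 n)) : GL (X n) (ZMod 3)) : Matrix (X n) (X n) (ZMod 3)) =
      sg a.c • T a.w := rfl

theorem polar_nondeg (n : ℕ) : ∀ w : U0 n, w ≠ 0 →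
    ∃ w', Cfsg.Agent.Helper89.HeisTwo.polar (betForm n) w w' ≠ 0 := by
  intro w hw
  obtain ⟨v, hv⟩ := Q1_bil_nondeg w hw
  exact ⟨v, by rw [polar_betForm]; exact hv⟩

/-- (Q1) `Q0 n` is extraspecial of order `2^(2n+1)` -/
theorem Q0_extraspecial (hn : 1 ≤ n) :
    Cfsg.IsExtraspecial 2 ↥(Q0 n) ∧ Nat.card ↥(Q0 n) = 2 ^ (2 * n + 1) := by
  constructor
  · apply Cfsg.Agent.Helper53.isExtraspecial_of_mulEquiv (heisEquiv n)
    apply Cfsg.Agent.Helper89.HeisTwo.isExtraspecial (polar_nondeg n)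
    let i : Fin n := ⟨0, hn⟩
    refine ⟨(Pi.single i 1, Pi.single i 1), ?_⟩
    rw [betForm_apply]
    unfold bet
    simp only [single_dotProduct, one_mul, Pi.single_eq_same]
    decide
  · rw [← Nat.card_congr (heisEquiv n).toEquiv, Cfsg.Agent.Helper89.HeisTwo.card_eq]
    have h1 : Nat.card (U0 n) = 2 ^ n * 2 ^ n := by
      rw [Nat.card_prod]
      have : Nat.card (X n) = 2 ^ n := by
        rw [Nat.card_eq_fintype_card, Fintype.card_fun, ZMod.card, Fintype.card_fin]
      rw [this]
    rw [h1]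
    ring

end Cfsg.Agent.Helper82.Cliff
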