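import Cfsg.Agent.Helper82.CliffQ1

/-!
# S3084 (helper44's plan), piece (Q2): the quotient map `χ0 : Q0 n → U0 n`
-/

set_option autoImplicit false
open scoped MatrixGroups

namespace Cfsg.Agent.Helper82.Cliff

open Matrix Cfsg.Agent.Helper44.Cliff

variable {n : ℕ}

/-- the projection of the Heisenberg group onto its vector part -/
def heisProj (n : ℕ) : Cfsg.Agent.Helper89.HeisTwo (betForm n) →* Multiplicative (U0 n) where
  toFun a := Multiplicative.ofAdd a.w
  map_one' := rfl
  map_mul' _ _ := rfl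

/-- (Q2) the quotient map `χ0 : Q0 n → U0 n` -/
theorem exists_chi0 (n : ℕ) :
    ∃ χ : ↥(Q0 n) →* Multiplicative (U0 n),
      (∀ (a : ↥(Q0 n)) (ε : ZMod 2) (u : U0 n),
        ((a : GL (X n) (ZMod 3)) : Matrix (X n) (X n) (ZMod 3)) = sg ε • T u →
        χ a = Multiplicative.ofAdd u) ∧
      Function.Surjective χ ∧ χ.ker = Subgroup.center ↥(Q0 n) ∧
      ∀ a : ↥(Q0 n), a * a = 1 ↔ q0 (Multiplicative.toAdd (χ a)) = 0 := by
  refine ⟨(heisProj n).comp (heisEquiv n).symm.toMonoidHom, ?_, ?_, ?_, ?_⟩
  · intro a ε u ha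
    have h1 : heisEquiv n ⟨ε, u⟩ = a := by
      apply Subtype.ext
      apply Units.ext
      rw [heisEquiv_val]
      exact ha.symm
    have h2 : (heisEquiv n).symm a = ⟨ε, u⟩ := by
      rw [← h1, MulEquiv.symm_apply_apply]
    change Multiplicative.ofAdd ((heisEquiv n).symm a).w = _
    rw [h2]
  · intro y
    refine ⟨heisEquiv n ⟨0, Multiplicative.toAdd y⟩, ?_⟩
    change Multiplicative.ofAdd ((heisEquiv n).symm (heisEquiv n ⟨0, Multiplicative.toAdd y⟩)).w = _
    rw [MulEquiv.symm_apply_apply]
    rfl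
  · ext a
    rw [MonoidHom.mem_ker]
    change Multiplicative.ofAdd ((heisEquiv n).symm a).w = 1 ↔ _
    have hcen := Cfsg.Agent.Helper89.HeisTwo.center_eq (β := betForm n) (polar_nondeg n)
    have h1 : a ∈ Subgroup.center ↥(Q0 n) ↔
        (heisEquiv n).symm a ∈ Subgroup.center (Cfsg.Agent.Helper89.HeisTwo (betForm n)) := by
      constructor
      · intro h
        exact Cfsg.Agent.Helper53.mem_center_of_mulEquiv (heisEquiv n).symm h
      · intro h
        have := Cfsg.Agent.Helper53.mem_center_of_mulEquiv (heisEquiv n) h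
        rwa [MulEquiv.apply_symm_apply] at this
    rw [h1, hcen, Cfsg.Agent.Helper89.HeisTwo.mem_Zsub]
    constructor
    · intro h
      exact Multiplicative.ofAdd.injective h
    · intro h
      rw [h]
      rfl
  · intro a
    change a * a = 1 ↔ q0 ((heisEquiv n).symm a).w = 0
    have h1 : a * a = 1 ↔ ((heisEquiv n).symm a) ^ 2 = 1 := by
      rw [pow_two, ← map_mul]
      constructor
      · intro h
        rw [h, map_one]
      · intro h
        have := congrArg (heisEquiv n) h
        rwa [MulEquiv.apply_symm_apply, map_one] at this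
    rw [h1, Cfsg.Agent.Helper89.HeisTwo.sq_eq_one_iff, betForm_apply, bet_self]

end Cfsg.Agent.Helper82.Cliff
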