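import Mathlib
import Cfsg.Agent.Helper99.P4Defs

/-!
# S6000, piece (U5) of helper99's plan: nondegeneracy of the commutator pairing `bil` on `V4`
-/

set_option autoImplicit false

namespace Cfsg.Agent.Helper82.P4

open Matrix Cfsg.Agent.Helper99.P4

/-- every vector of `V4` is a combination of the four unit vectors -/
theorem v4_decomp (v : V4) :
    v = (v.1, 0, 0, 0) + ((0, v.2.1, 0, 0) + ((0, 0, v.2.2.1, 0) + (0, 0, 0, v.2.2.2))) := by
  obtain ⟨a, b, c, d⟩ := v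
  simp

theorem chi_scalar (chi : V4 → ZMod 2) (hadd : ∀ u v, chi (u + v) = chi u + chi v)
    (e : V4) (a : ZMod 2) (f : ZMod 2 → V4) (hf0 : f 0 = 0) (hf1 : f 1 = e) :
    chi (f a) = a * chi e := by
  have h0 : chi 0 = 0 := by
    have := hadd 0 0
    rw [add_zero] at this
    have h2 : chi 0 + chi 0 = chi 0 := this.symm
    have : chi 0 + chi 0 - chi 0 = chi 0 - chi 0 := by rw [h2]
    simpa using this
  rcases zmod2_cases a with rfl | rfl
  · rw [hf0, h0, zero_mul]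
  · rw [hf1, one_mul]

/-- (U5) nondegeneracy of `bil` -/
theorem exists_bil (chi : V4 → ZMod 2) (hadd : ∀ u v, chi (u + v) = chi u + chi v) :
    ∃ u : V4, ∀ v, chi v = bil u v := by
  refine ⟨(chi (0, 1, 0, 0), chi (1, 0, 0, 0), chi (0, 0, 0, 1), chi (0, 0, 1, 0)), ?_⟩
  intro v
  have h1 := chi_scalar chi hadd (1, 0, 0, 0) v.1 (fun a => (a, 0, 0, 0)) rfl rfl
  have h2 := chi_scalar chi hadd (0, 1, 0, 0) v.2.1 (fun a => (0, a, 0, 0)) rfl rfl
  have h3 := chi_scalar chi hadd (0, 0, 1, 0) v.2.2.1 (fun a => (0, 0, a, 0)) rfl rfl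
  have h4 := chi_scalar chi hadd (0, 0, 0, 1) v.2.2.2 (fun a => (0, 0, 0, a)) rfl rfl
  conv_lhs => rw [v4_decomp v]
  rw [hadd, hadd, hadd, h1, h2, h3, h4]
  simp only [bil]
  ring

end Cfsg.Agent.Helper82.P4
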