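import Mathlib
import Cfsg.Prelude.Def_Blocks
import Cfsg.Agent.Helper15.Clifford
import Cfsg.Agent.Helper80.Pullback
import Cfsg.Agent.Helper81.RootCount
import Cfsg.Agent.Helper81.GlaubReal

/-!
# Real characters and normal subgroups of odd index

For `N ⊴ G` of odd index:
* `mem_of_sq_mem_of_odd_index`: `u * u ∈ N → u ∈ N`;
* `sum_fsInd_mul_inner_restrict`: `∑ χ ∈ Irr G, ν(χ) ⟨χ_N, φ⟩ = ν(φ)`;
* `eq_one_of_real_of_kernel`: a real irreducible character of `G` with `N` in its kernel is trivial;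
* `parity_inner_restrict`: for a real-valued character `ψ` of `G`, `⟨ψ, 1⟩ ≡ ⟨ψ_N, 1⟩ mod 2`;
* `real_over_unique`: two real irreducible characters of `G` over the same `φ ∈ Irr N` are equal;
* `existsUnique_fsInd_one_over`: a `φ ∈ Irr N` with `ν(φ) = 1` lies under exactly one `χ ∈ Irr G`
  with `ν(χ) = 1`.
-/

set_option autoImplicit false
set_option linter.unusedSectionVars false

namespace Cfsg.Agent.Helper82

open Cfsg
open scoped ComplexConjugate

universe u

section

variable {G : Type u} [Group G]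

theorem mem_of_sq_mem_of_odd_index (N : Subgroup G) [N.Normal] (hodd : Odd N.index) {u : G}
    (h : u * u ∈ N) : u ∈ N := by
  obtain ⟨j, hj⟩ := hodd
  have h3 : u ^ N.index ∈ N := Subgroup.pow_index_mem N u
  have h6 : u ^ N.index = (u * u) ^ j * u := by
    rw [hj, pow_succ, pow_mul, pow_two]
  rw [h6] at h3
  exact (N.mul_mem_cancel_left (N.pow_mem h j)).mp h3

theorem card_sqrt_subgroup (N : Subgroup G) [N.Normal] (hodd : Odd N.index) (n : N) :
    Nat.card {u : G // u * u = (n : G)} = Nat.card {u : N // u * u = n} := by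
  refine Nat.card_congr ⟨fun p => ⟨⟨p.1, ?_⟩, ?_⟩, fun p => ⟨(p.1 : G), ?_⟩, ?_, ?_⟩
  · exact mem_of_sq_mem_of_odd_index N hodd (by rw [p.2]; exact n.2)
  · apply Subtype.ext
    exact p.2
  · have := congrArg Subtype.val p.2
    simpa using this
  · intro p; rfl
  · intro p; rfl

end

section

variable {G : Type u} [Group G] [Fintype G] (N : Subgroup G) [hN : N.Normal] [Fintype N]

/-- `∑ χ ∈ Irr G, ν(χ) ⟨χ_N, φ⟩ = ν(φ)` for `N ⊴ G` of odd index. -/
theorem sum_fsInd_mul_inner_restrict (hodd : Odd N.index) [Fintype (IrrCharacter G)]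
    (φ : IrrCharacter N) :
    ∑ χ : IrrCharacter G, Helper81.fsInd (χ : G → ℂ) *
      classInner (fun n : N => (χ : G → ℂ) n) (φ : N → ℂ) = Helper81.fsInd (φ : N → ℂ) := by
  classical
  let _ := Helper74.irrFintype N
  have hfun : (∑ χ : IrrCharacter G, Helper81.fsInd (χ : G → ℂ) • (fun n : N => (χ : G → ℂ) n)) =
      ∑ θ : IrrCharacter N, Helper81.fsInd (θ : N → ℂ) • (θ : N → ℂ) := by
    funext n
    simp only [Finset.sum_apply, Pi.smul_apply, smul_eq_mul]
    rw [← Helper81.card_sqrt (n : G), ← Helper81.card_sqrt n, card_sqrt_subgroup N hodd n]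
  have h1 := congrArg (fun f => classInner f (φ : N → ℂ)) hfun
  beta_reduce at h1
  rw [Helper74.classInner_sum_left, Helper74.classInner_sum_left] at h1
  simp only [Helper74.classInner_smul_left] at h1
  rw [h1]
  rw [Finset.sum_eq_single φ]
  · rw [Helper74.irr_inner_self, mul_one]
  · intro θ _ hne
    rw [Helper74.irr_inner_ne hne, mul_zero]
  · intro h; exact absurd (Finset.mem_univ _) h

/-- If the principal character of `N ⊴ G` is a constituent of `β_N`, `β ∈ Irr G`, then `N` is in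
the kernel of `β`. -/
theorem const_of_inner_restrict_one_ne_zero {β : G → ℂ} (hβ : IsIrrCharacter G β)
    (h : classInner (fun n : N => β n) (fun _ => (1 : ℂ)) ≠ 0) (n : N) : β n = β 1 := by
  classical
  have h1 := Helper15.clifford_restrict N hβ (Helper81.isIrrCharacter_one (G := N)) h
  have horb : Helper15.conjOrbit N (fun _ : N => (1 : ℂ)) = {fun _ : N => (1 : ℂ)} := by
    ext f
    rw [Helper15.mem_conjOrbit, Finset.mem_singleton]
    constructor
    · rintro ⟨g, rfl⟩
      funext x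
      rw [Helper15.conjFun_apply]
    · rintro rfl
      exact ⟨1, (Helper15.conjFun_one N _).symm⟩
  rw [horb, Finset.sum_singleton] at h1
  have h2 := congrFun h1 n
  have h3 := congrFun h1 1
  simp only [Pi.smul_apply, smul_eq_mul, mul_one] at h2 h3
  rw [h2]
  exact h3.symm

end

section

variable {Q : Type u} [Group Q] [Finite Q]

/-- In a group of odd order only the identity is conjugate to its inverse. -/
theorem eq_one_of_isConj_inv_of_odd (hodd : Odd (Nat.card Q)) {x : Q} (h : IsConj x x⁻¹) :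
    x = 1 := by
  obtain ⟨y, hy⟩ := isConj_iff.mp h
  -- `y * y` centralizes `x`
  have h2 : (y * y) * x * (y * y)⁻¹ = x := by
    have : (y * y) * x * (y * y)⁻¹ = y * (y * x * y⁻¹) * y⁻¹ := by group
    rw [this, hy]
    have : y * x⁻¹ * y⁻¹ = (y * x * y⁻¹)⁻¹ := by group
    rw [this, hy, inv_inv]
  obtain ⟨j, hj⟩ := hodd
  have h3 : y ^ (2 * j + 1) = 1 := by rw [← hj]; exact pow_card_eq_one'
  have hcomm : ∀ k : ℕ, (y * y) ^ k * x * ((y * y) ^ k)⁻¹ = x := by
    intro k
    induction k with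
    | zero => simp
    | succ k ih =>
      have : (y * y) ^ (k + 1) * x * ((y * y) ^ (k + 1))⁻¹ =
          (y * y) ^ k * ((y * y) * x * (y * y)⁻¹) * ((y * y) ^ k)⁻¹ := by
        rw [pow_succ]; group
      rw [this, h2, ih]
  -- `y = (y*y)^(j+1)` since `y^(2j+1) = 1`
  have hyy : y = (y * y) ^ (j + 1) := by
    have : (y * y) ^ (j + 1) = y ^ (2 * j + 1) * y := by
      rw [← pow_two, ← pow_mul, ← pow_succ]; congr 1
    rw [this, h3, one_mul]
  have h4 : y * x * y⁻¹ = x := by
    conv_lhs => rw [hyy]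
    exact hcomm (j + 1)
  rw [h4] at hy
  -- `x = x⁻¹` so `x * x = 1`, and odd order gives `x = 1`
  have h5 : x * x = 1 := by
    nth_rewrite 2 [hy]
    exact mul_inv_cancel x
  have h6 : x ^ (2 * j + 1) = 1 := by rw [← hj]; exact pow_card_eq_one'
  have h7 : x ^ (2 * j + 1) = x := by
    rw [pow_succ, pow_mul, pow_two, h5, one_pow, one_mul]
  rw [← h7, h6]

/-- A real-valued irreducible character of a group of odd order is principal. -/
theorem eq_one_of_real_of_odd_card (hodd : Odd (Nat.card Q)) (β : IrrCharacter Q)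
    (hreal : ∀ q : Q, ((β : Q → ℂ) q).im = 0) (q : Q) : (β : Q → ℂ) q = 1 := by
  classical
  have hcard := Helper81.card_real_irr_eq_card_real_cls Q
  have hcls : Nat.card {L : ConjClasses Q // Helper81.clsInv Q L = L} = 1 := by
    rw [Nat.card_eq_one_iff_unique]
    refine ⟨⟨fun a b => ?_⟩, ⟨⟨ConjClasses.mk 1, by rw [Helper81.clsInv_mk, inv_one]⟩⟩⟩
    obtain ⟨a, ha⟩ := a
    obtain ⟨b, hb⟩ := b
    apply Subtype.ext
    simp only
    obtain ⟨x, rfl⟩ := ConjClasses.exists_rep a
    obtain ⟨y, rfl⟩ := ConjClasses.exists_rep b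
    rw [Helper81.clsInv_eq_self_iff] at ha hb
    rw [eq_one_of_isConj_inv_of_odd hodd ha, eq_one_of_isConj_inv_of_odd hodd hb]
  rw [hcls, Nat.card_eq_one_iff_unique] at hcard
  obtain ⟨hsub, _⟩ := hcard
  have h1 : Helper81.irrConj Q β = β := (Helper81.irrConj_eq_self_iff β).mpr hreal
  have h2 : Helper81.irrConj Q (Helper81.trivialIrr Q) = Helper81.trivialIrr Q := by
    rw [Helper81.irrConj_eq_self_iff]
    intro g
    simp
  have h3 : (⟨β, h1⟩ : {β : IrrCharacter Q // Helper81.irrConj Q β = β}) =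
      ⟨Helper81.trivialIrr Q, h2⟩ := hsub.elim _ _
  have h4 : β = Helper81.trivialIrr Q := congrArg Subtype.val h3
  rw [h4]
  rfl

end

section

variable {G : Type u} [Group G] [Fintype G] (N : Subgroup G) [hN : N.Normal] [Fintype N]

/-- A real-valued irreducible character of `G` with the odd-index normal subgroup `N` in its kernel
is principal. -/
theorem eq_one_of_real_of_kernel (hodd : Odd N.index) {β : G → ℂ} (hβ : IsIrrCharacter G β)
    (hreal : ∀ g : G, (β g).im = 0) (hker : ∀ n : N, β n = β 1) (g : G) : β g = 1 := by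
  obtain ⟨β', hβ', hβ'e⟩ := Helper80.IsIrrCharacter.exists_descend hβ (QuotientGroup.mk' N)
    (QuotientGroup.mk'_surjective N) (fun g hg => by
      have hgN : g ∈ N := by
        rwa [QuotientGroup.mk'_apply, QuotientGroup.eq_one_iff] at hg
      exact hker ⟨g, hgN⟩)
  have hoddQ : Odd (Nat.card (G ⧸ N)) := by
    rw [← Subgroup.index_eq_card]; exact hodd
  rw [hβ'e g]
  refine eq_one_of_real_of_odd_card hoddQ ⟨β', hβ'⟩ (fun q => ?_) _
  obtain ⟨x, rfl⟩ := QuotientGroup.mk'_surjective N q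
  change (β' (QuotientGroup.mk' N x)).im = 0
  rw [← hβ'e x]
  exact hreal x

/-- **Parity lemma**: for a real-valued character `ψ` of `G` and `N ⊴ G` of odd index, the
multiplicities `⟨ψ, 1_G⟩` and `⟨ψ_N, 1_N⟩` have the same parity. -/
theorem parity_inner_restrict (hodd : Odd N.index) {ψ : G → ℂ} (hψ : IsCharacter G ψ)
    (hreal : ∀ g : G, (ψ g).im = 0) :
    ∃ a b : ℕ, classInner ψ (fun _ => (1 : ℂ)) = a ∧
      classInner (fun n : N => ψ n) (fun _ => (1 : ℂ)) = b ∧ (a : ZMod 2) = (b : ZMod 2) := by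
  classical
  let _ := Helper74.irrFintype G
  have hψconj : (fun g => conj (ψ g)) = ψ := by
    funext g; exact Complex.conj_eq_iff_im.mpr (hreal g)
  choose m hm using fun β : IrrCharacter G => Helper74.isCharacter_inner_irr_nat hψ β
  choose c hc using fun β : IrrCharacter G =>
    Helper74.isCharacter_inner_irr_nat
      (Helper74.isCharacter_restrict N (Helper74.irr_isCharacter β)) (Helper81.trivialIrr N)
  have hdec := Helper74.isCharacter_eq_sum_irr hψ
  -- multiplicities are invariant under complex conjugation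
  have hmconj : ∀ β : IrrCharacter G, m (Helper81.irrConj G β) = m β := by
    intro β
    have h1 : classInner ψ (Helper81.irrConj G β : G → ℂ) = conj (classInner ψ (β : G → ℂ)) := by
      rw [← Helper81.classInner_conj_conj, hψconj]
      rfl
    rw [hm, hm, Complex.conj_natCast] at h1
    exact_mod_cast h1
  have hcconj : ∀ β : IrrCharacter G, c (Helper81.irrConj G β) = c β := by
    intro β
    have h1 : classInner (fun n : N => (Helper81.irrConj G β : G → ℂ) n)
        (Helper81.trivialIrr N : N → ℂ) =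
        conj (classInner (fun n : N => (β : G → ℂ) n) (Helper81.trivialIrr N : N → ℂ)) := by
      rw [← Helper81.classInner_conj_conj]
      congr 1
      funext n
      simp
    rw [hc, hc, Complex.conj_natCast] at h1
    exact_mod_cast h1
  -- the restriction
  have hres : classInner (fun n : N => ψ n) (fun _ => (1 : ℂ)) =
      ((∑ β : IrrCharacter G, m β * c β : ℕ) : ℂ) := by
    have h1 : (fun n : N => ψ n) =
        ∑ β : IrrCharacter G, (m β : ℂ) • (fun n : N => (β : G → ℂ) n) := by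
      funext n
      conv_lhs => rw [hdec]
      simp only [Finset.sum_apply, Pi.smul_apply, smul_eq_mul, hm]
    rw [h1, Helper74.classInner_sum_left]
    push_cast
    refine Finset.sum_congr rfl fun β _ => ?_
    rw [Helper74.classInner_smul_left]
    congr 1
    exact hc β
  refine ⟨m (Helper81.trivialIrr G), ∑ β : IrrCharacter G, m β * c β,
    hm (Helper81.trivialIrr G), hres, ?_⟩
  -- the parity computation
  have hctriv : c (Helper81.trivialIrr G) = 1 := by
    have h1 := hc (Helper81.trivialIrr G)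
    have h2 : classInner (fun n : N => (Helper81.trivialIrr G : G → ℂ) n)
        (Helper81.trivialIrr N : N → ℂ) = 1 :=
      Helper74.irr_inner_self (Helper81.trivialIrr N)
    rw [h2] at h1
    exact_mod_cast h1.symm
  rw [← Finset.add_sum_erase _ _ (Finset.mem_univ (Helper81.trivialIrr G)), hctriv, mul_one]
  push_cast
  have hzero : ∑ β ∈ Finset.univ.erase (Helper81.trivialIrr G), ((m β : ZMod 2) * (c β : ZMod 2))
      = 0 := by
    refine Finset.sum_involution (fun β _ => Helper81.irrConj G β) ?_ ?_ ?_ ?_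
    · intro β _
      rw [hmconj, hcconj]
      exact CharTwo.add_self_eq_zero _
    · intro β hβ hne hfix
      apply hne
      have hβ1 : β ≠ Helper81.trivialIrr G := (Finset.mem_erase.mp hβ).1
      have hrealβ := (Helper81.irrConj_eq_self_iff β).mp hfix
      have hc0 : c β = 0 := by
        by_contra hcne
        have h1 : classInner (fun n : N => (β : G → ℂ) n) (fun _ => (1 : ℂ)) ≠ 0 := by
          have := hc β
          change classInner (fun n : N => (β : G → ℂ) n) (fun _ => (1 : ℂ)) = _ at this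
          rw [this]
          exact_mod_cast hcne
        have hker := const_of_inner_restrict_one_ne_zero N β.2 h1
        have hone := eq_one_of_real_of_kernel N hodd β.2 hrealβ hker
        apply hβ1
        apply Subtype.ext
        funext g
        exact hone g
      rw [hc0]
      simp
    · intro β hβ
      rw [Finset.mem_erase] at hβ ⊢
      refine ⟨fun h => hβ.1 ?_, Finset.mem_univ _⟩
      have h2 := congrArg (Helper81.irrConj G) h
      have h3 : Helper81.irrConj G (Helper81.irrConj G β) = β := by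
        apply Subtype.ext; funext g; simp
      have h4 : Helper81.irrConj G (Helper81.trivialIrr G) = Helper81.trivialIrr G := by
        apply Subtype.ext; funext g; simp
      rw [h3, h4] at h2
      exact h2
    · intro β _
      apply Subtype.ext; funext g; simp
  rw [hzero, add_zero]

/-- For `χ₁, χ₂ ∈ Irr G` over `φ ∈ Irr N`: `⟨χ₁_N, χ₂_N⟩ = e₁ e₂ t`, `t` the size of the orbit. -/
theorem inner_restrict_restrict_of_over {φ : N → ℂ} (hφ : IsIrrCharacter N φ)
    {χ₁ χ₂ : G → ℂ} (hχ₁ : IsIrrCharacter G χ₁) (hχ₂ : IsIrrCharacter G χ₂) {e₁ e₂ : ℕ}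
    (h₁ : classInner (fun n : N => χ₁ n) φ = e₁) (h₂ : classInner (fun n : N => χ₂ n) φ = e₂)
    (h₁0 : e₁ ≠ 0) (h₂0 : e₂ ≠ 0) :
    classInner (fun n : N => χ₁ n) (fun n : N => χ₂ n) =
      ((e₁ * e₂ * (Helper15.conjOrbit N φ).card : ℕ) : ℂ) := by
  classical
  have hc₁ := Helper15.clifford_restrict N hχ₁ hφ (by rw [h₁]; exact_mod_cast h₁0)
  have hc₂ := Helper15.clifford_restrict N hχ₂ hφ (by rw [h₂]; exact_mod_cast h₂0)
  rw [h₁] at hc₁
  rw [h₂] at hc₂
  rw [hc₁, hc₂, Helper74.classInner_smul_left, Helper74.classInner_smul_right,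
    Complex.conj_natCast]
  have hSS : classInner (∑ θ ∈ Helper15.conjOrbit N φ, θ) (∑ θ ∈ Helper15.conjOrbit N φ, θ) =
      ((Helper15.conjOrbit N φ).card : ℂ) := by
    rw [Helper74.classInner_sum_left]
    rw [Finset.card_eq_sum_ones]
    push_cast
    refine Finset.sum_congr rfl fun θ hθ => ?_
    rw [Helper74.classInner_sum_right, Finset.sum_eq_single θ]
    · exact Helper74.irr_inner_self ⟨θ, Helper15.isIrrCharacter_of_mem_conjOrbit N hφ hθ⟩
    · intro θ' hθ' hne
      exact Helper74.irr_inner_ne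
        (χ := ⟨θ, Helper15.isIrrCharacter_of_mem_conjOrbit N hφ hθ⟩)
        (ψ := ⟨θ', Helper15.isIrrCharacter_of_mem_conjOrbit N hφ hθ'⟩)
        (fun h => hne (congrArg Subtype.val h).symm)
    · intro h; exact absurd hθ h
  rw [hSS]
  push_cast
  ring

/-- **Uniqueness**: two real-valued irreducible characters of `G` lying over the same irreducible
character of the odd-index normal subgroup `N` are equal. -/
theorem real_over_unique (hodd : Odd N.index) {φ : N → ℂ} (hφ : IsIrrCharacter N φ)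
    (χ₁ χ₂ : IrrCharacter G)
    (hr₁ : ∀ g : G, ((χ₁ : G → ℂ) g).im = 0) (hr₂ : ∀ g : G, ((χ₂ : G → ℂ) g).im = 0)
    (h₁ : classInner (fun n : N => (χ₁ : G → ℂ) n) φ ≠ 0)
    (h₂ : classInner (fun n : N => (χ₂ : G → ℂ) n) φ ≠ 0) : χ₁ = χ₂ := by
  classical
  by_contra hne
  have hφc : IsCharacter N φ := Helper74.isCharacter_of_isIrr hφ
  obtain ⟨e₁, he₁⟩ := Helper74.isCharacter_inner_irr_nat
    (Helper74.isCharacter_restrict N (Helper74.irr_isCharacter χ₁)) ⟨φ, hφ⟩
  obtain ⟨e₂, he₂⟩ := Helper74.isCharacter_inner_irr_nat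
    (Helper74.isCharacter_restrict N (Helper74.irr_isCharacter χ₂)) ⟨φ, hφ⟩
  simp only at he₁ he₂
  have he₁0 : e₁ ≠ 0 := by
    rintro rfl; apply h₁; rw [he₁]; simp
  have he₂0 : e₂ ≠ 0 := by
    rintro rfl; apply h₂; rw [he₂]; simp
  set t := (Helper15.conjOrbit N φ).card with ht
  -- the general computation for a pair of real irreducible characters over `φ`
  have key : ∀ (χ χ' : IrrCharacter G) (e e' : ℕ),
      (∀ g : G, ((χ' : G → ℂ) g).im = 0) → (∀ g : G, ((χ : G → ℂ) g).im = 0) →
      classInner (fun n : N => (χ : G → ℂ) n) φ = e →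
      classInner (fun n : N => (χ' : G → ℂ) n) φ = e' → e ≠ 0 → e' ≠ 0 →
      ∃ a : ℕ, classInner (χ : G → ℂ) (χ' : G → ℂ) = a ∧
        (a : ZMod 2) = ((e * e' * t : ℕ) : ZMod 2) := by
    intro χ χ' e e' hr' hr he he' he0 he'0
    have hψ : IsCharacter G (fun g => (χ : G → ℂ) g * (χ' : G → ℂ) g) :=
      Helper74.isCharacter_mul (Helper74.irr_isCharacter χ) (Helper74.irr_isCharacter χ')
    have hψr : ∀ g : G, ((fun g => (χ : G → ℂ) g * (χ' : G → ℂ) g) g).im = 0 := by
      intro g
      simp only [Complex.mul_im, hr g, hr' g]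
      ring
    obtain ⟨a, b, ha, hb, hab⟩ := parity_inner_restrict N hodd hψ hψr
    have hconj' : ∀ g : G, conj ((χ' : G → ℂ) g) = (χ' : G → ℂ) g := fun g =>
      Complex.conj_eq_iff_im.mpr (hr' g)
    have ha' : classInner (χ : G → ℂ) (χ' : G → ℂ) = a := by
      rw [← ha]
      unfold classInner
      congr 1
      refine Finset.sum_congr rfl fun g _ => ?_
      rw [hconj', map_one, mul_one]
    have hb' : classInner (fun n : N => (χ : G → ℂ) n) (fun n : N => (χ' : G → ℂ) n) = b := by
      rw [← hb]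
      unfold classInner
      congr 1
      refine Finset.sum_congr rfl fun n _ => ?_
      rw [hconj', map_one, mul_one]
    rw [inner_restrict_restrict_of_over N hφ χ.2 χ'.2 he he' he0 he'0] at hb'
    have hb'' : e * e' * t = b := by exact_mod_cast hb'
    exact ⟨a, ha', by rw [hab, hb'']⟩
  obtain ⟨a₁₁, ha₁₁, hp₁₁⟩ := key χ₁ χ₁ e₁ e₁ hr₁ hr₁ he₁ he₁ he₁0 he₁0
  obtain ⟨a₂₂, ha₂₂, hp₂₂⟩ := key χ₂ χ₂ e₂ e₂ hr₂ hr₂ he₂ he₂ he₂0 he₂0
  obtain ⟨a₁₂, ha₁₂, hp₁₂⟩ := key χ₁ χ₂ e₁ e₂ hr₂ hr₁ he₁ he₂ he₁0 he₂0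
  rw [Helper74.irr_inner_self] at ha₁₁ ha₂₂
  rw [Helper74.irr_inner_ne hne] at ha₁₂
  have h11 : a₁₁ = 1 := by exact_mod_cast ha₁₁.symm
  have h22 : a₂₂ = 1 := by exact_mod_cast ha₂₂.symm
  have h12 : a₁₂ = 0 := by exact_mod_cast ha₁₂.symm
  subst h11 h22 h12
  push_cast at hp₁₁ hp₂₂ hp₁₂
  have hcontra : (1 : ZMod 2) = 0 := by
    calc (1 : ZMod 2) = ((e₁ : ZMod 2) * e₁ * t) * ((e₂ : ZMod 2) * e₂ * t) := by
          rw [← hp₁₁, ← hp₂₂]; ring
      _ = ((e₁ : ZMod 2) * e₂ * t) * ((e₁ : ZMod 2) * e₂ * t) := by ring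
      _ = 0 := by rw [← hp₁₂]; ring
  exact one_ne_zero hcontra

/-- **Main theorem**: if `N ⊴ G` has odd index and `φ ∈ Irr N` has Frobenius–Schur indicator `1`,
then exactly one `χ ∈ Irr G` with Frobenius–Schur indicator `1` lies over `φ`. -/
theorem existsUnique_fsInd_one_over (hodd : Odd N.index) (φ : IrrCharacter N)
    (hφ : Helper81.fsInd (φ : N → ℂ) = 1) :
    ∃! χ : IrrCharacter G, Helper81.fsInd (χ : G → ℂ) = 1 ∧
      classInner (fun n : N => (χ : G → ℂ) n) (φ : N → ℂ) ≠ 0 := by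
  classical
  let _ := Helper74.irrFintype G
  have hsum := sum_fsInd_mul_inner_restrict N hodd φ
  rw [hφ] at hsum
  -- some `χ` contributes
  obtain ⟨χ, -, hχ⟩ : ∃ χ ∈ (Finset.univ : Finset (IrrCharacter G)),
      Helper81.fsInd (χ : G → ℂ) * classInner (fun n : N => (χ : G → ℂ) n) (φ : N → ℂ) ≠ 0 := by
    by_contra hcon
    push Not at hcon
    rw [Finset.sum_eq_zero hcon] at hsum
    exact zero_ne_one hsum
  have hχν : Helper81.fsInd (χ : G → ℂ) ≠ 0 := left_ne_zero_of_mul hχ
  have hχφ : classInner (fun n : N => (χ : G → ℂ) n) (φ : N → ℂ) ≠ 0 := right_ne_zero_of_mul hχ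
  have hχr := (Helper81.fsInd_ne_zero_iff χ.2).mp hχν
  -- every other contributing character equals `χ`
  have honly : ∀ χ' : IrrCharacter G, χ' ≠ χ →
      Helper81.fsInd (χ' : G → ℂ) * classInner (fun n : N => (χ' : G → ℂ) n) (φ : N → ℂ) = 0 := by
    intro χ' hne
    by_contra hcon
    have h1 : Helper81.fsInd (χ' : G → ℂ) ≠ 0 := left_ne_zero_of_mul hcon
    have h2 : classInner (fun n : N => (χ' : G → ℂ) n) (φ : N → ℂ) ≠ 0 :=
      right_ne_zero_of_mul hcon
    have h3 := (Helper81.fsInd_ne_zero_iff χ'.2).mp h1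
    exact hne (real_over_unique N hodd φ.2 χ' χ h3 hχr h2 hχφ)
  rw [Finset.sum_eq_single χ (fun χ' _ hne => honly χ' hne)
    (fun h => absurd (Finset.mem_univ _) h)] at hsum
  -- so `ν(χ) e = 1` with `e ∈ ℕ`, `ν(χ) = ±1`
  obtain ⟨e, he⟩ := Helper74.isCharacter_inner_irr_nat
    (Helper74.isCharacter_restrict N (Helper74.irr_isCharacter χ)) φ
  rw [he] at hsum
  have hν1 : Helper81.fsInd (χ : G → ℂ) = 1 := by
    rcases Helper81.fsInd_trichotomy χ.2 with h | h | h
    · exact absurd h hχν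
    · exact h
    · rw [h] at hsum
      exfalso
      have h1 : ((e : ℂ)) = -1 := by linear_combination -hsum
      have h2 : ((e : ℝ)) = -1 := by exact_mod_cast h1
      have h3 : (0 : ℝ) ≤ e := Nat.cast_nonneg e
      linarith
  refine ⟨χ, ⟨hν1, hχφ⟩, ?_⟩
  rintro χ' ⟨hν', hφ'⟩
  have h3 := Helper81.real_of_fsInd_eq_one χ'.2 hν'
  exact real_over_unique N hodd φ.2 χ' χ h3 hχr hφ' hχφ

end

end Cfsg.Agent.Helper82
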