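import Cfsg.Agent.Helper82.KWE1a
import Cfsg.Agent.Helper82.DefOne.Glue
import Cfsg.Agent.S4441

/-!
# S4588, piece (E1b) of helper77's plan: PIM data, `p` odd, Sylow subgroup of order `p`
-/

set_option autoImplicit false
set_option linter.unusedVariables false
set_option linter.unusedSectionVars false

namespace Cfsg.Agent.Helper82.KW

open Cfsg Cfsg.Agent.Helper77.KW
open scoped ComplexConjugate

universe u

variable {K : Type u} [Group K] [Fintype K]

/-- (E1b) PIM data, `p` odd, Sylow subgroup of order `p` -/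
theorem exists_pimData_odd (p : ℕ) [Fact p.Prime] (M : Ideal AlgInt) (hM : IsPModular p M)
    (hodd : p ≠ 2) (hK : (Nat.card K).factorization p = 1) :
    ∃ D : PimData p M K, D.e + D.t ≤ p := by
  classical
  have hp : p.Prime := Fact.out
  have : Finite (IrrCharacter K) := Helper79.irr_finite'
  obtain ⟨P⟩ : Nonempty (Sylow p K) := inferInstance
  have hP : Nat.card P = p := by
    rw [Sylow.card_eq_multiplicity, hK, pow_one]
  obtain ⟨X, Y, hXY, hdisj, hcX, hcY, εX, ε, hXall, hε, -, hYeq, hrel⟩ :=
    Cfsg.Agent.S4441.result p M hM hodd P hP _ rfl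
  -- the inertial index divides `p - 1`
  have hdvd : Nat.card X ∣ p - 1 := by
    rw [hcX]
    have h := Helper82.DefOne.relIndex_cen_nor_dvd P hP
    rw [Helper82.DefOne.nor_eq_normalizer P hP] at h
    exact h
  have hp2 : 2 ≤ p := hp.two_le
  obtain ⟨m, hm⟩ := hdvd
  have he0 : 0 < Nat.card X := by
    rcases Nat.eq_zero_or_pos (Nat.card X) with h | h
    · rw [h, zero_mul] at hm; omega
    · exact h
  have hm0 : 0 < m := by
    rcases Nat.eq_zero_or_pos m with h | h
    · rw [h, mul_zero] at hm; omega
    · exact h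
  have hcY' : Nat.card Y = m := by
    rw [hcY, hcX.symm, hm, Nat.mul_div_cancel_left m he0]
  have hYfin : Y.Finite := Set.toFinite Y
  have hYne : Y.Nonempty := by
    rw [← Set.nonempty_coe_sort, ← Finite.card_pos_iff, hcY']
    exact hm0
  have hε2 : (ε : ℂ) * (ε : ℂ) = 1 := by
    rcases hε with h | h <;> rw [h] <;> simp
  let eqv : X ≃ Fin (Nat.card X) := Finite.equivFin X
  have hfin : ∀ F : IrrCharacter K → ℂ,
      ∑ᶠ χ ∈ X, F χ = ∑ i : Fin (Nat.card X), F ((eqv.symm i : X) : IrrCharacter K) := by
    intro F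
    have : Fintype X := Fintype.ofFinite X
    rw [← finsum_set_coe_eq_finsum_mem X, finsum_eq_sum_of_fintype]
    exact (Equiv.sum_comp eqv.symm (fun x : X => F (x : IrrCharacter K))).symm
  refine ⟨{ e := Nat.card X
            θ := fun i => ((eqv.symm i : X) : IrrCharacter K)
            ε := fun i => εX ((eqv.symm i : X) : IrrCharacter K)
            δ := ε
            Y := hYfin.toFinset
            hθ := fun a b h => eqv.symm.injective (Subtype.ext h)
            hε := fun i => (hXall _ (eqv.symm i).2).1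
            hδ := hε
            hdisj := fun i h =>
              Set.disjoint_left.mp hdisj (eqv.symm i).2 (hYfin.mem_toFinset.mp h)
            hblock := ?_
            hrel := ?_
            hvan := ?_ }, ?_⟩
  · intro ψ
    rw [hXY, Set.mem_union, hYfin.mem_toFinset]
    constructor
    · rintro (h | h)
      · refine Or.inl ⟨eqv ⟨ψ, h⟩, ?_⟩
        rw [Equiv.symm_apply_apply]
      · exact Or.inr h
    · rintro (⟨i, rfl⟩ | h)
      · exact Or.inl (eqv.symm i).2
      · exact Or.inr h
  · intro ψ hψ g hg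
    rw [hrel ψ (hYfin.mem_toFinset.mp hψ) g hg, hfin]
  · intro i g hg
    obtain ⟨h1, h2⟩ := sum_exceptional_singular p M hM P hP X Y hXY hdisj εX ε hε
      (fun χ hχ => (hXall χ hχ).2.2) hYeq hrel g hg
    rw [h1 _ (eqv.symm i).2, ← finsum_mem_eq_finite_toFinset_sum _ hYfin, h2 hYne]
    linear_combination (-(εX ((eqv.symm i : X) : IrrCharacter K) : ℂ)) * hε2
  · show Nat.card X + hYfin.toFinset.card ≤ p
    have hc : hYfin.toFinset.card = m := by
      rw [← hcY', ← Set.ncard_eq_toFinset_card _ hYfin]
      exact (Nat.card_coe_set_eq _).symm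
    rw [hc]
    have h3 : Nat.card X + m ≤ Nat.card X * m + 1 := by
      obtain ⟨a, ha⟩ : ∃ a, Nat.card X = a + 1 := ⟨Nat.card X - 1, by omega⟩
      obtain ⟨b, hb⟩ : ∃ b, m = b + 1 := ⟨m - 1, by omega⟩
      rw [ha, hb]
      nlinarith
    omega

end Cfsg.Agent.Helper82.KW
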