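import Cfsg.Agent.Helper77.KW.Defs
import Cfsg.Agent.Helper79.DefectZeroBlock

/-!
# S4588, piece (E3) of helper77's plan: PIM data for a `p'`-group
-/

set_option autoImplicit false

namespace Cfsg.Agent.Helper82.KW

open Cfsg Cfsg.Agent.Helper77.KW
open scoped ComplexConjugate

universe u

variable {K : Type u} [Group K] [Fintype K]

/-- (E3) PIM data for a `p'`-group -/
theorem exists_pimData_coprime (p : ℕ) [Fact p.Prime] (M : Ideal AlgInt) (hM : IsPModular p M)
    (hK : (Nat.card K).factorization p = 0) :
    ∃ D : PimData p M K, D.e + D.t ≤ 1 := by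
  have hp : p.Prime := Fact.out
  have hNp : ¬ p ∣ Nat.card K := by
    intro h
    have := hp.factorization_pos_of_dvd Nat.card_pos.ne' h
    omega
  have hdeg : charDegree ((Helper79.principalIrr K : IrrCharacter K) : K → ℂ) = 1 := by
    have h := Helper79.irr_one (Helper79.principalIrr K)
    have h1 : ((Helper79.principalIrr K : IrrCharacter K) : K → ℂ) 1 = (1 : ℂ) := rfl
    rw [h1] at h
    exact_mod_cast h.symm
  have hblk : principalBlock M K = {Helper79.principalIrr K} := by
    have h := Helper79.blockOf_eq_singleton_of_defect_zero hM (Helper79.principalIrr K)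
      (by rw [hdeg, hK]; simp)
    exact h
  refine ⟨{ e := 1
            θ := fun _ => Helper79.principalIrr K
            ε := fun _ => 1
            δ := 1
            Y := ∅
            hθ := fun a b _ => Subsingleton.elim a b
            hε := fun _ => Or.inl rfl
            hδ := Or.inl rfl
            hdisj := fun _ => Finset.notMem_empty _
            hblock := ?_
            hrel := ?_
            hvan := ?_ }, ?_⟩
  · intro ψ
    rw [hblk, Set.mem_singleton_iff]
    constructor
    · intro h
      exact Or.inl ⟨0, h⟩
    · rintro (⟨_, h⟩ | h)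
      · exact h
      · exact absurd h (Finset.notMem_empty _)
  · intro ψ hψ
    exact absurd hψ (Finset.notMem_empty _)
  · intro i g hg
    exact absurd (hg.trans (orderOf_dvd_natCard g)) hNp
  · show 1 + (∅ : Finset (IrrCharacter K)).card ≤ 1
    simp

end Cfsg.Agent.Helper82.KW
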