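import Mathlib

set_option autoImplicit false

/-!
# Galois averaging for sums of roots of unity (helper82)

If `μ i` are `n`-th roots of unity with `∑ i, μ i ≠ 0`, then the Galois conjugates
`∑ i, μ i ^ k` (`k < n` coprime to `n`) have product of absolute value `≥ 1`
(it is a nonzero rational integer), hence by AM-GM the sum of their squared absolute values
is at least `φ n`.
-/

namespace Cfsg.Agent.Helper82

open Polynomial

/-- AM-GM in the weak form we need: positive reals with product `≥ 1` have sum `≥` their number. -/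
theorem card_le_sum_of_one_le_prod {α : Type*} (s : Finset α) (z : α → ℝ)
    (hz : ∀ a ∈ s, 0 < z a) (hprod : 1 ≤ ∏ a ∈ s, z a) : (s.card : ℝ) ≤ ∑ a ∈ s, z a := by
  have h1 : ∀ a ∈ s, Real.log (z a) ≤ z a - 1 := fun a ha =>
    Real.log_le_sub_one_of_pos (hz a ha)
  have h2 : ∑ a ∈ s, Real.log (z a) ≤ ∑ a ∈ s, (z a - 1) := Finset.sum_le_sum h1
  have h3 : ∑ a ∈ s, Real.log (z a) = Real.log (∏ a ∈ s, z a) :=
    (Real.log_prod (fun a ha => (hz a ha).ne')).symm
  have h4 : 0 ≤ Real.log (∏ a ∈ s, z a) := Real.log_nonneg hprod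
  rw [Finset.sum_sub_distrib, Finset.sum_const, nsmul_eq_mul, mul_one] at h2
  linarith

/-- The product over the Galois conjugates of a nonzero sum of `n`-th roots of unity has
absolute value at least one. -/
theorem one_le_prod_norm_powersum {ι : Type*} [Fintype ι] (n : ℕ) (hn : 0 < n) (μ : ι → ℂ)
    (hμ : ∀ i, μ i ^ n = 1) (h0 : ∑ i, μ i ≠ 0) :
    1 ≤ ∏ k ∈ (Finset.range n).filter (fun k => k.Coprime n), ‖∑ i, μ i ^ k‖ := by
  classical
  have hn1 : NeZero n := ⟨hn.ne'⟩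
  have hcyc : IsCyclotomicExtension {n} ℚ (CyclotomicField n ℚ) :=
    CyclotomicField.isCyclotomicExtension n ℚ
  let ζ' : CyclotomicField n ℚ := IsCyclotomicExtension.zeta n ℚ (CyclotomicField n ℚ)
  have hζ' : IsPrimitiveRoot ζ' n := IsCyclotomicExtension.zeta_spec n ℚ (CyclotomicField n ℚ)
  let emb : CyclotomicField n ℚ →ₐ[ℚ] ℂ := IsAlgClosed.lift
  have hζ : IsPrimitiveRoot (emb ζ') n := hζ'.map_of_injective emb.injective
  have hex : ∀ i, ∃ j : ℕ, (emb ζ') ^ j = μ i := by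
    intro i
    obtain ⟨j, _, hj⟩ := hζ.eq_pow_of_pow_eq_one (hμ i)
    exact ⟨j, hj⟩
  choose j hj using hex
  let a : CyclotomicField n ℚ := ∑ i, ζ' ^ j i
  have hσa : ∀ σ : CyclotomicField n ℚ →ₐ[ℚ] ℂ, σ a = ∑ i, (σ ζ') ^ j i := by
    intro σ
    simp only [a, map_sum, map_pow]
  have hemba : emb a = ∑ i, μ i := by
    rw [hσa]; exact Finset.sum_congr rfl (fun i _ => hj i)
  have ha0 : a ≠ 0 := by
    intro h
    apply h0
    rw [← hemba, h, map_zero]
  have haint : IsIntegral ℤ a :=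
    IsIntegral.sum _ (fun i _ => (hζ'.isIntegral hn).pow _)
  have hN : IsIntegral ℤ (Algebra.norm ℚ a) := Algebra.isIntegral_norm ℚ haint
  obtain ⟨z, hz⟩ := IsIntegrallyClosed.isIntegral_iff.mp hN
  have hz0 : z ≠ 0 := by
    intro h
    rw [h] at hz
    simp only [map_zero] at hz
    exact ha0 (Algebra.norm_eq_zero_iff.1 hz.symm)
  have hprod := Algebra.norm_eq_prod_embeddings ℚ ℂ a
  -- reindex the product
  have hirr : Irreducible (cyclotomic n ℚ) := cyclotomic.irreducible_rat hn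
  have hre : ∏ σ : CyclotomicField n ℚ →ₐ[ℚ] ℂ, σ a =
      ∏ k ∈ (Finset.range n).filter (fun k => k.Coprime n), ∑ i, μ i ^ k := by
    let e := hζ'.embeddingsEquivPrimitiveRoots ℂ hirr
    have h1 : ∏ σ : CyclotomicField n ℚ →ₐ[ℚ] ℂ, σ a =
        ∏ ξ : ↥(primitiveRoots n ℂ), ∑ i, (ξ : ℂ) ^ j i := by
      refine Fintype.prod_equiv e _ _ (fun σ => ?_)
      rw [hσa]
      rfl
    rw [h1, Finset.prod_coe_sort (primitiveRoots n ℂ) (fun ξ => ∑ i, ξ ^ j i)]
    symm
    refine Finset.prod_bij (fun k _ => (emb ζ') ^ k) ?_ ?_ ?_ ?_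
    · intro k hk
      rw [Finset.mem_filter] at hk
      rw [mem_primitiveRoots hn]
      exact hζ.pow_of_coprime k hk.2
    · intro k1 hk1 k2 hk2 h
      rw [Finset.mem_filter, Finset.mem_range] at hk1 hk2
      exact hζ.pow_inj hk1.1 hk2.1 h
    · intro ξ hξ
      rw [mem_primitiveRoots hn] at hξ
      obtain ⟨k, hk, hkc, rfl⟩ := (hζ.isPrimitiveRoot_iff).1 hξ
      exact ⟨k, Finset.mem_filter.2 ⟨Finset.mem_range.2 hk, hkc⟩, rfl⟩
    · intro k _
      refine Finset.sum_congr rfl (fun i _ => ?_)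
      rw [← hj i, ← pow_mul, ← pow_mul, mul_comm]
  rw [hre, ← hz] at hprod
  have hnorm : ‖(algebraMap ℚ ℂ) ((algebraMap ℤ ℚ) z)‖ =
      ∏ k ∈ (Finset.range n).filter (fun k => k.Coprime n), ‖∑ i, μ i ^ k‖ := by
    rw [hprod, norm_prod]
  rw [← hnorm]
  have : (algebraMap ℚ ℂ) ((algebraMap ℤ ℚ) z) = (z : ℂ) := by simp
  rw [this, Complex.norm_intCast]
  have h1 : (1 : ℤ) ≤ |z| := Int.one_le_abs hz0
  exact_mod_cast h1

/-- Galois averaging: if a sum of `n`-th roots of unity is nonzero, the squared absolute values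
of its Galois conjugates sum to at least `φ n`. -/
theorem totient_le_sum_normSq_powersum {ι : Type*} [Fintype ι] (n : ℕ) (hn : 0 < n) (μ : ι → ℂ)
    (hμ : ∀ i, μ i ^ n = 1) (h0 : ∑ i, μ i ≠ 0) :
    (n.totient : ℝ) ≤
      ∑ k ∈ (Finset.range n).filter (fun k => k.Coprime n), ‖∑ i, μ i ^ k‖ ^ 2 := by
  classical
  have hprod := one_le_prod_norm_powersum n hn μ hμ h0
  set s := (Finset.range n).filter (fun k => k.Coprime n) with hs
  have hcard : s.card = n.totient := by
    rw [Nat.totient_eq_card_coprime]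
    congr 1
    ext k
    simp only [hs, Finset.mem_filter, Finset.mem_range, Nat.coprime_comm]
  have hpos : ∀ k ∈ s, 0 < ‖∑ i, μ i ^ k‖ := by
    intro k hk
    rcases (norm_nonneg (∑ i, μ i ^ k)).lt_or_eq with h | h
    · exact h
    · exfalso
      have : ∏ k ∈ s, ‖∑ i, μ i ^ k‖ = 0 := Finset.prod_eq_zero hk h.symm
      rw [this] at hprod
      linarith
  have hprod2 : 1 ≤ ∏ k ∈ s, ‖∑ i, μ i ^ k‖ ^ 2 := by
    rw [Finset.prod_pow]
    exact one_le_pow₀ hprod
  have := card_le_sum_of_one_le_prod s (fun k => ‖∑ i, μ i ^ k‖ ^ 2)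
    (fun k hk => pow_pos (hpos k hk) 2) hprod2
  rw [hcard] at this
  exact this

end Cfsg.Agent.Helper82
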