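import Mathlib

/-!
# Auxiliary lemmas on the derived series

Transfer of `derivedSeries _ k = ⊥` along homomorphisms:
* `derivedSeries_map_eq_one`: if `derivedSeries B m = ⊥` then `f` kills `derivedSeries A m`;
* `derivedSeries_succ_eq_bot_of_ker_comm`: if `f` kills `derivedSeries A m` and the kernel of `f`
  is abelian then `derivedSeries A (m+1) = ⊥`;
* `derivedSeries_eq_bot_of_injective`, `derivedSeries_eq_bot_of_mulEquiv`.
-/

set_option autoImplicit false

namespace Cfsg.Agent.Helper82

variable {A B : Type*} [Group A] [Group B]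

theorem derivedSeries_map_eq_one (f : A →* B) (m : ℕ) (hB : derivedSeries B m = ⊥) :
    ∀ x ∈ derivedSeries A m, f x = 1 := by
  intro x hx
  have h1 : f x ∈ (derivedSeries A m).map f := Subgroup.mem_map_of_mem f hx
  have h2 := map_derivedSeries_le_derivedSeries f m h1
  rw [hB, Subgroup.mem_bot] at h2
  exact h2

theorem derivedSeries_succ_eq_bot_of_ker_comm (f : A →* B)
    (hker : ∀ a b : A, f a = 1 → f b = 1 → a * b = b * a) (m : ℕ)
    (h : ∀ x ∈ derivedSeries A m, f x = 1) : derivedSeries A (m + 1) = ⊥ := by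
  rw [derivedSeries_succ, eq_bot_iff, Subgroup.commutator_le]
  intro a ha b hb
  rw [Subgroup.mem_bot, commutatorElement_eq_one_iff_mul_comm]
  exact hker a b (h a ha) (h b hb)

theorem derivedSeries_eq_bot_of_injective (f : A →* B) (hf : Function.Injective f) (m : ℕ)
    (hB : derivedSeries B m = ⊥) : derivedSeries A m = ⊥ := by
  rw [eq_bot_iff]
  intro x hx
  rw [Subgroup.mem_bot]
  apply hf
  rw [map_one]
  exact derivedSeries_map_eq_one f m hB x hx

theorem derivedSeries_eq_bot_of_mulEquiv (e : A ≃* B) (m : ℕ)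
    (hB : derivedSeries B m = ⊥) : derivedSeries A m = ⊥ :=
  derivedSeries_eq_bot_of_injective e.toMonoidHom e.injective m hB

theorem derivedSeries_eq_bot_of_le {m k : ℕ} (hmk : m ≤ k) (h : derivedSeries A m = ⊥) :
    derivedSeries A k = ⊥ := by
  rw [eq_bot_iff, ← h]
  exact derivedSeries_antitone A hmk

/-- If `f` has abelian image on `A` (all values commute), then `f` kills `derivedSeries A 1`. -/
theorem derivedSeries_one_map_eq_one (f : A →* B) (hcomm : ∀ a b : A, f a * f b = f b * f a) :
    ∀ x ∈ derivedSeries A 1, f x = 1 := by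
  have h1 : derivedSeries A 1 ≤ f.ker := by
    rw [derivedSeries_succ, derivedSeries_zero, Subgroup.commutator_le]
    intro a _ b _
    rw [MonoidHom.mem_ker, map_commutatorElement, commutatorElement_eq_one_iff_mul_comm]
    exact hcomm a b
  intro x hx
  exact MonoidHom.mem_ker.1 (h1 hx)

end Cfsg.Agent.Helper82
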