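import Mathlib
import Cfsg.Prelude.Def_CharExt
import Cfsg.Agent.Helper15.DetChar
import Cfsg.Agent.Helper15.TransferLin

/-!
# Extending a linear character by the determinant trick

If `ψ` is a character of `T`, `ι : S →* T`, and `ψ ∘ ι = d • lam` for a linear character `lam`
of `S` with `d` coprime to `|S|`, then `lam = μ ∘ ι` for a linear character `μ` of `T`
(a suitable power of `det ψ`).
-/

set_option autoImplicit false

namespace Cfsg.Agent.Helper82

open Cfsg Cfsg.Agent.Helper15

universe u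

/-- `detChar` of the trivial character of degree `d` is trivial. -/
theorem detChar_const {S : Type u} [Group S] [Finite S] (d : ℕ) (s : S) :
    detChar (fun _ : S => (d : ℂ)) s = 1 ∧ IsCharacter S (fun _ : S => (d : ℂ)) := by
  let ρ : Representation ℂ S (Fin d → ℂ) := 1
  have h1 : ρ.character = fun _ : S => (d : ℂ) := by
    funext x
    show LinearMap.trace ℂ _ ((1 : Representation ℂ S (Fin d → ℂ)) x) = (d : ℂ)
    rw [MonoidHom.one_apply]
    have : (1 : Module.End ℂ (Fin d → ℂ)) = LinearMap.id := rfl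
    rw [this, LinearMap.trace_id]
    simp
  constructor
  · rw [← h1, detChar_eq_det]
    show LinearMap.det ((1 : Representation ℂ S (Fin d → ℂ)) s) = 1
    rw [MonoidHom.one_apply]
    exact map_one _
  · exact ⟨d, ρ, h1⟩

theorem exists_linear_extension_of_det {S T : Type u} [Group S] [Group T] [Finite S] [Finite T]
    (ι : S →* T) {ψ : T → ℂ} (hψ : IsCharacter T ψ) {lam : S → ℂ} (hlam : IsCharacter S lam)
    (hlam1 : lam 1 = 1) (d : ℕ) (hres : ∀ s, ψ (ι s) = d * lam s)
    (hcop : Nat.Coprime d (Nat.card S)) :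
    ∃ μ : T → ℂ, IsCharacter T μ ∧ μ 1 = 1 ∧ ∀ s, μ (ι s) = lam s := by
  obtain ⟨hD, hD1⟩ := isCharacter_detChar hψ
  -- `det ψ ∘ ι = lam ^ d`
  have hdet : ∀ s : S, detChar ψ (ι s) = lam s ^ d := by
    intro s
    rw [← detChar_comp ι hψ s]
    have h1 : (fun x : S => ψ (ι x)) = lam * (fun _ : S => (d : ℂ)) := by
      funext x
      rw [hres x, Pi.mul_apply, mul_comm]
    rw [h1, detChar_twist hlam hlam1 (detChar_const d s).2 d rfl s, (detChar_const d s).1, mul_one]
  set L : S →* ℂˣ := linCharUnits hlam hlam1 with hL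
  set D : T →* ℂˣ := linCharUnits hD hD1 with hDdef
  have hDL : ∀ s : S, D (ι s) = L s ^ d := by
    intro s
    apply Units.ext
    rw [Units.val_pow_eq_pow_val]
    exact hdet s
  have hLn : ∀ s : S, L s ^ (Nat.card S) = 1 := by
    intro s
    rw [← map_pow, pow_card_eq_one', map_one]
  -- Bezout
  have hbez := Nat.gcd_eq_gcd_ab d (Nat.card S)
  rw [hcop.gcd_eq_one] at hbez
  set x : ℤ := Nat.gcdA d (Nat.card S) with hx
  set y : ℤ := Nat.gcdB d (Nat.card S) with hy
  let μh : T →* ℂˣ := (zpowGroupHom x : ℂˣ →* ℂˣ).comp D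
  refine ⟨unitsFun μh, (isCharacter_unitsFun μh).1, (isCharacter_unitsFun μh).2, ?_⟩
  intro s
  rw [unitsFun_apply]
  show (((D (ι s)) ^ x : ℂˣ) : ℂ) = lam s
  rw [hDL s, ← linCharUnits_apply hlam hlam1 s]
  congr 1
  have h2 : L s = L s ^ ((d : ℤ) * x + (Nat.card S : ℤ) * y) := by
    rw [← hbez]
    simp
  rw [zpow_add, zpow_mul, zpow_mul, zpow_natCast, zpow_natCast, hLn s, one_zpow, mul_one] at h2
  exact h2.symm

end Cfsg.Agent.Helper82
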