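import Mathlib
import Cfsg.Prelude.Def_Blocks
import Cfsg.Prelude.Def_Local
import Cfsg.Agent.Helper82.DerivedAux
import Cfsg.Agent.Helper82.DetExt
import Cfsg.Agent.Helper82.UnitOffOne
import Cfsg.Agent.Helper80.ItoConv
import Cfsg.Agent.Helper81.CliffordInd
import Cfsg.Agent.Helper15.Gallagher
import Cfsg.Agent.Helper15.IndChar
import Cfsg.Agent.Helper1.FFPair
import Cfsg.Agent.S4713

/-!
# `p`-solvable groups in which every `p`-singular character is trivial on an abelian normal
`p`-subgroup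

If `M ≠ 1` is an abelian normal `p`-subgroup of the `p`-solvable group `G` and every
`χ ∈ Irr(G)` with `p ∣ χ(1)` has `M` in its kernel, then a Sylow `p`-subgroup `P` of `G` has
`P'' = 1`.
-/

set_option autoImplicit false

namespace Cfsg.Agent.Helper82

open Cfsg Cfsg.Agent.Helper15
open scoped ComplexConjugate

universe u

section clifford

variable {G : Type u} [Group G] [Fintype G]

/-- For `ψ ∈ Irr(T | θ)` with `T` inside the inertia group: `ψ_N = ⟨ψ_N, θ⟩ θ`. -/
theorem resTo_eq_smul_of_le_inertia (N : Subgroup G) [hN : N.Normal] [Fintype N]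
    {θ : N → ℂ} (hθ : IsIrrCharacter N θ) (T : Subgroup G) [Fintype T]
    (hT : T ≤ inertia N θ) (hNT : N ≤ T) {ψ : T → ℂ} (hψ : IsIrrCharacter T ψ)
    (hne : classInner (resTo N T hNT ψ) θ ≠ 0) :
    resTo N T hNT ψ = classInner (resTo N T hNT ψ) θ • θ := by
  classical
  let _ : Fintype (N.subgroupOf T) := Fintype.ofFinite _
  have hθ' : IsIrrCharacter (N.subgroupOf T) (toSub N T hNT θ) := isIrrCharacter_toSub N T hNT hθ
  have hinv' : ∀ t : T, conjFun (N.subgroupOf T) t (toSub N T hNT θ) = toSub N T hNT θ := by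
    intro t
    rw [conjFun_toSub]
    have : (t : G) ∈ inertia N θ := hT t.2
    rw [(mem_inertia N θ _).mp this]
  have hψres : (fun x : N.subgroupOf T => ψ x) = toSub N T hNT (resTo N T hNT ψ) :=
    restrict_subgroupOf N T hNT _
  have hinner' : classInner (fun x : N.subgroupOf T => ψ x) (toSub N T hNT θ)
      = classInner (resTo N T hNT ψ) θ := by
    rw [hψres, classInner_toSub]
  have hne' : classInner (fun x : N.subgroupOf T => ψ x) (toSub N T hNT θ) ≠ 0 := by
    rw [hinner']; exact hne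
  have hcl := restrict_eq_smul_of_invariant (N.subgroupOf T) hψ hθ' hne' hinv'
  rw [hinner', hψres, ← toSub_smul] at hcl
  exact toSub_injective N T hNT hcl

/-- The product of a linear character and an irreducible character is irreducible. -/
theorem isIrrCharacter_linear_mul {μ β : G → ℂ} (hμ : IsCharacter G μ) (hμ1 : μ 1 = 1)
    (hβ : IsIrrCharacter G β) : IsIrrCharacter G (μ * β) := by
  have hβc := Helper74.isCharacter_of_isIrr hβ
  apply isIrrCharacter_of_inner_self_eq_one (Helper74.isCharacter_mul hμ hβc)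
  have h1 : classInner (μ * β) (μ * β) = classInner β β := by
    rw [Helper74.classInner_def, Helper74.classInner_def]
    congr 1
    apply Finset.sum_congr rfl
    intro g _
    have hn := linChar_norm hμ hμ1 g
    have h2 : μ g * conj (μ g) = 1 := by
      rw [Complex.mul_conj, Complex.normSq_eq_norm_sq, hn]
      simp
    rw [Pi.mul_apply, map_mul]
    calc μ g * β g * (conj (μ g) * conj (β g))
        = (μ g * conj (μ g)) * (β g * conj (β g)) := by ring
      _ = β g * conj (β g) := by rw [h2, one_mul]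
  rw [h1]
  exact Helper74.irr_inner_self ⟨β, hβ⟩

/-- If every irreducible character of `G` of degree divisible by `p` is trivial on `M`, and
`lam ∈ Irr(M)` is nontrivial with inertia group `T`, then `|G : T| ψ(1)` is prime to `p` for every
`ψ ∈ Irr(T | lam)`. -/
theorem not_dvd_of_over_nontrivial (p : ℕ) (M : Subgroup G) [hM : M.Normal] [Fintype M]
    (hC : ∀ χ : IrrCharacter G, p ∣ charDegree (χ : G → ℂ) →
      ∀ x ∈ M, (χ : G → ℂ) x = (χ : G → ℂ) 1)
    {lam : M → ℂ} (hlam : IsIrrCharacter M lam) (hlam1 : lam ≠ fun _ => 1)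
    (T : Subgroup G) [Fintype T] (hT : T = inertia M lam) (hMT : M ≤ T)
    {ψ : T → ℂ} (hψ : IsIrrCharacter T ψ) (hne : classInner (resTo M T hMT ψ) lam ≠ 0) :
    ¬ p ∣ T.index * charDegree ψ := by
  classical
  obtain ⟨hirr, hfull⟩ := Helper81.isIrrCharacter_indFun_inertia M hlam T hT hMT hψ hne
  intro hdvd
  have hdeg : charDegree (indFun T ψ) = T.index * charDegree ψ := by
    have h1 := Helper74.charDegree_cast (Helper74.isCharacter_of_isIrr hirr)
    have h2 := Helper74.charDegree_cast (Helper74.isCharacter_of_isIrr hψ)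
    have h3 := indFun_apply_one T ψ
    have h4 : ((charDegree (indFun T ψ) : ℕ) : ℂ) = ((T.index * charDegree ψ : ℕ) : ℂ) := by
      rw [h1, h3]
      push_cast
      rw [h2]
    exact_mod_cast h4
  have hconst := hC ⟨indFun T ψ, hirr⟩ (hdeg ▸ hdvd)
  have hres : (fun n : M => indFun T ψ n) = (indFun T ψ 1) • (fun _ : M => (1 : ℂ)) := by
    funext n
    rw [Pi.smul_apply, smul_eq_mul, mul_one]
    exact hconst n n.2
  rw [hres, Helper74.classInner_smul_left] at hfull
  have h0 : classInner (fun _ : M => (1 : ℂ)) lam = 0 := by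
    refine Helper74.irr_inner_ne (χ := ⟨_, isIrrCharacter_one M⟩) (ψ := ⟨lam, hlam⟩) ?_
    intro h
    apply hlam1
    exact (congrArg Subtype.val h).symm
  rw [h0, mul_zero] at hfull
  exact hne hfull.symm

end clifford

theorem derivedSeries_two_of_pSing_trivial {G : Type u} [Group G] [Finite G] (p : ℕ)
    [Fact p.Prime] (hps : IsPSolvable p G) (M : Subgroup G) [hMn : M.Normal]
    (hMp : IsPGroup p M)
    (hMc : ∀ a ∈ M, ∀ b ∈ M, a * b = b * a) (hM1 : M ≠ ⊥)
    (hC : ∀ χ : IrrCharacter G, p ∣ charDegree (χ : G → ℂ) →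
      ∀ x ∈ M, (χ : G → ℂ) x = (χ : G → ℂ) 1)
    (P : Sylow p G) : derivedSeries ↥(P : Subgroup G) 2 = ⊥ := by
  classical
  have hp : p.Prime := Fact.out
  let _ := Fintype.ofFinite G
  let _ : Fintype M := Fintype.ofFinite M
  let _ := Helper74.irrFintype M
  have hMcomm : ∀ a b : M, a * b = b * a := fun a b => Subtype.ext (hMc a a.2 b b.2)
  -- (a) a nontrivial irreducible character of `M`
  obtain ⟨lam, hlamne⟩ : ∃ lam : IrrCharacter M, (lam : M → ℂ) ≠ fun _ => 1 := by
    obtain ⟨x, hx1⟩ := Subgroup.ne_bot_iff_exists_ne_one.1 hM1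
    by_contra hcon
    push Not at hcon
    have hsum := sum_irr_apply_of_ne_one hMcomm hx1
    have h2 : ∑ lam : IrrCharacter M, (lam : M → ℂ) x = (Fintype.card (IrrCharacter M) : ℂ) := by
      rw [Finset.card_univ.symm, Finset.card_eq_sum_ones]
      push_cast
      refine Finset.sum_congr rfl fun lam _ => ?_
      rw [hcon lam]
    rw [h2] at hsum
    have h3 : Fintype.card (IrrCharacter M) = 0 := by exact_mod_cast hsum
    have h4 : IsEmpty (IrrCharacter M) := Fintype.card_eq_zero_iff.1 h3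
    exact h4.false ⟨_, isIrrCharacter_one M⟩
  have hlam : IsIrrCharacter M (lam : M → ℂ) := lam.2
  have hlamc : IsCharacter M (lam : M → ℂ) := Helper74.isCharacter_of_isIrr hlam
  have hlam1 : (lam : M → ℂ) 1 = 1 := irr_one_eq_one_of_comm hMcomm hlam
  -- (b) the inertia group
  obtain ⟨T, hT⟩ : ∃ T : Subgroup G, T = inertia M (lam : M → ℂ) := ⟨_, rfl⟩
  let _ : Fintype T := Fintype.ofFinite T
  have hMT : M ≤ T := hT ▸ le_inertia M (Helper74.isClassFunction_of_isCharacter hlamc)
  -- (d) some `ψ₀ ∈ Irr(T | lam)`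
  obtain ⟨χ, hχ, hχne⟩ := Helper80.exists_irr_over M hlam
  obtain ⟨ψ₀, hψ₀, -, hψ₀inner⟩ := clifford_correspondence_exists M hlam T hT hMT hχ hχne
  have hψ₀ne : classInner (resTo M T hMT ψ₀) (lam : M → ℂ) ≠ 0 := by
    have : resTo M T hMT ψ₀ = fun n : M => ψ₀ ⟨(n : G), hMT n.2⟩ := rfl
    rw [this, hψ₀inner]
    exact hχne
  have hnd₀ := not_dvd_of_over_nontrivial p M hC hlam hlamne T hT hMT hψ₀ hψ₀ne
  have hTidx : ¬ p ∣ T.index := fun h => hnd₀ (Dvd.dvd.mul_right h _)
  have hψ₀deg : ¬ p ∣ charDegree ψ₀ := fun h => hnd₀ (Dvd.dvd.mul_left h _)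
  -- (e) `ψ₀` restricts to a multiple of `lam`
  have hres₀ := resTo_eq_smul_of_le_inertia M hlam T hT.le hMT hψ₀ hψ₀ne
  have hψ₀c : IsCharacter T ψ₀ := Helper74.isCharacter_of_isIrr hψ₀
  have hd : classInner (resTo M T hMT ψ₀) (lam : M → ℂ) = (charDegree ψ₀ : ℂ) := by
    have h1 := congrFun hres₀ 1
    rw [Pi.smul_apply, smul_eq_mul, hlam1, mul_one, resTo_apply] at h1
    rw [← h1, Helper74.charDegree_cast hψ₀c]
    rfl
  rw [hd] at hres₀
  -- (f) `lam` extends to `T`
  have hcop : Nat.Coprime (charDegree ψ₀) (Nat.card M) := by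
    obtain ⟨k, hk⟩ := IsPGroup.iff_card.1 hMp
    rw [hk]
    exact Nat.Coprime.pow_right k ((Nat.Prime.coprime_iff_not_dvd hp).2 hψ₀deg).symm
  obtain ⟨μ, hμ, hμ1, hμres⟩ := exists_linear_extension_of_det (Subgroup.inclusion hMT) hψ₀c
    hlamc hlam1 (charDegree ψ₀) (fun s => by
      have h1 := congrFun hres₀ s
      rw [Pi.smul_apply, smul_eq_mul, resTo_apply] at h1
      exact h1) hcop
  -- (g) degrees of `Irr(T ⧸ M)` are prime to `p`
  have hMn' : (M.subgroupOf T).Normal := Subgroup.normal_subgroupOf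
  have hβ : ∀ β : IrrCharacter (↥T ⧸ M.subgroupOf T),
      ¬ p ∣ charDegree (β : ↥T ⧸ M.subgroupOf T → ℂ) := by
    intro β
    have hβ' : IsIrrCharacter T (fun t : T => (β : ↥T ⧸ M.subgroupOf T → ℂ)
        (QuotientGroup.mk' (M.subgroupOf T) t)) :=
      Helper80.IsIrrCharacter.comp_surjective β.2 _ (QuotientGroup.mk'_surjective _)
    have hψ := isIrrCharacter_linear_mul hμ hμ1 hβ'
    have hres : resTo M T hMT (μ * fun t : T => (β : ↥T ⧸ M.subgroupOf T → ℂ)
        (QuotientGroup.mk' (M.subgroupOf T) t)) = ((β : ↥T ⧸ M.subgroupOf T → ℂ) 1) • (lam : M → ℂ) := by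
      funext n
      rw [resTo_apply, Pi.mul_apply, Pi.smul_apply, smul_eq_mul, mul_comm]
      have h1 : μ ⟨(n : G), hMT n.2⟩ = (lam : M → ℂ) n := hμres n
      have h2 : QuotientGroup.mk' (M.subgroupOf T) ⟨(n : G), hMT n.2⟩ = 1 := by
        rw [QuotientGroup.mk'_apply, QuotientGroup.eq_one_iff, Subgroup.mem_subgroupOf]
        exact n.2
      rw [h1, h2]
    have hne : classInner (resTo M T hMT (μ * fun t : T => (β : ↥T ⧸ M.subgroupOf T → ℂ)
        (QuotientGroup.mk' (M.subgroupOf T) t))) (lam : M → ℂ) ≠ 0 := by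
      rw [hres, Helper74.classInner_smul_left, Helper74.irr_inner_self lam, mul_one]
      exact Helper80.IsIrrCharacter.map_one_ne_zero β.2
    have hnd := not_dvd_of_over_nontrivial p M hC hlam hlamne T hT hMT hψ hne
    intro hdvd
    apply hnd
    apply Dvd.dvd.mul_left
    have hdeg : charDegree (μ * fun t : T => (β : ↥T ⧸ M.subgroupOf T → ℂ)
        (QuotientGroup.mk' (M.subgroupOf T) t)) = charDegree (β : ↥T ⧸ M.subgroupOf T → ℂ) := by
      unfold charDegree
      rw [Pi.mul_apply, hμ1, one_mul, map_one]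
    rw [hdeg]
    exact hdvd
  -- (h) Sylow subgroups of `T ⧸ M` are abelian
  have hpsT : IsPSolvable p T := Cfsg.Agent.Helper1.Hol.isPSolvable_subgroup' T hps
  have hpsQ : IsPSolvable p (↥T ⧸ M.subgroupOf T) := Helper11.isPSolvable_quotient _ hpsT
  have habel : ∀ Q : Sylow p (↥T ⧸ M.subgroupOf T), IsMulCommutative Q :=
    fun Q => ((Cfsg.Agent.S4713.result p hpsQ Q).2 hβ).2
  -- (j) a Sylow subgroup of `T` has derived length at most two
  obtain ⟨P₁⟩ : Nonempty (Sylow p T) := inferInstance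
  have hP₁ : derivedSeries ↥(P₁ : Subgroup T) 2 = ⊥ := by
    let f : ↥(P₁ : Subgroup T) →* ↥T ⧸ M.subgroupOf T :=
      (QuotientGroup.mk' (M.subgroupOf T)).comp (P₁ : Subgroup T).subtype
    have himg : IsPGroup p ((P₁ : Subgroup T).map (QuotientGroup.mk' (M.subgroupOf T))) :=
      P₁.2.map _
    obtain ⟨Q, hQ⟩ := himg.exists_le_sylow
    have hcommf : ∀ a b : ↥(P₁ : Subgroup T), f a * f b = f b * f a := by
      intro a b
      have ha : f a ∈ (Q : Subgroup (↥T ⧸ M.subgroupOf T)) :=
        hQ (Subgroup.mem_map_of_mem _ a.2)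
      have hb : f b ∈ (Q : Subgroup (↥T ⧸ M.subgroupOf T)) :=
        hQ (Subgroup.mem_map_of_mem _ b.2)
      have := (habel Q).is_comm.comm ⟨f a, ha⟩ ⟨f b, hb⟩
      exact congrArg Subtype.val this
    have hker : ∀ a b : ↥(P₁ : Subgroup T), f a = 1 → f b = 1 → a * b = b * a := by
      intro a b ha hb
      have ha' : ((a : T) : G) ∈ M := by
        have : QuotientGroup.mk' (M.subgroupOf T) (a : T) = 1 := ha
        rw [QuotientGroup.mk'_apply, QuotientGroup.eq_one_iff, Subgroup.mem_subgroupOf] at this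
        exact this
      have hb' : ((b : T) : G) ∈ M := by
        have : QuotientGroup.mk' (M.subgroupOf T) (b : T) = 1 := hb
        rw [QuotientGroup.mk'_apply, QuotientGroup.eq_one_iff, Subgroup.mem_subgroupOf] at this
        exact this
      apply Subtype.ext
      apply Subtype.ext
      exact hMc _ ha' _ hb'
    exact derivedSeries_succ_eq_bot_of_ker_comm f hker 1 (derivedSeries_one_map_eq_one f hcommf)
  -- (i) transport to `P`
  obtain ⟨H, hH⟩ : ∃ H : Subgroup G, H = (P₁ : Subgroup T).map T.subtype := ⟨_, rfl⟩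
  have hcardH : Nat.card H = p ^ (Nat.card G).factorization p := by
    rw [hH, Subgroup.card_map_of_injective T.subtype_injective, P₁.card_eq_multiplicity,
      ← Subgroup.card_mul_index T, Nat.factorization_mul Nat.card_pos.ne'
        T.index_ne_zero_of_finite, Finsupp.add_apply,
      Nat.factorization_eq_zero_of_not_dvd hTidx, add_zero]
  have e₁ : ↥(P : Subgroup G) ≃* ↥((Sylow.ofCard H hcardH : Sylow p G) : Subgroup G) :=
    Sylow.equiv P _
  have e₂ : ↥(P₁ : Subgroup T) ≃* ↥H := by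
    rw [hH]
    exact (P₁ : Subgroup T).equivMapOfInjective T.subtype T.subtype_injective
  have hH2 : derivedSeries ↥H 2 = ⊥ := derivedSeries_eq_bot_of_mulEquiv e₂.symm 2 hP₁
  exact derivedSeries_eq_bot_of_mulEquiv e₁ 2 hH2

end Cfsg.Agent.Helper82
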