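import Mathlib
import Cfsg.Agent.Helper99.P4Defs

/-!
# S6000, piece (N7) of helper99's plan: a multiplicative function on an additively closed set
of `V4` either is trivial or sums to zero
-/

set_option autoImplicit false
set_option linter.unusedVariables false

namespace Cfsg.Agent.Helper82.P4

open Matrix Cfsg.Agent.Helper99.P4

variable {F : Type*} [Field F]

/-- (N7) -/
theorem sum_fix (lam : V4 → F) (Fix : Finset V4) (h0 : (0 : V4) ∈ Fix)
    (hadd : ∀ u ∈ Fix, ∀ v ∈ Fix, u + v ∈ Fix)
    (hmul : ∀ u ∈ Fix, ∀ v ∈ Fix, lam (u + v) = lam u * lam v) :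
    (∑ v ∈ Fix, lam v = (Fix.card : F) ∧ ∀ v ∈ Fix, lam v = 1) ∨ ∑ v ∈ Fix, lam v = 0 := by
  by_cases hall : ∀ v ∈ Fix, lam v = 1
  · left
    refine ⟨?_, hall⟩
    rw [Finset.sum_congr rfl hall, Finset.sum_const, nsmul_eq_mul, mul_one]
  · right
    push Not at hall
    obtain ⟨u, hu, hlu⟩ := hall
    -- reindex by `v ↦ u + v`
    have hre : ∑ v ∈ Fix, lam (u + v) = ∑ v ∈ Fix, lam v := by
      apply Finset.sum_nbij' (fun v => u + v) (fun v => u + v)
      · intro v hv
        exact hadd u hu v hv
      · intro v hv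
        exact hadd u hu v hv
      · intro v _
        rw [← add_assoc, add_self_V4, zero_add]
      · intro v _
        rw [← add_assoc, add_self_V4, zero_add]
      · intro v _
        rfl
    have h1 : ∑ v ∈ Fix, lam (u + v) = lam u * ∑ v ∈ Fix, lam v := by
      rw [Finset.mul_sum]
      exact Finset.sum_congr rfl (fun v hv => hmul u hu v hv)
    have h2 : (lam u - 1) * ∑ v ∈ Fix, lam v = 0 := by
      rw [sub_mul, one_mul, ← h1, hre, sub_self]
    rcases mul_eq_zero.mp h2 with h | h
    · exact absurd (sub_eq_zero.mp h) hlu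
    · exact h

end Cfsg.Agent.Helper82.P4
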