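import Cfsg.Agent.Helper74.A7Defs
import Cfsg.Agent.Helper16.Brauer43.GL
import Cfsg.Agent.Helper79.CharComplete
import Cfsg.Agent.Helper20.D8Main
import Cfsg.Agent.Helper25.NPCSimple

/-!
# S0984 sub-tree GLOBAL (helper74 #9405): piece (CH7a3) `exists_blk7_raw` (helper82)

The raw principal 7-block data of a simple group of order 2520 with self-centralizing Sylow
7-subgroup and `|N(P) : P| = 3`, from Brauer's theorem (`Helper16.Brauer43.exists_L0Data`) and the
glue lemmas of `Helper16.Brauer43.GL`.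
-/

set_option autoImplicit false

namespace Cfsg.Agent.Helper82.A7

open Cfsg Cfsg.Agent.Helper74.A7 Cfsg.Agent.Helper16 Cfsg.Agent.Helper16.DefOne
  Cfsg.Agent.Helper16.Brauer43
open scoped ComplexConjugate

universe u

variable {G : Type u} [Group G]

/-- set-level extraction: a set of 3 elements containing `a` is `{a, b, c}`; a set of two
elements is `{d, e}` -/
theorem CH7a3_set_extraction {α : Type*} (X Y : Set α) (a : α) (hX : Nat.card X = 3)
    (hY : Nat.card Y = 2) (ha : a ∈ X) (hdisj : Disjoint X Y) :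
    ∃ b c d e : α, X = {a, b, c} ∧ Y = {d, e} ∧ [a, b, c, d, e].Nodup := by
  rw [Nat.card_coe_set_eq] at hX hY
  obtain ⟨x, y, z, hxy, hxz, hyz, hXe⟩ := Set.ncard_eq_three.1 hX
  obtain ⟨d, e, hde, hYe⟩ := Set.ncard_eq_two.1 hY
  have key : ∀ b c : α, a ≠ b → a ≠ c → b ≠ c → X = {a, b, c} →
      ∃ b c d e : α, X = {a, b, c} ∧ Y = {d, e} ∧ [a, b, c, d, e].Nodup := by
    intro b c hab hac hbc hXabc
    refine ⟨b, c, d, e, hXabc, hYe, ?_⟩
    have hdY : d ∈ Y := by rw [hYe]; simp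
    have heY : e ∈ Y := by rw [hYe]; simp
    have hnot : ∀ u ∈ X, ∀ v ∈ Y, u ≠ v := by
      intro u hu v hv huv
      rw [Set.disjoint_left] at hdisj
      exact hdisj hu (huv ▸ hv)
    have haX : a ∈ X := ha
    have hbX : b ∈ X := by rw [hXabc]; simp
    have hcX : c ∈ X := by rw [hXabc]; simp
    simp only [List.nodup_cons, List.mem_cons, List.not_mem_nil, or_false, not_or,
      List.nodup_nil, and_true, not_false_eq_true]
    exact ⟨⟨hab, hac, hnot a haX d hdY, hnot a haX e heY⟩,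
      ⟨hbc, hnot b hbX d hdY, hnot b hbX e heY⟩, ⟨hnot c hcX d hdY, hnot c hcX e heY⟩, hde⟩
  rw [hXe] at ha
  rcases ha with rfl | rfl | rfl
  · exact key y z hxy hxz hyz hXe
  · refine key x z (Ne.symm hxy) hyz hxz ?_
    rw [hXe, Set.insert_comm]
  · refine key x y (Ne.symm hxz) (Ne.symm hyz) hxy ?_
    rw [hXe]
    ext u
    simp only [Set.mem_insert_iff, Set.mem_singleton_iff]
    tauto

/-- sum of squares of the degrees of distinct irreducible characters -/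
theorem CH7a3_sum_sq_le [Fintype G] (l : List (IrrCharacter G)) (hl : l.Nodup) :
    (l.map (fun χ : IrrCharacter G => charDegree (χ : G → ℂ) ^ 2)).sum ≤ Nat.card G := by
  classical
  haveI : Fintype (IrrCharacter G) := Helper74.irrFintype G
  rw [← Helper79.sum_charDegree_sq (G := G), ← List.sum_toFinset _ hl]
  exact Finset.sum_le_sum_of_subset (Finset.subset_univ _)

theorem CH7a3_charDegree_principal : charDegree ((Helper79.principalIrr G : IrrCharacter G) : G → ℂ) = 1 := by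
  simp [charDegree, Helper79.principalIrr]

/-- (CH7a3) the raw block data from Brauer's theorem -/
theorem exists_blk7_raw [Fintype G] [IsSimpleGroup G] [Fact (Nat.Prime 7)]
    (hcard : Nat.card G = 2520) (P : Sylow 7 G) (hP : Nat.card (P : Subgroup G) = 7)
    (hC : Subgroup.centralizer ((P : Subgroup G) : Set G) = (P : Subgroup G))
    (hrel : (Subgroup.centralizer ((P : Subgroup G) : Set G)).relIndex
      (Subgroup.normalizer ((P : Subgroup G) : Set G)) = 3)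
    (hidx : (Subgroup.normalizer ((P : Subgroup G) : Set G)).index = 120) :
    ∃ (B : Blk7 G) (ε₂ ε₃ : ℤ), (ε₂ = 1 ∨ ε₂ = -1) ∧ (ε₃ = 1 ∨ ε₃ = -1) ∧ (B.δ = 1 ∨ B.δ = -1) ∧
      (charDegree (B.χ₂ : G → ℂ) : ℤ) ≡ ε₂ [ZMOD 7] ∧
      (charDegree (B.χ₃ : G → ℂ) : ℤ) ≡ ε₃ [ZMOD 7] ∧
      (charDegree (B.θ₁ : G → ℂ) : ℤ) ≡ B.δ * 3 [ZMOD 7] ∧
      charDegree (B.χ₂ : G → ℂ) ∣ 360 ∧ charDegree (B.χ₃ : G → ℂ) ∣ 360 ∧
      charDegree (B.θ₁ : G → ℂ) ∣ 360 ∧
      2 ≤ charDegree (B.χ₂ : G → ℂ) ∧ 2 ≤ charDegree (B.χ₃ : G → ℂ) ∧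
      B.δ * (charDegree (B.θ₁ : G → ℂ) : ℤ) =
        1 + ε₂ * (charDegree (B.χ₂ : G → ℂ) : ℤ) + ε₃ * (charDegree (B.χ₃ : G → ℂ) : ℤ) ∧
      1 + charDegree (B.χ₂ : G → ℂ) ^ 2 + charDegree (B.χ₃ : G → ℂ) ^ 2 +
        2 * charDegree (B.θ₁ : G → ℂ) ^ 2 ≤ 2520 := by
  classical
  haveI : Fintype (P : Subgroup G) := Fintype.ofFinite _
  have hP' : Nat.card P = 7 := hP
  have hC' : cen P = (P : Subgroup G) := hC
  have hnor : nor P = Subgroup.normalizer ((P : Subgroup G) : Set G) :=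
    Helper82.DefOne.nor_eq_normalizer P hP'
  have he : (cen P).relIndex (nor P) = 3 := by
    rw [hnor]
    exact hrel
  have hidx' : (nor P).index = 120 := by
    rw [hnor]
    exact hidx
  obtain ⟨D⟩ := exists_L0Data P hP' hC'
  -- `G` is perfect
  have hPn : ¬ (P : Subgroup G).Normal := by
    intro hn
    rcases hn.eq_bot_or_eq_top with h | h
    · rw [h, Subgroup.card_bot] at hP
      omega
    · rw [h, Subgroup.card_top, hcard] at hP
      omega
  have hperf : commutator G = ⊤ :=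
    Helper25.NPCSimple.commutator_eq_top_of_simple (P : Subgroup G) hPn
  obtain ⟨h1X, hε1⟩ := GL.principal_mem_X P D hperf (by rw [he])
  have hcX : Nat.card D.X = 3 := by rw [D.hcX, he]
  have hcY : Nat.card D.Y = 2 := by rw [D.hcY, he]
  obtain ⟨b, c, d, e, hXe, hYe, hnd⟩ :=
    CH7a3_set_extraction D.X D.Y (Helper79.principalIrr G) hcX hcY h1X D.hdisj
  have hbX : b ∈ D.X := by rw [hXe]; simp
  have hcX' : c ∈ D.X := by rw [hXe]; simp
  have hdY : d ∈ D.Y := by rw [hYe]; simp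
  have heY : e ∈ D.Y := by rw [hYe]; simp
  have hnd' := hnd
  simp only [List.nodup_cons, List.mem_cons, List.not_mem_nil, or_false, not_or,
    List.nodup_nil, and_true, not_false_eq_true] at hnd'
  obtain ⟨⟨h1b, h1c, h1d, h1e⟩, ⟨hbc, hbd, hbe⟩, ⟨hcd, hce⟩, hde⟩ := hnd'
  have hY1 : ∀ θ : IrrCharacter G, θ = d ∨ θ = e →
      ∑ᶠ z : (P : Subgroup G), (θ : G → ℂ) z = (charDegree (θ : G → ℂ) : ℂ) - (D.δ : ℂ) * 3 := by
    intro θ hθ
    have hθY : θ ∈ D.Y := by
      rcases hθ with rfl | rfl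
      · exact hdY
      · exact heY
    rw [finsum_eq_sum_of_fintype, D.hY1 θ hθY, he]
    norm_num
  have hY2 : ∀ θ : IrrCharacter G, θ = d ∨ θ = e →
      ∑ᶠ z : (P : Subgroup G), (θ : G → ℂ) z * conj ((θ : G → ℂ) z) =
        (charDegree (θ : G → ℂ) : ℂ) ^ 2 + 12 := by
    intro θ hθ
    have hθY : θ ∈ D.Y := by
      rcases hθ with rfl | rfl
      · exact hdY
      · exact heY
    rw [finsum_eq_sum_of_fintype, D.hY2 θ hθY, he]
    norm_num
    ring
  have hall : ∀ ψ : IrrCharacter G, ψ = Helper79.principalIrr G ∨ ψ = b ∨ ψ = c ∨ ψ = d ∨ ψ = e ∨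
      7 ∣ charDegree (ψ : G → ℂ) := by
    intro ψ
    by_cases hψX : ψ ∈ D.X
    · rw [hXe] at hψX
      rcases hψX with h | h | h
      · exact Or.inl h
      · exact Or.inr (Or.inl h)
      · exact Or.inr (Or.inr (Or.inl h))
    · by_cases hψY : ψ ∈ D.Y
      · rw [hYe] at hψY
        rcases hψY with h | h
        · exact Or.inr (Or.inr (Or.inr (Or.inl h)))
        · exact Or.inr (Or.inr (Or.inr (Or.inr (Or.inl h))))
      · exact Or.inr (Or.inr (Or.inr (Or.inr (Or.inr (GL.dvd_deg_Z P D hP' ψ hψX hψY)))))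
  obtain ⟨B, hB⟩ : ∃ B : Blk7 G, B = ⟨P, b, c, d, e, D.δ, hP, hnd, hall,
      GL.deg_Y_eq P D e d heY hdY, hY1, hY2⟩ := ⟨_, rfl⟩
  have hBχ₂ : B.χ₂ = b := by rw [hB]
  have hBχ₃ : B.χ₃ = c := by rw [hB]
  have hBθ₁ : B.θ₁ = d := by rw [hB]
  have hBδ : B.δ = D.δ := by rw [hB]
  have htwo : ∀ χ : IrrCharacter G, χ ≠ Helper79.principalIrr G →
      2 ≤ charDegree (χ : G → ℂ) := by
    intro χ hχ
    by_contra hlt
    have hpos := Helper79.irr_charDegree_pos χ
    have h1 : charDegree (χ : G → ℂ) = 1 := by omega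
    apply hχ
    apply Helper20.D8.eq_principal_of_degree_one hperf χ
    rw [Helper79.irr_one, h1]
    norm_num
  have hdvd : ∀ χ ∈ D.X, charDegree (χ : G → ℂ) ∣ 360 := by
    intro χ hχ
    have := GL.deg_dvd_X P D hP' hC' χ hχ
    rw [he, hidx'] at this
    exact this
  have hdvdY : ∀ χ ∈ D.Y, charDegree (χ : G → ℂ) ∣ 360 := by
    intro χ hχ
    have := GL.deg_dvd_Y P D hP' hC' χ hχ
    rw [he, hidx'] at this
    exact this
  have hmodY : (charDegree (d : G → ℂ) : ℤ) ≡ D.δ * 3 [ZMOD 7] := by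
    have := GL.deg_modEq_Y P D hP' d hdY
    rw [he] at this
    exact_mod_cast this
  have heq : D.δ * (charDegree (d : G → ℂ) : ℤ) =
      1 + D.ε b * (charDegree (b : G → ℂ) : ℤ) + D.ε c * (charDegree (c : G → ℂ) : ℤ) := by
    rw [GL.degree_equation P D d hdY, hXe,
      finsum_mem_insert _ (by
        simp only [Set.mem_insert_iff, Set.mem_singleton_iff, not_or]
        exact ⟨h1b, h1c⟩) (Set.toFinite _), finsum_mem_pair hbc, hε1,
      CH7a3_charDegree_principal]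
    push_cast
    ring
  have hsq : 1 + charDegree (b : G → ℂ) ^ 2 + charDegree (c : G → ℂ) ^ 2 +
      2 * charDegree (d : G → ℂ) ^ 2 ≤ 2520 := by
    have h := CH7a3_sum_sq_le [Helper79.principalIrr G, b, c, d, e] hnd
    rw [hcard] at h
    simp only [List.map_cons, List.map_nil, List.sum_cons, List.sum_nil] at h
    rw [CH7a3_charDegree_principal, GL.deg_Y_eq P D e d heY hdY] at h
    omega
  refine ⟨B, D.ε b, D.ε c, D.hε b, D.hε c, ?_, ?_, ?_, ?_, ?_, ?_, ?_, ?_, ?_, ?_, ?_⟩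
  · rw [hBδ]; exact D.hδ
  · rw [hBχ₂]; exact_mod_cast GL.deg_modEq_X P D hP' b hbX
  · rw [hBχ₃]; exact_mod_cast GL.deg_modEq_X P D hP' c hcX'
  · rw [hBθ₁, hBδ]; exact hmodY
  · rw [hBχ₂]; exact hdvd b hbX
  · rw [hBχ₃]; exact hdvd c hcX'
  · rw [hBθ₁]; exact hdvdY d hdY
  · rw [hBχ₂]; exact htwo b (Ne.symm h1b)
  · rw [hBχ₃]; exact htwo c (Ne.symm h1c)
  · rw [hBθ₁, hBδ, hBχ₂, hBχ₃]; exact heq
  · rw [hBθ₁, hBχ₂, hBχ₃]; exact hsq

end Cfsg.Agent.Helper82.A7
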