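import Mathlib

/-!
# S0984 sub-tree LOC (helper85 #8843): piece (G3b) `invol_conj_of_exponent_two` (helper82)

`G` simple of order 2520 with an elementary abelian Sylow 2-subgroup `S` (order 8): all involutions
of `S` are conjugate in `G` (in fact under `N = N_G(S)`).

* transfer `G → S` and Burnside's fusion lemma: no `z ≠ 1` of `S` is centralized by `N`
  (else `V(z) = z^|G:S| = z ≠ 1`, but `G` is perfect);
* the `N`-orbits on the 7 involutions of `S` have odd size `≠ 1`, so there is only one.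
-/

set_option autoImplicit false

namespace Cfsg.Agent.Helper82.A7

universe u

variable {G : Type u} [Group G]

/-- homomorphisms from a simple group of order 2520 to commutative monoids are trivial -/
theorem G3b_hom_trivial [Finite G] [IsSimpleGroup G] (hcard : Nat.card G = 2520) {A : Type*}
    [CommMonoid A] (φ : G →* A) (g : G) : φ g = 1 := by
  have hN : (MonoidHom.ker φ).Normal := MonoidHom.normal_ker φ
  rcases IsSimpleGroup.eq_bot_or_eq_top_of_normal _ hN with h | h
  · exfalso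
    have hcomm : ∀ a b : G, a * b = b * a := by
      intro a b
      have hm : a * b * a⁻¹ * b⁻¹ ∈ MonoidHom.ker φ := by
        rw [MonoidHom.mem_ker, map_mul, map_mul, map_mul]
        have ha : φ a * φ a⁻¹ = 1 := by rw [← map_mul, mul_inv_cancel, map_one]
        have hb : φ b * φ b⁻¹ = 1 := by rw [← map_mul, mul_inv_cancel, map_one]
        calc φ a * φ b * φ a⁻¹ * φ b⁻¹ = (φ a * φ a⁻¹) * (φ b * φ b⁻¹) := by
              rw [mul_mul_mul_comm, mul_assoc]
          _ = 1 := by rw [ha, hb, mul_one]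
      rw [h] at hm
      have h1 := Subgroup.mem_bot.1 hm
      calc a * b = (a * b * a⁻¹ * b⁻¹) * (b * a) := by group
        _ = b * a := by rw [h1, one_mul]
    let _i : CommGroup G := { (inferInstance : Group G) with mul_comm := hcomm }
    have hp : (Nat.card G).Prime := IsSimpleGroup.prime_card (α := G)
    rw [hcard] at hp
    norm_num at hp
  · have hm : g ∈ MonoidHom.ker φ := by
      rw [h]
      exact Subgroup.mem_top g
    exact MonoidHom.mem_ker.1 hm

/-- elements of exponent two commute -/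
theorem G3b_comm_of_sq (a b : G) (ha : a ^ 2 = 1) (hb : b ^ 2 = 1) (hab : (a * b) ^ 2 = 1) :
    a * b = b * a := by
  have ha' : a⁻¹ = a := inv_eq_of_mul_eq_one_left (by rwa [pow_two] at ha)
  have hb' : b⁻¹ = b := inv_eq_of_mul_eq_one_left (by rwa [pow_two] at hb)
  have hab' : (a * b)⁻¹ = a * b := inv_eq_of_mul_eq_one_left (by rwa [pow_two] at hab)
  calc a * b = (a * b)⁻¹ := hab'.symm
    _ = b⁻¹ * a⁻¹ := mul_inv_rev a b
    _ = b * a := by rw [ha', hb']

open scoped IsMulCommutative in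
/-- no non-identity element of `S` is centralized by `N_G(S)` -/
theorem G3b_exists_moving [Finite G] [IsSimpleGroup G] (hcard : Nat.card G = 2520)
    (S : Sylow 2 G) (hexp : ∀ s ∈ (S : Subgroup G), s ^ 2 = 1) (z : G)
    (hzS : z ∈ (S : Subgroup G)) (hz : z ≠ 1) :
    ∃ n ∈ Subgroup.normalizer ((S : Subgroup G) : Set G), n * z * n⁻¹ ≠ z := by
  by_contra hcon
  push Not at hcon
  haveI : Fact (Nat.Prime 2) := ⟨Nat.prime_two⟩
  have hcomm : ∀ a ∈ (S : Subgroup G), ∀ b ∈ (S : Subgroup G), a * b = b * a := by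
    intro a ha b hb
    exact G3b_comm_of_sq a b (hexp a ha) (hexp b hb) (hexp (a * b) (mul_mem ha hb))
  haveI hc1 : IsMulCommutative S := ⟨⟨fun a b => Subtype.ext (hcomm a a.2 b b.2)⟩⟩
  haveI hc2 : IsMulCommutative ↥(S : Subgroup G) :=
    ⟨⟨fun a b => Subtype.ext (hcomm a a.2 b b.2)⟩⟩
  have key : ∀ (k : ℕ) (g₀ : G), g₀⁻¹ * z ^ k * g₀ ∈ (S : Subgroup G) →
      g₀⁻¹ * z ^ k * g₀ = z ^ k := by
    intro k g₀ h
    obtain ⟨n, hn, hn'⟩ := S.conj_eq_normalizer_conj_of_mem (z ^ k) g₀ (pow_mem hzS k) h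
    rw [hn']
    have h1 : n⁻¹ * z * n = z := by
      have := hcon n⁻¹ (inv_mem hn)
      rwa [inv_inv] at this
    have h2 := conj_pow (a := n⁻¹) (b := z) (i := k)
    rw [inv_inv] at h2
    rw [← h2, h1]
  have htr := MonoidHom.transfer_eq_pow (MonoidHom.id ↥(S : Subgroup G)) z key
  have h1 : MonoidHom.transfer (MonoidHom.id ↥(S : Subgroup G)) z = 1 :=
    G3b_hom_trivial hcard _ z
  rw [h1] at htr
  have h2 : z ^ (S : Subgroup G).index = 1 := by
    have := congrArg Subtype.val htr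
    simpa using this.symm
  have hodd : ¬ 2 ∣ (S : Subgroup G).index := S.not_dvd_index
  obtain ⟨m, hm⟩ : ∃ m, (S : Subgroup G).index = 2 * m + 1 := ⟨(S : Subgroup G).index / 2, by omega⟩
  rw [hm, pow_succ, pow_mul, hexp z hzS, one_pow, one_mul] at h2
  exact hz h2

/-- the orbit of `w` under conjugation by the subgroup `N` -/
def G3b_orb (N : Subgroup G) (w : G) : Set G := {x | ∃ n ∈ N, n * w * n⁻¹ = x}

/-- the conjugation action of a subgroup `N` on `G` -/
@[instance_reducible] def G3b_conjAction (N : Subgroup G) : MulAction ↥N G :=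
  MulAction.compHom G ((MulAut.conj : G →* MulAut G).comp N.subtype)

theorem G3b_orb_eq (N : Subgroup G) (w : G) :
    G3b_orb N w = @MulAction.orbit ↥N G (G3b_conjAction N).toSMul w := by
  ext x
  constructor
  · rintro ⟨n, hn, rfl⟩
    exact ⟨⟨n, hn⟩, rfl⟩
  · rintro ⟨n, rfl⟩
    exact ⟨n.1, n.2, rfl⟩

theorem G3b_self_mem_orb (N : Subgroup G) (w : G) : w ∈ G3b_orb N w :=
  ⟨1, N.one_mem, by simp⟩

/-- orbits are disjoint or equal -/
theorem G3b_mem_orb_of_inter (N : Subgroup G) (s t x : G) (h1 : x ∈ G3b_orb N s)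
    (h2 : x ∈ G3b_orb N t) : t ∈ G3b_orb N s := by
  obtain ⟨n, hn, rfl⟩ := h1
  obtain ⟨m, hm, h⟩ := h2
  refine ⟨m⁻¹ * n, N.mul_mem (N.inv_mem hm) hn, ?_⟩
  have : t = m⁻¹ * (n * s * n⁻¹) * m := by
    rw [← h]
    group
  rw [this]
  group

theorem G3b_orb_subset (N : Subgroup G) (s t : G) (h : t ∈ G3b_orb N s) :
    G3b_orb N t ⊆ G3b_orb N s := by
  rintro x ⟨m, hm, rfl⟩
  obtain ⟨n, hn, rfl⟩ := h
  refine ⟨m * n, N.mul_mem hm hn, ?_⟩
  group

/-- orbit-stabilizer, in divisibility form -/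
theorem G3b_orb_card [Finite G] (N : Subgroup G) (w : G) (K : Subgroup G) (hKN : K ≤ N)
    (hK : ∀ k ∈ K, k * w * k⁻¹ = w) : (G3b_orb N w).ncard * Nat.card K ∣ Nat.card N := by
  letI := G3b_conjAction N
  have h1 : Nat.card (MulAction.orbit ↥N w) * Nat.card (MulAction.stabilizer ↥N w) =
      Nat.card N := by
    rw [← Nat.card_prod]
    exact Nat.card_congr (MulAction.orbitProdStabilizerEquivGroup ↥N w)
  have h2 : K.subgroupOf N ≤ MulAction.stabilizer ↥N w := by
    intro k hk
    rw [MulAction.mem_stabilizer_iff]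
    exact hK k.1 (Subgroup.mem_subgroupOf.1 hk)
  have h3 : Nat.card K ∣ Nat.card (MulAction.stabilizer ↥N w) := by
    rw [← Nat.card_congr (Subgroup.subgroupOfEquivOfLe hKN).toEquiv]
    exact Subgroup.card_dvd_of_le h2
  rw [G3b_orb_eq, ← h1, ← Nat.card_coe_set_eq]
  exact Nat.mul_dvd_mul_left _ h3

/-- (G3b) elementary abelian Sylow 2-subgroup of order 8: all its involutions are conjugate in `G`
(Burnside + transfer) -/
theorem invol_conj_of_exponent_two [Finite G] [IsSimpleGroup G] (hcard : Nat.card G = 2520)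
    (S : Sylow 2 G) (hexp : ∀ s ∈ (S : Subgroup G), s ^ 2 = 1) :
    ∀ s ∈ (S : Subgroup G), ∀ t ∈ (S : Subgroup G), orderOf s = 2 → orderOf t = 2 →
      IsConj s t := by
  intro s hs t ht hos hot
  haveI : Fact (Nat.Prime 2) := ⟨Nat.prime_two⟩
  obtain ⟨N, hN⟩ : ∃ N : Subgroup G, N = Subgroup.normalizer ((S : Subgroup G) : Set G) :=
    ⟨_, rfl⟩
  obtain ⟨X, hX⟩ : ∃ X : Set G, X = {x | x ∈ (S : Subgroup G) ∧ x ≠ 1} := ⟨_, rfl⟩
  have hXf : X.Finite := Set.toFinite X
  have hcomm : ∀ a ∈ (S : Subgroup G), ∀ b ∈ (S : Subgroup G), a * b = b * a := by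
    intro a ha b hb
    exact G3b_comm_of_sq a b (hexp a ha) (hexp b hb) (hexp (a * b) (mul_mem ha hb))
  -- |S| = 8
  have hScard : Nat.card (S : Subgroup G) = 8 := by
    have h1 := S.card_eq_multiplicity
    rw [hcard] at h1
    have h2 : (2520 : ℕ).factorization 2 = 3 := by
      have : (2520 : ℕ) = 2 ^ 3 * 315 := by norm_num
      rw [this, Nat.factorization_mul (by norm_num) (by norm_num), Nat.Prime.factorization_pow
        Nat.prime_two]
      simp [Nat.factorization_eq_zero_of_not_dvd (show ¬ 2 ∣ 315 by norm_num)]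
    rw [h2] at h1
    rw [h1]
    norm_num
  have hXcard : X.ncard = 7 := by
    have h1 : X = ((S : Subgroup G) : Set G) \ {1} := by
      rw [hX]
      ext x
      simp only [Set.mem_setOf_eq, Set.mem_diff, SetLike.mem_coe, Set.mem_singleton_iff]
    rw [h1, Set.ncard_sdiff_singleton_of_mem (Subgroup.one_mem _), ← Nat.card_coe_set_eq]
    change Nat.card (S : Subgroup G) - 1 = 7
    rw [hScard]
  have hSN : (S : Subgroup G) ≤ N := by
    rw [hN]
    exact Subgroup.le_normalizer
  have hNcard : Nat.card N ∣ 2520 := by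
    rw [← hcard]
    exact Subgroup.card_subgroup_dvd_card N
  -- facts on orbits
  have hfacts : ∀ w ∈ X, G3b_orb N w ⊆ X ∧ Odd (G3b_orb N w).ncard ∧
      3 ≤ (G3b_orb N w).ncard := by
    intro w hw
    rw [hX] at hw
    obtain ⟨hwS, hw1⟩ := hw
    have hsub : G3b_orb N w ⊆ X := by
      rintro x ⟨n, hn, rfl⟩
      rw [hX]
      refine ⟨?_, ?_⟩
      · rw [hN] at hn
        exact (Subgroup.mem_normalizer_iff.1 hn w).1 hwS
      · intro h
        apply hw1
        have : w = n⁻¹ * (n * w * n⁻¹) * n := by group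
        rw [this, h]
        group
    have hdvd := G3b_orb_card N w (S : Subgroup G) hSN
      (by
        intro k hk
        rw [hcomm k hk w hwS, mul_inv_cancel_right])
    rw [hScard] at hdvd
    have hdvd2 : (G3b_orb N w).ncard * 8 ∣ 2520 := dvd_trans hdvd hNcard
    have hodd : Odd (G3b_orb N w).ncard := by
      rw [← Nat.not_even_iff_odd]
      rintro ⟨m, hm⟩
      rw [hm] at hdvd2
      have h16 : 16 ∣ 2520 := dvd_trans ⟨m, by ring⟩ hdvd2
      norm_num at h16
    have hne1 : (G3b_orb N w).ncard ≠ 1 := by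
      intro h1
      obtain ⟨a, ha⟩ := Set.ncard_eq_one.1 h1
      obtain ⟨n, hn, hnw⟩ := G3b_exists_moving hcard S hexp w hwS hw1
      rw [← hN] at hn
      have h2 : w ∈ G3b_orb N w := G3b_self_mem_orb N w
      have h3 : n * w * n⁻¹ ∈ G3b_orb N w := ⟨n, hn, rfl⟩
      rw [ha] at h2 h3
      rw [Set.mem_singleton_iff] at h2 h3
      exact hnw (h3.trans h2.symm)
    refine ⟨hsub, hodd, ?_⟩
    obtain ⟨m, hm⟩ := hodd
    omega
  by_contra hst
  have hts : t ∉ G3b_orb N s := by
    rintro ⟨n, hn, h⟩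
    exact hst (isConj_iff.2 ⟨n, h⟩)
  have hsX : s ∈ X := by
    rw [hX]
    refine ⟨hs, ?_⟩
    rintro rfl
    simp at hos
  have htX : t ∈ X := by
    rw [hX]
    refine ⟨ht, ?_⟩
    rintro rfl
    simp at hot
  obtain ⟨hAX, hAodd, hA3⟩ := hfacts s hsX
  obtain ⟨hBX, hBodd, hB3⟩ := hfacts t htX
  have hdisj : Disjoint (G3b_orb N s) (G3b_orb N t) := by
    rw [Set.disjoint_left]
    intro x hx1 hx2
    exact hts (G3b_mem_orb_of_inter N s t x hx1 hx2)
  have hAf : (G3b_orb N s).Finite := Set.toFinite _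
  have hBf : (G3b_orb N t).Finite := Set.toFinite _
  have hunion : (G3b_orb N s ∪ G3b_orb N t).ncard = (G3b_orb N s).ncard + (G3b_orb N t).ncard :=
    Set.ncard_union_eq hdisj hAf hBf
  have hUX : G3b_orb N s ∪ G3b_orb N t ⊆ X := Set.union_subset hAX hBX
  by_cases hex : ∃ w ∈ X, w ∉ G3b_orb N s ∪ G3b_orb N t
  · obtain ⟨w, hwX, hw⟩ := hex
    obtain ⟨hCX, hCodd, hC3⟩ := hfacts w hwX
    have hdisj2 : Disjoint (G3b_orb N s ∪ G3b_orb N t) (G3b_orb N w) := by
      rw [Set.disjoint_left]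
      intro x hx1 hx2
      apply hw
      rcases hx1 with hx1 | hx1
      · left
        exact G3b_mem_orb_of_inter N s w x hx1 hx2
      · right
        exact G3b_mem_orb_of_inter N t w x hx1 hx2
    have h3 : ((G3b_orb N s ∪ G3b_orb N t) ∪ G3b_orb N w).ncard =
        (G3b_orb N s ∪ G3b_orb N t).ncard + (G3b_orb N w).ncard :=
      Set.ncard_union_eq hdisj2 (Set.toFinite _) (Set.toFinite _)
    have h4 : ((G3b_orb N s ∪ G3b_orb N t) ∪ G3b_orb N w).ncard ≤ X.ncard :=
      Set.ncard_le_ncard (Set.union_subset hUX hCX) hXf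
    omega
  · push Not at hex
    have hXU : X = G3b_orb N s ∪ G3b_orb N t := Set.Subset.antisymm hex hUX
    rw [← hXU, hXcard] at hunion
    obtain ⟨a, ha⟩ := hAodd
    obtain ⟨b, hb⟩ := hBodd
    omega

end Cfsg.Agent.Helper82.A7
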