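import Cfsg.Agent.Helper85.A7Defs

/-!
# S0984 sub-tree LOC (helper85 #8843): piece (R0) `exists_rep6` (helper82)

The representation behind a real irreducible character of degree 6 of a simple group of
order 2520: determinant one (`G` perfect), faithful (`G` simple, the representation is not
trivial), without fixed vector.
-/

set_option autoImplicit false

namespace Cfsg.Agent.Helper82.A7

open Cfsg Cfsg.Agent.Helper85.A7
open scoped ComplexConjugate

universe u

variable {G : Type u} [Group G]

/-- an invariant submodule of an irreducible representation is `⊥` or `⊤` -/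
theorem R0_eq_bot_or_eq_top {V : Type*} [AddCommGroup V] [Module ℂ V]
    (ρ : Representation ℂ G V) (hirr : ρ.IsIrreducible) (W : Submodule ℂ V)
    (hW : ∀ g, ∀ v ∈ W, ρ g v ∈ W) : W = ⊥ ∨ W = ⊤ := by
  have h := hirr.eq_bot_or_eq_top (⟨W, fun g v hv => hW g v hv⟩ : Subrepresentation ρ)
  rcases h with h | h
  · left
    exact congrArg Subrepresentation.toSubmodule h
  · right
    exact congrArg Subrepresentation.toSubmodule h

/-- an irreducible representation on `Fin 6 → ℂ` is not trivial -/
theorem R0_exists_ne_one (ρ : Representation ℂ G (Fin 6 → ℂ)) (hirr : ρ.IsIrreducible) :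
    ∃ g, ρ g ≠ 1 := by
  by_contra hcon
  push Not at hcon
  have hv : (Pi.single 0 1 : Fin 6 → ℂ) ≠ 0 := by
    intro h
    have := congrFun h 0
    simp at this
  rcases R0_eq_bot_or_eq_top ρ hirr (Submodule.span ℂ {(Pi.single 0 1 : Fin 6 → ℂ)})
    (by
      intro g v hv
      rw [hcon g]
      exact hv) with h | h
  · have hm : (Pi.single 0 1 : Fin 6 → ℂ) ∈ Submodule.span ℂ {(Pi.single 0 1 : Fin 6 → ℂ)} :=
      Submodule.mem_span_singleton_self _
    rw [h] at hm
    exact hv ((Submodule.mem_bot ℂ).1 hm)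
  · have h1 : Module.finrank ℂ (Submodule.span ℂ {(Pi.single 0 1 : Fin 6 → ℂ)}) = 1 :=
      finrank_span_singleton hv
    rw [h, finrank_top, Module.finrank_fin_fun] at h1
    omega

/-- (R0) the representation behind a real irreducible character of degree 6 -/
theorem exists_rep6 [Finite G] [IsSimpleGroup G] (hcard : Nat.card G = 2520) (χ : G → ℂ)
    (hχ : IsIrrCharacter G χ) (h6 : χ 1 = 6) (hreal : ∀ g, conj (χ g) = χ g) :
    ∃ D : Rep6 G, D.ρ.character = χ := by
  obtain ⟨n, ρ, hirr, hchar⟩ := hχ
  have hn : n = 6 := by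
    have h1 : ρ.character 1 = (n : ℂ) := by
      rw [Representation.char_one, Module.finrank_fin_fun]
    rw [hchar, h6] at h1
    exact_mod_cast h1.symm
  subst hn
  obtain ⟨g0, hg0⟩ := R0_exists_ne_one ρ hirr
  -- faithful
  have hker : ∀ g, ρ g = 1 → g = 1 := by
    intro g hg
    have hN : (MonoidHom.ker ρ).Normal := MonoidHom.normal_ker ρ
    rcases IsSimpleGroup.eq_bot_or_eq_top_of_normal _ hN with h | h
    · have hm : g ∈ MonoidHom.ker ρ := MonoidHom.mem_ker.2 hg
      rw [h] at hm
      exact Subgroup.mem_bot.1 hm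
    · exfalso
      have hm : g0 ∈ MonoidHom.ker ρ := by
        rw [h]
        exact Subgroup.mem_top g0
      exact hg0 (MonoidHom.mem_ker.1 hm)
  -- determinant one
  have hdet : ∀ g, LinearMap.det (ρ g) = 1 := by
    intro g
    obtain ⟨φ, hφ⟩ : ∃ φ : G →* ℂ, φ = (LinearMap.det : ((Fin 6 → ℂ) →ₗ[ℂ] (Fin 6 → ℂ)) →* ℂ).comp ρ :=
      ⟨_, rfl⟩
    have hφg : ∀ x, φ x = LinearMap.det (ρ x) := by
      intro x
      rw [hφ]
      rfl
    rw [← hφg]
    have hN : (MonoidHom.ker φ).Normal := MonoidHom.normal_ker φ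
    rcases IsSimpleGroup.eq_bot_or_eq_top_of_normal _ hN with h | h
    · exfalso
      have hcomm : ∀ a b : G, a * b = b * a := by
        intro a b
        have hm : a * b * a⁻¹ * b⁻¹ ∈ MonoidHom.ker φ := by
          rw [MonoidHom.mem_ker, map_mul, map_mul, map_mul]
          have ha : φ a * φ a⁻¹ = 1 := by rw [← map_mul, mul_inv_cancel, map_one]
          have hb : φ b * φ b⁻¹ = 1 := by rw [← map_mul, mul_inv_cancel, map_one]
          calc φ a * φ b * φ a⁻¹ * φ b⁻¹ = (φ a * φ a⁻¹) * (φ b * φ b⁻¹) := by ring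
            _ = 1 := by rw [ha, hb, mul_one]
        rw [h] at hm
        have h1 := Subgroup.mem_bot.1 hm
        calc a * b = (a * b * a⁻¹ * b⁻¹) * (b * a) := by group
          _ = b * a := by rw [h1, one_mul]
      letI : CommGroup G := { (inferInstance : Group G) with mul_comm := hcomm }
      have hp : (Nat.card G).Prime := IsSimpleGroup.prime_card (α := G)
      rw [hcard] at hp
      norm_num at hp
    · have hm : g ∈ MonoidHom.ker φ := by
        rw [h]
        exact Subgroup.mem_top g
      exact MonoidHom.mem_ker.1 hm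
  -- no fixed vector
  have hfix : fixSp ρ ⊤ = ⊥ := by
    rcases R0_eq_bot_or_eq_top ρ hirr (fixSp ρ ⊤)
      (by
        intro g v hv
        rw [(mem_fixSp ρ ⊤ v).1 hv g (Subgroup.mem_top g)]
        exact hv) with h | h
    · exact h
    · exfalso
      apply hg0
      apply LinearMap.ext
      intro v
      have hv : v ∈ fixSp ρ ⊤ := by
        rw [h]
        exact Submodule.mem_top
      rw [(mem_fixSp ρ ⊤ v).1 hv g0 (Subgroup.mem_top g0)]
      rfl
  refine ⟨⟨ρ, hdet, ?_, hker, hfix⟩, hchar⟩
  intro g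
  rw [hchar]
  exact hreal g

end Cfsg.Agent.Helper82.A7
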