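import Mathlib

set_option autoImplicit false

namespace Cfsg.Agent.Helper82

open FiniteField in
theorem finite_field_inverse_automorphism {F K : Type*} [Field F] [Fintype F] [Field K] [Fintype K]
    [Algebra F K] (S : Set K) (hS : Algebra.adjoin F S = ⊤) (hS0 : ∀ s ∈ S, s ≠ 0)
    (hn : 2 ≤ Module.finrank F K) :
    (∃ τ : K →ₐ[F] K, ∀ s ∈ S, τ s = s⁻¹) ↔
      (Even (Module.finrank F K) ∧
        ∀ s ∈ S, s ^ (Fintype.card F ^ (Module.finrank F K / 2) + 1) = 1) := by
  have hpowapply : ∀ (j : ℕ) (x : K), (frobeniusAlgHom F K ^ j) x = x ^ (Fintype.card F ^ j) := by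
    intro j x
    rw [AlgHom.coe_pow, coe_frobeniusAlgHom, pow_iterate]
  constructor
  · rintro ⟨τ, hτ⟩
    obtain ⟨⟨j, hj⟩, hjτ⟩ := (bijective_frobeniusAlgHom_pow F K).2 τ
    simp only at hjτ
    -- τ² = 1
    have hsq : τ * τ = 1 := by
      apply AlgHom.ext_of_adjoin_eq_top hS
      intro s hs
      show τ (τ s) = s
      rw [hτ s hs, map_inv₀, hτ s hs, inv_inv]
    have hdvd : Module.finrank F K ∣ 2 * j := by
      rw [← orderOf_frobeniusAlgHom F K]
      apply orderOf_dvd_of_pow_eq_one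
      rw [two_mul, pow_add, hjτ, hsq]
    have hj0 : j ≠ 0 := by
      rintro rfl
      rw [pow_zero] at hjτ
      -- every s is ±1, so adjoin is ⊥
      have hbot : Algebra.adjoin F S ≤ ⊥ := by
        apply Algebra.adjoin_le
        intro s hs
        have h1 : s = s⁻¹ := by
          have := hτ s hs
          rw [← hjτ] at this
          exact this
        have h2 : s * s = 1 := by
          nth_rewrite 2 [h1]
          exact mul_inv_cancel₀ (hS0 s hs)
        have h3 : s = 1 ∨ s = -1 := mul_self_eq_one_iff.1 h2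
        rcases h3 with h3 | h3
        · rw [h3]; exact Subalgebra.one_mem _
        · rw [h3]; exact Subalgebra.neg_mem _ (Subalgebra.one_mem _)
      rw [hS, top_le_iff] at hbot
      have := Subalgebra.bot_eq_top_iff_finrank_eq_one.1 hbot
      omega
    have h2j : 2 * j = Module.finrank F K := by
      obtain ⟨c, hc⟩ := hdvd
      have hc1 : c = 1 := by
        rcases c with _ | _ | c
        · omega
        · rfl
        · exfalso
          have : Module.finrank F K * (c + 1 + 1) ≥ Module.finrank F K * 2 :=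
            Nat.mul_le_mul_left _ (by omega)
          omega
      rw [hc, hc1, mul_one]
    refine ⟨⟨j, by omega⟩, ?_⟩
    intro s hs
    have hj2 : Module.finrank F K / 2 = j := by omega
    rw [hj2, pow_succ, ← hpowapply, hjτ, hτ s hs, inv_mul_cancel₀ (hS0 s hs)]
  · rintro ⟨_, hpow⟩
    refine ⟨frobeniusAlgHom F K ^ (Module.finrank F K / 2), fun s hs => ?_⟩
    rw [hpowapply]
    have := hpow s hs
    rw [pow_succ] at this
    exact eq_inv_of_mul_eq_one_left this

end Cfsg.Agent.Helper82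

namespace Cfsg.Agent.Helper82

universe u v w

open scoped MonoidAlgebra

/-- A faithful-or-not irreducible representation of a commutative group over a field is
"multiplication in a field": structure lemma. -/
theorem exists_field_model {F : Type u} [Field F] {H : Type v} [CommGroup H]
    {V : Type w} [AddCommGroup V] [Module F V] [Nontrivial V]
    (ρ : Representation F H V)
    (hirr : ∀ U : Submodule F V, (∀ h : H, ∀ u ∈ U, ρ h u ∈ U) → U = ⊥ ∨ U = ⊤) :
    ∃ (K : Type (max u v)) (_ : Field K) (_ : Algebra F K) (Φ : V ≃ₗ[F] K) (ν : H →* K),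
      (∀ h v, Φ (ρ h v) = ν h * Φ v) ∧ Algebra.adjoin F (Set.range ν) = ⊤ := by
  -- irreducible
  have hsimple : IsSimpleOrder (Subrepresentation ρ) := by
    refine { exists_pair_ne := ⟨⊥, ⊤, ?_⟩, eq_bot_or_eq_top := ?_ }
    · intro h
      have h' := congrArg Subrepresentation.toSubmodule h
      exact bot_ne_top h'
    · intro σ
      rcases hirr σ.toSubmodule (fun h u hu => σ.apply_mem_toSubmodule h hu) with h | h
      · left; exact Subrepresentation.toSubmodule_injective h
      · right; exact Subrepresentation.toSubmodule_injective h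
  have hsm : IsSimpleModule F[H] ρ.asModule :=
    (Representation.irreducible_iff_isSimpleModule_asModule ρ).1 hsimple
  obtain ⟨I, hI, ⟨e⟩⟩ := isSimpleModule_iff_quot_maximal.1 hsm
  let _ : Field (F[H] ⧸ I) := Ideal.Quotient.field I
  let Φ : V ≃ₗ[F] (F[H] ⧸ I) := ρ.asModuleEquiv.symm.trans (e.restrictScalars F)
  let ν : H →* (F[H] ⧸ I) := (Ideal.Quotient.mk I).toMonoidHom.comp (MonoidAlgebra.of F H)
  refine ⟨F[H] ⧸ I, inferInstance, inferInstance, Φ, ν, ?_, ?_⟩
  · intro h v
    show e (ρ.asModuleEquiv.symm (ρ h v)) = _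
    rw [Representation.asModuleEquiv_symm_map_rho, map_smul]
    rfl
  · rw [eq_top_iff]
    intro x hx
    clear hx
    obtain ⟨r, rfl⟩ := Ideal.Quotient.mk_surjective x
    induction r using MonoidAlgebra.induction_on with
    | of g => exact Algebra.subset_adjoin ⟨g, rfl⟩
    | add f g hf hg => rw [map_add]; exact Subalgebra.add_mem _ hf hg
    | smul r f hf =>
      have : (Ideal.Quotient.mk I) (r • f) = r • (Ideal.Quotient.mk I) f := rfl
      rw [this]
      exact Subalgebra.smul_mem _ hf r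

end Cfsg.Agent.Helper82

namespace Cfsg.Agent.Helper82

open Polynomial

theorem form_to_aut {F : Type*} [Field F] {H : Type*} [CommGroup H] [Finite H]
    {V : Type*} [AddCommGroup V] [Module F V] [FiniteDimensional F V]
    (ρ : Representation F H V) {K : Type*} [Field K] [Algebra F K]
    (Φ : V ≃ₗ[F] K) (ν : H →* K) (hΦ : ∀ h v, Φ (ρ h v) = ν h * Φ v)
    (hadj : Algebra.adjoin F (Set.range ν) = ⊤) (hνinj : Function.Injective ν)
    (B : LinearMap.BilinForm F V) (hB : B.Nondegenerate)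
    (hinv : ∀ h : H, ∀ x y : V, B (ρ h x) (ρ h y) = B x y) :
    ∃ τ : K →ₐ[F] K, ∀ s ∈ Set.range ν, τ s = s⁻¹ := by
  have hfin : Module.Finite F K := Module.Finite.equiv Φ
  have hcyc : IsCyclic H := isCyclic_of_injective_ringHom ν hνinj
  obtain ⟨h0, hh0⟩ := IsCyclic.exists_generator (α := H)
  obtain ⟨u, hu⟩ : ∃ u : K, u = ν h0 := ⟨_, rfl⟩
  have hν0 : ∀ h, ν h ≠ 0 := by
    intro h hh
    have : ν h * ν h⁻¹ = 1 := by rw [← map_mul, mul_inv_cancel, map_one]
    rw [hh, zero_mul] at this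
    exact zero_ne_one this
  have hu0 : u ≠ 0 := hu ▸ hν0 h0
  have hpow : ∀ h, ∃ k : ℕ, ν h = u ^ k := by
    intro h
    have := (mem_powers_iff_mem_zpowers (x := h0) (y := h)).2 (hh0 h)
    obtain ⟨k, hk⟩ := this
    simp only at hk
    exact ⟨k, by rw [hu, ← map_pow, hk]⟩
  -- B transported to K
  have hsymm : ∀ h a, Φ.symm (ν h * a) = ρ h (Φ.symm a) := by
    intro h a
    apply Φ.injective
    rw [hΦ, LinearEquiv.apply_symm_apply, LinearEquiv.apply_symm_apply]
  have hinv' : ∀ h a b, B (Φ.symm (ν h * a)) (Φ.symm (ν h * b)) = B (Φ.symm a) (Φ.symm b) := by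
    intro h a b
    rw [hsymm, hsymm, hinv]
  have hinvpow : ∀ (k : ℕ) a b, B (Φ.symm (u ^ k * a)) (Φ.symm b) =
      B (Φ.symm a) (Φ.symm ((u⁻¹) ^ k * b)) := by
    intro k a b
    have h1 : u ^ k = ν (h0 ^ k) := by rw [map_pow, hu]
    have h2 : b = u ^ k * ((u⁻¹) ^ k * b) := by
      rw [← mul_assoc, ← mul_pow, mul_inv_cancel₀ hu0, one_pow, one_mul]
    conv_lhs => rw [h2]
    rw [h1, hinv']
  have hsm : ∀ (c : F) (z : K), Φ.symm (algebraMap F K c * z) = c • Φ.symm z := by
    intro c z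
    rw [← Algebra.smul_def, map_smul]
  have key : ∀ f : F[X], ∀ a b, B (Φ.symm (aeval u f * a)) (Φ.symm b) =
      B (Φ.symm a) (Φ.symm (aeval u⁻¹ f * b)) := by
    intro f
    induction f using Polynomial.induction_on' with
    | add p q hp hq =>
      intro a b
      simp only [map_add, add_mul, LinearMap.add_apply, hp, hq]
    | monomial n c =>
      intro a b
      rw [aeval_monomial, aeval_monomial, mul_assoc, mul_assoc, hsm, hsm, map_smul,
        LinearMap.smul_apply, map_smul, hinvpow]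
  have hroot : aeval u⁻¹ (minpoly F u) = 0 := by
    have h1 : ∀ a b, B (Φ.symm a) (Φ.symm (aeval u⁻¹ (minpoly F u) * b)) = 0 := by
      intro a b
      rw [← key, minpoly.aeval, zero_mul]
      simp
    have h2 := hB.2 (Φ.symm (aeval u⁻¹ (minpoly F u) * 1)) (fun x => by
      have := h1 (Φ x) 1
      rwa [LinearEquiv.symm_apply_apply] at this)
    rw [mul_one] at h2
    exact Φ.symm.map_eq_zero_iff.1 h2
  have hint : IsIntegral F u := IsIntegral.of_finite F u
  have hadj' : Algebra.adjoin F {u} = ⊤ := by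
    rw [eq_top_iff, ← hadj]
    apply Algebra.adjoin_le
    rintro _ ⟨h, rfl⟩
    obtain ⟨k, hk⟩ := hpow h
    rw [hk]
    exact Subalgebra.pow_mem _ (Algebra.subset_adjoin (Set.mem_singleton u)) k
  obtain ⟨pb, hgen⟩ : ∃ pb : PowerBasis F K, pb.gen = u :=
    ⟨PowerBasis.ofAdjoinEqTop hint hadj', PowerBasis.ofAdjoinEqTop_gen hint hadj'⟩
  have hroot' : aeval u⁻¹ (minpoly F pb.gen) = 0 := hgen.symm ▸ hroot
  refine ⟨pb.lift u⁻¹ hroot', ?_⟩
  rintro _ ⟨h, rfl⟩
  obtain ⟨k, hk⟩ := hpow h
  have hl : pb.lift u⁻¹ hroot' u = u⁻¹ := by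
    have := pb.lift_gen u⁻¹ hroot'
    rwa [hgen] at this
  rw [hk, map_pow, hl, inv_pow]

end Cfsg.Agent.Helper82

namespace Cfsg.Agent.Helper82

theorem aut_to_form {F : Type*} [Field F] {H : Type*} [CommGroup H]
    {V : Type*} [AddCommGroup V] [Module F V] [FiniteDimensional F V]
    (ρ : Representation F H V) {K : Type*} [Field K] [Algebra F K]
    (Φ : V ≃ₗ[F] K) (ν : H →* K) (hΦ : ∀ h v, Φ (ρ h v) = ν h * Φ v)
    (τ : K →ₐ[F] K) (hτ : ∀ s ∈ Set.range ν, τ s = s⁻¹) :
    ∃ B : LinearMap.BilinForm F V, B.Nondegenerate ∧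
      ∀ h : H, ∀ x y : V, B (ρ h x) (ρ h y) = B x y := by
  have hfin : Module.Finite F K := Module.Finite.equiv Φ
  have hν0 : ∀ h, ν h ≠ 0 := by
    intro h hh
    have : ν h * ν h⁻¹ = 1 := by rw [← map_mul, mul_inv_cancel, map_one]
    rw [hh, zero_mul] at this
    exact zero_ne_one this
  -- a functional not vanishing at 1
  obtain ⟨ψ, hψ⟩ : ∃ ψ : Module.Dual F K, ψ 1 ≠ 0 := by
    by_contra hcon
    push Not at hcon
    exact one_ne_zero ((Module.forall_dual_apply_eq_zero_iff F (1 : K)).1 hcon)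
  have hτbij : Function.Bijective τ := AlgHom.bijective τ
  let B : LinearMap.BilinForm F V :=
    LinearMap.mk₂ F (fun x y => ψ (Φ x * τ (Φ y)))
      (fun x x' y => by simp only [map_add, add_mul])
      (fun c x y => by simp only [map_smul, smul_mul_assoc, smul_eq_mul])
      (fun x y y' => by simp only [map_add, mul_add])
      (fun c x y => by simp only [map_smul, mul_smul_comm, smul_eq_mul])
  have hBapp : ∀ x y, B x y = ψ (Φ x * τ (Φ y)) := fun x y => rfl
  refine ⟨B, ⟨?_, ?_⟩, ?_⟩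
  · intro x hx
    by_contra hx0
    have hΦx : Φ x ≠ 0 := fun h => hx0 (Φ.map_eq_zero_iff.1 h)
    obtain ⟨z, hz⟩ := hτbij.2 (Φ x)⁻¹
    have := hx (Φ.symm z)
    rw [hBapp, LinearEquiv.apply_symm_apply, hz, mul_inv_cancel₀ hΦx] at this
    exact hψ this
  · intro y hy
    by_contra hy0
    have hΦy : Φ y ≠ 0 := fun h => hy0 (Φ.map_eq_zero_iff.1 h)
    have hτy : τ (Φ y) ≠ 0 := fun h => hΦy ((map_eq_zero τ).1 h)
    have := hy (Φ.symm (τ (Φ y))⁻¹)
    rw [hBapp, LinearEquiv.apply_symm_apply, inv_mul_cancel₀ hτy] at this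
    exact hψ this
  · intro h x y
    rw [hBapp, hBapp, hΦ, hΦ, map_mul τ, hτ (ν h) ⟨h, rfl⟩]
    congr 1
    field_simp [hν0 h]

end Cfsg.Agent.Helper82
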