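import Mathlib

/-!
# Four small finite-field lemmas for S1472 (B-G Appendix C, Lemma C.3), WANTED #4077 (FIELD)
-/

set_option autoImplicit false
set_option linter.style.haveILetI false
set_option linter.unusedVariables false

namespace Cfsg.Agent.Helper82.AppC

open Polynomial

/-- A finset of `n` roots of `X ^ n - 1` contains every root. -/
theorem mem_of_pow_eq_one_of_card {F : Type*} [Field F] (n : ℕ) (hn : 0 < n) (S : Finset F)
    (hS : ∀ c ∈ S, c ^ n = 1) (hcard : S.card = n) (c : F) (hc : c ^ n = 1) : c ∈ S := by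
  classical
  have hsub : S ⊆ (nthRoots n (1 : F)).toFinset := by
    intro x hx
    rw [Multiset.mem_toFinset, mem_nthRoots hn]
    exact hS x hx
  have hle : (nthRoots n (1 : F)).toFinset.card ≤ S.card := by
    rw [hcard]
    exact (Multiset.toFinset_card_le _).trans (card_nthRoots n 1)
  have heq := Finset.eq_of_subset_of_card_le hsub hle
  rw [heq, Multiset.mem_toFinset, mem_nthRoots hn]
  exact hc

/-- In a finite field of characteristic `p`, the fixed points of Frobenius are the natural
numbers. -/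
theorem exists_nat_eq_of_pow_eq_self (p q : ℕ) [Fact p.Prime] (F : Type*) [Field F] [Fintype F]
    (hF : Fintype.card F = p ^ q) (c : F) (h2 : c ^ p = c) : ∃ k : ℕ, c = (k : F) := by
  classical
  have hp : p.Prime := Fact.out
  haveI : CharP F p := charP_of_card_eq_prime_pow hF
  set f : F[X] := X ^ p - X with hf
  have hf0 : f ≠ 0 := FiniteField.X_pow_card_sub_X_ne_zero F hp.one_lt
  have hdeg : f.natDegree = p := FiniteField.X_pow_card_sub_X_natDegree_eq F hp.one_lt
  set S : Finset F := (Finset.range p).image (Nat.cast : ℕ → F) with hSdef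
  have hScard : S.card = p := by
    rw [hSdef, Finset.card_image_of_injOn, Finset.card_range]
    intro a ha b hb hab
    exact CharP.natCast_injOn_Iio F p (by simpa using ha) (by simpa using hb) hab
  have hroot : ∀ x : F, x ∈ f.roots.toFinset ↔ x ^ p = x := by
    intro x
    rw [Multiset.mem_toFinset, mem_roots hf0, IsRoot.def, hf]
    simp [sub_eq_zero]
  have hsub : S ⊆ f.roots.toFinset := by
    intro x hx
    rw [hSdef, Finset.mem_image] at hx
    obtain ⟨k, -, rfl⟩ := hx
    rw [hroot]
    have := map_natCast (frobenius F p) k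
    rwa [frobenius_def] at this
  have hle : f.roots.toFinset.card ≤ S.card := by
    rw [hScard]
    calc f.roots.toFinset.card ≤ Multiset.card f.roots := Multiset.toFinset_card_le _
      _ ≤ f.natDegree := card_roots' f
      _ = p := hdeg
  have heq := Finset.eq_of_subset_of_card_le hsub hle
  have hc : c ∈ S := by
    rw [heq, hroot]; exact h2
  rw [hSdef, Finset.mem_image] at hc
  obtain ⟨k, -, hk⟩ := hc
  exact ⟨k, hk.symm⟩

theorem norm_exp_pos (p q : ℕ) [Fact p.Prime] [Fact q.Prime] : 0 < (p ^ q - 1) / (p - 1) := by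
  have hp : p.Prime := Fact.out
  have hq : q.Prime := Fact.out
  have h1 : 0 < p - 1 := by have := hp.two_le; omega
  apply Nat.div_pos _ h1
  have : p ^ 1 ≤ p ^ q := Nat.pow_le_pow_right hp.pos hq.pos
  rw [pow_one] at this
  omega

theorem norm_exp_mul (p q : ℕ) [Fact p.Prime] : (p - 1) * ((p ^ q - 1) / (p - 1)) = p ^ q - 1 :=
  Nat.mul_div_cancel' (Nat.sub_one_dvd_pow_sub_one p q)

/-- A norm-one element fixed by Frobenius is `1`. -/
theorem eq_one_of_pow_eq_one_of_pow_eq_self (p q : ℕ) [Fact p.Prime] [Fact q.Prime]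
    (hA : Nat.Coprime ((p ^ q - 1) / (p - 1)) (p - 1)) (F : Type*) [Field F] [Fintype F]
    (hF : Fintype.card F = p ^ q) (c : F) (h1 : c ^ ((p ^ q - 1) / (p - 1)) = 1)
    (h2 : c ^ p = c) : c = 1 := by
  have hp : p.Prime := Fact.out
  have hn := norm_exp_pos p q
  have hc0 : c ≠ 0 := by
    rintro rfl
    rw [zero_pow hn.ne'] at h1
    exact zero_ne_one h1
  have h3 : c ^ (p - 1) = 1 := by
    have : c ^ (p - 1) * c = 1 * c := by
      rw [← pow_succ, one_mul]
      have : p - 1 + 1 = p := by have := hp.two_le; omega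
      rw [this, h2]
    exact mul_right_cancel₀ hc0 this
  have h4 := pow_gcd_eq_one.mpr ⟨h1, h3⟩
  rwa [hA.gcd_eq_one, pow_one] at h4

/-- Every nonzero element is a natural number (prime to `p`) times a norm-one element. -/
theorem exists_nat_mul_root (p q : ℕ) [Fact p.Prime] [Fact q.Prime]
    (hA : Nat.Coprime ((p ^ q - 1) / (p - 1)) (p - 1)) (F : Type*) [Field F] [Fintype F]
    (hF : Fintype.card F = p ^ q) (d : F) (hd : d ≠ 0) :
    ∃ (k : ℕ) (c : F), ¬ p ∣ k ∧ c ^ ((p ^ q - 1) / (p - 1)) = 1 ∧ d = (k : F) * c := by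
  have hp : p.Prime := Fact.out
  haveI : CharP F p := charP_of_card_eq_prime_pow hF
  set n := (p ^ q - 1) / (p - 1) with hn
  have hmul : (p - 1) * n = p ^ q - 1 := norm_exp_mul p q
  set u : Fˣ := Units.mk0 d hd with hu
  have hu1 : u ^ ((p - 1) * n) = 1 := by
    rw [hmul, ← hF]
    apply Units.ext
    rw [Units.val_pow_eq_pow_val, Units.val_one, hu, Units.val_mk0]
    exact FiniteField.pow_card_sub_one_eq_one d hd
  -- Bezout
  have hbez := Nat.gcd_eq_gcd_ab n (p - 1)
  rw [hA.gcd_eq_one] at hbez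
  set a := n.gcdA (p - 1) with ha
  set b := n.gcdB (p - 1) with hb
  set e : Fˣ := u ^ ((n : ℤ) * a) with he
  set c : Fˣ := u ^ (((p - 1 : ℕ) : ℤ) * b) with hc
  have hec : e * c = u := by
    rw [he, hc, ← zpow_add, ← hbez]
    simp
  have hcn : c ^ n = 1 := by
    rw [hc, ← zpow_natCast, ← zpow_mul]
    have : ((p - 1 : ℕ) : ℤ) * b * (n : ℤ) = (((p - 1) * n : ℕ) : ℤ) * b := by push_cast; ring
    rw [this, zpow_mul, zpow_natCast, hu1, one_zpow]
  have hep : e ^ (p - 1) = 1 := by
    rw [he, ← zpow_natCast, ← zpow_mul]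
    have : (n : ℤ) * a * ((p - 1 : ℕ) : ℤ) = (((p - 1) * n : ℕ) : ℤ) * a := by push_cast; ring
    rw [this, zpow_mul, zpow_natCast, hu1, one_zpow]
  have hep' : (e : F) ^ p = (e : F) := by
    have h1 : (e : F) ^ (p - 1) = 1 := by
      rw [← Units.val_pow_eq_pow_val, hep, Units.val_one]
    have : p = p - 1 + 1 := by have := hp.two_le; omega
    rw [this, pow_succ, h1, one_mul]
  obtain ⟨k, hk⟩ := exists_nat_eq_of_pow_eq_self p q F hF (e : F) hep'
  refine ⟨k, (c : F), ?_, ?_, ?_⟩
  · intro hpk
    have : (k : F) = 0 := (CharP.cast_eq_zero_iff F p k).mpr hpk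
    rw [← hk] at this
    exact e.ne_zero this
  · rw [← Units.val_pow_eq_pow_val, hcn, Units.val_one]
  · rw [← hk, ← Units.val_mul, hec, hu, Units.val_mk0]

end Cfsg.Agent.Helper82.AppC
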