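import Cfsg.Agent.Helper57.BP.Lemmas

/-!
# S4504, piece (T1) of helper57's plan: `ψ ψ̄'` has no `P`-fixed points for every other
exceptional character `ψ'` of the block of `θ`
-/

set_option autoImplicit false
set_option linter.unusedVariables false

namespace Cfsg.Agent.Helper82.BP

open Cfsg Cfsg.Agent.Helper16 Cfsg.Agent.Helper16.DefOne Cfsg.Agent.Helper82.DefOne
  Cfsg.Agent.Helper77.DefOne Cfsg.Agent.Helper57.BH Cfsg.Agent.Helper57.BP
open scoped ComplexConjugate

universe u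

variable {G : Type u} [Group G] [Fintype G] {p : ℕ} [Fact p.Prime] (P : Sylow p G)

/-- splitting a sum over a finite type along two disjoint sets and the rest -/
theorem sum_split_three {α : Type*} [Fintype α] (X Y : Set α) (hdisj : Disjoint X Y)
    [DecidablePred (· ∈ X)] [DecidablePred (· ∈ Y)] (g : α → ℤ) :
    ∑ a, g a = ∑ a ∈ Finset.univ.filter (· ∈ X), g a + ∑ a ∈ Finset.univ.filter (· ∈ Y), g a +
      ∑ a ∈ Finset.univ.filter (fun a => a ∉ X ∧ a ∉ Y), g a := by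
  rw [← Finset.sum_filter_add_sum_filter_not Finset.univ (· ∈ X) g, add_assoc]
  congr 1
  rw [← Finset.sum_filter_add_sum_filter_not (Finset.univ.filter (fun a => ¬ a ∈ X)) (· ∈ Y) g]
  congr 1
  · apply Finset.sum_congr _ (fun _ _ => rfl)
    ext a
    simp only [Finset.mem_filter, Finset.mem_univ, true_and]
    constructor
    · rintro ⟨_, h⟩
      exact h
    · intro h
      exact ⟨fun hX => Set.disjoint_left.mp hdisj hX h, h⟩
  · apply Finset.sum_congr _ (fun _ _ => rfl)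
    ext a
    simp only [Finset.mem_filter, Finset.mem_univ, true_and]

/-- the `P`-sum of a character in terms of its constituents -/
theorem pSum_eq_sum_mult [Fintype (IrrCharacter G)] (Ξ : G → ℂ) (hΞ : IsCharacter G Ξ)
    (n : IrrCharacter G → ℕ) (hn : ∀ χ : IrrCharacter G, classInner Ξ (χ : G → ℂ) = n χ) :
    pSum P Ξ = ∑ χ : IrrCharacter G, (n χ : ℂ) * pSum P (χ : G → ℂ) := by
  classical
  let _ : Fintype (P : Subgroup G) := Fintype.ofFinite _
  have hsum := Helper74.isCharacter_eq_sum_irr hΞ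
  rw [Helper14.BH.pSum_eq_sum]
  have h1 : ∀ x : (P : Subgroup G), Ξ (x : G) =
      ∑ χ : IrrCharacter G, (n χ : ℂ) * (χ : G → ℂ) (x : G) := by
    intro x
    have := congrFun hsum (x : G)
    rw [Finset.sum_apply] at this
    rw [this]
    refine Finset.sum_congr rfl (fun χ _ => ?_)
    rw [hn χ]
    rfl
  rw [Finset.sum_congr rfl (fun x _ => h1 x), Finset.sum_comm]
  refine Finset.sum_congr rfl (fun χ _ => ?_)
  rw [← Finset.mul_sum, ← Helper14.BH.pSum_eq_sum]

/-- (T1) `ψ ψ̄'` has no `P`-fixed points for every other exceptional character `ψ'` of the block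
of `θ` -/
theorem pSum_mulConj_third (hP : Nat.card P = p)
    [((P : Subgroup G).subgroupOf (nor P)).Normal] (hmod : ModCount p P)
    {θ : IrrCharacter (cen P)} {ψ ψ₂ : IrrCharacter G}
    {φ₀ φ₂ : IrrCharacter (cen P)} {Xθ Yθ : Set (IrrCharacter G)} {εθ : IrrCharacter G → ℤ}
    (hE : IsExcPair P θ ψ ψ₂ φ₀ φ₂ Xθ Yθ εθ)
    {X Y : Set (IrrCharacter G)} {ε : IrrCharacter G → ℤ} {δ : ℤ}
    (hD : IsPslData P ψ ψ₂ X Y ε δ)
    (ψ' : IrrCharacter G) (hψ' : ψ' ∈ Yθ) (hne' : ψ' ≠ ψ) :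
    pSum P (mulConj (ψ : G → ℂ) (ψ' : G → ℂ)) = 0 := by
  classical
  have : Finite (IrrCharacter G) := Helper79.irr_finite'
  let _ : Fintype (IrrCharacter G) := Helper74.irrFintype G
  have hp : p.Prime := Fact.out
  have hp1 : 1 ≤ p := hp.one_lt.le
  obtain ⟨f, hf⟩ : ∃ f : ℕ, f = (cen P).relIndex (nor P) := ⟨_, rfl⟩
  have D := hD.D
  have h1reg : ¬ p ∣ orderOf (1 : G) := by
    rw [orderOf_one]
    exact hp.not_dvd_one
  -- `ψ' = ψ` on the `p`-regular elements
  have hreg' : ∀ g : G, ¬ p ∣ orderOf g → (ψ' : G → ℂ) g = (ψ : G → ℂ) g := by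
    intro g hg
    have h1 := hE.Dθ.rel ψ' hψ' g hg
    have h2 := hE.Dθ.rel ψ hE.hψ g hg
    rw [← h2] at h1
    simpa using h1
  have hdeg : charDegree (ψ : G → ℂ) = f := by rw [hf]; exact hE.hdeg
  have hdeg₂ : charDegree (ψ₂ : G → ℂ) = f := by rw [hf]; exact hE.hdeg₂
  have hdeg' : charDegree (ψ' : G → ℂ) = f := by
    have e := hreg' 1 h1reg
    rw [Helper79.irr_one, Helper79.irr_one] at e
    have : charDegree (ψ' : G → ℂ) = charDegree (ψ : G → ℂ) := by exact_mod_cast e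
    rw [this, hdeg]
  have hΞ2 := isCharacter_mulConj ψ ψ₂
  have hΞ' := isCharacter_mulConj ψ ψ'
  choose n₂ hn₂ using fun χ : IrrCharacter G => Helper74.isCharacter_inner_irr_nat hΞ2 χ
  choose n' hn' using fun χ : IrrCharacter G => Helper74.isCharacter_inner_irr_nat hΞ' χ
  -- comparison on functions constant on the `p`-singular elements
  have hcmp : ∀ (F : G → ℂ) (c : ℂ), (∀ g : G, p ∣ orderOf g → F g = c) →
      classInner (mulConj (ψ : G → ℂ) (ψ' : G → ℂ)) F =
        classInner (mulConj (ψ : G → ℂ) (ψ₂ : G → ℂ)) F := by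
    intro F c hF
    have e1 := classInner_mulConj_sub (p := p) ψ ψ₂ hE.hne hE.hreg F c hF
    have e2 := classInner_mulConj_sub (p := p) ψ ψ' hne'.symm hreg' F c hF
    linear_combination e1 - e2
  -- the non-exceptional characters of the principal block
  have hX : ∀ χ ∈ X, n' χ = n₂ χ := by
    intro χ hχ
    have h := hcmp (χ : G → ℂ) (ε χ : ℂ) (fun g hg => apply_singular_X0 P hP D χ hχ g hg)
    rw [hn', hn₂] at h
    exact_mod_cast h
  -- the exceptional characters of the principal block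
  have hYfin : Y.Finite := Set.toFinite Y
  have hYmem : ∀ χ : IrrCharacter G, χ ∈ Finset.univ.filter (· ∈ Y) ↔ χ ∈ Y := by
    intro χ
    simp
  have hYsum : ∑ χ ∈ Finset.univ.filter (· ∈ Y), n' χ =
      ∑ χ ∈ Finset.univ.filter (· ∈ Y), n₂ χ := by
    have hFY : ∀ g : G, p ∣ orderOf g →
        (∑ ψ₀ ∈ Finset.univ.filter (· ∈ Y), (ψ₀ : G → ℂ)) g = -(δ : ℂ) := by
      intro g hg
      rw [← finsum_Y0_singular P hP hmod D g hg, Finset.sum_apply,
        finsum_mem_eq_finite_toFinset_sum _ hYfin]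
      apply Finset.sum_congr _ (fun _ _ => rfl)
      ext χ
      simp
    have h := hcmp _ _ hFY
    rw [Helper74.classInner_sum_right, Helper74.classInner_sum_right] at h
    have h2 : ((∑ χ ∈ Finset.univ.filter (· ∈ Y), n' χ : ℕ) : ℂ) =
        ((∑ χ ∈ Finset.univ.filter (· ∈ Y), n₂ χ : ℕ) : ℂ) := by
      push_cast
      rw [← Finset.sum_congr rfl (fun χ _ => hn' χ), ← Finset.sum_congr rfl (fun χ _ => hn₂ χ)]
      exact h
    exact_mod_cast h2
  have hY2 : ∑ χ ∈ Finset.univ.filter (· ∈ Y), n₂ χ = if δ = 1 then 1 else 0 := by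
    have h := hD.n2Y
    rw [finsum_mem_eq_finite_toFinset_sum _ hYfin] at h
    have h2 : ((∑ χ ∈ Finset.univ.filter (· ∈ Y), n₂ χ : ℕ) : ℂ) =
        ((if δ = 1 then 1 else 0 : ℕ) : ℂ) := by
      push_cast
      rw [← Finset.sum_congr rfl (fun χ _ => hn₂ χ)]
      rw [← h]
      apply Finset.sum_congr _ (fun _ _ => rfl)
      ext χ
      simp
    exact_mod_cast h2
  -- nothing outside the principal block
  have hd2 : f * f = ∑ χ : IrrCharacter G, n₂ χ * charDegree (χ : G → ℂ) := by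
    rw [← charDegree_eq_sum _ hΞ2 n₂ hn₂, charDegree_mulConj, hdeg, hdeg₂]
  have hd' : f * f = ∑ χ : IrrCharacter G, n' χ * charDegree (χ : G → ℂ) := by
    rw [← charDegree_eq_sum _ hΞ' n' hn', charDegree_mulConj, hdeg, hdeg']
  obtain ⟨dY, hdY⟩ : ∃ dY : ℕ, ∀ ψ₀ ∈ Y, charDegree (ψ₀ : G → ℂ) = dY :=
    ⟨_, hD.degY⟩
  have hout2 : ∀ χ : IrrCharacter G, χ ∉ X → χ ∉ Y → n₂ χ = 0 := by
    intro χ h1 h2
    have h := hD.n2out χ h1 h2
    rw [hn₂] at h
    exact_mod_cast h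
  have hout' : ∀ χ : IrrCharacter G, χ ∉ X → χ ∉ Y → n' χ = 0 := by
    have e2 : ((f * f : ℕ) : ℤ) = ∑ χ : IrrCharacter G, ((n₂ χ * charDegree (χ : G → ℂ) : ℕ) : ℤ) := by
      rw [hd2]; push_cast; rfl
    have e' : ((f * f : ℕ) : ℤ) = ∑ χ : IrrCharacter G, ((n' χ * charDegree (χ : G → ℂ) : ℕ) : ℤ) := by
      rw [hd']; push_cast; rfl
    rw [sum_split_three X Y D.disj] at e2 e'
    have hXs : ∑ χ ∈ Finset.univ.filter (· ∈ X), ((n' χ * charDegree (χ : G → ℂ) : ℕ) : ℤ) =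
        ∑ χ ∈ Finset.univ.filter (· ∈ X), ((n₂ χ * charDegree (χ : G → ℂ) : ℕ) : ℤ) := by
      refine Finset.sum_congr rfl (fun χ hχ => ?_)
      rw [hX χ (by simpa using hχ)]
    have hYs : ∀ n : IrrCharacter G → ℕ,
        ∑ χ ∈ Finset.univ.filter (· ∈ Y), ((n χ * charDegree (χ : G → ℂ) : ℕ) : ℤ) =
          ((∑ χ ∈ Finset.univ.filter (· ∈ Y), n χ : ℕ) : ℤ) * (dY : ℤ) := by
      intro n
      push_cast
      rw [Finset.sum_mul]
      refine Finset.sum_congr rfl (fun χ hχ => ?_)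
      rw [hdY χ (by simpa using hχ)]
    have hOs : ∑ χ ∈ Finset.univ.filter (fun χ : IrrCharacter G => χ ∉ X ∧ χ ∉ Y),
        ((n₂ χ * charDegree (χ : G → ℂ) : ℕ) : ℤ) = 0 := by
      apply Finset.sum_eq_zero
      intro χ hχ
      have hχ' : χ ∉ X ∧ χ ∉ Y := by simpa using hχ
      rw [hout2 χ hχ'.1 hχ'.2]
      simp
    rw [hYs n₂, hOs] at e2
    rw [hXs, hYs n', hYsum] at e'
    have hzero : ∑ χ ∈ Finset.univ.filter (fun χ : IrrCharacter G => χ ∉ X ∧ χ ∉ Y),
        ((n' χ * charDegree (χ : G → ℂ) : ℕ) : ℤ) = 0 := by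
      linarith
    intro χ h1 h2
    have hnn : ∀ χ ∈ Finset.univ.filter (fun χ : IrrCharacter G => χ ∉ X ∧ χ ∉ Y),
        (0 : ℤ) ≤ ((n' χ * charDegree (χ : G → ℂ) : ℕ) : ℤ) := fun χ _ => Int.natCast_nonneg _
    have h3 := (Finset.sum_eq_zero_iff_of_nonneg hnn).mp hzero χ (by simp [h1, h2])
    have h4 : n' χ * charDegree (χ : G → ℂ) = 0 := by exact_mod_cast h3
    rcases Nat.mul_eq_zero.mp h4 with h | h
    · exact h
    · exact absurd h (Helper79.irr_charDegree_pos χ).ne'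
  -- the `P`-sum
  rw [pSum_eq_sum_mult P _ hΞ' n' hn']
  apply Finset.sum_eq_zero
  intro χ _
  by_cases hχX : χ ∈ X
  · -- non-exceptional
    rcases D.eps χ with hε | hε
    · have h := hD.n2X χ hχX
      rw [if_pos hε, hn₂] at h
      have h0 : n₂ χ = 0 := by exact_mod_cast h
      rw [hX χ hχX, h0]
      simp
    · have h := pSum_X0 P hP D χ hχX
      rw [hε, hD.degXm χ hχX hε] at h
      rw [h]
      push_cast [Nat.cast_sub hp1]
      ring
  · by_cases hχY : χ ∈ Y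
    · by_cases hδ : δ = 1
      · have h := pSum_Y0 P hP hmod D χ hχY
        rw [hD.degY χ hχY, if_pos hδ, hδ] at h
        rw [h]
        push_cast
        ring
      · have hs0 : ∑ χ ∈ Finset.univ.filter (· ∈ Y), n' χ = 0 := by
          rw [hYsum, hY2, if_neg hδ]
        have h0 : n' χ = 0 :=
          (Finset.sum_eq_zero_iff.mp hs0) χ (Finset.mem_filter.mpr ⟨Finset.mem_univ _, hχY⟩)
        rw [h0]
        simp
    · rw [hout' χ hχX hχY]
      simp

end Cfsg.Agent.Helper82.BP
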