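import Cfsg.Agent.Helper57.BP.Lemmas
import Cfsg.Agent.Helper70.DefOneXG

/-!
# S4504, piece (U4) of helper57's plan: the class-constant sum over the principal block
-/

set_option autoImplicit false
set_option linter.unusedVariables false
set_option linter.unusedSectionVars false

namespace Cfsg.Agent.Helper82.BP

open Cfsg Cfsg.Agent.Helper16 Cfsg.Agent.Helper16.DefOne Cfsg.Agent.Helper82.DefOne
  Cfsg.Agent.Helper77.DefOne Cfsg.Agent.Helper57.BH Cfsg.Agent.Helper57.BP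
open scoped ComplexConjugate

universe u

variable {G : Type u} [Group G] [Fintype G] {p : ℕ} [Fact p.Prime] (P : Sylow p G)

/-- a `finsum` over a set of a fintype as a filtered sum -/
theorem finsum_mem_eq_sum_filter {α M : Type*} [Fintype α] [AddCommMonoid M] (S : Set α)
    [DecidablePred (· ∈ S)] (g : α → M) :
    ∑ᶠ a ∈ S, g a = ∑ a ∈ Finset.univ.filter (· ∈ S), g a := by
  rw [finsum_mem_eq_finite_toFinset_sum _ (Set.toFinite S)]
  apply Finset.sum_congr _ (fun _ _ => rfl)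
  ext a
  simp

/-- splitting a sum over a finite type along two disjoint sets and the rest -/
theorem sum_split_three' {α M : Type*} [Fintype α] [AddCommMonoid M] (X Y : Set α)
    (hdisj : Disjoint X Y)
    [DecidablePred (· ∈ X)] [DecidablePred (· ∈ Y)] (g : α → M) :
    ∑ a, g a = ∑ a ∈ Finset.univ.filter (· ∈ X), g a + ∑ a ∈ Finset.univ.filter (· ∈ Y), g a +
      ∑ a ∈ Finset.univ.filter (fun a => a ∉ X ∧ a ∉ Y), g a := by
  rw [← Finset.sum_filter_add_sum_filter_not Finset.univ (· ∈ X) g, add_assoc]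
  congr 1
  rw [← Finset.sum_filter_add_sum_filter_not (Finset.univ.filter (fun a => ¬ a ∈ X)) (· ∈ Y) g]
  congr 1
  · apply Finset.sum_congr _ (fun _ _ => rfl)
    ext a
    simp only [Finset.mem_filter, Finset.mem_univ, true_and]
    constructor
    · rintro ⟨_, h⟩
      exact h
    · intro h
      exact ⟨fun hX => Set.disjoint_left.mp hdisj hX h, h⟩
  · apply Finset.sum_congr _ (fun _ _ => rfl)
    ext a
    simp only [Finset.mem_filter, Finset.mem_univ, true_and]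

/-- (U4) the sum over the principal block -/
theorem tsum_Rset_one_add (hP : Nat.card P = p)
    [((P : Subgroup G).subgroupOf (nor P)).Normal] (hmod : ModCount p P)
    {ψ ψ₂ : IrrCharacter G}
    (hreg : ∀ g : G, ¬ p ∣ orderOf g → (ψ₂ : G → ℂ) g = (ψ : G → ℂ) g)
    {X Y : Set (IrrCharacter G)} {ε : IrrCharacter G → ℤ} {δ : ℤ}
    (hD : IsPslData P ψ ψ₂ X Y ε δ)
    (x v : G) (hx : x ∈ (P : Subgroup G)) (hx1 : x ≠ 1) (hv : v ∈ (P : Subgroup G))
    (hv1 : v ≠ 1)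
    (hclass : ∀ F : G → ℂ, IsClassFunction G F →
        pSum P F = F 1 + ((cen P).relIndex (nor P) : ℂ) * F x +
          ((cen P).relIndex (nor P) : ℂ) * F v)
    (z : G) (hz : ¬ p ∣ orderOf z) :
    Cfsg.Agent.Helper57.BP.tsum (Rset P (oneIrr P)) x x z +
        Cfsg.Agent.Helper57.BP.tsum (Rset P (oneIrr P)) x v z =
      2 + 2 * ((ψ : G → ℂ) z * conj ((ψ : G → ℂ) z) - 1) / ((p : ℂ) + 1) +
        (ψ : G → ℂ) z * conj ((ψ : G → ℂ) z) / ((cen P).relIndex (nor P) : ℂ) := by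
  classical
  have : Finite (IrrCharacter G) := Helper79.irr_finite'
  let _ : Fintype (IrrCharacter G) := Helper74.irrFintype G
  have hp : p.Prime := Fact.out
  have hp1 : 1 ≤ p := hp.one_lt.le
  have D := hD.D
  obtain ⟨f, hf⟩ : ∃ f : ℕ, f = (cen P).relIndex (nor P) := ⟨_, rfl⟩
  have hpf : 2 * f + 1 = p := by rw [hf]; exact hD.hpf
  have hf0 : f ≠ 0 := by
    rintro rfl
    have : p = 1 := by omega
    exact hp.one_lt.ne' this
  have hfC : (f : ℂ) ≠ 0 := by exact_mod_cast hf0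
  have hpC : (p : ℂ) = 2 * (f : ℂ) + 1 := by
    rw [← hpf]; push_cast; ring
  have hp1C : (p : ℂ) + 1 ≠ 0 := by
    have : ((p + 1 : ℕ) : ℂ) ≠ 0 := by exact_mod_cast (Nat.succ_ne_zero p)
    simpa using this
  have hf1C : (f : ℂ) + 1 ≠ 0 := by
    have : ((f + 1 : ℕ) : ℂ) ≠ 0 := by exact_mod_cast (Nat.succ_ne_zero f)
    simpa using this
  have hxs : p ∣ orderOf x := by
    rw [Helper70.DefOneXG.orderOf_eq_of_mem_sylow P hP hx hx1]
  have hvs : p ∣ orderOf v := by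
    rw [Helper70.DefOneXG.orderOf_eq_of_mem_sylow P hP hv hv1]
  have hone := oneIrrG_mem_X0 P hP D (by rw [← hf]; omega)
  have hmemX : ∀ χ : IrrCharacter G, χ ∈ Finset.univ.filter (· ∈ X) ↔ χ ∈ X := by
    intro χ; simp
  have hmemY : ∀ χ : IrrCharacter G, χ ∈ Finset.univ.filter (· ∈ Y) ↔ χ ∈ Y := by
    intro χ; simp
  have hδ2 : (δ : ℂ) * (δ : ℂ) = 1 := by
    rcases D.del with h | h <;> rw [h] <;> simp
  -- the left side as two sums
  have hL : Cfsg.Agent.Helper57.BP.tsum (Rset P (oneIrr P)) x x z +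
        Cfsg.Agent.Helper57.BP.tsum (Rset P (oneIrr P)) x v z =
      ∑ χ ∈ Finset.univ.filter (· ∈ X), (χ : G → ℂ) x * ((χ : G → ℂ) x + (χ : G → ℂ) v) *
          conj ((χ : G → ℂ) z) / (χ : G → ℂ) 1 +
        ∑ χ ∈ Finset.univ.filter (· ∈ Y), (χ : G → ℂ) x * ((χ : G → ℂ) x + (χ : G → ℂ) v) *
          conj ((χ : G → ℂ) z) / (χ : G → ℂ) 1 := by
    unfold Cfsg.Agent.Helper57.BP.tsum
    rw [D.union, finsum_mem_union D.disj (Set.toFinite _) (Set.toFinite _),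
      finsum_mem_union D.disj (Set.toFinite _) (Set.toFinite _),
      finsum_mem_eq_sum_filter X, finsum_mem_eq_sum_filter Y, finsum_mem_eq_sum_filter X,
      finsum_mem_eq_sum_filter Y, add_add_add_comm, ← Finset.sum_add_distrib,
      ← Finset.sum_add_distrib]
    congr 1 <;> (refine Finset.sum_congr rfl (fun χ _ => ?_); ring)
  -- the two partial sums over `X`
  obtain ⟨A, hA⟩ : ∃ A : ℂ, A = ∑ χ ∈ Finset.univ.filter (· ∈ X),
      (if ε χ = 1 then (χ : G → ℂ) z else 0) := ⟨_, rfl⟩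
  obtain ⟨B, hB⟩ : ∃ B : ℂ, B = ∑ χ ∈ Finset.univ.filter (· ∈ X),
      (if ε χ = 1 then 0 else (χ : G → ℂ) z) := ⟨_, rfl⟩
  have hAB : ∑ χ ∈ Finset.univ.filter (· ∈ X), (ε χ : ℂ) * (χ : G → ℂ) z = A - B := by
    rw [hA, hB, ← Finset.sum_sub_distrib]
    refine Finset.sum_congr rfl (fun χ _ => ?_)
    rcases D.eps χ with hε | hε
    · rw [if_pos hε, if_pos hε, hε]; simp
    · have hne : ¬ ε χ = 1 := by rw [hε]; norm_num
      rw [if_neg hne, if_neg hne, hε]; simp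
  -- the part over `X`
  have hXpart : ∑ χ ∈ Finset.univ.filter (· ∈ X), (χ : G → ℂ) x *
        ((χ : G → ℂ) x + (χ : G → ℂ) v) * conj ((χ : G → ℂ) z) / (χ : G → ℂ) 1 =
      2 * conj A / ((p : ℂ) + 1) + conj B / (f : ℂ) + (2 - 2 / ((p : ℂ) + 1)) := by
    have hterm : ∀ χ ∈ Finset.univ.filter (fun χ : IrrCharacter G => χ ∈ X),
        (χ : G → ℂ) x * ((χ : G → ℂ) x + (χ : G → ℂ) v) * conj ((χ : G → ℂ) z) /
          (χ : G → ℂ) 1 =
        (2 * conj (if ε χ = 1 then (χ : G → ℂ) z else 0) / ((p : ℂ) + 1) +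
          conj (if ε χ = 1 then 0 else (χ : G → ℂ) z) / (f : ℂ)) +
          (if χ = oneIrrG G then (2 - 2 / ((p : ℂ) + 1)) else 0) := by
      intro χ hχ
      have hχX := (hmemX χ).mp hχ
      rw [apply_singular_X0 P hP D χ hχX x hxs, apply_singular_X0 P hP D χ hχX v hvs]
      rcases D.eps χ with hε | hε
      · rw [if_pos hε, if_pos hε, hε]
        by_cases h1 : χ = oneIrrG G
        · rw [if_pos h1, h1]
          have e1 : ((oneIrrG G : IrrCharacter G) : G → ℂ) z = 1 := rfl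
          have e2 : ((oneIrrG G : IrrCharacter G) : G → ℂ) 1 = 1 := rfl
          rw [e1, e2]
          simp only [Int.cast_one, map_one, map_zero]
          field_simp
          ring
        · rw [if_neg h1, Helper79.irr_one χ, hD.degXp χ hχX hε h1]
          simp only [Int.cast_one, map_zero]
          push_cast
          ring
      · have hne : ¬ ε χ = 1 := by rw [hε]; norm_num
        have h1 : χ ≠ oneIrrG G := by
          rintro rfl
          rw [hone.2] at hε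
          norm_num at hε
        rw [if_neg hne, if_neg hne, hε, if_neg h1, Helper79.irr_one χ, hD.degXm χ hχX hε]
        simp only [map_zero]
        push_cast [Nat.cast_sub hp1]
        rw [hpC]
        field_simp
        ring
    rw [Finset.sum_congr rfl hterm, Finset.sum_add_distrib, Finset.sum_add_distrib,
      Finset.sum_ite_eq' _ (oneIrrG G), if_pos ((hmemX _).mpr hone.1), hA, hB, map_sum, map_sum,
      Finset.mul_sum, Finset.sum_div, Finset.sum_div]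
  -- the exceptional characters of the principal block
  obtain ⟨dY, hdY, hdYv⟩ : ∃ dY : ℕ, (∀ ψ₀ ∈ Y, charDegree (ψ₀ : G → ℂ) = dY) ∧
      dY = if δ = 1 then f else f + 1 :=
    ⟨_, fun ψ₀ h => hD.degY ψ₀ h, by rw [hf]⟩
  obtain ⟨y₀, hy₀⟩ : ∃ y₀ : ℂ, y₀ = (δ : ℂ) * (A - B) := ⟨_, rfl⟩
  have hYz : ∀ ψ₀ ∈ Y, (ψ₀ : G → ℂ) z = y₀ := by
    intro ψ₀ hψ₀
    have h := D.rel ψ₀ hψ₀ z hz
    rw [finsum_mem_eq_sum_filter X, hAB] at h
    calc (ψ₀ : G → ℂ) z = ((δ : ℂ) * (δ : ℂ)) * (ψ₀ : G → ℂ) z := by rw [hδ2, one_mul]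
      _ = (δ : ℂ) * ((δ : ℂ) * (ψ₀ : G → ℂ) z) := by ring
      _ = y₀ := by rw [h, hy₀]
  have hYxv : ∀ ψ₀ ∈ Y, (ψ₀ : G → ℂ) x + (ψ₀ : G → ℂ) v = -(δ : ℂ) := by
    intro ψ₀ hψ₀
    have h1 := pSum_Y0 P hP hmod D ψ₀ hψ₀
    have h2 := hclass (ψ₀ : G → ℂ) (Helper79.irr_isClassFunction ψ₀)
    rw [h1, Helper79.irr_one, ← hf] at h2
    have h3 : (f : ℂ) * ((ψ₀ : G → ℂ) x + (ψ₀ : G → ℂ) v + (δ : ℂ)) = 0 := by
      linear_combination -h2
    rcases mul_eq_zero.mp h3 with h | h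
    · exact absurd h hfC
    · linear_combination h
  have hYx : ∑ ψ₀ ∈ Finset.univ.filter (· ∈ Y), (ψ₀ : G → ℂ) x = -(δ : ℂ) := by
    rw [← finsum_mem_eq_sum_filter Y]
    exact finsum_Y0_singular P hP hmod D x hxs
  have hYpart : ∑ χ ∈ Finset.univ.filter (· ∈ Y), (χ : G → ℂ) x *
        ((χ : G → ℂ) x + (χ : G → ℂ) v) * conj ((χ : G → ℂ) z) / (χ : G → ℂ) 1 =
      conj y₀ / (dY : ℂ) := by
    have hterm : ∀ χ ∈ Finset.univ.filter (fun χ : IrrCharacter G => χ ∈ Y),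
        (χ : G → ℂ) x * ((χ : G → ℂ) x + (χ : G → ℂ) v) * conj ((χ : G → ℂ) z) /
          (χ : G → ℂ) 1 = (χ : G → ℂ) x * (-(δ : ℂ) * conj y₀ / (dY : ℂ)) := by
      intro χ hχ
      have hχY := (hmemY χ).mp hχ
      rw [hYxv χ hχY, hYz χ hχY, Helper79.irr_one χ, hdY χ hχY]
      ring
    rw [Finset.sum_congr rfl hterm, ← Finset.sum_mul, hYx]
    linear_combination (conj y₀ / (dY : ℂ)) * hδ2
  -- the decompositions of `ψ ψ̄` and `ψ ψ̄₂` at `z`
  have hdecomp : ∀ (Ξ : G → ℂ), IsCharacter G Ξ →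
      (∀ χ ∈ X, classInner Ξ (χ : G → ℂ) = if ε χ = 1 then (1 : ℂ) else 0) ∨
        (∀ χ ∈ X, classInner Ξ (χ : G → ℂ) = if ε χ = 1 then (0 : ℂ) else 1) →
      ∀ c : ℂ, ∑ᶠ ψ₀ ∈ Y, classInner Ξ (ψ₀ : G → ℂ) = c →
      (∀ χ : IrrCharacter G, χ ∉ X → χ ∉ Y → classInner Ξ (χ : G → ℂ) = 0) →
      Ξ z = ∑ χ ∈ Finset.univ.filter (· ∈ X), classInner Ξ (χ : G → ℂ) * (χ : G → ℂ) z +
        c * y₀ := by
    intro Ξ hΞ _ c hc hout
    have hsum := congrFun (Helper74.isCharacter_eq_sum_irr hΞ) z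
    rw [Finset.sum_apply, sum_split_three' X Y D.disj] at hsum
    have h2 : ∑ χ ∈ Finset.univ.filter (· ∈ Y), (classInner Ξ (χ : G → ℂ) • (χ : G → ℂ)) z =
        c * y₀ := by
      have : ∀ χ ∈ Finset.univ.filter (fun χ : IrrCharacter G => χ ∈ Y),
          (classInner Ξ (χ : G → ℂ) • (χ : G → ℂ)) z = classInner Ξ (χ : G → ℂ) * y₀ := by
        intro χ hχ
        rw [Pi.smul_apply, smul_eq_mul, hYz χ ((hmemY χ).mp hχ)]
      rw [Finset.sum_congr rfl this, ← Finset.sum_mul, ← finsum_mem_eq_sum_filter Y, hc]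
    have h3 : ∑ χ ∈ Finset.univ.filter (fun χ : IrrCharacter G => χ ∉ X ∧ χ ∉ Y),
        (classInner Ξ (χ : G → ℂ) • (χ : G → ℂ)) z = 0 := by
      apply Finset.sum_eq_zero
      intro χ hχ
      have hχ' : χ ∉ X ∧ χ ∉ Y := by simpa using hχ
      rw [Pi.smul_apply, hout χ hχ'.1 hχ'.2]
      simp
    rw [h2, h3, add_zero] at hsum
    rw [hsum]
    rfl
  have hN1 : (ψ : G → ℂ) z * conj ((ψ : G → ℂ) z) = A + (if δ = 1 then 0 else 1) * y₀ := by
    have h := hdecomp _ (isCharacter_mulConj ψ ψ) (Or.inl hD.n1X) _ hD.n1Y hD.n1out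
    have e : mulConj (ψ : G → ℂ) (ψ : G → ℂ) z = (ψ : G → ℂ) z * conj ((ψ : G → ℂ) z) := rfl
    rw [e] at h
    rw [h, hA]
    congr 1
    refine Finset.sum_congr rfl (fun χ hχ => ?_)
    rw [hD.n1X χ ((hmemX χ).mp hχ)]
    split_ifs <;> simp
  have hN2 : (ψ : G → ℂ) z * conj ((ψ : G → ℂ) z) = B + (if δ = 1 then 1 else 0) * y₀ := by
    have h := hdecomp _ (isCharacter_mulConj ψ ψ₂) (Or.inr hD.n2X) _ hD.n2Y hD.n2out
    have e : mulConj (ψ : G → ℂ) (ψ₂ : G → ℂ) z = (ψ : G → ℂ) z * conj ((ψ : G → ℂ) z) := by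
      show (ψ : G → ℂ) z * conj ((ψ₂ : G → ℂ) z) = _
      rw [hreg z hz]
    rw [e] at h
    rw [h, hB]
    congr 1
    refine Finset.sum_congr rfl (fun χ hχ => ?_)
    rw [hD.n2X χ ((hmemX χ).mp hχ)]
    split_ifs <;> simp
  -- `N` is real
  have hNreal : conj ((ψ : G → ℂ) z * conj ((ψ : G → ℂ) z)) =
      (ψ : G → ℂ) z * conj ((ψ : G → ℂ) z) := by
    rw [map_mul, Complex.conj_conj, mul_comm]
  rw [hL, hXpart, hYpart, ← hf]
  rcases D.del with hδ | hδ
  · -- `δ = 1`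
    rw [if_pos hδ] at hdYv hN1
    rw [zero_mul, add_zero] at hN1
    have hcA : conj A = (ψ : G → ℂ) z * conj ((ψ : G → ℂ) z) := by
      rw [← hN1]; exact hNreal
    rw [hdYv, hy₀, hδ, map_mul, map_sub, hcA]
    simp only [Int.cast_one, map_one, one_mul]
    field_simp
    ring
  · -- `δ = -1`
    have hne : ¬ δ = 1 := by rw [hδ]; norm_num
    rw [if_neg hne] at hdYv hN2
    rw [zero_mul, add_zero] at hN2
    have hcB : conj B = (ψ : G → ℂ) z * conj ((ψ : G → ℂ) z) := by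
      rw [← hN2]; exact hNreal
    rw [hdYv, hy₀, hδ, map_mul, map_sub, hcB]
    push_cast
    simp only [map_neg, map_one]
    have hp1' : (p : ℂ) + 1 = 2 * ((f : ℂ) + 1) := by rw [hpC]; ring
    rw [hp1']
    field_simp
    ring

end Cfsg.Agent.Helper82.BP
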