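import Cfsg.Agent.Helper57.BP.Lemmas
import Cfsg.Agent.Helper70.DefOneXG

/-!
# S4504, piece (V3) of helper57's plan: sums over the `p`-singular elements
-/

set_option autoImplicit false
set_option linter.unusedVariables false

namespace Cfsg.Agent.Helper82.BP

open Cfsg Cfsg.Agent.Helper16 Cfsg.Agent.Helper16.DefOne Cfsg.Agent.Helper82.DefOne
  Cfsg.Agent.Helper77.DefOne Cfsg.Agent.Helper57.BH Cfsg.Agent.Helper57.BP
open scoped ComplexConjugate

universe u

variable {G : Type u} [Group G] [Fintype G] {p : ℕ} [Fact p.Prime] (P : Sylow p G)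

/-- membership in a conjugate Sylow subgroup -/
theorem mem_smul_sylow_iff (x : G) (Q : Sylow p G) (z : G) :
    z ∈ ((x • Q : Sylow p G) : Subgroup G) ↔ x⁻¹ * z * x ∈ (Q : Subgroup G) := by
  rw [Sylow.coe_subgroup_smul, Subgroup.mem_pointwise_smul_iff_inv_smul_mem]
  simp [MulAut.smul_def]

open Classical in
/-- the `p`-singular elements of `C_G(P)` are the products `u ζ`, `1 ≠ u ∈ P`, `ζ ∈ Z(G)` -/
theorem sum_singular_cen (hP : Nat.card P = p)
    (hcent : ∀ c : G, c ∈ cen P → ¬ p ∣ orderOf c → c ∈ Subgroup.center G)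
    (hZreg : ∀ ζ : G, ζ ∈ Subgroup.center G → ¬ p ∣ orderOf ζ)
    (F : G → ℝ)
    (hFZ : ∀ g ζ : G, ζ ∈ Subgroup.center G → F (g * ζ) = F g) :
    ∑ g ∈ Finset.univ.filter (fun g : G => p ∣ orderOf g ∧ g ∈ cen P), F g =
      (Nat.card (Subgroup.center G) : ℝ) *
        ∑ u ∈ Finset.univ.filter (fun u : G => u ∈ (P : Subgroup G) ∧ u ≠ 1), F u := by
  have hZC : ∀ ζ : G, ζ ∈ Subgroup.center G → ζ ∈ cen P := by
    intro ζ hζ
    rw [Subgroup.mem_centralizer_iff]
    intro y _
    exact (Subgroup.mem_center_iff.mp hζ y)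
  have hbij : ∑ q ∈ (Finset.univ.filter (fun u : G => u ∈ (P : Subgroup G) ∧ u ≠ 1)) ×ˢ
        (Finset.univ.filter (fun ζ : G => ζ ∈ Subgroup.center G)), F (q.1 * q.2) =
      ∑ g ∈ Finset.univ.filter (fun g : G => p ∣ orderOf g ∧ g ∈ cen P), F g := by
    apply Finset.sum_nbij (fun q : G × G => q.1 * q.2)
    · rintro ⟨u, ζ⟩ hq
      simp only [Finset.mem_product, Finset.mem_filter, Finset.mem_univ, true_and] at hq
      obtain ⟨⟨hu, hu1⟩, hζ⟩ := hq
      have := Helper70.DefOneXG.mul_facts P hP hu hu1 (hZC ζ hζ) (hZreg ζ hζ)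
      simp only [Finset.mem_filter, Finset.mem_univ, true_and]
      exact ⟨this.2, this.1⟩
    · rintro ⟨u, ζ⟩ hq ⟨u', ζ'⟩ hq' h
      simp only [Finset.coe_product, Finset.coe_filter, Finset.mem_univ, true_and,
        Set.mem_prod, Set.mem_ofPred_eq] at hq hq'
      obtain ⟨⟨hu, hu1⟩, hζ⟩ := hq
      obtain ⟨⟨hu', hu1'⟩, hζ'⟩ := hq'
      have := Helper70.DefOneXG.mul_unique P hP hu hu' (hZC ζ hζ) (hZreg ζ hζ) (hZreg ζ' hζ') h
      rw [this.1, this.2]
    · intro g hg
      simp only [Finset.coe_filter, Finset.mem_univ, true_and, Set.mem_ofPred_eq] at hg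
      obtain ⟨hgs, hgC⟩ := hg
      obtain ⟨u, y, hu, hu1, hy, hyreg, huy, -, -⟩ :=
        Helper70.DefOneXG.exists_mul P hP hgC hgs (show g * 1 = 1 * g by simp)
      refine ⟨(u, y), ?_, huy⟩
      simp only [Finset.coe_product, Finset.coe_filter, Finset.mem_univ, true_and,
        Set.mem_prod, Set.mem_ofPred_eq]
      exact ⟨⟨hu, hu1⟩, hcent y hy hyreg⟩
    · intro q _
      rfl
  rw [← hbij, Finset.sum_product, Finset.mul_sum]
  refine Finset.sum_congr rfl (fun u _ => ?_)
  have h1 : ∀ ζ ∈ Finset.univ.filter (fun ζ : G => ζ ∈ Subgroup.center G), F (u * ζ) = F u := by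
    intro ζ hζ
    simp only [Finset.mem_filter, Finset.mem_univ, true_and] at hζ
    exact hFZ u ζ hζ
  rw [Finset.sum_congr rfl h1, Finset.sum_const, nsmul_eq_mul]
  congr 1
  rw [Nat.card_eq_fintype_card, Fintype.card_subtype]

open Classical in
/-- (V3) sums over the `p`-singular elements -/
theorem sum_singular_eq (hP : Nat.card P = p)
    (hcent : ∀ c : cen P, ¬ p ∣ orderOf c → (c : G) ∈ Subgroup.center G)
    (hZreg : ∀ ζ : G, ζ ∈ Subgroup.center G → ¬ p ∣ orderOf ζ)
    (F : G → ℝ) (hF : ∀ g h : G, F (g * h * g⁻¹) = F h)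
    (hFZ : ∀ g ζ : G, ζ ∈ Subgroup.center G → F (g * ζ) = F g) :
    ∑ g ∈ Finset.univ.filter (fun g : G => p ∣ orderOf g), F g =
      (Nat.card (Subgroup.center G) : ℝ) * (Nat.card (Sylow p G) : ℝ) *
        ∑ u ∈ Finset.univ.filter (fun u : G => u ∈ (P : Subgroup G) ∧ u ≠ 1), F u := by
  have : Fintype (Sylow p G) := Fintype.ofFinite _
  -- the hypothesis `hcent` for every Sylow subgroup
  have hcentQ : ∀ Q : Sylow p G, ∀ c : G, c ∈ cen Q → ¬ p ∣ orderOf c →
      c ∈ Subgroup.center G := by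
    intro Q c hc hcreg
    obtain ⟨x, hx⟩ := MulAction.exists_smul_eq G P Q
    -- `x⁻¹ c x ∈ C_G(P)`
    have hmem : x⁻¹ * c * x ∈ cen P := by
      rw [Subgroup.mem_centralizer_iff]
      intro y hy
      have hyQ : x * y * x⁻¹ ∈ (Q : Subgroup G) := by
        rw [← hx, mem_smul_sylow_iff]
        have e : x⁻¹ * (x * y * x⁻¹) * x = y := by group
        rw [e]
        exact hy
      have h1 := Subgroup.mem_centralizer_iff.mp hc _ hyQ
      -- x y x⁻¹ * c = c * (x y x⁻¹)
      calc y * (x⁻¹ * c * x) = x⁻¹ * (x * y * x⁻¹ * c) * x := by group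
        _ = x⁻¹ * (c * (x * y * x⁻¹)) * x := by rw [h1]
        _ = x⁻¹ * c * x * y := by group
    have hreg : ¬ p ∣ orderOf (⟨x⁻¹ * c * x, hmem⟩ : cen P) := by
      rw [← Subgroup.orderOf_coe]
      have : orderOf (x⁻¹ * c * x) = orderOf c := by
        have := (MulAut.conj x⁻¹).orderOf_eq c
        simpa [MulAut.conj_apply] using this
      rw [this]
      exact hcreg
    have hz := hcent ⟨x⁻¹ * c * x, hmem⟩ hreg
    have hz' : x⁻¹ * c * x ∈ Subgroup.center G := hz
    have : c = x * (x⁻¹ * c * x) * x⁻¹ := by group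
    rw [this]
    exact (Subgroup.center G).normal_of_characteristic.conj_mem _ hz' x
  -- the sum over `Q \ 1` does not depend on `Q`
  have hconj : ∀ Q : Sylow p G,
      ∑ u ∈ Finset.univ.filter (fun u : G => u ∈ (Q : Subgroup G) ∧ u ≠ 1), F u =
        ∑ u ∈ Finset.univ.filter (fun u : G => u ∈ (P : Subgroup G) ∧ u ≠ 1), F u := by
    intro Q
    obtain ⟨x, hx⟩ := MulAction.exists_smul_eq G P Q
    symm
    apply Finset.sum_nbij' (fun u : G => x * u * x⁻¹) (fun u : G => x⁻¹ * u * x)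
    · intro u hu
      simp only [Finset.mem_filter, Finset.mem_univ, true_and] at hu ⊢
      refine ⟨?_, ?_⟩
      · rw [← hx, mem_smul_sylow_iff]
        have e : x⁻¹ * (x * u * x⁻¹) * x = u := by group
        rw [e]
        exact hu.1
      · intro h
        apply hu.2
        have : u = x⁻¹ * (x * u * x⁻¹) * x := by group
        rw [this, h]
        group
    · intro u hu
      simp only [Finset.mem_filter, Finset.mem_univ, true_and] at hu ⊢
      refine ⟨?_, ?_⟩
      · have h1 := hu.1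
        rw [← hx, mem_smul_sylow_iff] at h1
        exact h1
      · intro h
        apply hu.2
        have : u = x * (x⁻¹ * u * x) * x⁻¹ := by group
        rw [this, h]
        group
    · intro u _
      group
    · intro u _
      group
    · intro u _
      exact (hF x u).symm
  -- partition of the singular elements by the Sylow subgroup they centralize
  have hpart : ∑ g ∈ Finset.univ.filter (fun g : G => p ∣ orderOf g), F g =
      ∑ Q : Sylow p G, ∑ g ∈ Finset.univ.filter (fun g : G => p ∣ orderOf g ∧ g ∈ cen Q), F g := by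
    have h1 : ∀ g ∈ Finset.univ.filter (fun g : G => p ∣ orderOf g),
        F g = ∑ Q : Sylow p G, if g ∈ cen Q then F g else 0 := by
      intro g hg
      simp only [Finset.mem_filter, Finset.mem_univ, true_and] at hg
      obtain ⟨Q₀, hQ₀⟩ := Helper70.DefOneXG.exists_sylow_centralizer P hP hg
      rw [Finset.sum_eq_single_of_mem Q₀ (Finset.mem_univ _), if_pos hQ₀]
      intro Q _ hne
      rw [if_neg]
      intro hQ
      exact hne (Helper70.DefOneXG.sylow_centralizer_unique P hP hg Q Q₀ hQ hQ₀)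
    rw [Finset.sum_congr rfl h1, Finset.sum_comm]
    refine Finset.sum_congr rfl (fun Q _ => ?_)
    rw [← Finset.sum_filter, Finset.filter_filter]
  rw [hpart]
  have hQ : ∀ Q : Sylow p G,
      ∑ g ∈ Finset.univ.filter (fun g : G => p ∣ orderOf g ∧ g ∈ cen Q), F g =
        (Nat.card (Subgroup.center G) : ℝ) *
          ∑ u ∈ Finset.univ.filter (fun u : G => u ∈ (P : Subgroup G) ∧ u ≠ 1), F u := by
    intro Q
    rw [sum_singular_cen Q (Helper70.DefOneXG.card_sylow_eq P Q hP) (hcentQ Q) hZreg F hFZ,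
      hconj Q]
  rw [Finset.sum_congr rfl (fun Q _ => hQ Q), Finset.sum_const, nsmul_eq_mul, Finset.card_univ,
    Nat.card_eq_fintype_card (α := Sylow p G)]
  ring

end Cfsg.Agent.Helper82.BP
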