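import Mathlib
import Cfsg.Agent.Helper17.ExcChar5

/-!
# Brauer's `e = 2` exceptional-character computation at an arbitrary involution

Generalisation of `Cfsg.Agent.Helper17.Exc.brauer_two_sq` (helper17): the class-multiplication
identity is proved for *every* involution `z` of `G`, not only for the involution of `N_G(K)`.
-/

set_option autoImplicit false
set_option linter.style.haveILetI false
set_option linter.unusedVariables false
set_option maxHeartbeats 1000000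

namespace Cfsg.Agent.Helper82.B2I

open Cfsg Cfsg.Agent Cfsg.Agent.Helper17 Cfsg.Agent.Helper17.Exc
open scoped ComplexConjugate

universe u

variable {G : Type u} [Group G] [Finite G]

/-- **Brauer's degree equation with the class-multiplication identity at every involution**,
`e = 2`: `G` perfect, `K` of prime order `p ≥ 5` containing the centralizers of its non-identity
elements, `|N_G(K)| = 2p`.  Then there are a non-principal irreducible `ψ₁` of degree `d₁` and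
`u ∈ K`, `u ≠ 1`, such that for every involution `z`:
`#{(z₁,z₂) ∈ cl(z)² : z₁ z₂ = u} · |G| · d₁ · d = (|cl(z)| (d₁ - ψ₁(z)))²`. -/
theorem brauer_two_invol (hperf : commutator G = ⊤) (K : Subgroup G) {p : ℕ} (hp : p.Prime)
    (hK : Nat.card K = p)
    (hC : ∀ k ∈ K, k ≠ 1 → Subgroup.centralizer ({k} : Set G) ≤ K)
    (hN : Nat.card (Subgroup.normalizer (K : Set G)) = p * 2) (hp5 : 5 ≤ p) :
    ∃ (δ : ℤ) (d₁ d r : ℕ) (ψ₁ : IrrCharacter G) (u : G),
      (δ = 1 ∨ δ = -1) ∧ d₁ ∣ Nat.card G ∧ d ∣ Nat.card G ∧ 1 < d₁ ∧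
      ((d₁ : ℤ) ≡ δ [ZMOD (p : ℤ)]) ∧ 1 + δ * d₁ = δ * d ∧ r * 2 + 1 = p ∧
      1 + d₁ ^ 2 + r * d ^ 2 ≤ Nat.card G ∧ u ∈ K ∧ u ≠ 1 ∧
      ψ₁ ≠ Helper79.principalIrr G ∧ charDegree (ψ₁ : G → ℂ) = d₁ ∧
      ∀ z : G, orderOf z = 2 → ∃ m : ℤ, (ψ₁ : G → ℂ) z = m ∧
        ((Nat.card {q : G × G // IsConj z q.1 ∧ IsConj z q.2 ∧ q.1 * q.2 = u} : ℤ)
            * (Nat.card G : ℤ) * (d₁ : ℤ) * (d : ℤ)
          = ((Nat.card {x : G // IsConj z x} : ℤ) * ((d₁ : ℤ) - m)) ^ 2) := by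
  classical
  haveI : Fact p.Prime := ⟨hp⟩
  let _ : Fintype G := Fintype.ofFinite G
  let _ : Fintype ↥(Subgroup.normalizer (K : Set G)) := Fintype.ofFinite _
  let _ := Helper74.irrFintype G
  let _ := Helper74.irrFintype ↥(Subgroup.normalizer (K : Set G))
  have hp2 : p ≠ 2 := by omega
  obtain ⟨D, hidx, hcount⟩ := exists_excData K hp hK hC hN le_rfl (by omega)
  have hr2 : 2 ≤ Nat.card (Rel K) := by omega
  obtain ⟨c, d, a, s, h1, h2, h3, h4, h5, h6, h7, h8, hs, hd, hval, hnonval⟩ := D.main' hr2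
  rw [hidx] at h6
  rw [hK] at h5
  obtain ⟨χ₁, χ₂, hne⟩ : ∃ χ₁ χ₂ : Rel K, χ₁ ≠ χ₂ := by
    have hnt : Nontrivial (Rel K) := Finite.one_lt_card_iff_nontrivial.mp (by omega)
    exact exists_pair_ne (Rel K)
  have hdgt : 1 < d := by
    have hne1 : D.f χ₁ ≠ Helper79.principalIrr G := D.principal_not_exc hne
    have := one_lt_charDegree_of_perfect hperf (D.f χ₁) hne1
    have h2' := hd χ₁
    rw [Helper78.irrChar_one_eq_charDegree (D.f χ₁).2] at h2'
    have : charDegree (D.f χ₁ : G → ℂ) = d := by exact_mod_cast h2'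
    omega
  have hε2 : D.ε ^ 2 = 1 := by rcases D.hε with h | h <;> rw [h] <;> norm_num
  set r : ℕ := Nat.card (Rel K) with hrdef
  have hr2' : (2 : ℤ) ≤ (r : ℤ) := by exact_mod_cast hr2
  -- the sum of squares is 1 or 2
  have hsq := Finset.add_sum_erase s (fun ψ => a ψ ^ 2) h3
  rw [h6, h4] at hsq
  have hnonneg : 0 ≤ ∑ ψ ∈ s.erase (Helper79.principalIrr G), a ψ ^ 2 :=
    Finset.sum_nonneg (fun j _ => sq_nonneg _)
  have hcc : c * (c - D.ε) ≥ 0 := by
    rcases D.hε with h | h <;> rw [h]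
    · rcases le_or_gt c 0 with hc | hc
      · nlinarith
      · nlinarith
    · rcases le_or_gt c (-1) with hc | hc
      · nlinarith
      · nlinarith
  have hle : ∑ ψ ∈ s.erase (Helper79.principalIrr G), a ψ ^ 2 ≤ 1 := by
    have : (2 : ℤ) * c ^ 2 ≤ (r : ℤ) * c ^ 2 := by nlinarith [sq_nonneg c]
    push_cast at hsq
    nlinarith
  have hdeg := Finset.add_sum_erase s (fun ψ => a ψ * (charDegree (ψ : G → ℂ) : ℤ)) h3
  rw [h7, h4, charDegree_principal] at hdeg
  have hsum1 : ∑ ψ ∈ s.erase (Helper79.principalIrr G), a ψ ^ 2 = 1 := by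
    rcases (by omega : ∑ ψ ∈ s.erase (Helper79.principalIrr G), a ψ ^ 2 = 0 ∨
        ∑ ψ ∈ s.erase (Helper79.principalIrr G), a ψ ^ 2 = 1) with h0 | h1'
    · exfalso
      have hall : ∀ ψ ∈ s.erase (Helper79.principalIrr G), a ψ = 0 := by
        intro ψ hψ
        have := (Finset.sum_eq_zero_iff_of_nonneg (fun j _ => sq_nonneg (a j))).mp h0 ψ hψ
        exact pow_eq_zero_iff (by norm_num) |>.mp this
      rw [Finset.sum_eq_zero (fun ψ hψ => by rw [hall ψ hψ, zero_mul])] at hdeg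
      -- 1 = d * (ε - r c)
      have hd1 : (d : ℤ) ∣ 1 := ⟨D.ε - (r : ℤ) * c, by push_cast at hdeg ⊢; linarith⟩
      have := Int.le_of_dvd (by norm_num) hd1
      omega
    · exact h1'
  -- η = ε - r c is a sign
  set η : ℤ := D.ε - (r : ℤ) * c with hηdef
  have hη : η = 1 ∨ η = -1 := by
    have hq : c * (2 * D.ε - (r : ℤ) * c) = 0 := by
      push_cast at hsq
      nlinarith
    rcases mul_eq_zero.mp hq with hc0 | hrc
    · rw [hηdef, hc0, mul_zero, sub_zero]; exact D.hε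
    · have : η = -D.ε := by rw [hηdef]; linarith
      rw [this]
      rcases D.hε with h | h <;> rw [h] <;> norm_num
  have hη2 : η * η = 1 := by rcases hη with h | h <;> rw [h] <;> norm_num
  obtain ⟨ψ₁, hψ₁, haψ₁, hrest⟩ := sq_sum_one _ a hsum1
  have hψ₁s := Finset.mem_of_mem_erase hψ₁
  have hψ₁ne := Finset.ne_of_mem_erase hψ₁
  rw [sum_eq_of_support_one _ a (fun ψ => (charDegree (ψ : G → ℂ) : ℤ)) hψ₁ hrest] at hdeg
  set δ : ℤ := a ψ₁ with hδdef
  set d₁ : ℕ := charDegree (ψ₁ : G → ℂ) with hd₁def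
  have hδ2 : δ * δ = 1 := by rcases haψ₁ with h | h <;> rw [h] <;> norm_num
  -- degree relation: 1 + δ d₁ = d η
  have hdegrel : 1 + δ * (d₁ : ℤ) = (d : ℤ) * η := by
    push_cast at hdeg; linarith
  have hd₁gt : 1 < d₁ := one_lt_charDegree_of_perfect hperf ψ₁ hψ₁ne
  -- all other non-exceptional characters have a = 0
  have hazero : ∀ ψ ∈ s, ψ ≠ Helper79.principalIrr G → ψ ≠ ψ₁ → a ψ = 0 := by
    intro ψ hψ hψp hψ1
    exact hrest ψ (Finset.mem_erase.mpr ⟨hψp, hψ⟩) hψ1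
  -- the element u
  have hKnt : Nontrivial K := by
    rw [← Finite.one_lt_card_iff_nontrivial, hK]
    exact hp.one_lt
  obtain ⟨⟨u, huK⟩, hu1⟩ := exists_ne (1 : K)
  have hu1' : u ≠ 1 := fun h => hu1 (Subtype.ext h)
  set u' : ↥(Subgroup.normalizer (K : Set G)) := ⟨u, Subgroup.le_normalizer huK⟩ with hu'def
  have hu'1 : u' ≠ 1 := fun h => hu1' (congrArg Subtype.val h)
  -- splitting sums over the irreducible characters
  have hsplit : ∀ F : IrrCharacter G → ℂ,
      ∑ ψ, F ψ = ∑ χ : Rel K, F (D.f χ) + ∑ ψ ∈ s, F ψ := by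
    intro F
    have hsE : s = Finset.univ \ Finset.univ.image D.f := by
      ext ψ
      rw [hs]
      simp
    rw [hsE, ← Finset.sum_sdiff (Finset.subset_univ (Finset.univ.image D.f)),
      Finset.sum_image (fun x _ y _ h => D.hinj h), add_comm]
  have hsplit_s : ∀ F : IrrCharacter G → ℂ, (∀ ψ ∈ s, ψ ≠ Helper79.principalIrr G → ψ ≠ ψ₁ →
      F ψ = 0) → ∑ ψ ∈ s, F ψ = F (Helper79.principalIrr G) + F ψ₁ := by
    intro F hF
    rw [← Finset.add_sum_erase s _ h3, ← Finset.add_sum_erase _ _ hψ₁, Finset.sum_eq_zero,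
      add_zero]
    intro ψ hψ
    have h1 := Finset.mem_of_mem_erase hψ
    exact hF ψ (Finset.mem_of_mem_erase h1) (Finset.ne_of_mem_erase h1) (Finset.ne_of_mem_erase hψ)
  obtain ⟨hN1, -⟩ := nside_sums D.hC D.hab u' huK hu'1
  have hcardRel : (Finset.univ : Finset (Rel K)).card = r := by
    rw [Finset.card_univ, hrdef, Nat.card_eq_fintype_card]
  have hvalu : ∀ χ : Rel K, (D.f χ : G → ℂ) u
      = (D.ε : ℂ) * (χ.1 : ↥(Subgroup.normalizer (K : Set G)) → ℂ) u' + c :=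
    fun χ => hval χ u' huK hu'1
  have hnonu : ∀ ψ ∈ s, (ψ : G → ℂ) u = a ψ := fun ψ hψ => hnonval ψ hψ u' huK hu'1
  have hsumconj : ∑ χ : Rel K, conj ((D.f χ : G → ℂ) u) = -(η : ℂ) := by
    have : ∀ χ : Rel K, conj ((D.f χ : G → ℂ) u)
        = (D.ε : ℂ) * conj ((χ.1 : ↥(Subgroup.normalizer (K : Set G)) → ℂ) u') + c := by
      intro χ
      rw [hvalu χ]
      simp only [map_add, map_mul, map_intCast]
    rw [Finset.sum_congr rfl (fun χ _ => this χ), Finset.sum_add_distrib, ← Finset.mul_sum,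
      ← map_sum, hN1, Finset.sum_const, hcardRel, nsmul_eq_mul, hηdef]
    simp only [map_neg, map_one]
    push_cast
    ring
  have hprinc : ∀ x : G, ((Helper79.principalIrr G : IrrCharacter G) : G → ℂ) x = 1 := fun _ => rfl
  have ha1 : (a (Helper79.principalIrr G) : ℂ) = 1 := by rw [h4]; norm_cast
  -- the general identity at an involution
  have hgen : ∀ t : G, orderOf t = 2 → ∃ m : ℤ, (ψ₁ : G → ℂ) t = m ∧
      (((Nat.card {q : G × G // IsConj t q.1 ∧ IsConj t q.2 ∧ q.1 * q.2 = u}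
          * Nat.card G * d₁ * d : ℕ) : ℤ)
        = (η * δ) * ((Nat.card {x : G // IsConj t x} : ℤ) * ((d₁ : ℤ) - m)) ^ 2) := by
    intro t ht2
    have htt : t * t = 1 := by
      have := pow_orderOf_eq_one t
      rwa [ht2, pow_two] at this
    have htoff : ∀ g : G, g * t * g⁻¹ ∉ K := conj_not_mem_of_orderOf_two hp hK hp2 ht2
    have hnotconj : ¬ IsConj t u := by
      intro h
      obtain ⟨g, hg⟩ := isConj_iff.mp h
      exact htoff g (hg ▸ huK)
    -- common value of the exceptional characters at t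
    set X : ℂ := (D.f χ₁ : G → ℂ) t with hXdef
    have hX : ∀ χ : Rel K, (D.f χ : G → ℂ) t = X := fun χ => D.exc_eq_off χ χ₁ t htoff
    -- the value τ of ψ₁ at t is an integer
    obtain ⟨m, hm⟩ := char_involution_int (Helper74.irr_isCharacter ψ₁) htt
    -- column orthogonality
    have horth := Helper74.second_orthogonality (G := G) t u
    rw [if_neg hnotconj, hsplit] at horth
    have hE1 : ∑ χ : Rel K, (D.f χ : G → ℂ) t * conj ((D.f χ : G → ℂ) u) = X * (-(η : ℂ)) := by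
      rw [Finset.sum_congr rfl (fun χ _ => by rw [hX χ]), ← Finset.mul_sum, hsumconj]
    have hNE1 : ∑ ψ ∈ s, (ψ : G → ℂ) t * conj ((ψ : G → ℂ) u) = 1 + (m : ℂ) * δ := by
      rw [hsplit_s (fun ψ => (ψ : G → ℂ) t * conj ((ψ : G → ℂ) u))]
      · rw [hprinc, hprinc, hnonu ψ₁ hψ₁s, hm]
        simp only [map_one, map_intCast]
        ring
      · intro ψ hψ hψp hψ1
        rw [hnonu ψ hψ, hazero ψ hψ hψp hψ1]
        simp
    rw [hE1, hNE1] at horth
    have hXval : X = (η : ℂ) * (1 + (m : ℂ) * δ) := by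
      have hη2' : (η : ℂ) * (η : ℂ) = 1 := by exact_mod_cast hη2
      linear_combination (-(η : ℂ)) * horth - X * hη2'
    -- the class multiplication formula
    have hmult := Cfsg.Agent.S0840.result t t u
    rw [finsum_eq_sum_of_fintype, hsplit] at hmult
    set Nz : ℕ := Nat.card {q : G × G // IsConj t q.1 ∧ IsConj t q.2 ∧ q.1 * q.2 = u} with hNzdef
    have hd0 : (d : ℂ) ≠ 0 := by
      have : d ≠ 0 := by omega
      exact_mod_cast this
    have hd₁0 : (d₁ : ℂ) ≠ 0 := by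
      have : d₁ ≠ 0 := by omega
      exact_mod_cast this
    have hE2 : ∑ χ : Rel K, (D.f χ : G → ℂ) t * (D.f χ : G → ℂ) t * conj ((D.f χ : G → ℂ) u)
        / (D.f χ : G → ℂ) 1 = X * X * (-(η : ℂ)) / d := by
      rw [Finset.sum_congr rfl (fun χ _ => by rw [hX χ, hd χ]), ← Finset.sum_div, ← Finset.mul_sum,
        hsumconj]
    have hψ₁one : (ψ₁ : G → ℂ) 1 = (d₁ : ℂ) := Helper78.irrChar_one_eq_charDegree ψ₁.2
    have hNE2 : ∑ ψ ∈ s, (ψ : G → ℂ) t * (ψ : G → ℂ) t * conj ((ψ : G → ℂ) u) / (ψ : G → ℂ) 1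
        = 1 + (m : ℂ) * m * δ / d₁ := by
      rw [hsplit_s (fun ψ => (ψ : G → ℂ) t * (ψ : G → ℂ) t * conj ((ψ : G → ℂ) u) / (ψ : G → ℂ) 1)]
      · rw [hprinc, hprinc, hprinc, hnonu ψ₁ hψ₁s, hm, hψ₁one]
        simp only [map_one, map_intCast]
        ring
      · intro ψ hψ hψp hψ1
        rw [hnonu ψ hψ, hazero ψ hψ hψp hψ1]
        simp
    rw [hE2, hNE2, hXval] at hmult
    -- clear denominators
    set cl : ℕ := Nat.card {x : G // IsConj t x} with hcldef
    have hG0 : (Nat.card G : ℂ) ≠ 0 := by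
      have : Nat.card G ≠ 0 := Nat.card_pos.ne'
      exact_mod_cast this
    have hdegC : (1 : ℂ) + (δ : ℂ) * d₁ = (d : ℂ) * η := by exact_mod_cast hdegrel
    have hδ2C : (δ : ℂ) * δ = 1 := by exact_mod_cast hδ2
    have hη2C : (η : ℂ) * η = 1 := by exact_mod_cast hη2
    have hfinal : ((Nz * Nat.card G * d₁ * d : ℕ) : ℂ)
        = (((η * δ) * ((cl : ℤ) * ((d₁ : ℤ) - m)) ^ 2 : ℤ) : ℂ) := by
      push_cast
      have hdC : (d : ℂ) = (η : ℂ) * (1 + δ * d₁) := by
        linear_combination (-(η : ℂ)) * hdegC - (d : ℂ) * hη2C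
      have step1 : (Nz : ℂ) * (Nat.card G : ℂ) * d₁ * d
          = (cl : ℂ) * cl * ((η : ℂ) * (1 + m * δ) * ((η : ℂ) * (1 + m * δ)) * (-(η : ℂ)) * d₁
            + (d₁ : ℂ) * d + m * m * δ * d) := by
        rw [hmult]
        field_simp
        ring
      rw [step1, hdC]
      linear_combination ((cl : ℂ) * cl * (-(η : ℂ) * d₁ * (1 + m * δ) ^ 2)) * hη2C
    refine ⟨m, hm, ?_⟩
    exact_mod_cast hfinal
  -- the involution
  obtain ⟨t', ht'⟩ := exists_prime_orderOf_dvd_card' (G := ↥(Subgroup.normalizer (K : Set G))) 2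
    (by rw [hN]; exact Dvd.intro_left p rfl)
  obtain ⟨t, htdef⟩ : ∃ t : G, t = (t' : G) := ⟨_, rfl⟩
  have ht2 : orderOf t = 2 := by rw [htdef, Subgroup.orderOf_coe, ht']
  have htN : t ∈ Subgroup.normalizer (K : Set G) := by rw [htdef]; exact t'.2
  have htt : t * t = 1 := by
    have := pow_orderOf_eq_one t
    rwa [ht2, pow_two] at this
  have htoff : ∀ g : G, g * t * g⁻¹ ∉ K := conj_not_mem_of_orderOf_two hp hK hp2 ht2
  have hcount2 := card_involution_pairs K hK hp2 hC hN htN ht2 huK hu1'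
  obtain ⟨m, hm, hfinalZ⟩ := hgen t ht2
  rw [hcount2] at hfinalZ
  set cl : ℕ := Nat.card {x : G // IsConj t x} with hcldef
  have hpos : (0 : ℤ) < ((p * Nat.card G * d₁ * d : ℕ) : ℤ) := by
    have : 0 < p * Nat.card G * d₁ * d :=
      Nat.mul_pos (Nat.mul_pos (Nat.mul_pos hp.pos Nat.card_pos) (by omega)) (by omega)
    exact_mod_cast this
  have hηδ : η * δ = 1 := by
    rcases hη with h | h <;> rcases haψ₁ with h' | h'
    · rw [h, h']; norm_num
    · exfalso
      rw [hfinalZ, h, h'] at hpos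
      nlinarith [sq_nonneg ((cl : ℤ) * ((d₁ : ℤ) - m))]
    · exfalso
      rw [hfinalZ, h, h'] at hpos
      nlinarith [sq_nonneg ((cl : ℤ) * ((d₁ : ℤ) - m))]
    · rw [h, h']; norm_num
  have hηeq : η = δ := by
    calc η = η * (δ * δ) := by rw [hδ2, mul_one]
      _ = (η * δ) * δ := by ring
      _ = δ := by rw [hηδ, one_mul]
  have hψ₁one : (ψ₁ : G → ℂ) 1 = (d₁ : ℂ) := Helper78.irrChar_one_eq_charDegree ψ₁.2
  refine ⟨δ, d₁, d, r, ψ₁, u, haψ₁, Helper80.IsIrrCharacter.charDegree_dvd_card ψ₁.2, h1, hd₁gt,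
    h5 ψ₁ hψ₁s, ?_, hcount, ?_, huK, hu1', hψ₁ne, rfl, ?_⟩
  · rw [hdegrel, hηeq, mul_comm]
  · rw [← h8]
    have e1 := Finset.add_sum_erase s (fun ψ => charDegree (ψ : G → ℂ) ^ 2) h3
    have e2 := Finset.single_le_sum (f := fun ψ : IrrCharacter G => charDegree (ψ : G → ℂ) ^ 2)
      (fun _ _ => Nat.zero_le _) hψ₁
    rw [charDegree_principal] at e1
    beta_reduce at e1 e2
    rw [← hd₁def] at e2
    omega
  · intro z hz
    obtain ⟨m', hm', hz'⟩ := hgen z hz
    refine ⟨m', hm', ?_⟩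
    rw [hηδ, one_mul] at hz'
    rw [← hz']
    push_cast
    ring

end Cfsg.Agent.Helper82.B2I
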