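import Mathlib
import Cfsg.Agent.Helper82.BrauerTwoInvol
import Cfsg.Agent.Helper17.ExcApply
import Cfsg.Agent.Helper78.Kernel
import Cfsg.Agent.Helper74.CharCenter
import Cfsg.Agent.S1019

/-!
# Consequences of Brauer's `e = 2` computation for involutions of a simple group

If `G` is simple, `K ≤ G` has prime order `p ≥ 5`, contains the centralizers of its non-identity
elements and `|N_G(K)| = 2p`, then every involution `z` of `G` satisfies
`p |G| ≤ 8 |z^G|²`.
-/

set_option autoImplicit false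
set_option linter.style.haveILetI false
set_option linter.unusedVariables false
set_option maxHeartbeats 1000000

namespace Cfsg.Agent.Helper82.B2I

open Cfsg Cfsg.Agent Cfsg.Agent.Helper17 Cfsg.Agent.Helper17.Exc
open scoped ComplexConjugate

universe u

variable {G : Type u} [Group G] [Finite G]

/-- Class equation for one class: `|C(x)| * |x^G| = |G|`. -/
theorem card_centralizer_mul_card_class (x : G) :
    Nat.card (Subgroup.centralizer ({x} : Set G)) * Nat.card {y : G // IsConj x y}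
      = Nat.card G := by
  have := Cfsg.Agent.S1019.card_preimage_conj x (Set.univ : Set G)
  have e1 : Nat.card {g : G // g⁻¹ * x * g ∈ (Set.univ : Set G)} = Nat.card G :=
    Nat.card_congr (Equiv.subtypeUnivEquiv (fun g => Set.mem_univ _))
  have e2 : Nat.card {y : G // IsConj x y ∧ y ∈ (Set.univ : Set G)}
      = Nat.card {y : G // IsConj x y} :=
    Nat.card_congr (Equiv.subtypeEquivRight (fun y => by simp))
  rw [e1, e2] at this
  exact this.symm

/-- In a simple group, a non-linear irreducible character takes its degree only at `1`. -/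
theorem eq_one_of_irr_value_eq_degree [IsSimpleGroup G] (ψ : IrrCharacter G)
    (hdeg : 1 < charDegree (ψ : G → ℂ)) (z : G)
    (hz : (ψ : G → ℂ) z = (ψ : G → ℂ) 1) : z = 1 := by
  obtain ⟨n, ρ, hirr, hχ⟩ := ψ.2
  have hz' : ρ.character z = ρ.character 1 := by rw [hχ]; exact hz
  have hρz : ρ z = 1 := Helper78.rep_eq_one_of_character_eq ρ z hz'
  have hmem : z ∈ MonoidHom.ker (ρ : G →* Module.End ℂ (Fin n → ℂ)) := by
    rw [MonoidHom.mem_ker]; exact hρz
  rcases (MonoidHom.normal_ker (ρ : G →* Module.End ℂ (Fin n → ℂ))).eq_bot_or_eq_top with h | h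
  · rw [h, Subgroup.mem_bot] at hmem
    exact hmem
  · exfalso
    have hall : ∀ g, ρ g = 1 := by
      intro g
      have : g ∈ MonoidHom.ker (ρ : G →* Module.End ℂ (Fin n → ℂ)) := by
        rw [h]; exact Subgroup.mem_top g
      exact MonoidHom.mem_ker.mp this
    haveI := hirr
    have hfin := Helper78.finrank_eq_one_of_forall_eq_one ρ hall
    have h1 : (ψ : G → ℂ) 1 = (charDegree (ψ : G → ℂ) : ℂ) :=
      Helper78.irrChar_one_eq_charDegree ψ.2
    have h2 : ρ.character 1 = (Module.finrank ℂ (Fin n → ℂ) : ℂ) := Representation.char_one ρ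
    rw [hχ, h1, hfin] at h2
    have : charDegree (ψ : G → ℂ) = 1 := by exact_mod_cast h2
    omega

/-- For an involution `z`, the number of pairs of conjugates of `z` with product `u ∈ K \ {1}`
is `0` or `p`. -/
theorem pairs_zero_or_p (K : Subgroup G) {p : ℕ} (hp : p.Prime)
    (hK : Nat.card K = p) (hp2 : p ≠ 2)
    (hC : ∀ k ∈ K, k ≠ 1 → Subgroup.centralizer ({k} : Set G) ≤ K)
    (hN : Nat.card (Subgroup.normalizer (K : Set G)) = p * 2) {z u : G}
    (hz : orderOf z = 2) (huK : u ∈ K) (hu1 : u ≠ 1) :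
    Nat.card {q : G × G // IsConj z q.1 ∧ IsConj z q.2 ∧ q.1 * q.2 = u} = 0 ∨
    Nat.card {q : G × G // IsConj z q.1 ∧ IsConj z q.2 ∧ q.1 * q.2 = u} = p := by
  haveI : Fact p.Prime := ⟨hp⟩
  by_cases hne : Nonempty {q : G × G // IsConj z q.1 ∧ IsConj z q.2 ∧ q.1 * q.2 = u}
  · right
    obtain ⟨⟨⟨z₁, z₂⟩, h1, h2, h12⟩⟩ := hne
    simp only at h1 h2 h12
    have hz₁o : orderOf z₁ = 2 := by
      obtain ⟨c, hc⟩ := isConj_iff.mp h1
      rw [← hc]
      have : c * z * c⁻¹ = MulAut.conj c z := rfl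
      rw [this, MulEquiv.orderOf_eq]; exact hz
    have hz₂o : orderOf z₂ = 2 := by
      obtain ⟨c, hc⟩ := isConj_iff.mp h2
      rw [← hc]
      have : c * z * c⁻¹ = MulAut.conj c z := rfl
      rw [this, MulEquiv.orderOf_eq]; exact hz
    have hsq₁ : z₁ * z₁ = 1 := by
      have := pow_orderOf_eq_one z₁
      rwa [hz₁o, pow_two] at this
    have hsq₂ : z₂ * z₂ = 1 := by
      have := pow_orderOf_eq_one z₂
      rwa [hz₂o, pow_two] at this
    have hinv₁ : z₁⁻¹ = z₁ := inv_eq_of_mul_eq_one_left hsq₁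
    have hinv₂ : z₂⁻¹ = z₂ := inv_eq_of_mul_eq_one_left hsq₂
    -- z₁ inverts u
    have hconj : z₁ * u * z₁⁻¹ = u⁻¹ := by
      rw [← h12, mul_inv_rev, hinv₁, hinv₂, ← mul_assoc z₁ z₁ z₂, hsq₁, one_mul]
    have hz₁N : z₁ ∈ Subgroup.normalizer (K : Set G) := by
      by_contra hnot
      have := ti_of_prime_card K hp hK z₁ hnot u huK (by rw [hconj]; exact K.inv_mem huK)
      exact hu1 this
    have hcount := card_involution_pairs K hK hp2 hC hN hz₁N hz₁o huK hu1
    rw [← hcount]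
    apply Nat.card_congr
    apply Equiv.subtypeEquivRight
    intro q
    constructor
    · rintro ⟨a, b, c⟩
      exact ⟨h1.symm.trans a, h1.symm.trans b, c⟩
    · rintro ⟨a, b, c⟩
      exact ⟨h1.trans a, h1.trans b, c⟩
  · left
    rw [not_nonempty_iff] at hne
    exact Nat.card_of_isEmpty

/-- **Involution bound from Brauer's `e = 2` theory.**  `G` simple, `K` of prime order `p ≥ 5`
containing the centralizers of its non-identity elements, `|N_G(K)| = 2p`: every involution `z`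
has `p |G| ≤ 8 |z^G|²`. -/
theorem card_mul_le_eight_mul_class_sq [IsSimpleGroup G] (K : Subgroup G) {p : ℕ}
    (hp : p.Prime) (hK : Nat.card K = p)
    (hC : ∀ k ∈ K, k ≠ 1 → Subgroup.centralizer ({k} : Set G) ≤ K)
    (hN : Nat.card (Subgroup.normalizer (K : Set G)) = p * 2) (hp5 : 5 ≤ p)
    (z : G) (hz : orderOf z = 2) :
    p * Nat.card G ≤ 8 * Nat.card {x : G // IsConj z x} ^ 2 := by
  have hp2 : p ≠ 2 := by omega
  -- G is perfect
  have hnotprime : ¬ (Nat.card G).Prime := by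
    intro hpr
    have hdvd : p * 2 ∣ Nat.card G := by
      rw [← hN]; exact Subgroup.card_subgroup_dvd_card _
    have h2 : 2 ∣ Nat.card G := (Dvd.intro_left p rfl).trans hdvd
    have hpd : p ∣ Nat.card G := (Dvd.intro 2 rfl).trans hdvd
    have e1 := (Nat.prime_dvd_prime_iff_eq Nat.prime_two hpr).mp h2
    have e2 := (Nat.prime_dvd_prime_iff_eq hp hpr).mp hpd
    omega
  have hperf := commutator_eq_top_of_simple (G := G) hnotprime
  obtain ⟨δ, d₁, d, r, ψ₁, u, hδ, hd₁G, hdG, hd₁gt, hcong, hrel, hr, hsum, huK, hu1, hψne, hψdeg,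
    hall⟩ := brauer_two_invol hperf K hp hK hC hN hp5
  obtain ⟨m, hm, hform⟩ := hall z hz
  set cl : ℕ := Nat.card {x : G // IsConj z x} with hcl
  set N₂ : ℕ := Nat.card {q : G × G // IsConj z q.1 ∧ IsConj z q.2 ∧ q.1 * q.2 = u} with hN₂
  have hclpos : 0 < cl := by
    rw [hcl]
    haveI : Nonempty {x : G // IsConj z x} := ⟨⟨z, IsConj.refl z⟩⟩
    exact Nat.card_pos
  -- |m| ≤ d₁
  have hnorm := Helper74.norm_le_charDegree (Helper74.irr_isCharacter ψ₁) z
  rw [hψdeg, hm] at hnorm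
  have habs : |m| ≤ (d₁ : ℤ) := by
    have h1 : ‖((m : ℤ) : ℂ)‖ = |(m : ℝ)| := by
      rw [← Complex.ofReal_intCast, Complex.norm_real, Real.norm_eq_abs]
    rw [h1] at hnorm
    have h2 : |(m : ℝ)| = ((|m| : ℤ) : ℝ) := by push_cast; rfl
    rw [h2] at hnorm
    exact_mod_cast hnorm
  have hm_le : m ≤ (d₁ : ℤ) := (abs_le.mp habs).2
  have hm_ge : -(d₁ : ℤ) ≤ m := (abs_le.mp habs).1
  rcases pairs_zero_or_p K hp hK hp2 hC hN hz huK hu1 with h0 | hp'
  · -- no pairs: z lies in the kernel of ψ₁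
    exfalso
    rw [← hN₂] at h0
    rw [h0] at hform
    have hzero : ((cl : ℤ) * ((d₁ : ℤ) - m)) = 0 := by
      have : ((cl : ℤ) * ((d₁ : ℤ) - m)) ^ 2 = 0 := by
        rw [← hform]; push_cast; ring
      exact pow_eq_zero_iff (by norm_num) |>.mp this
    have hcl0 : (cl : ℤ) ≠ 0 := by exact_mod_cast hclpos.ne'
    have hmd : m = (d₁ : ℤ) := by
      rcases mul_eq_zero.mp hzero with h | h
      · exact absurd h hcl0
      · omega
    have h1 : (ψ₁ : G → ℂ) 1 = (charDegree (ψ₁ : G → ℂ) : ℂ) :=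
      Helper78.irrChar_one_eq_charDegree ψ₁.2
    have hz1 : z = 1 := by
      apply eq_one_of_irr_value_eq_degree ψ₁ (by rw [hψdeg]; exact hd₁gt) z
      rw [hm, h1, hψdeg, hmd]
      norm_cast
    rw [hz1, orderOf_one] at hz
    omega
  · rw [← hN₂] at hp'
    rw [hp'] at hform
    -- d ≥ d₁ - 1
    have hd_ge : (d₁ : ℤ) ≤ 2 * (d : ℤ) := by
      have hd₁2 : (2 : ℤ) ≤ (d₁ : ℤ) := by exact_mod_cast hd₁gt
      rcases hδ with h | h <;> rw [h] at hrel <;> omega
    -- (d₁ - m)² ≤ 4 d₁²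
    have hsq : ((d₁ : ℤ) - m) ^ 2 ≤ 4 * (d₁ : ℤ) ^ 2 := by nlinarith
    have hd₁pos : (0 : ℤ) < (d₁ : ℤ) := by
      have : 0 < d₁ := by omega
      exact_mod_cast this
    have hGpos : (0 : ℤ) < (Nat.card G : ℤ) := by exact_mod_cast Nat.card_pos
    have hppos : (0 : ℤ) < (p : ℤ) := by exact_mod_cast hp.pos
    have hclZ : (0 : ℤ) ≤ (cl : ℤ) ^ 2 := sq_nonneg _
    -- p |G| d₁ d ≤ 4 cl² d₁²
    have hmain : (p : ℤ) * (Nat.card G : ℤ) * (d₁ : ℤ) * (d : ℤ)
        ≤ 4 * (cl : ℤ) ^ 2 * (d₁ : ℤ) ^ 2 := by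
      rw [hform, mul_pow]
      nlinarith
    have hpG : (0 : ℤ) < (p : ℤ) * (Nat.card G : ℤ) := mul_pos hppos hGpos
    -- p |G| d₁ d₁ ≤ p |G| d₁ (2d) ≤ 8 cl² d₁²
    have hfin : (p : ℤ) * (Nat.card G : ℤ) * (d₁ : ℤ) ≤ 8 * (cl : ℤ) ^ 2 * (d₁ : ℤ) := by
      have h1 : (p : ℤ) * (Nat.card G : ℤ) * (d₁ : ℤ) * (d₁ : ℤ)
          ≤ (p : ℤ) * (Nat.card G : ℤ) * (d₁ : ℤ) * (2 * (d : ℤ)) := by
        apply mul_le_mul_of_nonneg_left hd_ge
        positivity
      have h2 : (p : ℤ) * (Nat.card G : ℤ) * (d₁ : ℤ) * (d₁ : ℤ)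
          ≤ (8 * (cl : ℤ) ^ 2 * (d₁ : ℤ)) * (d₁ : ℤ) := by nlinarith
      exact le_of_mul_le_mul_right h2 hd₁pos
    have hfin2 : (p : ℤ) * (Nat.card G : ℤ) ≤ 8 * (cl : ℤ) ^ 2 := by
      have : ((p : ℤ) * (Nat.card G : ℤ)) * (d₁ : ℤ) ≤ (8 * (cl : ℤ) ^ 2) * (d₁ : ℤ) := by
        linarith
      exact le_of_mul_le_mul_right this hd₁pos
    exact_mod_cast hfin2

end Cfsg.Agent.Helper82.B2I
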