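import Mathlib

set_option autoImplicit false

namespace Cfsg.Agent.Helper82

/-- Abstract counting lemma: solutions of `E u = D w` when `D` has a "group inverse". -/
theorem count_aux {A : Type*} [AddCommGroup A] (D E e Q : AddMonoid.End A)
    (h1 : ∀ a, e (D a) = 0) (h2 : ∀ a, D (e a) = 0) (h3 : ∀ a, D (Q a) = a - e a)
    (h4 : ∀ a, Q (D a) = a - e a) (h5 : ∀ a, E (e a) = e (E a)) (h6 : ∀ a, E (Q a) = Q (E a))
    (h7 : ∀ a, D a = 0 → e a = a) :
    Nat.card {p : A × A // E p.1 = D p.2} =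
      Nat.card {a : A // D a = 0 ∧ E a = 0} * Nat.card A := by
  rw [← Nat.card_prod]
  apply Nat.card_congr
  have hee : ∀ a, e (e a) = e a := fun a => h7 _ (h2 a)
  refine
    { toFun := fun p => (⟨e p.1.1, h2 _, by rw [h5, p.2, h1]⟩,
        (p.1.2 - Q (E p.1.1)) + (p.1.1 - e p.1.1))
      invFun := fun q => ⟨(q.1.1 + (q.2 - e q.2), e q.2 + Q (E (q.1.1 + (q.2 - e q.2)))), ?_⟩
      left_inv := ?_
      right_inv := ?_ }
  · obtain ⟨⟨a, ha1, ha2⟩, z⟩ := q
    simp only [map_add, map_sub, map_zero, h2, h3, h5, hee, ha2]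
    abel
  · rintro ⟨⟨u, w⟩, hp⟩
    simp only at hp
    apply Subtype.ext
    have k1 : e (E u) = 0 := by rw [hp, h1]
    have k2 : Q (E u) = w - e w := by rw [hp, h4]
    simp only [map_add, map_sub, map_zero, h5, hee, k1, k2, sub_zero, sub_self, add_zero,
      Prod.mk.injEq]
    constructor <;> abel
  · rintro ⟨⟨a, ha1, ha2⟩, z⟩
    simp only [map_add, map_sub, map_zero, h5, hee, ha2, h7 a ha1, Prod.mk.injEq,
      Subtype.mk.injEq]
    constructor
    · abel
    · abel

end Cfsg.Agent.Helper82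

namespace Cfsg.Agent.Helper82

open Finset in
/-- Coprime counting: if `T` has order dividing `n` coprime to `|A|` and `S` commutes with `T`,
the number of solutions `(u, w)` of `u - S u = w - T w` is `|A|` times the number of common
fixed points. -/
theorem count_coprime {A : Type*} [AddCommGroup A] [Finite A] (T S : AddMonoid.End A)
    (hTS : Commute T S) (n : ℕ) (hn : T ^ n = 1) (hcop : Nat.Coprime n (Nat.card A)) :
    Nat.card {p : A × A // p.1 - S p.1 = p.2 - T p.2} =
      Nat.card {a : A // T a = a ∧ S a = a} * Nat.card A := by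
  classical
  -- Bezout
  obtain ⟨x, hx⟩ : ∃ x : ℤ, ∀ a : A, (x * n) • a = a := by
    refine ⟨Int.gcdA n (Nat.card A), fun a => ?_⟩
    have hb := Int.gcd_eq_gcd_ab n (Nat.card A)
    rw [Int.gcd_natCast_natCast, hcop.gcd_eq_one] at hb
    have h0 : ((Nat.card A : ℤ)) • a = 0 := by
      rw [natCast_zsmul]; exact card_nsmul_eq_zero' 
    calc (Int.gcdA n (Nat.card A) * n) • a
        = ((1 : ℤ) - (Nat.card A : ℤ) * Int.gcdB n (Nat.card A)) • a := by
          congr 1; push_cast at hb; linarith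
      _ = a := by rw [sub_smul, one_smul, mul_comm, mul_smul, h0, smul_zero, sub_zero]
  set N : AddMonoid.End A := ∑ i ∈ range n, T ^ i with hN
  set Q0 : AddMonoid.End A := ∑ i ∈ range n, ∑ j ∈ range i, T ^ j with hQ0
  have hDN : (1 - T) * N = 0 := by rw [hN, mul_neg_geom_sum, hn, sub_self]
  have hND : N * (1 - T) = 0 := by rw [hN, geom_sum_mul_neg, hn, sub_self]
  have hDQ : (1 - T) * Q0 = (n : AddMonoid.End A) - N := by
    rw [hQ0, Finset.mul_sum]
    simp only [mul_neg_geom_sum]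
    rw [Finset.sum_sub_distrib, Finset.sum_const, card_range, nsmul_eq_mul, mul_one]
  have hQD : Q0 * (1 - T) = (n : AddMonoid.End A) - N := by
    rw [hQ0, Finset.sum_mul]
    simp only [geom_sum_mul_neg]
    rw [Finset.sum_sub_distrib, Finset.sum_const, card_range, nsmul_eq_mul, mul_one]
  have hSN : Commute (1 - S) N := by
    rw [hN]
    exact Commute.sum_right _ _ _ fun i _ =>
      ((Commute.one_left _).sub_left (hTS.symm.pow_right i))
  have hSQ : Commute (1 - S) Q0 := by
    rw [hQ0]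
    exact Commute.sum_right _ _ _ fun i _ => Commute.sum_right _ _ _ fun j _ =>
      ((Commute.one_left _).sub_left (hTS.symm.pow_right j))
  have key := count_aux (A := A) (1 - T) (1 - S) (x • N) (x • Q0)
    (fun a => by
      have : (x • N) ((1 - T) a) = (x • (N * (1 - T))) a := rfl
      rw [this, hND]; simp)
    (fun a => by
      have : (1 - T) ((x • N) a) = (x • ((1 - T) * N)) a := by
        simp [map_zsmul]
      rw [this, hDN]; simp)
    (fun a => by
      have : (1 - T) ((x • Q0) a) = (x • ((1 - T) * Q0)) a := by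
        simp [map_zsmul]
      rw [this, hDQ]
      have h2 : (x • ((n : AddMonoid.End A) - N)) a = (x * n) • a - (x • N) a := by
        have h1 : ((n : AddMonoid.End A) - N) a = n • a - N a := by
          show (n : AddMonoid.End A) a - N a = _
          rw [AddMonoid.End.natCast_apply]
        show x • (((n : AddMonoid.End A) - N) a) = _
        rw [h1, smul_sub, mul_smul, natCast_zsmul]
        rfl
      rw [h2, hx])
    (fun a => by
      have : (x • Q0) ((1 - T) a) = (x • (Q0 * (1 - T))) a := rfl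
      rw [this, hQD]
      have h2 : (x • ((n : AddMonoid.End A) - N)) a = (x * n) • a - (x • N) a := by
        have h1 : ((n : AddMonoid.End A) - N) a = n • a - N a := by
          show (n : AddMonoid.End A) a - N a = _
          rw [AddMonoid.End.natCast_apply]
        show x • (((n : AddMonoid.End A) - N) a) = _
        rw [h1, smul_sub, mul_smul, natCast_zsmul]
        rfl
      rw [h2, hx])
    (fun a => by
      have e1 : (1 - S) ((x • N) a) = (x • ((1 - S) * N)) a := by simp [map_zsmul]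
      have e2 : (x • N) ((1 - S) a) = (x • (N * (1 - S))) a := rfl
      rw [e1, e2, hSN.eq])
    (fun a => by
      have e1 : (1 - S) ((x • Q0) a) = (x • ((1 - S) * Q0)) a := by simp [map_zsmul]
      have e2 : (x • Q0) ((1 - S) a) = (x • (Q0 * (1 - S))) a := rfl
      rw [e1, e2, hSQ.eq])
    (fun a ha => by
      have hTa : T a = a := by
        have : a - T a = 0 := ha
        exact (sub_eq_zero.1 this).symm
      have hpow : ∀ i : ℕ, (T ^ i) a = a := by
        intro i
        induction i with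
        | zero => simp
        | succ k ih => rw [pow_succ]; show (T ^ k) (T a) = a; rw [hTa, ih]
      have hNa : N a = n • a := by
        rw [hN]
        have : (∑ i ∈ range n, T ^ i) a = ∑ i ∈ range n, (T ^ i) a :=
          AddMonoidHom.finsetSum_apply _ _ _
        rw [this, Finset.sum_congr rfl (fun i _ => hpow i), Finset.sum_const, card_range]
      show x • N a = a
      rw [hNa, ← natCast_zsmul, ← mul_smul, hx])
  have hL : Nat.card {p : A × A // p.1 - S p.1 = p.2 - T p.2} =
      Nat.card {p : A × A // (1 - S) p.1 = (1 - T) p.2} := rfl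
  have hR : Nat.card {a : A // T a = a ∧ S a = a} =
      Nat.card {a : A // (1 - T) a = 0 ∧ (1 - S) a = 0} := by
    apply Nat.card_congr
    apply Equiv.subtypeEquivRight
    intro a
    show _ ↔ (a - T a = 0 ∧ a - S a = 0)
    rw [sub_eq_zero, sub_eq_zero]
    constructor
    · rintro ⟨h1, h2⟩; exact ⟨h1.symm, h2.symm⟩
    · rintro ⟨h1, h2⟩; exact ⟨h1.symm, h2.symm⟩
  rw [hL, hR, key]

end Cfsg.Agent.Helper82

namespace Cfsg.Agent.Helper82

theorem count_coprime_mul {B : Type*} [CommGroup B] [Finite B] (T S : B →* B)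
    (hTS : ∀ b, T (S b) = S (T b)) (n : ℕ) (hn : ∀ b, (T^[n]) b = b)
    (hcop : Nat.Coprime n (Nat.card B)) :
    Nat.card {p : B × B // p.1 * T p.2 = p.2 * S p.1} =
      Nat.card {b : B // T b = b ∧ S b = b} * Nat.card B := by
  let T' : AddMonoid.End (Additive B) := MonoidHom.toAdditive T
  let S' : AddMonoid.End (Additive B) := MonoidHom.toAdditive S
  have hc : Nat.card (Additive B) = Nat.card B := rfl
  have key := count_coprime (A := Additive B) T' S'
    (by
      refine DFunLike.ext _ _ fun a => ?_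
      exact hTS a.toMul ▸ rfl)
    n
    (by
      refine DFunLike.ext _ _ fun a => ?_
      have : ∀ k : ℕ, (T' ^ k) a = Additive.ofMul ((T^[k]) a.toMul) := by
        intro k
        induction k with
        | zero => rfl
        | succ k ih =>
          rw [pow_succ', Function.iterate_succ_apply']
          show T' ((T' ^ k) a) = _
          rw [ih]
          rfl
      exact (this n).trans (by rw [hn]; rfl))
    (by rw [hc]; exact hcop)
  have e1 : Nat.card {p : B × B // p.1 * T p.2 = p.2 * S p.1} =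
      Nat.card {p : Additive B × Additive B // p.1 - S' p.1 = p.2 - T' p.2} := by
    apply Nat.card_congr
    refine Equiv.subtypeEquiv (Equiv.prodCongr Additive.ofMul Additive.ofMul) ?_
    rintro ⟨u, w⟩
    show u * T w = w * S u ↔ u / S u = w / T w
    rw [div_eq_div_iff_mul_eq_mul]
  have e2 : Nat.card {b : B // T b = b ∧ S b = b} =
      Nat.card {a : Additive B // T' a = a ∧ S' a = a} := by
    apply Nat.card_congr
    exact Equiv.subtypeEquiv Additive.ofMul (fun b => Iff.rfl)
  rw [e1, e2, key, hc]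

end Cfsg.Agent.Helper82

namespace Cfsg.Agent.Helper82

/-- Isomorphic groups have the same number of conjugacy classes. -/
theorem card_conjClasses_congr {H H' : Type*} [Group H] [Group H'] (e : H ≃* H') :
    Nat.card (ConjClasses H) = Nat.card (ConjClasses H') := by
  apply Nat.card_congr
  refine
    { toFun := ConjClasses.map e.toMonoidHom
      invFun := ConjClasses.map e.symm.toMonoidHom
      left_inv := ?_
      right_inv := ?_ }
  · intro a
    obtain ⟨a, rfl⟩ := ConjClasses.mk_surjective a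
    show ConjClasses.mk (e.symm (e a)) = ConjClasses.mk a
    rw [MulEquiv.symm_apply_apply]
  · intro a
    obtain ⟨a, rfl⟩ := ConjClasses.mk_surjective a
    show ConjClasses.mk (e (e.symm a)) = ConjClasses.mk a
    rw [MulEquiv.apply_symm_apply]

theorem card_subtype_prod {α β : Type*} [Fintype α] [Finite β] (P : α → β → Prop) :
    Nat.card {p : α × β // P p.1 p.2} = ∑ a, Nat.card {b // P a b} := by
  rw [Nat.card_congr (Equiv.subtypeProdEquivSigmaSubtype P), Nat.card_sigma]

theorem card_subtype_prod' {α β : Type*} [Finite α] [Fintype β] (P : α → β → Prop) :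
    Nat.card {p : α × β // P p.1 p.2} = ∑ b, Nat.card {a // P a b} := by
  rw [← card_subtype_prod (fun b a => P a b)]
  apply Nat.card_congr
  exact Equiv.subtypeEquiv (Equiv.prodComm α β) (fun _ => Iff.rfl)

end Cfsg.Agent.Helper82

namespace Cfsg.Agent.Helper82

variable {X : Type*} [Group X]

theorem commute_iff_of_complement (V G : Subgroup X) [V.Normal]
    (hGV : Subgroup.IsComplement' V G) (u w : ↥V) (g h : ↥G) :
    Commute ((u : X) * g) ((w : X) * h) ↔
      (Commute g h ∧ (u : X) * ((g : X) * w * (g : X)⁻¹) = w * ((h : X) * u * (h : X)⁻¹)) := by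
  have hinj := hGV.1
  have hV1 : (g : X) * w * (g : X)⁻¹ ∈ V := ‹V.Normal›.conj_mem _ w.2 _
  have hV2 : (h : X) * u * (h : X)⁻¹ ∈ V := ‹V.Normal›.conj_mem _ u.2 _
  have e1 : (u : X) * g * ((w : X) * h) =
      ((u * ⟨_, hV1⟩ : ↥V) : X) * ((g * h : ↥G) : X) := by
    simp only [Subgroup.coe_mul]; group
  have e2 : (w : X) * h * ((u : X) * g) =
      ((w * ⟨_, hV2⟩ : ↥V) : X) * ((h * g : ↥G) : X) := by
    simp only [Subgroup.coe_mul]; group
  unfold Commute SemiconjBy
  rw [e1, e2]
  constructor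
  · intro hh
    have := @hinj (u * ⟨_, hV1⟩, g * h) (w * ⟨_, hV2⟩, h * g) hh
    rw [Prod.mk.injEq] at this
    refine ⟨this.2, ?_⟩
    exact congrArg Subtype.val this.1
  · rintro ⟨h1, h2⟩
    have h3 : (u * ⟨_, hV1⟩ : ↥V) = w * ⟨_, hV2⟩ := by
      apply Subtype.ext
      simpa only [Subgroup.coe_mul] using h2
    rw [h3, h1]

end Cfsg.Agent.Helper82

namespace Cfsg.Agent.Helper82

variable {X : Type*} [Group X]

theorem count_pair [Finite X] (V G : Subgroup X) [V.Normal]
    (hab : ∀ a ∈ V, ∀ b ∈ V, a * b = b * a)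
    (hcop : (Nat.card V).Coprime (Nat.card G)) (g h : ↥G) (hgh : Commute g h) :
    Nat.card {uw : ↥V × ↥V //
        (uw.1 : X) * ((g : X) * uw.2 * (g : X)⁻¹) = uw.2 * ((h : X) * uw.1 * (h : X)⁻¹)} =
      Nat.card {c : ↥V // (g : X) * c * (g : X)⁻¹ = c ∧ (h : X) * c * (h : X)⁻¹ = c} *
        Nat.card V := by
  let _ : CommGroup ↥V :=
    { (inferInstance : Group ↥V) with
      mul_comm := fun a b => Subtype.ext (hab a a.2 b b.2) }
  let T : ↥V →* ↥V := (MulAut.conjNormal (g : X) : MulAut ↥V).toMonoidHom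
  let S : ↥V →* ↥V := (MulAut.conjNormal (h : X) : MulAut ↥V).toMonoidHom
  have hT : ∀ b : ↥V, ((T b : ↥V) : X) = (g : X) * b * (g : X)⁻¹ := fun b => rfl
  have hS : ∀ b : ↥V, ((S b : ↥V) : X) = (h : X) * b * (h : X)⁻¹ := fun b => rfl
  have hgh' : (g : X) * h = h * g := congrArg Subtype.val hgh
  have hTS : ∀ b, T (S b) = S (T b) := by
    intro b
    apply Subtype.ext
    rw [hT, hS, hS, hT]
    calc (g : X) * (↑h * ↑b * (↑h)⁻¹) * (↑g)⁻¹ = (↑g * ↑h) * ↑b * (↑g * ↑h)⁻¹ := by group
      _ = (↑h * ↑g) * ↑b * (↑h * ↑g)⁻¹ := by rw [hgh']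
      _ = _ := by group
  have hiter : ∀ (k : ℕ) (b : ↥V), (((T^[k]) b : ↥V) : X) = (g : X) ^ k * b * ((g : X) ^ k)⁻¹ := by
    intro k
    induction k with
    | zero => intro b; simp
    | succ k ih =>
      intro b
      rw [Function.iterate_succ_apply', hT, ih, pow_succ']
      group
  have hn : ∀ b, (T^[orderOf (g : X)]) b = b := by
    intro b
    apply Subtype.ext
    rw [hiter, pow_orderOf_eq_one]
    simp
  have hcop' : Nat.Coprime (orderOf (g : X)) (Nat.card ↥V) := by
    have hd : orderOf (g : X) ∣ Nat.card G := by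
      rw [Subgroup.orderOf_coe]
      exact orderOf_dvd_natCard g
    exact (Nat.Coprime.coprime_dvd_right hd hcop).symm
  have key := count_coprime_mul T S hTS (orderOf (g : X)) hn hcop'
  have e1 : Nat.card {uw : ↥V × ↥V //
        (uw.1 : X) * ((g : X) * uw.2 * (g : X)⁻¹) = uw.2 * ((h : X) * uw.1 * (h : X)⁻¹)} =
      Nat.card {p : ↥V × ↥V // p.1 * T p.2 = p.2 * S p.1} := by
    apply Nat.card_congr
    refine Equiv.subtypeEquivRight ?_
    rintro ⟨u, w⟩
    constructor
    · intro hh; exact Subtype.ext hh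
    · intro hh; exact congrArg Subtype.val hh
  have e2 : Nat.card {c : ↥V // (g : X) * c * (g : X)⁻¹ = c ∧ (h : X) * c * (h : X)⁻¹ = c} =
      Nat.card {b : ↥V // T b = b ∧ S b = b} := by
    apply Nat.card_congr
    refine Equiv.subtypeEquivRight ?_
    intro c
    constructor
    · rintro ⟨h1, h2⟩; exact ⟨Subtype.ext h1, Subtype.ext h2⟩
    · rintro ⟨h1, h2⟩; exact ⟨congrArg Subtype.val h1, congrArg Subtype.val h2⟩
  rw [e1, e2, key]

end Cfsg.Agent.Helper82

namespace Cfsg.Agent.Helper82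

variable {X : Type*} [Group X]

/-- pairs in `G` commuting and centralizing `c` correspond to commuting pairs of `G ⊓ C(c)`. -/
theorem card_comm_centralizer (G : Subgroup X) (c : X) :
    Nat.card {gh : ↥G × ↥G // Commute gh.1 gh.2 ∧
        ((gh.1 : X) * c * (gh.1 : X)⁻¹ = c ∧ (gh.2 : X) * c * (gh.2 : X)⁻¹ = c)} =
      Nat.card {ab : ↥(G ⊓ Subgroup.centralizer ({c} : Set X)) ×
        ↥(G ⊓ Subgroup.centralizer ({c} : Set X)) // Commute ab.1 ab.2} := by
  have hmem : ∀ x : X, x ∈ Subgroup.centralizer ({c} : Set X) ↔ x * c * x⁻¹ = c := by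
    intro x
    rw [Subgroup.mem_centralizer_singleton_iff, mul_inv_eq_iff_eq_mul, eq_comm]
  apply Nat.card_congr
  refine
    { toFun := fun q => ⟨(⟨q.1.1.1, ⟨q.1.1.2, (hmem _).2 q.2.2.1⟩⟩,
          ⟨q.1.2.1, ⟨q.1.2.2, (hmem _).2 q.2.2.2⟩⟩), ?_⟩
      invFun := fun q => ⟨(⟨q.1.1.1, q.1.1.2.1⟩, ⟨q.1.2.1, q.1.2.2.1⟩),
          ?_, (hmem _).1 q.1.1.2.2, (hmem _).1 q.1.2.2.2⟩
      left_inv := fun q => rfl
      right_inv := fun q => rfl }
  · have := q.2.1.eq
    apply Subtype.ext
    show ((q.1.1 : ↥G) : X) * ((q.1.2 : ↥G) : X) = ((q.1.2 : ↥G) : X) * ((q.1.1 : ↥G) : X)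
    exact congrArg Subtype.val this
  · have := q.2.eq
    apply Subtype.ext
    show (q.1.1 : X) * (q.1.2 : X) = (q.1.2 : X) * (q.1.1 : X)
    exact congrArg Subtype.val this

theorem comm_count [Finite X] (V G : Subgroup X) [V.Normal]
    (hab : ∀ a ∈ V, ∀ b ∈ V, a * b = b * a) (hGV : Subgroup.IsComplement' V G)
    (hcop : (Nat.card V).Coprime (Nat.card G)) :
    Nat.card {p : X × X // Commute p.1 p.2} =
      Nat.card V * ∑ᶠ c : ↥V, Nat.card {ab : ↥(G ⊓ Subgroup.centralizer ({(c : X)} : Set X)) ×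
        ↥(G ⊓ Subgroup.centralizer ({(c : X)} : Set X)) // Commute ab.1 ab.2} := by
  classical
  have : Fintype ↥V := Fintype.ofFinite _
  have : Fintype ↥G := Fintype.ofFinite _
  -- the bijection X ≃ V × G
  let e : ↥V × ↥G ≃ X := Equiv.ofBijective _ hGV
  have he : ∀ (v : ↥V) (g : ↥G), e (v, g) = (v : X) * g := fun v g => rfl
  let ψ : (↥G × ↥G) × (↥V × ↥V) ≃ X × X :=
    (Equiv.prodProdProdComm ↥G ↥G ↥V ↥V).trans
      (Equiv.prodCongr ((Equiv.prodComm _ _).trans e) ((Equiv.prodComm _ _).trans e))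
  have hψ : ∀ q : (↥G × ↥G) × (↥V × ↥V), ψ q = ((q.2.1 : X) * q.1.1, (q.2.2 : X) * q.1.2) :=
    fun q => rfl
  have s1 : Nat.card {p : X × X // Commute p.1 p.2} =
      Nat.card {q : (↥G × ↥G) × (↥V × ↥V) //
        Commute ((q.2.1 : X) * q.1.1) ((q.2.2 : X) * q.1.2)} := by
    apply Nat.card_congr
    exact (Equiv.subtypeEquiv ψ (fun q => by rw [hψ])).symm
  rw [s1, card_subtype_prod (fun (gh : ↥G × ↥G) (uw : ↥V × ↥V) =>
    Commute ((uw.1 : X) * gh.1) ((uw.2 : X) * gh.2))]
  -- per pair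
  have s2 : ∀ gh : ↥G × ↥G,
      Nat.card {uw : ↥V × ↥V // Commute ((uw.1 : X) * gh.1) ((uw.2 : X) * gh.2)} =
      Nat.card {c : ↥V // Commute gh.1 gh.2 ∧
        ((gh.1 : X) * c * (gh.1 : X)⁻¹ = c ∧ (gh.2 : X) * c * (gh.2 : X)⁻¹ = c)} * Nat.card V := by
    rintro ⟨g, h⟩
    by_cases hgh : Commute g h
    · refine (Nat.card_congr ?_).trans ((count_pair V G hab hcop g h hgh).trans
        (congrArg (· * Nat.card V) (Nat.card_congr ?_)))
      · refine Equiv.subtypeEquivRight ?_
        rintro ⟨u, w⟩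
        rw [commute_iff_of_complement V G hGV]
        simp only [hgh, true_and]
      · refine Equiv.subtypeEquivRight ?_
        intro c
        simp only [hgh, true_and]
    · have h1 : IsEmpty {uw : ↥V × ↥V // Commute ((uw.1 : X) * g) ((uw.2 : X) * h)} := by
        constructor
        rintro ⟨⟨u, w⟩, hc⟩
        exact hgh ((commute_iff_of_complement V G hGV u w g h).1 hc).1
      have h2 : IsEmpty {c : ↥V // Commute g h ∧
          ((g : X) * c * (g : X)⁻¹ = c ∧ (h : X) * c * (h : X)⁻¹ = c)} := by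
        constructor
        rintro ⟨c, hc, _⟩
        exact hgh hc
      simp only [Nat.card_of_isEmpty, zero_mul]
  rw [Finset.sum_congr rfl (fun gh _ => s2 gh), ← Finset.sum_mul, mul_comm]
  congr 1
  have s3 := card_subtype_prod (fun (gh : ↥G × ↥G) (c : ↥V) => Commute gh.1 gh.2 ∧
        ((gh.1 : X) * c * (gh.1 : X)⁻¹ = c ∧ (gh.2 : X) * c * (gh.2 : X)⁻¹ = c))
  have s4 := card_subtype_prod' (fun (gh : ↥G × ↥G) (c : ↥V) => Commute gh.1 gh.2 ∧
        ((gh.1 : X) * c * (gh.1 : X)⁻¹ = c ∧ (gh.2 : X) * c * (gh.2 : X)⁻¹ = c))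
  rw [finsum_eq_sum_of_fintype]
  refine s3.symm.trans (s4.trans ?_)
  apply Finset.sum_congr rfl
  intro c _
  exact card_comm_centralizer G (c : X)

end Cfsg.Agent.Helper82

namespace Cfsg.Agent.Helper82

variable {X : Type*} [Group X]

theorem orbit_sum [Finite X] (V G : Subgroup X) [V.Normal] (S : Finset X)
    (hSV : ∀ s ∈ S, s ∈ V)
    (hrep : ∀ v ∈ V, ∃! s, s ∈ S ∧ ∃ g ∈ G, g * v * g⁻¹ = s)
    (F : X → ℕ) (hF : ∀ g ∈ G, ∀ c ∈ V, F (g * c * g⁻¹) = F c) :
    ∑ᶠ c : ↥V, F c * Nat.card ↥(G ⊓ Subgroup.centralizer ({(c : X)} : Set X)) =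
      Nat.card G * ∑ s ∈ S, F s := by
  classical
  have : Fintype ↥V := Fintype.ofFinite _
  have : Fintype ↥G := Fintype.ofFinite _
  rw [finsum_eq_sum_of_fintype]
  -- the double sum
  have hi : ∀ g : ↥G, ∑ c : ↥V, (if (g : X) * c * (g : X)⁻¹ ∈ S then F ((g : X) * c * (g : X)⁻¹) else 0)
      = ∑ s ∈ S, F s := by
    intro g
    rw [← Finset.sum_filter]
    refine Finset.sum_bij (fun (c : ↥V) _ => (g : X) * c * (g : X)⁻¹) ?_ ?_ ?_ ?_
    · intro c hc
      exact (Finset.mem_filter.1 hc).2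
    · intro c1 _ c2 _ h
      apply Subtype.ext
      exact mul_left_cancel (mul_right_cancel h)
    · intro s hs
      have hv : (g : X)⁻¹ * s * (g : X) ∈ V := by
        have := ‹V.Normal›.conj_mem s (hSV s hs) (g : X)⁻¹
        simpa using this
      refine ⟨⟨_, hv⟩, ?_, ?_⟩
      · rw [Finset.mem_filter]
        refine ⟨Finset.mem_univ _, ?_⟩
        have : (g : X) * ((g : X)⁻¹ * s * (g : X)) * (g : X)⁻¹ = s := by group
        rw [this]; exact hs
      · show (g : X) * ((g : X)⁻¹ * s * (g : X)) * (g : X)⁻¹ = s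
        group
    · intro c _
      rfl
  have hii : ∀ c : ↥V, ∑ g : ↥G, (if (g : X) * c * (g : X)⁻¹ ∈ S then F ((g : X) * c * (g : X)⁻¹) else 0)
      = F c * Nat.card ↥(G ⊓ Subgroup.centralizer ({(c : X)} : Set X)) := by
    intro c
    have h1 : ∀ g : ↥G, (if (g : X) * c * (g : X)⁻¹ ∈ S then F ((g : X) * c * (g : X)⁻¹) else 0) =
        (if (g : X) * c * (g : X)⁻¹ ∈ S then F c else 0) := by
      intro g
      rw [hF g g.2 c c.2]
    rw [Finset.sum_congr rfl (fun g _ => h1 g), ← Finset.sum_filter, Finset.sum_const,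
      smul_eq_mul, mul_comm]
    congr 1
    -- the count
    obtain ⟨s0, ⟨hs0, g0, hg0, hg0s⟩, huniq⟩ := hrep c c.2
    rw [← Fintype.card_subtype, ← Nat.card_eq_fintype_card]
    apply Nat.card_congr
    have hmem : ∀ x : X, x ∈ Subgroup.centralizer ({(c : X)} : Set X) ↔ x * c * x⁻¹ = c := by
      intro x
      rw [Subgroup.mem_centralizer_singleton_iff, mul_inv_eq_iff_eq_mul, eq_comm]
    refine
      { toFun := fun g => ⟨g0⁻¹ * g.1, ?_, ?_⟩
        invFun := fun z => ⟨⟨g0 * z.1, G.mul_mem hg0 z.2.1⟩, ?_⟩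
        left_inv := ?_
        right_inv := ?_ }
    · exact G.mul_mem (G.inv_mem hg0) g.1.2
    · have hg : (g.1 : X) * c * (g.1 : X)⁻¹ = s0 :=
        huniq _ ⟨g.2, g.1, g.1.2, rfl⟩
      show g0⁻¹ * g.1 ∈ Subgroup.centralizer ({(c : X)} : Set X)
      rw [hmem]
      have : g0⁻¹ * (g.1 : X) * c * (g0⁻¹ * (g.1 : X))⁻¹ = g0⁻¹ * ((g.1 : X) * c * (g.1 : X)⁻¹) * g0 := by
        group
      rw [this, hg, ← hg0s]
      group
    · show g0 * z.1 * c * (g0 * z.1)⁻¹ ∈ S
      have hz := (hmem _).1 z.2.2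
      have : g0 * z.1 * c * (g0 * z.1)⁻¹ = g0 * (z.1 * c * z.1⁻¹) * g0⁻¹ := by group
      rw [this, hz, hg0s]
      exact hs0
    · intro g
      apply Subtype.ext
      apply Subtype.ext
      show g0 * (g0⁻¹ * (g.1 : X)) = g.1
      group
    · intro z
      apply Subtype.ext
      show g0⁻¹ * (g0 * (z : X)) = z
      group
  rw [← Finset.sum_congr rfl (fun c _ => hii c), Finset.sum_comm,
    Finset.sum_congr rfl (fun g _ => hi g), Finset.sum_const, Finset.card_univ, smul_eq_mul,
    Nat.card_eq_fintype_card]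

end Cfsg.Agent.Helper82
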