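import Mathlib
import Cfsg.Prelude.Def_Blocks
import Cfsg.Agent.Helper25.TwistedConj
import Cfsg.Agent.Helper25.CoprimePow

/-!
# From a coset `G s` to the centralizer `C = C_G(s)` (helper82)

`G ⊴ Γ`, `s : Γ` of order coprime to `|G|`, `C = C_G(s)`.  Every element of `G s` is `G`-conjugate to
an element of `C s`, with exactly `|C|` pairs `(y, c)`; hence for a class function `f` of `Γ`
`|C| ∑_{g ∈ G} f (g s) = |G| ∑_{c ∈ C} f (c s)`.
-/

set_option autoImplicit false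
set_option linter.unusedSectionVars false

namespace Cfsg.Agent.Helper82

open Cfsg

universe u

section

variable {Γ : Type u} [Group Γ] [Finite Γ] (G : Subgroup Γ) [hG : G.Normal] (s : Γ)

theorem pow_card_eq_one_of_mem {c : Γ} (hc : c ∈ G) : c ^ Nat.card G = 1 := by
  have := pow_card_eq_one' (G := G) (x := ⟨c, hc⟩)
  exact congrArg Subtype.val this

/-- Uniform exponents splitting `c s` into `c` and `s`. -/
theorem exists_pow_split (hcop : (orderOf s).Coprime (Nat.card G)) :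
    ∃ a b : ℕ, ∀ c ∈ G, c * s = s * c → (c * s) ^ a = c ∧ (c * s) ^ b = s := by
  obtain ⟨a, ha1, ha0⟩ := Helper25.exists_modEq_one_zero hcop.symm
  obtain ⟨b, hb1, hb0⟩ := Helper25.exists_modEq_one_zero hcop
  refine ⟨a, b, fun c hc hcs => ⟨?_, ?_⟩⟩
  · exact Helper25.mul_pow_eq_left_of_modEq (show Commute c s from hcs)
      (pow_card_eq_one_of_mem G hc) (pow_orderOf_eq_one s) ha1 ha0
  · rw [hcs]
    exact Helper25.mul_pow_eq_left_of_modEq (show Commute s c from hcs.symm)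
      (pow_orderOf_eq_one s) (pow_card_eq_one_of_mem G hc) hb1 hb0

/-- Conjugating `c s` to `c' s` by `u` (with `c, c' ∈ C_G(s)`) forces `u` to centralize `s` and
conjugate `c` to `c'`. -/
theorem conj_split (hcop : (orderOf s).Coprime (Nat.card G)) {c c' u : Γ} (hc : c ∈ G)
    (hcs : c * s = s * c) (hc' : c' ∈ G) (hcs' : c' * s = s * c')
    (h : u * (c * s) * u⁻¹ = c' * s) : u * s = s * u ∧ u * c * u⁻¹ = c' := by
  obtain ⟨a, b, hab⟩ := exists_pow_split G s hcop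
  have h1 := hab c hc hcs
  have h2 := hab c' hc' hcs'
  have hpow : ∀ k : ℕ, u * (c * s) ^ k * u⁻¹ = (c' * s) ^ k := by
    intro k
    rw [← h, Helper25.conj_pow']
  constructor
  · have := hpow b
    rw [h1.2, h2.2] at this
    calc u * s = (u * s * u⁻¹) * u := by group
      _ = s * u := by rw [this]
  · have := hpow a
    rw [h1.1, h2.1] at this
    exact this

end

section

variable {Γ : Type u} [Group Γ] [Fintype Γ] (G : Subgroup Γ) [hG : G.Normal] (s : Γ)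
  (C : Subgroup Γ)

/-- **Coset-to-centralizer formula.** -/
theorem card_mul_sum_coset_eq [Fintype G] [Fintype C]
    (hC : ∀ x : Γ, x ∈ C ↔ x ∈ G ∧ x * s = s * x)
    (hcop : (orderOf s).Coprime (Nat.card G)) (hsG : s ∈ Subgroup.normalizer (G : Set Γ))
    {f : Γ → ℂ} (hf : IsClassFunction Γ f) :
    (Nat.card C : ℂ) * ∑ g : G, f ((g : Γ) * s) = (Nat.card G : ℂ) * ∑ c : C, f ((c : Γ) * s) := by
  classical
  have hCG : ∀ c : C, (c : Γ) ∈ G := fun c => ((hC c).mp c.2).1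
  have hCs : ∀ c : C, (c : Γ) * s = s * (c : Γ) := fun c => ((hC c).mp c.2).2
  -- the map `Φ (y, c) = y (c s) y⁻¹ s⁻¹ ∈ G`
  have hΦmem : ∀ (y : G) (c : C), (y : Γ) * ((c : Γ) * s) * (y : Γ)⁻¹ * s⁻¹ ∈ G := by
    intro y c
    have h1 : s * (y : Γ)⁻¹ * s⁻¹ ∈ G := hG.conj_mem _ (G.inv_mem y.2) s
    have h2 : (y : Γ) * ((c : Γ) * s) * (y : Γ)⁻¹ * s⁻¹ =
        (y : Γ) * (c : Γ) * (s * (y : Γ)⁻¹ * s⁻¹) := by group
    rw [h2]
    exact G.mul_mem (G.mul_mem y.2 (hCG c)) h1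
  let Φ : G × C → G := fun p => ⟨(p.1 : Γ) * ((p.2 : Γ) * s) * (p.1 : Γ)⁻¹ * s⁻¹, hΦmem p.1 p.2⟩
  have hΦs : ∀ p : G × C, ((Φ p : G) : Γ) * s = (p.1 : Γ) * ((p.2 : Γ) * s) * (p.1 : Γ)⁻¹ := by
    intro p
    show (p.1 : Γ) * ((p.2 : Γ) * s) * (p.1 : Γ)⁻¹ * s⁻¹ * s = _
    group
  -- first evaluation of the double sum
  have hsum1 : ∑ p : G × C, f (((Φ p : G) : Γ) * s) =
      (Nat.card G : ℂ) * ∑ c : C, f ((c : Γ) * s) := by
    rw [Fintype.sum_prod_type]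
    have : ∀ y : G, ∑ c : C, f (((Φ (y, c) : G) : Γ) * s) = ∑ c : C, f ((c : Γ) * s) := by
      intro y
      refine Finset.sum_congr rfl fun c _ => ?_
      rw [hΦs]
      exact hf _ _
    rw [Finset.sum_congr rfl fun y _ => this y, Finset.sum_const, Finset.card_univ,
      nsmul_eq_mul, Nat.card_eq_fintype_card]
  -- second evaluation, by fibres
  have hfib : ∀ g : G, (Finset.univ.filter (fun p : G × C => Φ p = g)).card = Fintype.card C := by
    intro g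
    obtain ⟨x, hx, c₀, hc₀, hc₀s, hconj⟩ :=
      Helper25.exists_conj_eq_centralizer_mul (orderOf s) G s rfl hsG hcop (g : Γ) g.2
    -- `x (g s) x⁻¹ = c₀ s`, so `(x⁻¹, c₀)` is in the fibre
    have hc₀C : c₀ ∈ C := (hC c₀).mpr ⟨hc₀, hc₀s⟩
    symm
    rw [← Finset.card_univ]
    refine Finset.card_bij
      (fun (u : C) _ => ((⟨x⁻¹ * (u : Γ)⁻¹, G.mul_mem (G.inv_mem hx) (G.inv_mem (hCG u))⟩ : G),
        (⟨(u : Γ) * c₀ * (u : Γ)⁻¹, (hC _).mpr ⟨G.mul_mem (G.mul_mem (hCG u) hc₀)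
          (G.inv_mem (hCG u)), by
            have h1 := hCs u
            have h2 : (u : Γ)⁻¹ * s = s * (u : Γ)⁻¹ := by
              calc (u : Γ)⁻¹ * s = (u : Γ)⁻¹ * (s * (u : Γ)) * (u : Γ)⁻¹ := by group
                _ = (u : Γ)⁻¹ * ((u : Γ) * s) * (u : Γ)⁻¹ := by rw [h1]
                _ = s * (u : Γ)⁻¹ := by group
            calc (u : Γ) * c₀ * (u : Γ)⁻¹ * s = (u : Γ) * c₀ * ((u : Γ)⁻¹ * s) := by group
              _ = (u : Γ) * c₀ * (s * (u : Γ)⁻¹) := by rw [h2]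
              _ = (u : Γ) * (c₀ * s) * (u : Γ)⁻¹ := by group
              _ = (u : Γ) * (s * c₀) * (u : Γ)⁻¹ := by rw [hc₀s]
              _ = ((u : Γ) * s) * c₀ * (u : Γ)⁻¹ := by group
              _ = (s * (u : Γ)) * c₀ * (u : Γ)⁻¹ := by rw [h1]
              _ = s * ((u : Γ) * c₀ * (u : Γ)⁻¹) := by group⟩⟩ : C))) ?_ ?_ ?_
    · intro u _
      rw [Finset.mem_filter]
      refine ⟨Finset.mem_univ _, ?_⟩
      apply Subtype.ext
      show x⁻¹ * (u : Γ)⁻¹ * ((u : Γ) * c₀ * (u : Γ)⁻¹ * s) * (x⁻¹ * (u : Γ)⁻¹)⁻¹ * s⁻¹ = (g : Γ)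
      have h1 := hCs u
      have h2 : (u : Γ)⁻¹ * s * (u : Γ) = s := by
        calc (u : Γ)⁻¹ * s * (u : Γ) = (u : Γ)⁻¹ * (s * (u : Γ)) := by group
          _ = (u : Γ)⁻¹ * ((u : Γ) * s) := by rw [h1]
          _ = s := by group
      calc x⁻¹ * (u : Γ)⁻¹ * ((u : Γ) * c₀ * (u : Γ)⁻¹ * s) * (x⁻¹ * (u : Γ)⁻¹)⁻¹ * s⁻¹
          = x⁻¹ * (c₀ * ((u : Γ)⁻¹ * s * (u : Γ))) * x * s⁻¹ := by group
        _ = x⁻¹ * (c₀ * s) * x * s⁻¹ := by rw [h2]
        _ = x⁻¹ * (x * ((g : Γ) * s) * x⁻¹) * x * s⁻¹ := by rw [hconj]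
        _ = (g : Γ) := by group
    · intro u _ u' _ h
      have h1 : x⁻¹ * (u : Γ)⁻¹ = x⁻¹ * (u' : Γ)⁻¹ := congrArg (fun p : G × C => (p.1 : Γ)) h
      have h2 : (u : Γ)⁻¹ = (u' : Γ)⁻¹ := mul_left_cancel h1
      exact Subtype.ext (inv_injective h2)
    · intro p hp
      rw [Finset.mem_filter] at hp
      obtain ⟨y, c⟩ := p
      have hp2 : (y : Γ) * ((c : Γ) * s) * (y : Γ)⁻¹ * s⁻¹ = (g : Γ) := congrArg Subtype.val hp.2
      have hp3 : (y : Γ) * ((c : Γ) * s) * (y : Γ)⁻¹ = (g : Γ) * s := by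
        rw [← hp2]; group
      -- `u = y⁻¹ x⁻¹` conjugates `c₀ s` to `c s`
      have hu : ((y : Γ)⁻¹ * x⁻¹) * (c₀ * s) * ((y : Γ)⁻¹ * x⁻¹)⁻¹ = (c : Γ) * s := by
        rw [← hconj, ← hp3]; group
      have hsplit := conj_split G s hcop hc₀ hc₀s (hCG c) (hCs c) hu
      have huC : (y : Γ)⁻¹ * x⁻¹ ∈ C :=
        (hC _).mpr ⟨G.mul_mem (G.inv_mem y.2) (G.inv_mem hx), hsplit.1⟩
      refine ⟨⟨(y : Γ)⁻¹ * x⁻¹, huC⟩, Finset.mem_univ _, ?_⟩
      apply Prod.ext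
      · apply Subtype.ext
        show x⁻¹ * ((y : Γ)⁻¹ * x⁻¹)⁻¹ = (y : Γ)
        group
      · apply Subtype.ext
        show ((y : Γ)⁻¹ * x⁻¹) * c₀ * ((y : Γ)⁻¹ * x⁻¹)⁻¹ = (c : Γ)
        exact hsplit.2
  have hsum2 : ∑ p : G × C, f (((Φ p : G) : Γ) * s) =
      (Nat.card C : ℂ) * ∑ g : G, f ((g : Γ) * s) := by
    rw [← Finset.sum_fiberwise Finset.univ Φ (fun p => f (((Φ p : G) : Γ) * s))]
    rw [Finset.mul_sum]
    refine Finset.sum_congr rfl fun g _ => ?_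
    have : ∀ p ∈ Finset.univ.filter (fun p : G × C => Φ p = g),
        f (((Φ p : G) : Γ) * s) = f ((g : Γ) * s) := by
      intro p hp
      rw [(Finset.mem_filter.mp hp).2]
    rw [Finset.sum_congr rfl this, Finset.sum_const, hfib g, nsmul_eq_mul,
      Nat.card_eq_fintype_card]
  rw [← hsum2, hsum1]

end

end Cfsg.Agent.Helper82
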