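import Cfsg.Agent.Helper82.GaloisConj
import Cfsg.Agent.Helper82.GaloisRat
import Cfsg.Agent.Helper25.CyclicTI
import Cfsg.Agent.Helper25.DualRect
import Cfsg.Agent.Helper25.GenChar
import Cfsg.Agent.Helper25.SignedIrr
import Cfsg.Prelude.Def_OddOrderLocal

set_option autoImplicit false

/-!
# Galois equivariance of a cyclic TI family (helper82)

For a cyclic TI family `χ` attached to `W = W₁ × W₂` (odd order): `χ ω (g ^ k) = χ (ω ^ k) g`
for `k` coprime to `|G|`; consequently `χ ω g ∈ ℤ` when the orders of `g` and `ω` are coprime.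
-/

namespace Cfsg.Agent.Helper82

open Cfsg
open Cfsg.Agent.Helper25 (SignedIrr TrivOn Afun)

section nt

theorem exists_coprime_modEq_lift (d m k₀ : ℕ) (hm : 0 < m) (hd : d ∣ m) (hk : k₀.Coprime d) :
    ∃ k' : ℕ, k'.Coprime m ∧ k' ≡ k₀ [MOD d] := by
  have : NeZero m := ⟨hm.ne'⟩
  obtain ⟨v, hv⟩ := ZMod.unitsMap_surjective hd (ZMod.unitOfCoprime k₀ hk)
  refine ⟨(v : ZMod m).val, ZMod.val_coe_unit_coprime v, ?_⟩
  rw [← ZMod.natCast_eq_natCast_iff]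
  have h1 : ((ZMod.unitsMap hd v : (ZMod d)ˣ) : ZMod d) = (k₀ : ZMod d) := by
    rw [hv]; exact ZMod.coe_unitOfCoprime k₀ hk
  rw [ZMod.unitsMap_def, Units.coe_map] at h1
  rw [← h1]
  simp [ZMod.natCast_val]

theorem exists_coprime_modEq_pair (m n a k : ℕ) (hm : 0 < m) (hn : n ∣ m) (ha : a ∣ m)
    (hna : n.Coprime a) (hk : k.Coprime n) :
    ∃ k' : ℕ, k'.Coprime m ∧ k' ≡ k [MOD n] ∧ k' ≡ 1 [MOD a] := by
  have h1 : (Nat.chineseRemainder hna k 1 : ℕ) ≡ k [MOD n] := (Nat.chineseRemainder hna k 1).2.1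
  have h2 : (Nat.chineseRemainder hna k 1 : ℕ) ≡ 1 [MOD a] := (Nat.chineseRemainder hna k 1).2.2
  have hc : (Nat.chineseRemainder hna k 1 : ℕ).Coprime (n * a) := by
    apply Nat.Coprime.mul_right
    · exact (h1.gcd_eq).trans hk
    · exact (h2.gcd_eq).trans (Nat.gcd_one_left a)
  obtain ⟨k', hk', hk'm⟩ := exists_coprime_modEq_lift (n * a) m _ hm
    (hna.mul_dvd_of_dvd_of_dvd hn ha) hc
  exact ⟨k', hk', (hk'm.of_dvd (dvd_mul_right n a)).trans h1,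
    (hk'm.of_dvd (dvd_mul_left a n)).trans h2⟩

end nt

section ind

theorem indFun_pow_coprime {G : Type*} [Group G] [Fintype G] (H : Subgroup G) (θ θ' : H → ℂ)
    (k : ℕ) (hk : k.Coprime (Nat.card G)) (hθ : ∀ h : H, θ (h ^ k) = θ' h) (g : G) :
    indFun H θ (g ^ k) = indFun H θ' g := by
  rw [Cfsg.Agent.Helper15.indFun_apply, Cfsg.Agent.Helper15.indFun_apply]
  congr 1
  refine Finset.sum_congr rfl fun x _ => ?_
  have hx : x⁻¹ * g ^ k * x = (x⁻¹ * g * x) ^ k := by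
    have := conj_pow (a := x⁻¹) (b := g) (i := k)
    rw [inv_inv] at this
    exact this.symm
  rw [hx]
  by_cases hy : x⁻¹ * g * x ∈ H
  · rw [Cfsg.Agent.Helper15.extendByZero_of_mem H θ (H.pow_mem hy k),
      Cfsg.Agent.Helper15.extendByZero_of_mem H θ' hy, ← hθ ⟨_, hy⟩]
    rfl
  · rw [Cfsg.Agent.Helper15.extendByZero_of_not_mem H θ' hy,
      Cfsg.Agent.Helper15.extendByZero_of_not_mem]
    exact fun h => hy (mem_of_pow_mem_of_coprime H hk h)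

end ind

section abstract

variable {G : Type*} [Group G] [Fintype G]

/-- At most one member of an orthogonal family of signed irreducibles is not orthogonal to a given
signed irreducible. -/
theorem signedIrr_family_unique_nonorth {I : Type*} (A : I → G → ℂ)
    (hA : ∀ i, SignedIrr G (A i)) (hAo : ∀ i i', i ≠ i' → classInner (A i) (A i') = 0)
    {θ : G → ℂ} (hθ : SignedIrr G θ) {i i' : I} (h1 : classInner (A i) θ ≠ 0)
    (h2 : classInner (A i') θ ≠ 0) : i = i' := by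
  by_contra hne
  rcases (hA i).inner_eq_zero_or hθ with h0 | ⟨t, -, ht, -⟩
  · exact h1 h0
  · apply h2
    rw [ht, Cfsg.Agent.Helper74.classInner_smul_right, hAo i' i (Ne.symm hne), mul_zero]

/-- Two orthonormal families of signed irreducibles: if `A l - A i - A j = B l - B i - B j` for two
triples `(i, j₁, l₁)`, `(i, j₂, l₂)` sharing only `i`, then `A i = B i`. -/
theorem signedIrr_eq_of_two_triples {I : Type*} (A B : I → G → ℂ)
    (hA : ∀ i, SignedIrr G (A i)) (hAo : ∀ i i', i ≠ i' → classInner (A i) (A i') = 0)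
    (hB : ∀ i, SignedIrr G (B i)) (hBo : ∀ i i', i ≠ i' → classInner (B i) (B i') = 0)
    (i j₁ l₁ j₂ l₂ : I) (hij₁ : i ≠ j₁) (hil₁ : i ≠ l₁) (hij₂ : i ≠ j₂) (hil₂ : i ≠ l₂)
    (hjj : j₁ ≠ j₂) (hjl : j₁ ≠ l₂) (hlj : l₁ ≠ j₂) (hll : l₁ ≠ l₂)
    (e₁ : A l₁ - A i - A j₁ = B l₁ - B i - B j₁)
    (e₂ : A l₂ - A i - A j₂ = B l₂ - B i - B j₂) : A i = B i := by
  have hθ : SignedIrr G (B i) := hB i
  have hBi : classInner (B i) (B i) = 1 := Cfsg.Agent.Helper25.signedIrr_inner_self (hB i)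
  have E1 : classInner (A l₁) (B i) - classInner (A i) (B i) - classInner (A j₁) (B i) = -1 := by
    have := congrArg (fun f => classInner f (B i)) e₁
    simp only [Cfsg.Agent.Helper74.classInner_sub_left] at this
    rw [this, hBi, hBo l₁ i (Ne.symm hil₁), hBo j₁ i (Ne.symm hij₁)]
    ring
  have E2 : classInner (A l₂) (B i) - classInner (A i) (B i) - classInner (A j₂) (B i) = -1 := by
    have := congrArg (fun f => classInner f (B i)) e₂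
    simp only [Cfsg.Agent.Helper74.classInner_sub_left] at this
    rw [this, hBi, hBo l₂ i (Ne.symm hil₂), hBo j₂ i (Ne.symm hij₂)]
    ring
  have K := fun (a b : I) (h1 : classInner (A a) (B i) ≠ 0) (h2 : classInner (A b) (B i) ≠ 0) =>
    signedIrr_family_unique_nonorth A hA hAo hθ h1 h2
  by_cases h0 : classInner (A i) (B i) = 0
  · exfalso
    rw [h0, sub_zero] at E1 E2
    -- one of l₁, j₁ and one of l₂, j₂ is not orthogonal
    have c1 : classInner (A l₁) (B i) ≠ 0 ∨ classInner (A j₁) (B i) ≠ 0 := by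
      by_contra hcon
      push Not at hcon
      rw [hcon.1, hcon.2] at E1
      norm_num at E1
    have c2 : classInner (A l₂) (B i) ≠ 0 ∨ classInner (A j₂) (B i) ≠ 0 := by
      by_contra hcon
      push Not at hcon
      rw [hcon.1, hcon.2] at E2
      norm_num at E2
    rcases c1 with c1 | c1 <;> rcases c2 with c2 | c2
    · exact hll (K _ _ c1 c2)
    · exact hlj (K _ _ c1 c2)
    · exact hjl (K _ _ c1 c2)
    · exact hjj (K _ _ c1 c2)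
  · have hl : classInner (A l₁) (B i) = 0 := by
      by_contra hl
      exact hil₁ (K _ _ h0 hl)
    have hj : classInner (A j₁) (B i) = 0 := by
      by_contra hj
      exact hij₁ (K _ _ h0 hj)
    rw [hl, hj] at E1
    have h1 : classInner (A i) (B i) = 1 := by linear_combination -E1
    rcases (hA i).inner_eq_zero_or hθ with h00 | ⟨t, -, ht, htt⟩
    · exact absurd h00 h0
    · rw [ht, ← htt, h1, one_smul]

end abstract

section family

variable {G : Type*} [Group G] [Fintype G] {W₁ W₂ : Subgroup G}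

/-- Uniqueness of the family: two orthonormal families of signed irreducibles indexed by the
linear characters of `W₁ ⊔ W₂`, both sending `1` to `1`, with the same values of
`X (φψ) - X φ - X ψ`, coincide (each factor having at least two nontrivial characters). -/
theorem cti_family_unique (hdisj : W₁ ⊓ W₂ = ⊥) (hcomm : ∀ a ∈ W₁, ∀ b ∈ W₂, a * b = b * a)
    (A B : (↥(W₁ ⊔ W₂) →* ℂˣ) → G → ℂ)
    (hA : ∀ ω, SignedIrr G (A ω)) (hAo : ∀ ω ω', ω ≠ ω' → classInner (A ω) (A ω') = 0)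
    (hB : ∀ ω, SignedIrr G (B ω)) (hBo : ∀ ω ω', ω ≠ ω' → classInner (B ω) (B ω') = 0)
    (hA1 : A 1 = fun _ => 1) (hB1 : B 1 = fun _ => 1)
    (hAB : ∀ φ ψ : ↥(W₁ ⊔ W₂) →* ℂˣ, TrivOn W₂ φ → TrivOn W₁ ψ →
      A (φ * ψ) - A φ - A ψ = B (φ * ψ) - B φ - B ψ)
    (h3₁ : ∃ φ₁ φ₂ : ↥(W₁ ⊔ W₂) →* ℂˣ, TrivOn W₂ φ₁ ∧ TrivOn W₂ φ₂ ∧ φ₁ ≠ 1 ∧ φ₂ ≠ 1 ∧ φ₁ ≠ φ₂)
    (h3₂ : ∃ ψ₁ ψ₂ : ↥(W₁ ⊔ W₂) →* ℂˣ, TrivOn W₁ ψ₁ ∧ TrivOn W₁ ψ₂ ∧ ψ₁ ≠ 1 ∧ ψ₂ ≠ 1 ∧ ψ₁ ≠ ψ₂)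
    (ω : ↥(W₁ ⊔ W₂) →* ℂˣ) : A ω = B ω := by
  have step1 : ∀ φ : ↥(W₁ ⊔ W₂) →* ℂˣ, TrivOn W₂ φ → A φ = B φ := by
    intro φ hφ
    by_cases hφ1 : φ = 1
    · rw [hφ1, hA1, hB1]
    obtain ⟨ψ₁, ψ₂, hψ₁, hψ₂, hψ₁1, hψ₂1, hne⟩ := h3₂
    refine signedIrr_eq_of_two_triples A B hA hAo hB hBo φ ψ₁ (φ * ψ₁) ψ₂ (φ * ψ₂)
      ?_ ?_ ?_ ?_ hne ?_ ?_ ?_ ?_ ?_
    · intro h; exact hφ1 ((Cfsg.Agent.Helper25.left_eq_right_iff hφ hψ₁).1 h).1
    · intro h; exact hψ₁1 ((Cfsg.Agent.Helper25.mul_eq_left_iff hφ hφ hψ₁).1 h.symm).2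
    · intro h; exact hφ1 ((Cfsg.Agent.Helper25.left_eq_right_iff hφ hψ₂).1 h).1
    · intro h; exact hψ₂1 ((Cfsg.Agent.Helper25.mul_eq_left_iff hφ hφ hψ₂).1 h.symm).2
    · intro h; exact hφ1 ((Cfsg.Agent.Helper25.mul_eq_right_iff hφ hψ₂ hψ₁).1 h.symm).1
    · intro h; exact hφ1 ((Cfsg.Agent.Helper25.mul_eq_right_iff hφ hψ₁ hψ₂).1 h).1
    · intro h; exact hne ((Cfsg.Agent.Helper25.mul_eq_mul_iff hφ hφ hψ₁ hψ₂).1 h).2
    · exact hAB φ ψ₁ hφ hψ₁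
    · exact hAB φ ψ₂ hφ hψ₂
  have step2 : ∀ ψ : ↥(W₁ ⊔ W₂) →* ℂˣ, TrivOn W₁ ψ → A ψ = B ψ := by
    intro ψ hψ
    by_cases hψ1 : ψ = 1
    · rw [hψ1, hA1, hB1]
    obtain ⟨φ₁, φ₂, hφ₁, hφ₂, hφ₁1, hφ₂1, hne⟩ := h3₁
    refine signedIrr_eq_of_two_triples A B hA hAo hB hBo ψ φ₁ (φ₁ * ψ) φ₂ (φ₂ * ψ)
      ?_ ?_ ?_ ?_ hne ?_ ?_ ?_ ?_ ?_
    · intro h; exact hψ1 ((Cfsg.Agent.Helper25.left_eq_right_iff hφ₁ hψ).1 h.symm).2
    · intro h; exact hφ₁1 ((Cfsg.Agent.Helper25.mul_eq_right_iff hφ₁ hψ hψ).1 h.symm).1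
    · intro h; exact hψ1 ((Cfsg.Agent.Helper25.left_eq_right_iff hφ₂ hψ).1 h.symm).2
    · intro h; exact hφ₂1 ((Cfsg.Agent.Helper25.mul_eq_right_iff hφ₂ hψ hψ).1 h.symm).1
    · intro h; exact hψ1 ((Cfsg.Agent.Helper25.mul_eq_left_iff hφ₂ hφ₁ hψ).1 h.symm).2
    · intro h; exact hψ1 ((Cfsg.Agent.Helper25.mul_eq_left_iff hφ₁ hφ₂ hψ).1 h).2
    · intro h; exact hne ((Cfsg.Agent.Helper25.mul_eq_mul_iff hφ₁ hφ₂ hψ hψ).1 h).1
    · have := hAB φ₁ ψ hφ₁ hψ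
      funext g
      have := congrFun this g
      simp only [Pi.sub_apply] at this ⊢
      linear_combination this
    · have := hAB φ₂ ψ hφ₂ hψ
      funext g
      have := congrFun this g
      simp only [Pi.sub_apply] at this ⊢
      linear_combination this
  have hω := Cfsg.Agent.Helper25.comp_proj_mul hdisj hcomm ω
  have hφ := Cfsg.Agent.Helper25.trivOn_comp_proj₁ hdisj hcomm ω
  have hψ := Cfsg.Agent.Helper25.trivOn_comp_proj₂ hdisj hcomm ω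
  have h := hAB _ _ hφ hψ
  rw [hω, step1 _ hφ, step2 _ hψ] at h
  funext g
  have := congrFun h g
  simp only [Pi.sub_apply] at this
  linear_combination this

end family

section main

variable {G : Type*} [Group G] [Fintype G] {W₁ W₂ : Subgroup G}

omit [Fintype G] in
theorem monoidHom_pow_card_eq_one [Finite ↥(W₁ ⊔ W₂)] (ω : ↥(W₁ ⊔ W₂) →* ℂˣ) :
    ω ^ Nat.card ↥(W₁ ⊔ W₂) = 1 := by
  refine MonoidHom.ext fun w => ?_
  rw [MonoidHom.pow_apply, ← map_pow, pow_card_eq_one', map_one, MonoidHom.one_apply]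

omit [Fintype G] in
theorem monoidHom_pow_injective [Finite ↥(W₁ ⊔ W₂)] {k : ℕ}
    (hk : k.Coprime (Nat.card ↥(W₁ ⊔ W₂))) {ω ω' : ↥(W₁ ⊔ W₂) →* ℂˣ} (h : ω ^ k = ω' ^ k) :
    ω = ω' := by
  have h1 : (ω * ω'⁻¹) ^ k = 1 := by
    refine MonoidHom.ext fun w => ?_
    have hw : (ω w) ^ k = (ω' w) ^ k := by
      rw [← MonoidHom.pow_apply, ← MonoidHom.pow_apply, h]
    rw [MonoidHom.pow_apply, MonoidHom.mul_apply, MonoidHom.inv_apply, mul_pow, inv_pow, hw,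
      mul_inv_cancel, MonoidHom.one_apply]
  have h2 : (ω * ω'⁻¹) ^ Nat.card ↥(W₁ ⊔ W₂) = 1 := monoidHom_pow_card_eq_one _
  have h3 : orderOf (ω * ω'⁻¹) = 1 :=
    Nat.eq_one_of_dvd_coprimes hk (orderOf_dvd_of_pow_eq_one h1) (orderOf_dvd_of_pow_eq_one h2)
  rw [orderOf_eq_one_iff] at h3
  exact mul_inv_eq_one.1 h3

omit [Fintype G] in
theorem trivOn_pow {S : Subgroup G} {ω : ↥(W₁ ⊔ W₂) →* ℂˣ} (h : TrivOn S ω) (k : ℕ) :
    TrivOn S (ω ^ k) := fun w hw => by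
  rw [MonoidHom.pow_apply, h w hw, one_pow]

omit [Fintype G] in
theorem Afun_pow (φ ψ : ↥(W₁ ⊔ W₂) →* ℂˣ) (k : ℕ) (w : ↥(W₁ ⊔ W₂)) :
    Afun φ ψ (w ^ k) = Afun (φ ^ k) (ψ ^ k) w := by
  simp only [Afun, map_pow, MonoidHom.pow_apply, Units.val_pow_eq_pow_val]

theorem exists_two_ne_of_two_lt_card {T : Type*} (h : 2 < Nat.card T) (t₀ : T) :
    ∃ a b : T, a ≠ t₀ ∧ b ≠ t₀ ∧ a ≠ b := by
  have hfin : Finite T := Nat.finite_of_card_ne_zero (by omega)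
  have := Fintype.ofFinite T
  rw [Nat.card_eq_fintype_card, Fintype.two_lt_card_iff] at h
  obtain ⟨a, b, c, hab, hac, hbc⟩ := h
  by_cases ha : a = t₀
  · subst ha
    exact ⟨b, c, hab.symm, hac.symm, hbc⟩
  · by_cases hb : b = t₀
    · subst hb
      exact ⟨a, c, ha, hbc.symm, hac⟩
    · exact ⟨a, b, ha, hb, hab⟩

theorem three_le_card_of_odd {H K : Subgroup G} (hHK : H ≤ K) (hodd : Odd (Nat.card K))
    (hH : H ≠ ⊥) : 2 < Nat.card H := by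
  have hdvd : Nat.card H ∣ Nat.card K := Subgroup.card_dvd_of_le hHK
  have hoddH : Odd (Nat.card H) := Odd.of_dvd_nat hodd hdvd
  have h1 : Nat.card H ≠ 1 := fun h => hH (Subgroup.eq_bot_of_card_eq H h)
  obtain ⟨m, hm⟩ := hoddH
  omega

/-- Galois equivariance of a cyclic TI family. -/
theorem cti_galois (hW : IsSelfNormalizingCyclic W₁ W₂) (hodd : Odd (Nat.card ↥(W₁ ⊔ W₂)))
    {χ : (↥(W₁ ⊔ W₂) →* ℂˣ) → (G → ℂ)} (hχ : IsCyclicTIFamily W₁ W₂ χ) (k : ℕ)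
    (hk : k.Coprime (Nat.card G)) (ω : ↥(W₁ ⊔ W₂) →* ℂˣ) (g : G) :
    χ ω (g ^ k) = χ (ω ^ k) g := by
  classical
  obtain ⟨hW₁, hW₂, hdisj, hcomm, hcyc, -⟩ := hW
  have hab : ∀ a b : ↥(W₁ ⊔ W₂), a * b = b * a := by
    intro a b
    letI := IsCyclic.commGroup (α := ↥(W₁ ⊔ W₂))
    exact mul_comm a b
  have hkW : k.Coprime (Nat.card ↥(W₁ ⊔ W₂)) :=
    hk.coprime_dvd_right (Subgroup.card_subgroup_dvd_card _)
  have h3₁ : ∃ φ₁ φ₂ : ↥(W₁ ⊔ W₂) →* ℂˣ, TrivOn W₂ φ₁ ∧ TrivOn W₂ φ₂ ∧ φ₁ ≠ 1 ∧ φ₂ ≠ 1 ∧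
      φ₁ ≠ φ₂ := by
    have hc := Cfsg.Agent.Helper25.card_trivOn_right hab hdisj hcomm
    have h3 : 2 < Nat.card {φ : ↥(W₁ ⊔ W₂) →* ℂˣ // TrivOn W₂ φ} := by
      rw [hc]; exact three_le_card_of_odd le_sup_left hodd hW₁
    obtain ⟨a, b, ha, hb, hab'⟩ := exists_two_ne_of_two_lt_card h3
      ⟨1, Cfsg.Agent.Helper25.TrivOn.one W₂⟩
    refine ⟨a.1, b.1, a.2, b.2, ?_, ?_, ?_⟩
    · intro h; exact ha (Subtype.ext h)
    · intro h; exact hb (Subtype.ext h)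
    · intro h; exact hab' (Subtype.ext h)
  have h3₂ : ∃ ψ₁ ψ₂ : ↥(W₁ ⊔ W₂) →* ℂˣ, TrivOn W₁ ψ₁ ∧ TrivOn W₁ ψ₂ ∧ ψ₁ ≠ 1 ∧ ψ₂ ≠ 1 ∧
      ψ₁ ≠ ψ₂ := by
    have hc := Cfsg.Agent.Helper25.card_trivOn_left hab hdisj hcomm
    have h3 : 2 < Nat.card {ψ : ↥(W₁ ⊔ W₂) →* ℂˣ // TrivOn W₁ ψ} := by
      rw [hc]; exact three_le_card_of_odd le_sup_right hodd hW₂
    obtain ⟨a, b, ha, hb, hab'⟩ := exists_two_ne_of_two_lt_card h3
      ⟨1, Cfsg.Agent.Helper25.TrivOn.one W₁⟩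
    refine ⟨a.1, b.1, a.2, b.2, ?_, ?_, ?_⟩
    · intro h; exact ha (Subtype.ext h)
    · intro h; exact hb (Subtype.ext h)
    · intro h; exact hab' (Subtype.ext h)
  have key := cti_family_unique hdisj hcomm (fun ω g => χ ω (g ^ k)) (fun ω => χ (ω ^ k))
    ?_ ?_ (fun ω => hχ.irr_or_neg (ω ^ k)) ?_ ?_ ?_ ?_ h3₁ h3₂ ω
  · exact congrFun key g
  · intro ω
    rcases hχ.irr_or_neg ω with h | h
    · left; exact galoisConj_isIrrCharacter h k hk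
    · right
      have := galoisConj_isIrrCharacter h k hk
      exact this
  · intro ω ω' hne
    have : classInner (fun g => χ ω (g ^ k)) (fun g => χ ω' (g ^ k)) =
        classInner (χ ω) (χ ω') := by
      unfold classInner
      congr 1
      exact sum_pow_coprime_eq Finset.univ k hk (fun g _ => Finset.mem_univ _)
        (fun g => χ ω g * (starRingEnd ℂ) (χ ω' g))
    rw [this, hχ.orthonormal, if_neg hne]
  · intro ω ω' hne
    rw [hχ.orthonormal, if_neg]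
    intro h
    exact hne (monoidHom_pow_injective hkW h)
  · funext g
    rw [hχ.map_one]
  · show χ (1 ^ k) = fun _ => 1
    have h1k : (1 : ↥(W₁ ⊔ W₂) →* ℂˣ) ^ k = 1 :=
      MonoidHom.ext fun w => by rw [MonoidHom.pow_apply, MonoidHom.one_apply, one_pow]
    rw [h1k, hχ.map_one]
  · intro φ ψ hφ hψ
    funext g
    simp only [Pi.sub_apply]
    have e1 := congrFun (Cfsg.Agent.Helper25.cti_induced_all hχ φ ψ hφ hψ) (g ^ k)
    have e2 := congrFun (Cfsg.Agent.Helper25.cti_induced_all hχ (φ ^ k) (ψ ^ k)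
      (trivOn_pow hφ k) (trivOn_pow hψ k)) g
    have e3 := indFun_pow_coprime (W₁ ⊔ W₂) (Afun φ ψ) (Afun (φ ^ k) (ψ ^ k)) k hk
      (Afun_pow φ ψ k) g
    have hmp : (φ * ψ) ^ k = φ ^ k * ψ ^ k := mul_pow φ ψ k
    rw [e1, e2, ← hmp] at e3
    linear_combination e3

theorem exists_int_of_rat_of_isIntegral {z : ℂ} (q : ℚ) (hq : z = (q : ℂ))
    (hz : IsIntegral ℤ z) : ∃ n : ℤ, z = n := by
  rw [hq] at hz
  have h0 : IsIntegral ℤ (algebraMap ℚ ℂ q) := by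
    simpa using hz
  have h1 : IsIntegral ℤ q := (isIntegral_algebraMap_iff (algebraMap ℚ ℂ).injective).1 h0
  obtain ⟨n, hn⟩ := IsIntegrallyClosed.isIntegral_iff.1 h1
  refine ⟨n, ?_⟩
  rw [hq, ← hn]
  simp

/-- Values of a cyclic TI family at elements of order prime to the order of `ω` are integers. -/
theorem cti_value_int (hW : IsSelfNormalizingCyclic W₁ W₂) (hodd : Odd (Nat.card ↥(W₁ ⊔ W₂)))
    {χ : (↥(W₁ ⊔ W₂) →* ℂˣ) → (G → ℂ)} (hχ : IsCyclicTIFamily W₁ W₂ χ)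
    (ω : ↥(W₁ ⊔ W₂) →* ℂˣ) (g : G) (hg : Nat.Coprime (orderOf g) (orderOf ω)) :
    ∃ n : ℤ, χ ω g = n := by
  have hNpos : 0 < Nat.card G := Nat.card_pos
  have hgN : g ^ Nat.card G = 1 := pow_card_eq_one'
  have hoω : orderOf ω ∣ Nat.card G :=
    (orderOf_dvd_of_pow_eq_one (monoidHom_pow_card_eq_one ω)).trans
      (Subgroup.card_subgroup_dvd_card _)
  have hall : ∀ k : ℕ, k.Coprime (Nat.card G) → χ ω (g ^ k) = χ ω g := by
    intro k hk
    obtain ⟨k', hk', h1, h2⟩ := exists_coprime_modEq_pair (Nat.card G) (orderOf g) (orderOf ω) k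
      hNpos (orderOf_dvd_natCard g) hoω hg (hk.coprime_dvd_right (orderOf_dvd_natCard g))
    have e1 : g ^ k = g ^ k' := (pow_eq_pow_iff_modEq.2 h1).symm
    have e2 : ω ^ k' = ω := by
      have := pow_eq_pow_of_modEq h2 (pow_orderOf_eq_one ω)
      rwa [pow_one] at this
    rw [e1, cti_galois hW hodd hχ k' hk', e2]
  rcases hχ.irr_or_neg ω with h | h
  · have hc := Cfsg.Agent.Helper74.isCharacter_of_isIrr h
    obtain ⟨q, hq⟩ := char_rational_of_pow_eq hc g (Nat.card G) hNpos hgN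
      (fun k _ hk => hall k hk)
    exact exists_int_of_rat_of_isIntegral q hq (Cfsg.Agent.Helper80.IsCharacter.isIntegral hc g)
  · have hc := Cfsg.Agent.Helper74.isCharacter_of_isIrr h
    obtain ⟨q, hq⟩ := char_rational_of_pow_eq hc g (Nat.card G) hNpos hgN
      (fun k _ hk => by
        show -(χ ω (g ^ k)) = -(χ ω g)
        rw [hall k hk])
    obtain ⟨n, hn⟩ := exists_int_of_rat_of_isIntegral q hq
      (Cfsg.Agent.Helper80.IsCharacter.isIntegral hc g)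
    refine ⟨-n, ?_⟩
    have : -(χ ω g) = (n : ℂ) := hn
    rw [Int.cast_neg, ← this, neg_neg]

end main

end Cfsg.Agent.Helper82
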