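import Mathlib
import Cfsg.Prelude.Def_Blocks
import Cfsg.Prelude.Def_CharExt
import Cfsg.Agent.Helper15.Clifford
import Cfsg.Agent.Helper80.CharLevel
import Cfsg.Agent.Helper82.CosetOrth
import Cfsg.Agent.Helper82.CosetFiber
import Cfsg.Agent.Helper82.CanonicalGalois
import Cfsg.Agent.Helper82.CyclicTIGalois
import Cfsg.Agent.Helper82.GaloisRat

/-!
# The Glauberman correspondence for a cyclic group via canonical extensions (helper82)

`G ⊴ Γ`, `s : Γ` of order coprime to `|G|`, `C = C_G(s)`.  For `χh ∈ Irr Γ`: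
* `twRes C χh t : C → ℂ`, `c ↦ χh (c t)`;
* `isCharacter_twMult`: `t ↦ ⟨twRes χh t, β⟩` is a character of `⟨s⟩`;
-/

set_option autoImplicit false
set_option linter.unusedSectionVars false

namespace Cfsg.Agent.Helper82

open Cfsg
open scoped ComplexConjugate

universe u

section

variable {Γ : Type u} [Group Γ] [Fintype Γ] (s : Γ) (C : Subgroup Γ) [Fintype C]

/-- The twisted restriction `c ↦ χh (c t)`. -/
def twRes (χh : Γ → ℂ) (t : Γ) : C → ℂ := fun c => χh ((c : Γ) * t)

theorem twRes_apply (χh : Γ → ℂ) (t : Γ) (c : C) : twRes C χh t c = χh ((c : Γ) * t) := rfl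

theorem isClassFunction_twRes {χh : Γ → ℂ} (hχh : IsClassFunction Γ χh) (t : Γ)
    (ht : ∀ c ∈ C, c * t = t * c) : IsClassFunction C (twRes C χh t) := by
  intro c u
  show χh (((u * c * u⁻¹ : C) : Γ) * t) = χh ((c : Γ) * t)
  have h1 : ((u * c * u⁻¹ : C) : Γ) * t = (u : Γ) * ((c : Γ) * t) * (u : Γ)⁻¹ := by
    have h2 : (u : Γ)⁻¹ * t = t * (u : Γ)⁻¹ := by
      have := ht u u.2
      calc (u : Γ)⁻¹ * t = (u : Γ)⁻¹ * (t * (u : Γ)) * (u : Γ)⁻¹ := by group
        _ = (u : Γ)⁻¹ * ((u : Γ) * t) * (u : Γ)⁻¹ := by rw [this]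
        _ = t * (u : Γ)⁻¹ := by group
    push_cast
    calc (u : Γ) * (c : Γ) * (u : Γ)⁻¹ * t = (u : Γ) * (c : Γ) * ((u : Γ)⁻¹ * t) := by group
      _ = (u : Γ) * (c : Γ) * (t * (u : Γ)⁻¹) := by rw [h2]
      _ = (u : Γ) * ((c : Γ) * t) * (u : Γ)⁻¹ := by group
  rw [h1]
  exact hχh _ _

/-- The multiplicity function `t ↦ ⟨twRes χh t, β⟩` on `⟨s⟩`. -/
noncomputable def twMult (χh : Γ → ℂ) (β : C → ℂ) : Subgroup.zpowers s → ℂ :=
  fun t => classInner (twRes C χh (t : Γ)) β

/-- `t ↦ ⟨twRes χh t, β⟩` is a character of `⟨s⟩`. -/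
theorem isCharacter_twMult (hCs : ∀ c ∈ C, c * s = s * c) {χh : Γ → ℂ} (hχh : IsCharacter Γ χh)
    {β : C → ℂ} (hβ : IsCharacter C β) :
    IsCharacter (Subgroup.zpowers s) (twMult s C χh β) := by
  classical
  let Z := Subgroup.zpowers s
  let _ : Fintype Z := Fintype.ofFinite Z
  let _ := Helper74.irrFintype Z
  have hCZ : ∀ c ∈ C, ∀ t ∈ Z, c * t = t * c := by
    intro c hc t ht
    obtain ⟨j, rfl⟩ := Subgroup.mem_zpowers_iff.mp ht
    exact ((show Commute c s from hCs c hc).zpow_right j).eq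
  have hZab : ∀ a b : Z, a * b = b * a := by
    intro a b
    apply Subtype.ext
    obtain ⟨i, hi⟩ := Subgroup.mem_zpowers_iff.mp a.2
    obtain ⟨j, hj⟩ := Subgroup.mem_zpowers_iff.mp b.2
    show (a : Γ) * (b : Γ) = (b : Γ) * (a : Γ)
    rw [← hi, ← hj, ← zpow_add, ← zpow_add, add_comm]
  -- the multiplication hom `C × Z → Γ`
  let μ : C × Z →* Γ :=
    { toFun := fun p => (p.1 : Γ) * (p.2 : Γ)
      map_one' := by simp
      map_mul' := by
        intro p q
        show ((p.1 * q.1 : C) : Γ) * ((p.2 * q.2 : Z) : Γ) =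
          (p.1 : Γ) * (p.2 : Γ) * ((q.1 : Γ) * (q.2 : Γ))
        have h := hCZ q.1 q.1.2 p.2 p.2.2
        push_cast
        calc (p.1 : Γ) * (q.1 : Γ) * ((p.2 : Γ) * (q.2 : Γ))
            = (p.1 : Γ) * ((q.1 : Γ) * (p.2 : Γ)) * (q.2 : Γ) := by group
          _ = (p.1 : Γ) * ((p.2 : Γ) * (q.1 : Γ)) * (q.2 : Γ) := by rw [h]
          _ = _ := by group }
  have hΦ : IsCharacter (C × Z) (χh ∘ μ) := Helper74.isCharacter_comp μ hχh
  -- multiplicities against `β × lam`
  have hmult : ∀ lam : IrrCharacter Z, ∃ a : ℕ,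
      classInner (twMult s C χh β) (lam : Z → ℂ) = a := by
    intro lam
    have hB : IsCharacter (C × Z) (fun p => β p.1 * (lam : Z → ℂ) p.2) :=
      Helper74.isCharacter_mul (Helper74.isCharacter_comp (MonoidHom.fst C Z) hβ)
        (Helper74.isCharacter_comp (MonoidHom.snd C Z) (Helper74.irr_isCharacter lam))
    obtain ⟨a, ha⟩ := Helper15.isCharacter_inner_nat hΦ hB
    refine ⟨a, ?_⟩
    rw [← ha]
    unfold classInner twMult classInner twRes
    rw [Nat.card_prod, Fintype.sum_prod_type, Finset.sum_comm]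
    push_cast
    rw [Finset.mul_sum, Finset.mul_sum]
    refine Finset.sum_congr rfl fun t _ => ?_
    rw [Finset.mul_sum, Finset.mul_sum, Finset.sum_mul, Finset.mul_sum]
    refine Finset.sum_congr rfl fun c _ => ?_
    simp only [Function.comp_apply, map_mul]
    have hC0 : (Nat.card C : ℂ) ≠ 0 := by
      have : 0 < Nat.card C := Nat.card_pos
      exact_mod_cast this.ne'
    have hZ0 : (Nat.card Z : ℂ) ≠ 0 := by
      have : 0 < Nat.card Z := Nat.card_pos
      exact_mod_cast this.ne'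
    show (Nat.card Z : ℂ)⁻¹ * ((Nat.card C : ℂ)⁻¹ * (χh ((c : Γ) * (t : Γ)) * conj (β c)) *
      conj ((lam : Z → ℂ) t)) = ((Nat.card C : ℂ) * (Nat.card Z : ℂ))⁻¹ *
        (χh ((c : Γ) * (t : Γ)) * (conj (β c) * conj ((lam : Z → ℂ) t)))
    field_simp
  choose a ha using hmult
  have hcf : IsClassFunction Z (twMult s C χh β) := by
    intro t u
    have : u * t * u⁻¹ = t := by rw [hZab u t, mul_inv_cancel_right]
    rw [this]
  have hdec := Helper74.classFunction_eq_sum_irr hcf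
  rw [hdec]
  apply Helper74.isCharacter_of_mem_irrSpanNat
  apply AddSubmonoid.sum_mem
  intro lam _
  rw [ha lam]
  have : ((a lam : ℂ)) • (lam : Z → ℂ) = (a lam) • (lam : Z → ℂ) := by
    rw [← Nat.cast_smul_eq_nsmul ℂ]
  rw [this]
  have hmem : (lam : Z → ℂ) ∈ Helper74.irrSpanNat Z := AddSubmonoid.subset_closure lam.2
  exact nsmul_mem hmem _

end

section main

variable {Γ : Type u} [Group Γ] [Fintype Γ] (G : Subgroup Γ) [hG : G.Normal] [Fintype G]
  (s : Γ) (C : Subgroup Γ) [Fintype C]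

/-- Inner product of twisted restrictions as a coset sum. -/
theorem inner_twRes (hC : ∀ x : Γ, x ∈ C ↔ x ∈ G ∧ x * s = s * x)
    (hcop : (orderOf s).Coprime (Nat.card G)) {χh ψh : Γ → ℂ} (hχh : IsClassFunction Γ χh)
    (hψh : IsClassFunction Γ ψh) :
    classInner (twRes C χh s) (twRes C ψh s) =
      (Nat.card G : ℂ)⁻¹ * ∑ g : G, χh ((g : Γ) * s) * conj (ψh ((g : Γ) * s)) := by
  have hf : IsClassFunction Γ (fun x => χh x * conj (ψh x)) := by
    intro g h
    show χh (h * g * h⁻¹) * conj (ψh (h * g * h⁻¹)) = χh g * conj (ψh g)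
    rw [hχh, hψh]
  have hsG : s ∈ Subgroup.normalizer (G : Set Γ) := by
    rw [Subgroup.normalizer_eq_top]; trivial
  have h := card_mul_sum_coset_eq G s C hC hcop hsG hf
  have hC0 : (Nat.card C : ℂ) ≠ 0 := by
    have : 0 < Nat.card C := Nat.card_pos
    exact_mod_cast this.ne'
  have hG0 : (Nat.card G : ℂ) ≠ 0 := by
    have : 0 < Nat.card G := Nat.card_pos
    exact_mod_cast this.ne'
  unfold classInner
  simp only [twRes_apply]
  calc (Nat.card C : ℂ)⁻¹ * ∑ c : C, χh ((c : Γ) * s) * conj (ψh ((c : Γ) * s))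
      = (Nat.card C : ℂ)⁻¹ * ((Nat.card G : ℂ)⁻¹ * ((Nat.card G : ℂ) *
          ∑ c : C, χh ((c : Γ) * s) * conj (ψh ((c : Γ) * s)))) := by
        rw [inv_mul_cancel_left₀ hG0]
    _ = (Nat.card C : ℂ)⁻¹ * ((Nat.card G : ℂ)⁻¹ * ((Nat.card C : ℂ) *
          ∑ g : G, χh ((g : Γ) * s) * conj (ψh ((g : Γ) * s)))) := by rw [h]
    _ = (Nat.card G : ℂ)⁻¹ * ∑ g : G, χh ((g : Γ) * s) * conj (ψh ((g : Γ) * s)) := by
        rw [mul_left_comm (Nat.card G : ℂ)⁻¹, inv_mul_cancel_left₀ hC0]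

/-- The data of a canonical extension. -/
structure IsCanonicalExt (χ : G → ℂ) (χh : Γ → ℂ) : Prop where
  irr : IsIrrCharacter G χ
  inv : ∀ (x : Γ) (g : G), χ ⟨x * g * x⁻¹, hG.conj_mem (g : Γ) g.2 x⟩ = χ g
  irrh : IsIrrCharacter Γ χh
  ext : ∀ g : G, χh g = χ g
  det : Nat.Coprime G.index (detOrder χh)

variable {G}

theorem IsCanonicalExt.twRes_pow_eq {χ : G → ℂ} {χh : Γ → ℂ} (h : IsCanonicalExt G χ χh)
    (hC : ∀ x : Γ, x ∈ C ↔ x ∈ G ∧ x * s = s * x)
    (hcop : (orderOf s).Coprime (Nat.card G)) (hidx : G.index = orderOf s)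
    (k : ℕ) (hk : k.Coprime (orderOf s)) :
    twRes C χh (s ^ k) = twRes C χh s := by
  have hcard : Nat.card Γ = Nat.card G * orderOf s := by
    rw [← hidx, mul_comm]; exact (Subgroup.index_mul_card G).symm
  obtain ⟨k', hk'c, hk'k, hk'1⟩ := exists_coprime_modEq_pair (Nat.card Γ) (orderOf s)
    (Nat.card G) k Nat.card_pos (by rw [hcard]; exact dvd_mul_left _ _)
    (by rw [hcard]; exact dvd_mul_right _ _) hcop hk
  funext c
  show χh ((c : Γ) * s ^ k) = χh ((c : Γ) * s)
  have hcG : (c : Γ) ∈ G := ((hC c).mp c.2).1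
  have hcs : (c : Γ) * s = s * (c : Γ) := ((hC c).mp c.2).2
  have h1 : ((c : Γ) * s) ^ k' = (c : Γ) * s ^ k := by
    rw [(show Commute (c : Γ) s from hcs).mul_pow]
    have h2 : (c : Γ) ^ k' = (c : Γ) := by
      have := pow_eq_pow_of_modEq hk'1 (pow_card_eq_one_of_mem G hcG)
      rwa [pow_one] at this
    have h3 : s ^ k' = s ^ k := pow_eq_pow_of_modEq hk'k (pow_orderOf_eq_one s)
    rw [h2, h3]
  rw [← h1]
  have hcopidx : Nat.Coprime G.index (Nat.card G) := by rw [hidx]; exact hcop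
  exact canonical_ext_pow_eq G h.irr h.inv hcopidx h.irrh h.ext h.det k' hk'c hk'1 _

/-- The multiplicities of the twisted restriction of a canonical extension are integers. -/
theorem IsCanonicalExt.exists_int_inner {χ : G → ℂ} {χh : Γ → ℂ} (h : IsCanonicalExt G χ χh)
    (hC : ∀ x : Γ, x ∈ C ↔ x ∈ G ∧ x * s = s * x)
    (hcop : (orderOf s).Coprime (Nat.card G)) (hidx : G.index = orderOf s)
    {β : C → ℂ} (hβ : IsCharacter C β) :
    ∃ n : ℤ, classInner (twRes C χh s) β = n := by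
  have hCs : ∀ c ∈ C, c * s = s * c := fun c hc => ((hC c).mp hc).2
  have hΛ := isCharacter_twMult s C hCs (Helper74.isCharacter_of_isIrr h.irrh) hβ
  let g : Subgroup.zpowers s := ⟨s, Subgroup.mem_zpowers s⟩
  have hgN : g ^ orderOf s = 1 := by
    apply Subtype.ext
    show s ^ orderOf s = 1
    exact pow_orderOf_eq_one s
  have hall : ∀ k, k < orderOf s → k.Coprime (orderOf s) →
      twMult s C χh β (g ^ k) = twMult s C χh β g := by
    intro k _ hk
    show classInner (twRes C χh ((g ^ k : Subgroup.zpowers s) : Γ)) β =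
      classInner (twRes C χh (g : Γ)) β
    have : ((g ^ k : Subgroup.zpowers s) : Γ) = s ^ k := rfl
    rw [this, h.twRes_pow_eq s C hC hcop hidx k hk]
  obtain ⟨q, hq⟩ := char_rational_of_pow_eq hΛ g (orderOf s) (orderOf_pos s) hgN hall
  have hint := Helper80.IsCharacter.isIntegral hΛ g
  exact exists_int_of_rat_of_isIntegral q hq hint

/-- **Cyclic Glauberman correspondence, existence**: the twisted restriction of a canonical
extension is `± β` for an irreducible constituent `β` of `χ_C`. -/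
theorem IsCanonicalExt.exists_glauberman {χ : G → ℂ} {χh : Γ → ℂ} (h : IsCanonicalExt G χ χh)
    (hC : ∀ x : Γ, x ∈ C ↔ x ∈ G ∧ x * s = s * x)
    (hcop : (orderOf s).Coprime (Nat.card G)) (hidx : G.index = orderOf s)
    (hab : ∀ a b : Γ ⧸ G, a * b = b * a) :
    ∃ (β : IrrCharacter C) (ε : ℤ), (ε = 1 ∨ ε = -1) ∧
      twRes C χh s = (ε : ℂ) • (β : C → ℂ) ∧
      classInner (fun c : C => χh (c : Γ)) (β : C → ℂ) ≠ 0 := by
  classical
  let _ := Helper74.irrFintype C
  have hCs : ∀ c ∈ C, c * s = s * c := fun c hc => ((hC c).mp hc).2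
  have hχhc := Helper74.isCharacter_of_isIrr h.irrh
  have hχhcf := Helper74.isClassFunction_of_isCharacter hχhc
  have hθcf : IsClassFunction C (twRes C χh s) := isClassFunction_twRes C hχhcf s hCs
  -- norm one
  have hnorm : classInner (twRes C χh s) (twRes C χh s) = 1 := by
    rw [inner_twRes G s C hC hcop hχhcf hχhcf]
    have hG' : IsIrrCharacter G (fun g : G => χh g) := by
      have : (fun g : G => χh g) = χ := funext h.ext
      rw [this]; exact h.irr
    have := coset_orthogonality G hab h.irrh h.irrh hG' s (fun _ _ _ => rfl)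
    rw [if_pos rfl] at this
    exact this
  -- integer multiplicities
  choose n hn using fun β : IrrCharacter C =>
    h.exists_int_inner s C hC hcop hidx (Helper74.irr_isCharacter β)
  have hpars := Helper15.classInner_eq_sum_irr hθcf (twRes C χh s)
  rw [hnorm] at hpars
  have hsq : ∑ β : IrrCharacter C, (n β) ^ 2 = 1 := by
    have h1 : ((∑ β : IrrCharacter C, (n β) ^ 2 : ℤ) : ℂ) = 1 := by
      rw [hpars]
      push_cast
      refine Finset.sum_congr rfl fun β _ => ?_
      rw [hn β, map_intCast]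
      ring
    exact_mod_cast h1
  -- exactly one nonzero multiplicity
  obtain ⟨β₀, hβ₀⟩ : ∃ β₀ : IrrCharacter C, n β₀ ≠ 0 := by
    by_contra hcon
    push Not at hcon
    simp [hcon] at hsq
  have hrest : ∑ β ∈ Finset.univ.erase β₀, (n β) ^ 2 = 1 - (n β₀) ^ 2 := by
    have := Finset.add_sum_erase Finset.univ (fun β => (n β) ^ 2) (Finset.mem_univ β₀)
    rw [hsq] at this
    linarith
  have hβ₀1 : 1 ≤ (n β₀) ^ 2 := by
    have : 0 < (n β₀) ^ 2 := by positivity
    omega
  have hrest0 : ∑ β ∈ Finset.univ.erase β₀, (n β) ^ 2 = 0 := by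
    have hnn : 0 ≤ ∑ β ∈ Finset.univ.erase β₀, (n β) ^ 2 :=
      Finset.sum_nonneg fun β _ => by positivity
    omega
  have hβ₀sq : (n β₀) ^ 2 = 1 := by omega
  have hothers : ∀ β : IrrCharacter C, β ≠ β₀ → n β = 0 := by
    intro β hne
    have := (Finset.sum_eq_zero_iff_of_nonneg (fun β _ => by positivity)).mp hrest0 β
      (Finset.mem_erase.mpr ⟨hne, Finset.mem_univ _⟩)
    exact pow_eq_zero_iff (by norm_num) |>.mp this
  have hε : n β₀ = 1 ∨ n β₀ = -1 := by
    have : (n β₀ - 1) * (n β₀ + 1) = 0 := by ring_nf; omega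
    rcases mul_eq_zero.mp this with h1 | h1
    · left; omega
    · right; omega
  have hdec := Helper74.classFunction_eq_sum_irr hθcf
  have hθ : twRes C χh s = (n β₀ : ℂ) • (β₀ : C → ℂ) := by
    rw [hdec, Finset.sum_eq_single β₀]
    · rw [hn β₀]
    · intro β _ hne
      rw [hn β, hothers β hne]
      simp
    · intro hh; exact absurd (Finset.mem_univ _) hh
  refine ⟨β₀, n β₀, hε, hθ, ?_⟩
  -- `β₀` is a constituent of `χ_C`
  have hΛ := isCharacter_twMult s C hCs hχhc (Helper74.irr_isCharacter β₀)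
  intro hzero
  have h1 : twMult s C χh (β₀ : C → ℂ) 1 = 0 := by
    show classInner (twRes C χh ((1 : Subgroup.zpowers s) : Γ)) (β₀ : C → ℂ) = 0
    have : twRes C χh ((1 : Subgroup.zpowers s) : Γ) = fun c : C => χh (c : Γ) := by
      funext c
      show χh ((c : Γ) * ((1 : Subgroup.zpowers s) : Γ)) = χh (c : Γ)
      rw [Subgroup.coe_one, mul_one]
    rw [this]; exact hzero
  have hdeg : charDegree (twMult s C χh (β₀ : C → ℂ)) = 0 := by
    have := Helper80.IsCharacter.charDegree_cast hΛ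
    rw [h1] at this
    exact_mod_cast this
  have hle := Helper80.IsCharacter.norm_le hΛ ⟨s, Subgroup.mem_zpowers s⟩
  rw [hdeg] at hle
  have hval : twMult s C χh (β₀ : C → ℂ) ⟨s, Subgroup.mem_zpowers s⟩ = (n β₀ : ℂ) := hn β₀
  rw [hval] at hle
  have : (n β₀ : ℂ) = 0 := by
    have h0 : ‖(n β₀ : ℂ)‖ = 0 := le_antisymm (by simpa using hle) (norm_nonneg _)
    exact norm_eq_zero.mp h0
  exact hβ₀ (by exact_mod_cast this)

/-- **Cyclic Glauberman correspondence, injectivity.** -/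
theorem IsCanonicalExt.eq_of_twRes {χ χ' : G → ℂ} {χh χh' : Γ → ℂ} (h : IsCanonicalExt G χ χh)
    (h' : IsCanonicalExt G χ' χh')
    (hC : ∀ x : Γ, x ∈ C ↔ x ∈ G ∧ x * s = s * x)
    (hcop : (orderOf s).Coprime (Nat.card G)) (hidx : G.index = orderOf s)
    (hab : ∀ a b : Γ ⧸ G, a * b = b * a)
    {β : C → ℂ} (hβ : IsIrrCharacter C β) {ε ε' : ℤ} (hε : ε = 1 ∨ ε = -1)
    (hε' : ε' = 1 ∨ ε' = -1)
    (ht : twRes C χh s = (ε : ℂ) • β) (ht' : twRes C χh' s = (ε' : ℂ) • β) : χ = χ' := by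
  classical
  have hχhcf := Helper74.isClassFunction_of_isCharacter (Helper74.isCharacter_of_isIrr h.irrh)
  have hχh'cf := Helper74.isClassFunction_of_isCharacter (Helper74.isCharacter_of_isIrr h'.irrh)
  have hcopidx : Nat.Coprime G.index (Nat.card G) := by rw [hidx]; exact hcop
  have h1 : classInner (twRes C χh s) (twRes C χh' s) = (ε : ℂ) * (ε' : ℂ) := by
    rw [ht, ht', Helper74.classInner_smul_left, Helper74.classInner_smul_right,
      Helper74.irr_inner_self ⟨β, hβ⟩, map_intCast]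
    ring
  have hne : (ε : ℂ) * (ε' : ℂ) ≠ 0 := by
    rcases hε with rfl | rfl <;> rcases hε' with rfl | rfl <;> norm_num
  rw [inner_twRes G s C hC hcop hχhcf hχh'cf] at h1
  have hG' : IsIrrCharacter G (fun g : G => χh' g) := by
    have : (fun g : G => χh' g) = χ' := funext h'.ext
    rw [this]; exact h'.irr
  have hcan : ∀ ν : Γ →* ℂˣ, (∀ g ∈ G, ν g = 1) → (∀ x, χh x = (ν x : ℂ) * χh' x) →
      χh = χh' := by
    intro ν hν hx
    have hχχ' : χ = χ' := by
      funext g
      rw [← h.ext g, hx g, hν g g.2, Units.val_one, one_mul, h'.ext g]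
    subst hχχ'
    exact canonical_ext_unique G h.irr h.inv hcopidx h.irrh h'.irrh h.ext h'.ext h.det h'.det
  have h2 := coset_orthogonality G hab h.irrh h'.irrh hG' s hcan
  rw [h1] at h2
  by_cases heq : χh = χh'
  · funext g
    rw [← h.ext g, heq, h'.ext g]
  · rw [if_neg heq] at h2
    exact absurd h2 hne

end main

end Cfsg.Agent.Helper82
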