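import Mathlib
import Cfsg.Prelude.Def_Blocks
import Cfsg.Prelude.Def_CharExt
import Cfsg.Agent.Helper82.CyclicGlauberman

/-!
# Cyclic Glauberman correspondence, arbitrary element version (helper82)

The results of `CyclicGlauberman` for an arbitrary element `s` of order coprime to `|G|`
(not necessarily generating `Γ/G`): only `(|Γ:G|, |G|) = 1` is needed.
-/

set_option autoImplicit false
set_option linter.unusedSectionVars false

namespace Cfsg.Agent.Helper82

open Cfsg
open scoped ComplexConjugate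

universe u

section main2

variable {Γ : Type u} [Group Γ] [Fintype Γ] {G : Subgroup Γ} [hG : G.Normal] [Fintype G]
  (s : Γ) (C : Subgroup Γ) [Fintype C]

theorem IsCanonicalExt.twRes_pow_eq' {χ : G → ℂ} {χh : Γ → ℂ} (h : IsCanonicalExt G χ χh)
    (hC : ∀ x : Γ, x ∈ C ↔ x ∈ G ∧ x * s = s * x)
    (hcop : (orderOf s).Coprime (Nat.card G)) (hcopidx : Nat.Coprime G.index (Nat.card G))
    (k : ℕ) (hk : k.Coprime (orderOf s)) :
    twRes C χh (s ^ k) = twRes C χh s := by
  obtain ⟨k', hk'c, hk'k, hk'1⟩ := exists_coprime_modEq_pair (Nat.card Γ) (orderOf s)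
    (Nat.card G) k Nat.card_pos (orderOf_dvd_natCard s) (Subgroup.card_subgroup_dvd_card G)
    hcop hk
  funext c
  show χh ((c : Γ) * s ^ k) = χh ((c : Γ) * s)
  have hcG : (c : Γ) ∈ G := ((hC c).mp c.2).1
  have hcs : (c : Γ) * s = s * (c : Γ) := ((hC c).mp c.2).2
  have h1 : ((c : Γ) * s) ^ k' = (c : Γ) * s ^ k := by
    rw [(show Commute (c : Γ) s from hcs).mul_pow]
    have h2 : (c : Γ) ^ k' = (c : Γ) := by
      have := pow_eq_pow_of_modEq hk'1 (pow_card_eq_one_of_mem G hcG)
      rwa [pow_one] at this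
    have h3 : s ^ k' = s ^ k := pow_eq_pow_of_modEq hk'k (pow_orderOf_eq_one s)
    rw [h2, h3]
  rw [← h1]
  exact canonical_ext_pow_eq G h.irr h.inv hcopidx h.irrh h.ext h.det k' hk'c hk'1 _

/-- The multiplicities of the twisted restriction of a canonical extension are integers. -/
theorem IsCanonicalExt.exists_int_inner' {χ : G → ℂ} {χh : Γ → ℂ} (h : IsCanonicalExt G χ χh)
    (hC : ∀ x : Γ, x ∈ C ↔ x ∈ G ∧ x * s = s * x)
    (hcop : (orderOf s).Coprime (Nat.card G)) (hcopidx : Nat.Coprime G.index (Nat.card G))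
    {β : C → ℂ} (hβ : IsCharacter C β) :
    ∃ n : ℤ, classInner (twRes C χh s) β = n := by
  have hCs : ∀ c ∈ C, c * s = s * c := fun c hc => ((hC c).mp hc).2
  have hΛ := isCharacter_twMult s C hCs (Helper74.isCharacter_of_isIrr h.irrh) hβ
  let g : Subgroup.zpowers s := ⟨s, Subgroup.mem_zpowers s⟩
  have hgN : g ^ orderOf s = 1 := by
    apply Subtype.ext
    show s ^ orderOf s = 1
    exact pow_orderOf_eq_one s
  have hall : ∀ k, k < orderOf s → k.Coprime (orderOf s) →
      twMult s C χh β (g ^ k) = twMult s C χh β g := by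
    intro k _ hk
    show classInner (twRes C χh ((g ^ k : Subgroup.zpowers s) : Γ)) β =
      classInner (twRes C χh (g : Γ)) β
    have : ((g ^ k : Subgroup.zpowers s) : Γ) = s ^ k := rfl
    rw [this, h.twRes_pow_eq' s C hC hcop hcopidx k hk]
  obtain ⟨q, hq⟩ := char_rational_of_pow_eq hΛ g (orderOf s) (orderOf_pos s) hgN hall
  have hint := Helper80.IsCharacter.isIntegral hΛ g
  exact exists_int_of_rat_of_isIntegral q hq hint

/-- **Cyclic Glauberman correspondence, existence** (arbitrary element): the twisted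
restriction of a canonical extension is `± β` for an irreducible character `β` of `C`. -/
theorem IsCanonicalExt.exists_glauberman' {χ : G → ℂ} {χh : Γ → ℂ} (h : IsCanonicalExt G χ χh)
    (hC : ∀ x : Γ, x ∈ C ↔ x ∈ G ∧ x * s = s * x)
    (hcop : (orderOf s).Coprime (Nat.card G)) (hcopidx : Nat.Coprime G.index (Nat.card G))
    (hab : ∀ a b : Γ ⧸ G, a * b = b * a) :
    ∃ (β : IrrCharacter C) (ε : ℤ), (ε = 1 ∨ ε = -1) ∧
      twRes C χh s = (ε : ℂ) • (β : C → ℂ) := by
  classical
  let _ := Helper74.irrFintype C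
  have hCs : ∀ c ∈ C, c * s = s * c := fun c hc => ((hC c).mp hc).2
  have hχhc := Helper74.isCharacter_of_isIrr h.irrh
  have hχhcf := Helper74.isClassFunction_of_isCharacter hχhc
  have hθcf : IsClassFunction C (twRes C χh s) := isClassFunction_twRes C hχhcf s hCs
  -- norm one
  have hnorm : classInner (twRes C χh s) (twRes C χh s) = 1 := by
    rw [inner_twRes G s C hC hcop hχhcf hχhcf]
    have hG' : IsIrrCharacter G (fun g : G => χh g) := by
      have : (fun g : G => χh g) = χ := funext h.ext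
      rw [this]; exact h.irr
    have := coset_orthogonality G hab h.irrh h.irrh hG' s (fun _ _ _ => rfl)
    rw [if_pos rfl] at this
    exact this
  -- integer multiplicities
  choose n hn using fun β : IrrCharacter C =>
    h.exists_int_inner' s C hC hcop hcopidx (Helper74.irr_isCharacter β)
  have hpars := Helper15.classInner_eq_sum_irr hθcf (twRes C χh s)
  rw [hnorm] at hpars
  have hsq : ∑ β : IrrCharacter C, (n β) ^ 2 = 1 := by
    have h1 : ((∑ β : IrrCharacter C, (n β) ^ 2 : ℤ) : ℂ) = 1 := by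
      rw [hpars]
      push_cast
      refine Finset.sum_congr rfl fun β _ => ?_
      rw [hn β, map_intCast]
      ring
    exact_mod_cast h1
  -- exactly one nonzero multiplicity
  obtain ⟨β₀, hβ₀⟩ : ∃ β₀ : IrrCharacter C, n β₀ ≠ 0 := by
    by_contra hcon
    push Not at hcon
    simp [hcon] at hsq
  have hrest : ∑ β ∈ Finset.univ.erase β₀, (n β) ^ 2 = 1 - (n β₀) ^ 2 := by
    have := Finset.add_sum_erase Finset.univ (fun β => (n β) ^ 2) (Finset.mem_univ β₀)
    rw [hsq] at this
    linarith
  have hβ₀1 : 1 ≤ (n β₀) ^ 2 := by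
    have : 0 < (n β₀) ^ 2 := by positivity
    omega
  have hrest0 : ∑ β ∈ Finset.univ.erase β₀, (n β) ^ 2 = 0 := by
    have hnn : 0 ≤ ∑ β ∈ Finset.univ.erase β₀, (n β) ^ 2 :=
      Finset.sum_nonneg fun β _ => by positivity
    omega
  have hβ₀sq : (n β₀) ^ 2 = 1 := by omega
  have hothers : ∀ β : IrrCharacter C, β ≠ β₀ → n β = 0 := by
    intro β hne
    have := (Finset.sum_eq_zero_iff_of_nonneg (fun β _ => by positivity)).mp hrest0 β
      (Finset.mem_erase.mpr ⟨hne, Finset.mem_univ _⟩)
    exact pow_eq_zero_iff (by norm_num) |>.mp this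
  have hε : n β₀ = 1 ∨ n β₀ = -1 := by
    have : (n β₀ - 1) * (n β₀ + 1) = 0 := by ring_nf; omega
    rcases mul_eq_zero.mp this with h1 | h1
    · left; omega
    · right; omega
  have hdec := Helper74.classFunction_eq_sum_irr hθcf
  have hθ : twRes C χh s = (n β₀ : ℂ) • (β₀ : C → ℂ) := by
    rw [hdec, Finset.sum_eq_single β₀]
    · rw [hn β₀]
    · intro β _ hne
      rw [hn β, hothers β hne]
      simp
    · intro hh; exact absurd (Finset.mem_univ _) hh
  exact ⟨β₀, n β₀, hε, hθ⟩

end main2

end Cfsg.Agent.Helper82
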