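import Mathlib
import Cfsg.Prelude.Def_Blocks
import Cfsg.Prelude.Def_CharExt
import Cfsg.Agent.Helper82.CyclicGlaub2
import Cfsg.Agent.Helper82.UnitOffOne

/-!
# Canonical extensions under a cyclic Frobenius-type action (helper82)

`G ⊴ Γ`, `s₀` of order coprime to `|G|` such that every non-identity power of `s₀` has the
same centraliser `C` in `G`.  If `χh` is the canonical extension of `χ ∈ Irr G` and
`χh (c s₀) = ε₀ β c`, then `χh (c t) = ε μ(t) β(c)` for all `1 ≠ t ∈ ⟨s₀⟩` and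
`χ_C = |⟨s₀⟩| ϑ + ε β`.
-/

set_option autoImplicit false
set_option linter.unusedSectionVars false

namespace Cfsg.Agent.Helper82

open Cfsg
open scoped ComplexConjugate

universe u

section

variable {Γ : Type u} [Group Γ] [Fintype Γ] {G : Subgroup Γ} [hG : G.Normal] [Fintype G]
  (s₀ : Γ) (C : Subgroup Γ) [Fintype C]

theorem IsCanonicalExt.frobenius_cyclic {χ : G → ℂ} {χh : Γ → ℂ} (hcan : IsCanonicalExt G χ χh)
    (hab : ∀ a b : Γ ⧸ G, a * b = b * a) (hcopidx : Nat.Coprime G.index (Nat.card G))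
    (hcop₀ : (orderOf s₀).Coprime (Nat.card G)) (hs₀ : s₀ ≠ 1)
    (hCt : ∀ t ∈ Subgroup.zpowers s₀, t ≠ 1 → ∀ y : Γ, y ∈ C ↔ y ∈ G ∧ y * t = t * y)
    (β : IrrCharacter C) (ε₀ : ℤ) (hε₀ : ε₀ = 1 ∨ ε₀ = -1)
    (hβ : twRes C χh s₀ = (ε₀ : ℂ) • (β : C → ℂ)) :
    ∃ (ε : ℤ) (μ : IrrCharacter (Subgroup.zpowers s₀)), (ε = 1 ∨ ε = -1) ∧
      (∀ t : Subgroup.zpowers s₀, (μ : Subgroup.zpowers s₀ → ℂ) t *
        (μ : Subgroup.zpowers s₀ → ℂ) t = 1) ∧
      (∀ t : Subgroup.zpowers s₀, t ≠ 1 → twRes C χh (t : Γ) =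
        ((ε : ℂ) * (μ : Subgroup.zpowers s₀ → ℂ) t) • (β : C → ℂ)) ∧
      ∃ ϑ : C → ℂ, IsCharacter C ϑ ∧ (fun c : C => χh (c : Γ)) =
        fun c => (Nat.card (Subgroup.zpowers s₀) : ℂ) * ϑ c + (ε : ℂ) * (β : C → ℂ) c := by
  classical
  let Z := Subgroup.zpowers s₀
  let _ : Fintype Z := Fintype.ofFinite Z
  let _ := Helper74.irrFintype C
  have hZcomm : ∀ a b : Z, a * b = b * a := by
    intro a b
    obtain ⟨i, hi⟩ := Subgroup.mem_zpowers_iff.mp a.2
    obtain ⟨j, hj⟩ := Subgroup.mem_zpowers_iff.mp b.2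
    apply Subtype.ext
    show (a : Γ) * (b : Γ) = (b : Γ) * (a : Γ)
    rw [← hi, ← hj, ← zpow_add, ← zpow_add, add_comm]
  have hχhc := Helper74.isCharacter_of_isIrr hcan.irrh
  have hCs₀ : ∀ c ∈ C, c * s₀ = s₀ * c := fun c hc =>
    ((hCt s₀ (Subgroup.mem_zpowers s₀) hs₀ c).mp hc).2
  -- Glauberman data for every non-identity element
  have hdata : ∀ t : Z, t ≠ 1 → ∃ (γ : IrrCharacter C) (e : ℤ), (e = 1 ∨ e = -1) ∧
      twRes C χh (t : Γ) = (e : ℂ) • (γ : C → ℂ) := by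
    intro t ht
    have ht1 : (t : Γ) ≠ 1 := fun h => ht (Subtype.ext h)
    have hcopt : (orderOf (t : Γ)).Coprime (Nat.card G) :=
      Nat.Coprime.coprime_dvd_left (orderOf_dvd_of_mem_zpowers t.2) hcop₀
    exact hcan.exists_glauberman' (t : Γ) C (hCt t t.2 ht1) hcopt hcopidx hab
  have hFchar : ∀ γ : IrrCharacter C, IsCharacter Z (twMult s₀ C χh (γ : C → ℂ)) := fun γ =>
    isCharacter_twMult s₀ C hCs₀ hχhc (Helper74.irr_isCharacter γ)
  have hFapply : ∀ (γ : IrrCharacter C) (t : Z), twMult s₀ C χh (γ : C → ℂ) t =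
      classInner (twRes C χh (t : Γ)) (γ : C → ℂ) := fun _ _ => rfl
  -- the hypotheses of `char_unit_off_one`
  have hle : ∀ t : Z, t ≠ 1 → ‖twMult s₀ C χh (β : C → ℂ) t‖ ≤ 1 := by
    intro t ht
    obtain ⟨γ, e, he, hγ⟩ := hdata t ht
    rw [hFapply, hγ, Helper74.classInner_smul_left]
    by_cases hγβ : γ = β
    · rw [hγβ, Helper74.irr_inner_self, mul_one]
      rcases he with rfl | rfl <;> simp
    · rw [Helper74.irr_inner_ne hγβ, mul_zero]; simp
  have hne : ∃ t : Z, t ≠ 1 ∧ twMult s₀ C χh (β : C → ℂ) t ≠ 0 := by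
    refine ⟨⟨s₀, Subgroup.mem_zpowers s₀⟩, fun h => hs₀ (congrArg Subtype.val h), ?_⟩
    rw [hFapply]
    show classInner (twRes C χh s₀) (β : C → ℂ) ≠ 0
    rw [hβ, Helper74.classInner_smul_left, Helper74.irr_inner_self, mul_one]
    rcases hε₀ with rfl | rfl <;> norm_num
  obtain ⟨ε, μ, m, hε, hF1, hFt⟩ := char_unit_off_one hZcomm (hFchar β) hle hne
  have hεne : (ε : ℂ) ≠ 0 := by rcases hε with rfl | rfl <;> norm_num
  have hεsq : (ε : ℂ) * (ε : ℂ) = 1 := by rcases hε with rfl | rfl <;> norm_num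
  have hμne : ∀ t : Z, (μ : Z → ℂ) t ≠ 0 := by
    intro t h0
    have := irr_pow_eq_one_of_comm hZcomm μ.2 t (Nat.card Z) pow_card_eq_one'
    rw [h0, zero_pow (Nat.card_pos.ne')] at this
    exact zero_ne_one this
  -- all the `γ_t` are equal to `β`
  have hkey : ∀ t : Z, t ≠ 1 → ∃ e : ℤ, (e = 1 ∨ e = -1) ∧
      (e : ℂ) = (ε : ℂ) * (μ : Z → ℂ) t ∧ twRes C χh (t : Γ) = (e : ℂ) • (β : C → ℂ) := by
    intro t ht
    obtain ⟨γ, e, he, hγ⟩ := hdata t ht
    have hFt' : twMult s₀ C χh (β : C → ℂ) t =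
        (e : ℂ) * classInner (γ : C → ℂ) (β : C → ℂ) := by
      rw [hFapply, hγ, Helper74.classInner_smul_left]
    by_cases hγβ : γ = β
    · subst hγβ
      rw [Helper74.irr_inner_self, mul_one, hFt t ht] at hFt'
      exact ⟨e, he, hFt'.symm, hγ⟩
    · rw [Helper74.irr_inner_ne hγβ, mul_zero, hFt t ht] at hFt'
      exfalso
      rcases mul_eq_zero.mp hFt' with h | h
      · exact hεne h
      · exact hμne t h
  refine ⟨ε, μ, hε, ?_, ?_, ?_⟩
  · intro t
    by_cases ht : t = 1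
    · rw [ht, Helper15.irr_one_eq_one_of_comm hZcomm μ.2, mul_one]
    · obtain ⟨e, he, heq, -⟩ := hkey t ht
      have hee : (e : ℂ) * (e : ℂ) = 1 := by rcases he with rfl | rfl <;> norm_num
      calc (μ : Z → ℂ) t * (μ : Z → ℂ) t
          = ((ε : ℂ) * (ε : ℂ)) * ((μ : Z → ℂ) t * (μ : Z → ℂ) t) := by rw [hεsq, one_mul]
        _ = ((ε : ℂ) * (μ : Z → ℂ) t) * ((ε : ℂ) * (μ : Z → ℂ) t) := by ring
        _ = 1 := by rw [← heq, hee]
  · intro t ht
    obtain ⟨e, -, heq, htw⟩ := hkey t ht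
    rw [htw, heq]
  · -- the restriction to `C`
    set res : C → ℂ := fun c : C => χh (c : Γ) with hres
    have hresc : IsCharacter C res := Helper74.isCharacter_restrict C hχhc
    have htw1 : twRes C χh ((1 : Z) : Γ) = res := by
      funext c
      show χh ((c : Γ) * ((1 : Z) : Γ)) = χh (c : Γ)
      rw [Subgroup.coe_one, mul_one]
    have hnZ : (Nat.card Z : ℂ) ≠ 0 := by
      have : 0 < Nat.card Z := Nat.card_pos
      exact_mod_cast this.ne'
    -- multiplicities of `γ ≠ β`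
    have hmult : ∀ γ : IrrCharacter C, γ ≠ β → ∃ k : ℕ,
        classInner res (γ : C → ℂ) = (Nat.card Z : ℂ) * (k : ℂ) := by
      intro γ hγβ
      obtain ⟨k, hk⟩ := Helper15.isCharacter_inner_nat (hFchar γ)
        (Helper74.isCharacter_one : IsCharacter Z (fun _ => (1 : ℂ)))
      refine ⟨k, ?_⟩
      have hvanish : ∀ t : Z, t ≠ 1 → twMult s₀ C χh (γ : C → ℂ) t = 0 := by
        intro t ht
        obtain ⟨e, -, -, htw⟩ := hkey t ht
        rw [hFapply, htw, Helper74.classInner_smul_left, Helper74.irr_inner_ne (Ne.symm hγβ),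
          mul_zero]
      unfold classInner at hk
      rw [Finset.sum_eq_single (1 : Z)] at hk
      · rw [map_one, mul_one, hFapply, htw1] at hk
        rw [← hk, mul_inv_cancel_left₀ hnZ]
      · intro t _ ht
        rw [hvanish t ht, zero_mul]
      · intro hh; exact absurd (Finset.mem_univ _) hh
    have hmultβ : classInner res (β : C → ℂ) = (Nat.card Z : ℂ) * (m : ℂ) + (ε : ℂ) := by
      rw [← htw1, ← hFapply, hF1]; ring
    let K : IrrCharacter C → ℕ := fun γ =>
      if h : γ = β then m else Classical.choose (hmult γ h)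
    have hK : ∀ γ : IrrCharacter C, classInner res (γ : C → ℂ) =
        (Nat.card Z : ℂ) * (K γ : ℂ) + if γ = β then (ε : ℂ) else 0 := by
      intro γ
      by_cases h : γ = β
      · simp only [K, dif_pos h, if_pos h]
        rw [h]; exact hmultβ
      · simp only [K, dif_neg h, if_neg h, add_zero]
        exact Classical.choose_spec (hmult γ h)
    refine ⟨∑ γ : IrrCharacter C, (K γ : ℂ) • (γ : C → ℂ), ?_, ?_⟩
    · apply Helper74.isCharacter_of_mem_irrSpanNat
      apply AddSubmonoid.sum_mem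
      intro γ _
      rw [Nat.cast_smul_eq_nsmul]
      exact AddSubmonoid.nsmul_mem (Helper74.irrSpanNat C)
        (AddSubmonoid.subset_closure (s := {ψ | IsIrrCharacter C ψ}) γ.2) (K γ)
    · have hdec := Helper74.isCharacter_eq_sum_irr hresc
      funext c
      have h1 := congrFun hdec c
      rw [h1, Finset.sum_apply, Finset.sum_apply, Finset.mul_sum]
      have h2 : (ε : ℂ) * (β : C → ℂ) c =
          ∑ γ : IrrCharacter C, (if γ = β then (ε : ℂ) else 0) * (γ : C → ℂ) c := by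
        rw [Finset.sum_eq_single β]
        · rw [if_pos rfl]
        · intro γ _ hne'
          rw [if_neg hne', zero_mul]
        · intro hh; exact absurd (Finset.mem_univ _) hh
      rw [h2, ← Finset.sum_add_distrib]
      refine Finset.sum_congr rfl fun γ _ => ?_
      rw [Pi.smul_apply, Pi.smul_apply, hK γ]
      simp only [smul_eq_mul]
      ring

end

end Cfsg.Agent.Helper82
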