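import Cfsg.Agent.Helper81.BrauerPerm
import Cfsg.Agent.Helper25.TwistedConj
import Cfsg.Agent.Helper25.CoprimePow
import Cfsg.Agent.Helper15.Gallagher
import Cfsg.Agent.Helper15.ConjChar

set_option autoImplicit false

/-!
# Fixed characters and fixed elements of a normal Hall subgroup (helper82)

For a normal Hall subgroup `H` of a finite group `M` and `x : M`: `x` fixes a non-principal
irreducible character of `H` iff `x` centralizes a non-identity element of `H`.
(Brauer's permutation lemma + Glauberman's lemma for a cyclic group.)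
-/

namespace Cfsg.Agent.Helper82

open Cfsg

universe u

/-- If `k x` (with `k ∈ H`) centralizes a nonidentity element of the normal Hall subgroup `H`,
then `x` centralizes a nonidentity element of `H`. -/
theorem exists_centralized_of_coset_centralizes {M : Type u} [Group M] [Finite M] (H : Subgroup M)
    [hN : H.Normal] (hHall : Nat.Coprime (Nat.card H) H.index) (x h k : M) (hh : h ∈ H)
    (hk : k ∈ H) (h1 : h ≠ 1) (hcomm : (k * x) * h = h * (k * x)) :
    ∃ h' ∈ H, h' ≠ 1 ∧ x * h' = h' * x := by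
  obtain ⟨e, he1, he0⟩ := Cfsg.Agent.Helper25.exists_modEq_one_zero hHall.symm
  -- `x ^ e ≡ x` modulo `H`
  have hq : ((x ^ e : M) : M ⧸ H) = ((x : M) : M ⧸ H) := by
    have hpow : ((x : M) : M ⧸ H) ^ H.index = 1 := by
      rw [← QuotientGroup.mk_pow]
      exact (QuotientGroup.eq_one_iff _).2 (Subgroup.pow_index_mem H x)
    rw [QuotientGroup.mk_pow, pow_eq_pow_of_modEq he1 hpow, pow_one]
  have hh0 : (x ^ e)⁻¹ * x ∈ H := QuotientGroup.eq.1 hq
  by_cases hne : (x ^ e)⁻¹ * x = 1
  · -- `x = x ^ e` has order prime to `|H|`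
    have hxe : x ^ e = x := by
      have := inv_mul_eq_one.1 hne
      exact this
    have hxi : x ^ H.index = 1 := by
      obtain ⟨t, ht⟩ : Nat.card H ∣ e := (Nat.modEq_zero_iff_dvd).1 he0
      rw [← hxe, ← pow_mul, ht, mul_assoc, mul_comm t, ← mul_assoc, Subgroup.card_mul_index,
        pow_mul, pow_card_eq_one', one_pow]
    have hcop : Nat.Coprime (orderOf x) (Nat.card H) :=
      (Nat.Coprime.coprime_dvd_left (orderOf_dvd_of_pow_eq_one hxi) hHall.symm)
    have hxn : x ∈ Subgroup.normalizer (H : Set M) := by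
      rw [Subgroup.normalizer_eq_top]
      exact Subgroup.mem_top x
    obtain ⟨t, ht, c, hc, hcx, htc⟩ :=
      Cfsg.Agent.Helper25.exists_conj_eq_centralizer_mul (orderOf x) H x rfl hxn hcop k hk
    by_cases hc1 : c = 1
    · refine ⟨t * h * t⁻¹, hN.conj_mem h hh t, ?_, ?_⟩
      · intro h0
        apply h1
        have : h = t⁻¹ * (t * h * t⁻¹) * t := by group
        rw [this, h0]; group
      · rw [hc1, one_mul] at htc
        rw [← htc]
        calc t * (k * x) * t⁻¹ * (t * h * t⁻¹) = t * ((k * x) * h) * t⁻¹ := by group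
          _ = t * (h * (k * x)) * t⁻¹ := by rw [hcomm]
          _ = t * h * t⁻¹ * (t * (k * x) * t⁻¹) := by group
    · exact ⟨c, hc, hc1, hcx.symm⟩
  · refine ⟨(x ^ e)⁻¹ * x, hh0, hne, ?_⟩
    have h2 : Commute x ((x ^ e)⁻¹ * x) :=
      ((Commute.refl x).pow_right e).inv_right.mul_right (Commute.refl x)
    exact h2.eq

section chars

variable {M : Type u} [Group M] [Finite M] (H : Subgroup M) [hN : H.Normal]

/-- The permutation of `Irr H` induced by conjugation with `x⁻¹`. -/
noncomputable def irrConjPerm (x : M) : Equiv.Perm (IrrCharacter H) where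
  toFun θ := ⟨Cfsg.Agent.Helper15.conjFun H x⁻¹ (θ : H → ℂ),
    Cfsg.Agent.Helper15.isIrrCharacter_conjFun H θ.2 x⁻¹⟩
  invFun θ := ⟨Cfsg.Agent.Helper15.conjFun H x (θ : H → ℂ),
    Cfsg.Agent.Helper15.isIrrCharacter_conjFun H θ.2 x⟩
  left_inv θ := by
    apply Subtype.ext
    have := Cfsg.Agent.Helper15.conjFun_conjFun_inv H x (θ : H → ℂ)
    exact this
  right_inv θ := by
    apply Subtype.ext
    have := Cfsg.Agent.Helper15.conjFun_inv_conjFun H x (θ : H → ℂ)
    exact this

/-- The permutation of the classes of `H` induced by conjugation with `x`. -/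
noncomputable def classConjPerm (x : M) : Equiv.Perm (ConjClasses H) where
  toFun := ConjClasses.map (MulAut.conjNormal x : H ≃* H).toMonoidHom
  invFun := ConjClasses.map (MulAut.conjNormal x⁻¹ : H ≃* H).toMonoidHom
  left_inv c := by
    obtain ⟨a, rfl⟩ := ConjClasses.exists_rep c
    show ConjClasses.mk ((MulAut.conjNormal x⁻¹ : H ≃* H) ((MulAut.conjNormal x : H ≃* H) a)) = _
    congr 1
    apply Subtype.ext
    simp [MulAut.conjNormal_apply, mul_assoc]
  right_inv c := by
    obtain ⟨a, rfl⟩ := ConjClasses.exists_rep c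
    show ConjClasses.mk ((MulAut.conjNormal x : H ≃* H) ((MulAut.conjNormal x⁻¹ : H ≃* H) a)) = _
    congr 1
    apply Subtype.ext
    simp [MulAut.conjNormal_apply, mul_assoc]

theorem classConjPerm_mk (x : M) (a : H) :
    classConjPerm H x (ConjClasses.mk a) =
      ConjClasses.mk (⟨x * a * x⁻¹, hN.conj_mem a a.2 x⟩ : H) := by
  show ConjClasses.mk ((MulAut.conjNormal x : H ≃* H) a) = _
  congr 1

theorem card_fixed_irr_eq_card_fixed_class (x : M) :
    Nat.card {θ : IrrCharacter H // irrConjPerm H x θ = θ} =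
      Nat.card {c : ConjClasses H // classConjPerm H x c = c} := by
  classical
  have hfin := Fintype.ofFinite H
  have hfin2 := Fintype.ofFinite (IrrCharacter H)
  have hfin3 := Fintype.ofFinite (ConjClasses H)
  refine Cfsg.Agent.Helper81.brauer_perm (G := H) (irrConjPerm H x) (classConjPerm H x) ?_
  intro χ g g' hgg'
  rw [classConjPerm_mk, ConjClasses.mk_eq_mk_iff_isConj] at hgg'
  have hcf : IsClassFunction H (Cfsg.Agent.Helper15.conjFun H x⁻¹ (χ : H → ℂ)) :=
    Cfsg.Agent.Helper15.isClassFunction_conjFun H (Cfsg.Agent.Helper79.irr_isClassFunction χ) x⁻¹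
  show Cfsg.Agent.Helper15.conjFun H x⁻¹ (χ : H → ℂ) g' = (χ : H → ℂ) g
  rw [← (Cfsg.Agent.Helper79.isClassFunction_iff_isConj.1 hcf) _ _ hgg',
    Cfsg.Agent.Helper15.conjFun_apply]
  exact congrArg _ (Subtype.ext (by simp [mul_assoc]))

/-- For a normal Hall subgroup `H` of `M` and `x : M`: some non-principal irreducible character
of `H` is `x`-invariant iff `x` centralizes some non-identity element of `H`. -/
theorem fixes_nonprincipal_iff_centralizes (hHall : Nat.Coprime (Nat.card H) H.index) (x : M) :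
    (∃ θ : H → ℂ, IsIrrCharacter H θ ∧ θ ≠ (fun _ => 1) ∧
      (fun h : H => θ ⟨x * h * x⁻¹, hN.conj_mem h h.2 x⟩) = θ) ↔
    ∃ h ∈ H, h ≠ 1 ∧ x * h = h * x := by
  classical
  have hfin := Fintype.ofFinite H
  have hfin2 := Fintype.ofFinite (IrrCharacter H)
  have hfin3 := Fintype.ofFinite (ConjClasses H)
  have hcard := card_fixed_irr_eq_card_fixed_class H x
  -- the trivial fixed points
  have hone_fix : irrConjPerm H x ⟨fun _ => 1, Cfsg.Agent.Helper15.isIrrCharacter_one H⟩ =
      ⟨fun _ => 1, Cfsg.Agent.Helper15.isIrrCharacter_one H⟩ := by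
    apply Subtype.ext
    rfl
  have hcone_fix : classConjPerm H x (ConjClasses.mk (1 : H)) = ConjClasses.mk (1 : H) := by
    rw [classConjPerm_mk]
    congr 1
    apply Subtype.ext
    simp
  have hL : (∃ θ : H → ℂ, IsIrrCharacter H θ ∧ θ ≠ (fun _ => 1) ∧
      (fun h : H => θ ⟨x * h * x⁻¹, hN.conj_mem h h.2 x⟩) = θ) ↔
      1 < Nat.card {θ : IrrCharacter H // irrConjPerm H x θ = θ} := by
    rw [Finite.one_lt_card_iff_nontrivial]
    constructor
    · rintro ⟨θ, hθ, hθ1, hθx⟩
      have hfix : irrConjPerm H x ⟨θ, hθ⟩ = ⟨θ, hθ⟩ := by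
        apply Subtype.ext
        show Cfsg.Agent.Helper15.conjFun H x⁻¹ θ = θ
        have h2 : Cfsg.Agent.Helper15.conjFun H x θ = θ := hθx
        conv_lhs => rw [← h2]
        exact Cfsg.Agent.Helper15.conjFun_inv_conjFun H x θ
      refine ⟨⟨⟨⟨θ, hθ⟩, hfix⟩, ⟨⟨fun _ => 1, Cfsg.Agent.Helper15.isIrrCharacter_one H⟩, hone_fix⟩, ?_⟩⟩
      intro heq
      apply hθ1
      have := congrArg (fun t : {θ : IrrCharacter H // irrConjPerm H x θ = θ} =>
        ((t.1 : IrrCharacter H) : H → ℂ)) heq
      exact this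
    · intro hnt
      obtain ⟨⟨θ, hfix⟩, hne⟩ := exists_ne (⟨⟨fun _ => 1,
        Cfsg.Agent.Helper15.isIrrCharacter_one H⟩, hone_fix⟩ :
          {θ : IrrCharacter H // irrConjPerm H x θ = θ})
      refine ⟨(θ : H → ℂ), θ.2, ?_, ?_⟩
      · intro h0
        apply hne
        apply Subtype.ext
        apply Subtype.ext
        exact h0
      · have h2 : Cfsg.Agent.Helper15.conjFun H x⁻¹ (θ : H → ℂ) = (θ : H → ℂ) :=
          congrArg Subtype.val hfix
        show Cfsg.Agent.Helper15.conjFun H x (θ : H → ℂ) = (θ : H → ℂ)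
        conv_lhs => rw [← h2]
        exact Cfsg.Agent.Helper15.conjFun_conjFun_inv H x _
  have hR : (∃ h ∈ H, h ≠ 1 ∧ x * h = h * x) ↔
      1 < Nat.card {c : ConjClasses H // classConjPerm H x c = c} := by
    rw [Finite.one_lt_card_iff_nontrivial]
    constructor
    · rintro ⟨h, hh, h1, hxh⟩
      have hfix : classConjPerm H x (ConjClasses.mk (⟨h, hh⟩ : H)) = ConjClasses.mk ⟨h, hh⟩ := by
        rw [classConjPerm_mk]
        congr 1
        apply Subtype.ext
        show x * h * x⁻¹ = h
        rw [hxh]; group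
      refine ⟨⟨⟨_, hfix⟩, ⟨_, hcone_fix⟩, ?_⟩⟩
      intro heq
      have h2 : ConjClasses.mk (⟨h, hh⟩ : H) = ConjClasses.mk (1 : H) := congrArg Subtype.val heq
      rw [ConjClasses.mk_eq_mk_iff_isConj, isConj_one_left] at h2
      exact h1 (congrArg Subtype.val h2)
    · intro hnt
      obtain ⟨⟨c, hfix⟩, hne⟩ := exists_ne (⟨ConjClasses.mk (1 : H), hcone_fix⟩ :
          {c : ConjClasses H // classConjPerm H x c = c})
      obtain ⟨a, rfl⟩ := ConjClasses.exists_rep c
      rw [classConjPerm_mk, ConjClasses.mk_eq_mk_iff_isConj, isConj_iff] at hfix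
      obtain ⟨k, hk⟩ := hfix
      have ha1 : (a : M) ≠ 1 := by
        intro h0
        apply hne
        apply Subtype.ext
        show ConjClasses.mk a = ConjClasses.mk 1
        congr 1
        exact Subtype.ext h0
      have hk' : (k : M) * (x * a * x⁻¹) * (k : M)⁻¹ = (a : M) := congrArg Subtype.val hk
      refine exists_centralized_of_coset_centralizes H hHall x a k a.2 k.2 ha1 ?_
      calc (k : M) * x * a = ((k : M) * (x * a * x⁻¹) * (k : M)⁻¹) * ((k : M) * x) := by group
        _ = a * ((k : M) * x) := by rw [hk']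
  rw [hL, hR, hcard]

end chars

end Cfsg.Agent.Helper82
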