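import Cfsg.Agent.Helper82.HallFixed
import Cfsg.Agent.Helper82.CoprimeExt
import Cfsg.Agent.S1512

set_option autoImplicit false

/-!
# Characters of the kernel in a "type P like" configuration (helper82)

`L = K ⋊ W₁`, `W₁` a cyclic Hall subgroup, `C_K(x) = W₂` (cyclic) for all `x ∈ W₁ \ 1`.
-/

namespace Cfsg.Agent.Helper82

open Cfsg

universe u

section irr

variable {G : Type u} [Group G] [Fintype G] {K : Subgroup G} [hK : K.Normal]

/-- If no element outside `K` fixes `τ ∈ Irr K`, then `τ` induces irreducibly. -/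
theorem indFun_isIrr_of_not_fixed {τ : K → ℂ} (hτ : IsIrrCharacter K τ)
    (hfix : ∀ g : G, g ∉ K → Cfsg.Agent.Helper15.conjFun K g τ ≠ τ) :
    IsIrrCharacter G (indFun K τ) := by
  classical
  let _ : Fintype K := Fintype.ofFinite K
  have hcard : (Nat.card K : ℂ) ≠ 0 := by
    have : Nat.card K ≠ 0 := Nat.card_pos.ne'
    exact_mod_cast this
  have hchar : IsCharacter G (indFun K τ) :=
    Cfsg.Agent.Helper15.isCharacter_indFun K (Cfsg.Agent.Helper74.isCharacter_of_isIrr hτ)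
  have hτcf : IsClassFunction K τ := Cfsg.Agent.Helper74.irr_isClassFunction ⟨τ, hτ⟩
  apply Cfsg.Agent.Helper15.isIrrCharacter_of_inner_self_eq_one hchar
  rw [Cfsg.Agent.Helper15.frobenius_reciprocity K τ _ (Cfsg.Agent.Helper15.isClassFunction_indFun K τ),
    Cfsg.Agent.Helper15.indFun_normal_restrict, Cfsg.Agent.Helper15.classInner_smul_right,
    Cfsg.Agent.Helper15.classInner_finset_sum_right]
  have hterm : ∀ g : G, classInner τ (Cfsg.Agent.Helper15.conjFun K g τ) =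
      if g ∈ K then 1 else 0 := by
    intro g
    split_ifs with hg
    · rw [Cfsg.Agent.Helper15.conjFun_of_mem K hτcf hg]
      exact Cfsg.Agent.Helper74.irr_inner_self ⟨τ, hτ⟩
    · have hne : (⟨τ, hτ⟩ : IrrCharacter K)
          ≠ ⟨Cfsg.Agent.Helper15.conjFun K g τ, Cfsg.Agent.Helper15.isIrrCharacter_conjFun K hτ g⟩ := by
        intro heq
        exact hfix g hg (congrArg Subtype.val heq).symm
      exact Cfsg.Agent.Helper74.irr_inner_ne hne
  simp only [hterm]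
  rw [Finset.sum_boole, ← Fintype.card_subtype, ← Nat.card_eq_fintype_card]
  have : (starRingEnd ℂ) (Nat.card K : ℂ)⁻¹ = (Nat.card K : ℂ)⁻¹ := by
    rw [map_inv₀, Complex.conj_natCast]
  rw [this]
  exact inv_mul_cancel₀ hcard

end irr

section glauberman

variable {L : Type u} [Group L] [Finite L]

/-- Glauberman's lemma for a cyclic group, on elements: two `x`-fixed elements of `K` conjugate in
`K` are conjugate by an `x`-fixed element of `K`. -/
theorem exists_fixed_conj (K : Subgroup L) [hK : K.Normal] (x : L)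
    (hcop : Nat.Coprime (orderOf x) (Nat.card K)) (w w' k : L) (hw : w ∈ K)
    (hwx : x * w = w * x) (hw'x : x * w' = w' * x) (hk : k ∈ K) (hkw : k * w * k⁻¹ = w') :
    ∃ u ∈ K, u * x = x * u ∧ u * w * u⁻¹ = w' := by
  -- `H = C_K(w)` is normalized by `x`
  let H : Subgroup L := K ⊓ Subgroup.centralizer ({w} : Set L)
  have hxH : x ∈ Subgroup.normalizer (H : Set L) := by
    rw [Subgroup.mem_normalizer_iff]
    intro h
    have key : ∀ (y h : L), y * w = w * y → h ∈ H → y * h * y⁻¹ ∈ H := by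
      intro y h hy hh
      obtain ⟨h1, h2⟩ := Subgroup.mem_inf.1 hh
      rw [Subgroup.mem_centralizer_singleton_iff] at h2
      refine Subgroup.mem_inf.2 ⟨hK.conj_mem h h1 y, ?_⟩
      rw [Subgroup.mem_centralizer_singleton_iff]
      have hy' : y⁻¹ * w = w * y⁻¹ := (Commute.inv_left (show Commute y w from hy)).eq
      calc y * h * y⁻¹ * w = y * h * (y⁻¹ * w) := by group
        _ = y * h * (w * y⁻¹) := by rw [hy']
        _ = y * (h * w) * y⁻¹ := by group
        _ = y * (w * h) * y⁻¹ := by rw [h2]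
        _ = (y * w) * h * y⁻¹ := by group
        _ = w * (y * h * y⁻¹) := by rw [hy]; group
    constructor
    · intro hh
      exact key x h hwx hh
    · intro hh
      have hx' : x⁻¹ * w = w * x⁻¹ := by
        calc x⁻¹ * w = x⁻¹ * (w * x) * x⁻¹ := by group
          _ = x⁻¹ * (x * w) * x⁻¹ := by rw [hwx]
          _ = w * x⁻¹ := by group
      have := key x⁻¹ (x * h * x⁻¹) hx' hh
      have e : x⁻¹ * (x * h * x⁻¹) * x⁻¹⁻¹ = h := by group
      rwa [e] at this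
  have hcopH : Nat.Coprime (orderOf x) (Nat.card H) :=
    hcop.coprime_dvd_right (Subgroup.card_dvd_of_le inf_le_left)
  -- `h = k⁻¹ (x k x⁻¹) ∈ H`
  have hh : k⁻¹ * (x * k * x⁻¹) ∈ H := by
    refine Subgroup.mem_inf.2 ⟨K.mul_mem (K.inv_mem hk) (hK.conj_mem k hk x), ?_⟩
    rw [Subgroup.mem_centralizer_singleton_iff]
    have h1 : x * k * x⁻¹ * w * (x * k * x⁻¹)⁻¹ = w' := by
      have hx' : x⁻¹ * w = w * x⁻¹ := by
        calc x⁻¹ * w = x⁻¹ * (w * x) * x⁻¹ := by group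
          _ = x⁻¹ * (x * w) * x⁻¹ := by rw [hwx]
          _ = w * x⁻¹ := by group
      calc x * k * x⁻¹ * w * (x * k * x⁻¹)⁻¹ = x * k * (x⁻¹ * w) * x * k⁻¹ * x⁻¹ := by group
        _ = x * k * (w * x⁻¹) * x * k⁻¹ * x⁻¹ := by rw [hx']
        _ = x * (k * w * k⁻¹) * x⁻¹ := by group
        _ = x * w' * x⁻¹ := by rw [hkw]
        _ = w' * x * x⁻¹ := by rw [hw'x]
        _ = w' := by group
    have h2 : x * k * x⁻¹ * w = w' * (x * k * x⁻¹) := by
      rw [← h1]; group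
    have h3 : k⁻¹ * w' = w * k⁻¹ := by
      rw [← hkw]; group
    calc k⁻¹ * (x * k * x⁻¹) * w = k⁻¹ * (x * k * x⁻¹ * w) := by group
      _ = k⁻¹ * (w' * (x * k * x⁻¹)) := by rw [h2]
      _ = (k⁻¹ * w') * (x * k * x⁻¹) := by group
      _ = (w * k⁻¹) * (x * k * x⁻¹) := by rw [h3]
      _ = w * (k⁻¹ * (x * k * x⁻¹)) := by group
  obtain ⟨a, ha, c, hc, hcx, hac⟩ :=
    Cfsg.Agent.Helper25.exists_conj_eq_centralizer_mul (orderOf x) H x rfl hxH hcopH _ hh
  -- `u = k a⁻¹` satisfies `u⁻¹ x u = c x`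
  have hux : (k * a⁻¹)⁻¹ * x * (k * a⁻¹) = c * x := by
    rw [← hac]; group
  -- `c = 1`
  have hco : Nat.Coprime (orderOf x) (orderOf c) :=
    Nat.Coprime.coprime_dvd_right (Subgroup.orderOf_dvd_natCard H hc) hcopH
  obtain ⟨m, hm1, hm0⟩ := Cfsg.Agent.Helper25.exists_modEq_one_zero hco
  have hpow : (x * c) ^ m = x :=
    Cfsg.Agent.Helper25.mul_pow_eq_left_of_modEq (show Commute x c from hcx.symm)
      (pow_orderOf_eq_one x) (pow_orderOf_eq_one c) hm1 hm0
  have hxm : x ^ m = x := by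
    have := pow_eq_pow_of_modEq hm1 (pow_orderOf_eq_one x)
    rwa [pow_one] at this
  have hux2 : (k * a⁻¹)⁻¹ * x * (k * a⁻¹) = x := by
    have h1 : ((k * a⁻¹)⁻¹ * x * (k * a⁻¹)) ^ m = (k * a⁻¹)⁻¹ * x ^ m * (k * a⁻¹) := by
      have := conj_pow (a := (k * a⁻¹)⁻¹) (b := x) (i := m)
      rw [inv_inv] at this
      exact this
    have h2 : ((k * a⁻¹)⁻¹ * x * (k * a⁻¹)) ^ m = x := by
      rw [hux, ← hcx.symm]
      · exact hpow
    rw [h1, hxm] at h2
    exact h2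
  obtain ⟨haK, haw⟩ := Subgroup.mem_inf.1 ha
  rw [Subgroup.mem_centralizer_singleton_iff] at haw
  refine ⟨k * a⁻¹, K.mul_mem hk (K.inv_mem haK), ?_, ?_⟩
  · calc k * a⁻¹ * x = (k * a⁻¹) * ((k * a⁻¹)⁻¹ * x * (k * a⁻¹)) := by rw [hux2]
      _ = x * (k * a⁻¹) := by group
  · have h1 : a⁻¹ * w * a = w := by
      calc a⁻¹ * w * a = a⁻¹ * (w * a) := by group
        _ = a⁻¹ * (a * w) := by rw [haw]
        _ = w := by group
    calc k * a⁻¹ * w * (k * a⁻¹)⁻¹ = k * (a⁻¹ * w * a) * k⁻¹ := by group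
      _ = k * w * k⁻¹ := by rw [h1]
      _ = w' := hkw

end glauberman

section typeP

variable {L : Type u} [Group L] [Fintype L] (K W₁ W₂ : Subgroup L) [hK : K.Normal]

omit [Fintype L] in
theorem exists_mul_of_sup_eq_top (hKW₁' : K ⊔ W₁ = ⊤) (g : L) :
    ∃ k ∈ K, ∃ y ∈ W₁, g = k * y := by
  have h : g ∈ (↑(K ⊔ W₁) : Set L) := by rw [hKW₁']; exact Set.mem_univ g
  rw [Subgroup.normal_mul] at h
  obtain ⟨k, hk, y, hy, rfl⟩ := Set.mem_mul.1 h
  exact ⟨k, hk, y, hy, rfl⟩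

omit [Fintype L] in
theorem card_mul_card_of_compl (hKW₁ : K ⊓ W₁ = ⊥) (hKW₁' : K ⊔ W₁ = ⊤) :
    Nat.card K * Nat.card W₁ = Nat.card L := by
  have hc : Subgroup.IsComplement' K W₁ :=
    Subgroup.isComplement'_of_disjoint_and_mul_eq_univ (disjoint_iff.2 hKW₁)
      (by rw [← Subgroup.normal_mul, hKW₁']; rfl)
  exact hc.card_mul

omit [Fintype L] in
theorem irrConjPerm_eq_iff [Finite L] (x : L) (θ : IrrCharacter K) :
    irrConjPerm K x θ = θ ↔ Cfsg.Agent.Helper15.conjFun K x (θ : K → ℂ) = (θ : K → ℂ) := by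
  have h1 : irrConjPerm K x θ = θ ↔
      Cfsg.Agent.Helper15.conjFun K x⁻¹ (θ : K → ℂ) = (θ : K → ℂ) := by
    constructor
    · intro h; exact congrArg Subtype.val h
    · intro h; exact Subtype.ext h
  rw [h1, ← Cfsg.Agent.Helper15.mem_inertia, ← Cfsg.Agent.Helper15.mem_inertia, inv_mem_iff]

variable {K W₁ W₂}

omit [Fintype L] in
theorem card_fixed_class_eq_card [Finite L] (hcopK : Nat.Coprime (Nat.card W₁) (Nat.card K))
    (hW₂K : W₂ ≤ K) (hW₂c : IsCyclic W₂)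
    (hC : ∀ x ∈ W₁, x ≠ 1 → K ⊓ Subgroup.centralizer ({x} : Set L) = W₂)
    (x : L) (hx : x ∈ W₁) (hx1 : x ≠ 1) :
    Nat.card {c : ConjClasses K // classConjPerm K x c = c} = Nat.card W₂ := by
  have hox : Nat.Coprime (orderOf x) (Nat.card K) :=
    hcopK.coprime_dvd_left (Subgroup.orderOf_dvd_natCard W₁ hx)
  have hzp : Subgroup.zpowers x ≤ W₁ := by
    rw [Subgroup.zpowers_le]; exact hx
  have hcomm : ∀ w ∈ W₂, x * w = w * x := by
    intro w hw
    rw [← hC x hx hx1] at hw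
    have := (Subgroup.mem_inf.1 hw).2
    rw [Subgroup.mem_centralizer_singleton_iff] at this
    exact this.symm
  apply le_antisymm
  · have h := Cfsg.Agent.S1512.result K W₂ x hx1 hox (fun y hy hy1 => hC y (hzp hy) hy1)
    exact h
  · have hfix : ∀ w : W₂, classConjPerm K x (ConjClasses.mk (⟨(w : L), hW₂K w.2⟩ : K)) =
        ConjClasses.mk (⟨(w : L), hW₂K w.2⟩ : K) := by
      intro w
      rw [classConjPerm_mk]
      congr 1
      apply Subtype.ext
      show x * (w : L) * x⁻¹ = (w : L)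
      rw [hcomm w w.2]; group
    let F : W₂ → {c : ConjClasses K // classConjPerm K x c = c} := fun w => ⟨_, hfix w⟩
    have hF : Function.Injective F := by
      intro w w' hww
      have h1 : ConjClasses.mk (⟨(w : L), hW₂K w.2⟩ : K) = ConjClasses.mk (⟨(w' : L), hW₂K w'.2⟩ : K) :=
        congrArg Subtype.val hww
      rw [ConjClasses.mk_eq_mk_iff_isConj, isConj_iff] at h1
      obtain ⟨k, hk⟩ := h1
      have hk' : (k : L) * (w : L) * (k : L)⁻¹ = (w' : L) := congrArg Subtype.val hk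
      obtain ⟨u, huK, hux, huw⟩ := exists_fixed_conj K x hox (w : L) (w' : L) (k : L) (hW₂K w.2)
        (hcomm w w.2) (hcomm w' w'.2) k.2 hk'
      have huW₂ : u ∈ W₂ := by
        rw [← hC x hx hx1]
        refine Subgroup.mem_inf.2 ⟨huK, ?_⟩
        rw [Subgroup.mem_centralizer_singleton_iff]
        exact hux
      have hcm : (⟨u, huW₂⟩ : W₂) * w = w * ⟨u, huW₂⟩ := by
        letI := IsCyclic.commGroup (α := W₂)
        exact mul_comm _ _
      have hcm' : u * (w : L) = (w : L) * u := congrArg Subtype.val hcm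
      apply Subtype.ext
      rw [← huw, hcm']; group
    exact Nat.card_le_card_of_injective F hF

omit [Fintype L] in
theorem card_fixed_irr_eq_card [Finite L] (hcopK : Nat.Coprime (Nat.card W₁) (Nat.card K))
    (hW₂K : W₂ ≤ K) (hW₂c : IsCyclic W₂)
    (hC : ∀ x ∈ W₁, x ≠ 1 → K ⊓ Subgroup.centralizer ({x} : Set L) = W₂)
    (x : L) (hx : x ∈ W₁) (hx1 : x ≠ 1) :
    Nat.card {θ : IrrCharacter K // irrConjPerm K x θ = θ} = Nat.card W₂ := by
  rw [card_fixed_irr_eq_card_fixed_class K x]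
  exact card_fixed_class_eq_card hcopK hW₂K hW₂c hC x hx hx1

omit [Fintype L] in
/-- A character of `K` fixed by one nonidentity element of `W₁` is fixed by all of `W₁`. -/
theorem fixed_by_all_of_fixed_by_one [Finite L] (hW₁c : IsCyclic W₁) (hW₁ : W₁ ≠ ⊥)
    (hcopK : Nat.Coprime (Nat.card W₁) (Nat.card K))
    (hW₂K : W₂ ≤ K) (hW₂c : IsCyclic W₂)
    (hC : ∀ x ∈ W₁, x ≠ 1 → K ⊓ Subgroup.centralizer ({x} : Set L) = W₂)
    (x : L) (hx : x ∈ W₁) (hx1 : x ≠ 1) (θ : IrrCharacter K)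
    (hθ : Cfsg.Agent.Helper15.conjFun K x (θ : K → ℂ) = (θ : K → ℂ)) :
    ∀ y ∈ W₁, Cfsg.Agent.Helper15.conjFun K y (θ : K → ℂ) = (θ : K → ℂ) := by
  classical
  obtain ⟨g₀, hg₀⟩ := hW₁c.exists_generator
  have hx₀1 : (g₀ : L) ≠ 1 := by
    intro h
    apply hW₁
    rw [eq_bot_iff]
    intro y hy
    obtain ⟨n, hn⟩ := Subgroup.mem_zpowers_iff.1 (hg₀ ⟨y, hy⟩)
    have : (y : L) = (g₀ : L) ^ n := by
      have := congrArg Subtype.val hn
      simpa using this.symm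
    rw [Subgroup.mem_bot, this, h, one_zpow]
  have hmem : ∀ y ∈ W₁, y ∈ Subgroup.zpowers (g₀ : L) := by
    intro y hy
    obtain ⟨n, hn⟩ := Subgroup.mem_zpowers_iff.1 (hg₀ ⟨y, hy⟩)
    rw [Subgroup.mem_zpowers_iff]
    refine ⟨n, ?_⟩
    have := congrArg Subtype.val hn
    simpa using this
  let S₀ : Set (IrrCharacter K) := {ψ | irrConjPerm K (g₀ : L) ψ = ψ}
  let Sx : Set (IrrCharacter K) := {ψ | irrConjPerm K x ψ = ψ}
  have hfin : Finite (IrrCharacter K) := by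
    have := Fintype.ofFinite K
    have := Cfsg.Agent.Helper74.irrFintype K
    exact Finite.of_fintype _
  have hsub : S₀ ⊆ Sx := by
    intro ψ hψ
    have h1 : (g₀ : L) ∈ Cfsg.Agent.Helper15.inertia K (ψ : K → ℂ) :=
      (Cfsg.Agent.Helper15.mem_inertia K _ _).2 ((irrConjPerm_eq_iff K _ ψ).1 hψ)
    have h2 : Subgroup.zpowers (g₀ : L) ≤ Cfsg.Agent.Helper15.inertia K (ψ : K → ℂ) := by
      rw [Subgroup.zpowers_le]; exact h1
    exact (irrConjPerm_eq_iff K x ψ).2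
      ((Cfsg.Agent.Helper15.mem_inertia K _ _).1 (h2 (hmem x hx)))
  have hc0 : S₀.ncard = Nat.card W₂ := by
    rw [← Nat.card_coe_set_eq]
    exact card_fixed_irr_eq_card hcopK hW₂K hW₂c hC (g₀ : L) g₀.2 hx₀1
  have hcx : Sx.ncard = Nat.card W₂ := by
    rw [← Nat.card_coe_set_eq]
    exact card_fixed_irr_eq_card hcopK hW₂K hW₂c hC x hx hx1
  have heq : S₀ = Sx := Set.eq_of_subset_of_ncard_le hsub (by rw [hc0, hcx]) (Set.toFinite _)
  have hθ0 : θ ∈ S₀ := by
    rw [heq]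
    exact (irrConjPerm_eq_iff K x θ).2 hθ
  have h1 : (g₀ : L) ∈ Cfsg.Agent.Helper15.inertia K (θ : K → ℂ) :=
    (Cfsg.Agent.Helper15.mem_inertia K _ _).2 ((irrConjPerm_eq_iff K _ θ).1 hθ0)
  have h2 : Subgroup.zpowers (g₀ : L) ≤ Cfsg.Agent.Helper15.inertia K (θ : K → ℂ) := by
    rw [Subgroup.zpowers_le]; exact h1
  intro y hy
  exact (Cfsg.Agent.Helper15.mem_inertia K _ _).1 (h2 (hmem y hy))

/-- The main theorem on characters of the kernel. -/
theorem typeP_kernel_characters (hKW₁ : K ⊓ W₁ = ⊥) (hKW₁' : K ⊔ W₁ = ⊤) (hW₁ : W₁ ≠ ⊥)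
    (hW₁c : IsCyclic W₁) (hHall : Nat.Coprime (Nat.card W₁) W₁.index)
    (hW₂c : IsCyclic W₂) (hW₂K : W₂ ≤ K)
    (hC : ∀ x ∈ W₁, x ≠ 1 → K ⊓ Subgroup.centralizer ({x} : Set L) = W₂) :
    (∀ θ : K → ℂ, IsIrrCharacter K θ →
      (∃ x ∈ W₁, (fun k : K => θ ⟨x * k * x⁻¹, hK.conj_mem (k : L) k.2 x⟩) ≠ θ) →
      IsIrrCharacter L (indFun K θ)) ∧
    Nat.card {θ : IrrCharacter K // ∀ x ∈ W₁,
      (fun k : K => (θ : K → ℂ) ⟨x * k * x⁻¹, hK.conj_mem (k : L) k.2 x⟩) = θ} = Nat.card W₂ ∧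
    (∀ θ : K → ℂ, IsIrrCharacter K θ →
      (∀ x ∈ W₁, (fun k : K => θ ⟨x * k * x⁻¹, hK.conj_mem (k : L) k.2 x⟩) = θ) →
      ∃ C : Finset (L → ℂ), C.card = Nat.card W₁ ∧ (∀ μ ∈ C, IsIrrCharacter L μ) ∧
        indFun K θ = ∑ μ ∈ C, μ) := by
  classical
  have hcard := card_mul_card_of_compl K W₁ hKW₁ hKW₁'
  have hidx : W₁.index = Nat.card K := by
    have h1 : W₁.index * Nat.card W₁ = Nat.card L := Subgroup.index_mul_card W₁
    have h2 : W₁.index * Nat.card W₁ = Nat.card K * Nat.card W₁ := by rw [h1, hcard]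
    exact Nat.eq_of_mul_eq_mul_right Nat.card_pos h2
  have hKidx : K.index = Nat.card W₁ := by
    have h1 : K.index * Nat.card K = Nat.card L := Subgroup.index_mul_card K
    have h2 : K.index * Nat.card K = Nat.card W₁ * Nat.card K := by rw [h1, ← hcard, mul_comm]
    exact Nat.eq_of_mul_eq_mul_right Nat.card_pos h2
  have hcopK : Nat.Coprime (Nat.card W₁) (Nat.card K) := by rw [← hidx]; exact hHall
  refine ⟨?_, ?_, ?_⟩
  · intro θ hθ hex
    apply indFun_isIrr_of_not_fixed hθ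
    intro g hg hfix
    obtain ⟨k, hk, y, hy, rfl⟩ := exists_mul_of_sup_eq_top K W₁ hKW₁' g
    have hy1 : y ≠ 1 := by
      intro h
      apply hg
      rw [h, mul_one]; exact hk
    have hθcf : IsClassFunction K θ := Cfsg.Agent.Helper74.irr_isClassFunction ⟨θ, hθ⟩
    have hyfix : Cfsg.Agent.Helper15.conjFun K y θ = θ := by
      rw [Cfsg.Agent.Helper15.conjFun_mul, Cfsg.Agent.Helper15.conjFun_of_mem K hθcf hk] at hfix
      exact hfix
    have hall := fixed_by_all_of_fixed_by_one hW₁c hW₁ hcopK hW₂K hW₂c hC y hy hy1 ⟨θ, hθ⟩ hyfix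
    obtain ⟨x, hx, hxne⟩ := hex
    exact hxne (hall x hx)
  · obtain ⟨g₀, hg₀⟩ := hW₁c.exists_generator
    have hx₀1 : (g₀ : L) ≠ 1 := by
      intro h
      apply hW₁
      rw [eq_bot_iff]
      intro y hy
      obtain ⟨n, hn⟩ := Subgroup.mem_zpowers_iff.1 (hg₀ ⟨y, hy⟩)
      have : (y : L) = (g₀ : L) ^ n := by
        have := congrArg Subtype.val hn
        simpa using this.symm
      rw [Subgroup.mem_bot, this, h, one_zpow]
    rw [← card_fixed_irr_eq_card hcopK hW₂K hW₂c hC (g₀ : L) g₀.2 hx₀1]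
    apply Nat.card_congr
    apply Equiv.subtypeEquivRight
    intro θ
    constructor
    · intro h
      exact (irrConjPerm_eq_iff K _ θ).2 (h (g₀ : L) g₀.2)
    · intro h y hy
      exact fixed_by_all_of_fixed_by_one hW₁c hW₁ hcopK hW₂K hW₂c hC (g₀ : L) g₀.2 hx₀1 θ
        ((irrConjPerm_eq_iff K _ θ).1 h) y hy
  · intro θ hθ hall
    have hθcf : IsClassFunction K θ := Cfsg.Agent.Helper74.irr_isClassFunction ⟨θ, hθ⟩
    have hinv : ∀ t : L, Cfsg.Agent.Helper15.conjFun K t θ = θ := by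
      intro t
      obtain ⟨k, hk, y, hy, rfl⟩ := exists_mul_of_sup_eq_top K W₁ hKW₁' t
      rw [Cfsg.Agent.Helper15.conjFun_mul, Cfsg.Agent.Helper15.conjFun_of_mem K hθcf hk]
      exact hall y hy
    have hab : ∀ a b : L, a * b * a⁻¹ * b⁻¹ ∈ K := by
      intro a b
      obtain ⟨k₁, hk₁, y₁, hy₁, rfl⟩ := exists_mul_of_sup_eq_top K W₁ hKW₁' a
      obtain ⟨k₂, hk₂, y₂, hy₂, rfl⟩ := exists_mul_of_sup_eq_top K W₁ hKW₁' b
      have hcm : y₁ * y₂ = y₂ * y₁ := by
        have : (⟨y₁, hy₁⟩ : W₁) * ⟨y₂, hy₂⟩ = ⟨y₂, hy₂⟩ * ⟨y₁, hy₁⟩ := by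
          letI := IsCyclic.commGroup (α := W₁)
          exact mul_comm _ _
        exact congrArg Subtype.val this
      rw [← QuotientGroup.eq_one_iff]
      have e1 : ((k₁ : L) : L ⧸ K) = 1 := (QuotientGroup.eq_one_iff _).2 hk₁
      have e2 : ((k₂ : L) : L ⧸ K) = 1 := (QuotientGroup.eq_one_iff _).2 hk₂
      simp only [QuotientGroup.mk_mul, QuotientGroup.mk_inv, e1, e2, one_mul, inv_one]
      rw [← QuotientGroup.mk_mul, hcm, QuotientGroup.mk_mul]
      group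
    have hcop : Nat.Coprime (Nat.card K) K.index := by rw [hKidx]; exact hcopK.symm
    obtain ⟨C, hCirr, -, hCcard, hdec, -⟩ := abelian_inertia_coprime K hθ hinv hab hcop
    exact ⟨C, by rw [hCcard, hKidx], hCirr, hdec⟩

end typeP

end Cfsg.Agent.Helper82
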