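import Mathlib
import Cfsg.Prelude.Def_Blocks
import Cfsg.Agent.Helper74.CharCount
import Cfsg.Agent.Helper82.HallFixed
import Cfsg.Agent.Helper82.TypePKernel
import Cfsg.Agent.Helper82.CosetFiber

/-!
# Counting fixed classes and fixed characters under a coprime element (helper82)

`G ⊴ Γ`, `s : Γ` of order coprime to `|G|`, `C = C_G(s)`:
`#{θ ∈ Irr G : θ^s = θ} = #{s-fixed classes of G} = #classes of C = #Irr C`.
-/

set_option autoImplicit false
set_option linter.unusedSectionVars false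

namespace Cfsg.Agent.Helper82

open Cfsg

universe u

section

variable {Γ : Type u} [Group Γ] [Finite Γ] (G : Subgroup Γ) [hG : G.Normal] (s : Γ)
  (C : Subgroup Γ)

/-- The number of `s`-fixed classes of `G` is the number of classes of `C = C_G(s)`. -/
theorem card_fixed_class_eq_card_class
    (hC : ∀ x : Γ, x ∈ C ↔ x ∈ G ∧ x * s = s * x)
    (hcop : (orderOf s).Coprime (Nat.card G)) :
    Nat.card {c : ConjClasses G // classConjPerm G s c = c} = Nat.card (ConjClasses C) := by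
  classical
  have hCG : ∀ c : C, (c : Γ) ∈ G := fun c => ((hC c).mp c.2).1
  have hCs : ∀ c : C, (c : Γ) * s = s * (c : Γ) := fun c => ((hC c).mp c.2).2
  let ι : C →* G :=
    { toFun := fun c => ⟨(c : Γ), hCG c⟩
      map_one' := rfl
      map_mul' := fun _ _ => rfl }
  have hfix : ∀ K : ConjClasses C, classConjPerm G s (ConjClasses.map ι K) = ConjClasses.map ι K := by
    intro K
    obtain ⟨c, rfl⟩ := ConjClasses.exists_rep K
    show classConjPerm G s (ConjClasses.mk (ι c)) = ConjClasses.mk (ι c)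
    rw [classConjPerm_mk]
    congr 1
    apply Subtype.ext
    show s * (c : Γ) * s⁻¹ = (c : Γ)
    rw [← hCs c]; group
  symm
  refine Nat.card_congr (Equiv.ofBijective
    (fun K : ConjClasses C => (⟨ConjClasses.map ι K, hfix K⟩ :
      {c : ConjClasses G // classConjPerm G s c = c})) ⟨?_, ?_⟩)
  · intro K K' h
    obtain ⟨c, rfl⟩ := ConjClasses.exists_rep K
    obtain ⟨c', rfl⟩ := ConjClasses.exists_rep K'
    have h1 : ConjClasses.mk (ι c) = ConjClasses.mk (ι c') := congrArg Subtype.val h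
    rw [ConjClasses.mk_eq_mk_iff_isConj, isConj_iff] at h1
    obtain ⟨k, hk⟩ := h1
    have hk' : (k : Γ) * (c : Γ) * (k : Γ)⁻¹ = (c' : Γ) := congrArg Subtype.val hk
    obtain ⟨u, huG, hus, huc⟩ := exists_fixed_conj G s hcop (c : Γ) (c' : Γ) (k : Γ) (hCG c)
      (hCs c).symm (hCs c').symm k.2 hk'
    have huC : u ∈ C := (hC u).mpr ⟨huG, hus⟩
    rw [ConjClasses.mk_eq_mk_iff_isConj, isConj_iff]
    exact ⟨⟨u, huC⟩, Subtype.ext huc⟩
  · rintro ⟨K, hK⟩
    obtain ⟨w, rfl⟩ := ConjClasses.exists_rep K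
    rw [classConjPerm_mk, ConjClasses.mk_eq_mk_iff_isConj, isConj_iff] at hK
    obtain ⟨k, hk⟩ := hK
    have hk' : (k : Γ) * (s * (w : Γ) * s⁻¹) * (k : Γ)⁻¹ = (w : Γ) := congrArg Subtype.val hk
    -- `k s` centralizes `w`
    have hks : ((k : Γ) * s) * (w : Γ) * ((k : Γ) * s)⁻¹ = (w : Γ) := by
      calc ((k : Γ) * s) * (w : Γ) * ((k : Γ) * s)⁻¹
          = (k : Γ) * (s * (w : Γ) * s⁻¹) * (k : Γ)⁻¹ := by group
        _ = (w : Γ) := hk'
    have hsG : s ∈ Subgroup.normalizer (G : Set Γ) := by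
      rw [Subgroup.normalizer_eq_top]; trivial
    obtain ⟨x, hx, c, hc, hcs, hconj⟩ :=
      Helper25.exists_conj_eq_centralizer_mul (orderOf s) G s rfl hsG hcop (k : Γ) k.2
    -- `c s` centralizes `w' = x w x⁻¹`
    have hcw : (c * s) * (x * (w : Γ) * x⁻¹) * (c * s)⁻¹ = x * (w : Γ) * x⁻¹ := by
      rw [← hconj]
      calc x * ((k : Γ) * s) * x⁻¹ * (x * (w : Γ) * x⁻¹) * (x * ((k : Γ) * s) * x⁻¹)⁻¹
          = x * (((k : Γ) * s) * (w : Γ) * ((k : Γ) * s)⁻¹) * x⁻¹ := by group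
        _ = x * (w : Γ) * x⁻¹ := by rw [hks]
    obtain ⟨a, b, hab⟩ := exists_pow_split G s hcop
    have hb := (hab c hc hcs).2
    have hpow : ∀ j : ℕ, (c * s) ^ j * (x * (w : Γ) * x⁻¹) * ((c * s) ^ j)⁻¹ = x * (w : Γ) * x⁻¹ := by
      intro j
      induction j with
      | zero => simp
      | succ j ih =>
        calc (c * s) ^ (j + 1) * (x * (w : Γ) * x⁻¹) * ((c * s) ^ (j + 1))⁻¹
            = (c * s) ^ j * ((c * s) * (x * (w : Γ) * x⁻¹) * (c * s)⁻¹) * ((c * s) ^ j)⁻¹ := by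
              rw [pow_succ]; group
          _ = x * (w : Γ) * x⁻¹ := by rw [hcw, ih]
    have hsw := hpow b
    rw [hb] at hsw
    have hw'G : x * (w : Γ) * x⁻¹ ∈ G := hG.conj_mem _ w.2 x
    have hw'C : x * (w : Γ) * x⁻¹ ∈ C := by
      refine (hC _).mpr ⟨hw'G, ?_⟩
      calc x * (w : Γ) * x⁻¹ * s = (s * (x * (w : Γ) * x⁻¹) * s⁻¹) * s := by rw [hsw]
        _ = s * (x * (w : Γ) * x⁻¹) := by group
    refine ⟨ConjClasses.mk ⟨x * (w : Γ) * x⁻¹, hw'C⟩, ?_⟩
    apply Subtype.ext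
    show ConjClasses.mk (ι ⟨x * (w : Γ) * x⁻¹, hw'C⟩) = ConjClasses.mk w
    rw [ConjClasses.mk_eq_mk_iff_isConj, isConj_comm, isConj_iff]
    exact ⟨⟨x, hx⟩, Subtype.ext rfl⟩

/-- The number of `s`-fixed irreducible characters of `G` is the number of irreducible characters
of `C = C_G(s)`. -/
theorem card_fixed_irr_eq_card_irr
    (hC : ∀ x : Γ, x ∈ C ↔ x ∈ G ∧ x * s = s * x)
    (hcop : (orderOf s).Coprime (Nat.card G)) :
    Nat.card {θ : IrrCharacter G // irrConjPerm G s θ = θ} = Nat.card (IrrCharacter C) := by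
  rw [card_fixed_irr_eq_card_fixed_class G s, card_fixed_class_eq_card_class G s C hC hcop,
    Helper74.card_irr_eq_card_conjClasses]

end

end Cfsg.Agent.Helper82
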