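import Mathlib
import Cfsg.Prelude.Def_Blocks
import Cfsg.Prelude.Def_CharExt
import Cfsg.Agent.Helper82.CyclicGlauberman
import Cfsg.Agent.Helper82.FixedClassCount

/-!
# Set-up lemmas for the cyclic Glauberman correspondence (helper82)

`Γ = G S`, `S` cyclic, `(|G|, |S|) = 1`, `S` normalizing `G`.
-/

set_option autoImplicit false
set_option linter.unusedSectionVars false

namespace Cfsg.Agent.Helper82

open Cfsg
open scoped ComplexConjugate

universe u

section

variable {Γ : Type u} [Group Γ] [Finite Γ] (G S : Subgroup Γ)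

theorem normal_of_normalizes_of_sup_eq_top (hnorm : ∀ s ∈ S, ∀ g ∈ G, s * g * s⁻¹ ∈ G)
    (htop : G ⊔ S = ⊤) : G.Normal := by
  rw [← Subgroup.normalizer_eq_top_iff, eq_top_iff, ← htop]
  apply sup_le Subgroup.le_normalizer
  intro s hs
  rw [Subgroup.mem_normalizer_iff]
  intro g
  constructor
  · exact hnorm s hs g
  · intro h
    have := hnorm s⁻¹ (S.inv_mem hs) _ h
    have e : s⁻¹ * (s * g * s⁻¹) * s⁻¹⁻¹ = g := by group
    rwa [e] at this

theorem index_eq_card_of_coprime [hG : G.Normal] (hcop : (Nat.card G).Coprime (Nat.card S))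
    (htop : G ⊔ S = ⊤) : G.index = Nat.card S := by
  have := Fintype.ofFinite Γ
  have hbot : G ⊓ S = ⊥ := Subgroup.inf_eq_bot_of_coprime hcop
  have h1 := card_mul_card_of_compl G S hbot htop
  have h2 := Subgroup.index_mul_card G
  have hpos : 0 < Nat.card G := Nat.card_pos
  have : G.index * Nat.card G = Nat.card S * Nat.card G := by rw [h2, ← h1, mul_comm]
  exact Nat.eq_of_mul_eq_mul_right hpos this

theorem quotient_comm_of_sup_cyclic [hG : G.Normal] (htop : G ⊔ S = ⊤) (hcyc : IsCyclic S)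
    (a b : Γ ⧸ G) : a * b = b * a := by
  obtain ⟨x, rfl⟩ := QuotientGroup.mk_surjective a
  obtain ⟨y, rfl⟩ := QuotientGroup.mk_surjective b
  obtain ⟨g, hg, t, ht, rfl⟩ := exists_mul_of_sup_eq_top G S htop x
  obtain ⟨g', hg', t', ht', rfl⟩ := exists_mul_of_sup_eq_top G S htop y
  have h1 : ((g * t : Γ) : Γ ⧸ G) = (t : Γ ⧸ G) := by
    rw [QuotientGroup.mk_mul, (QuotientGroup.eq_one_iff g).mpr hg, one_mul]
  have h2 : ((g' * t' : Γ) : Γ ⧸ G) = (t' : Γ ⧸ G) := by
    rw [QuotientGroup.mk_mul, (QuotientGroup.eq_one_iff g').mpr hg', one_mul]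
  rw [h1, h2, ← QuotientGroup.mk_mul, ← QuotientGroup.mk_mul]
  congr 1
  letI := IsCyclic.commGroup (α := S)
  have : (⟨t, ht⟩ : S) * ⟨t', ht'⟩ = ⟨t', ht'⟩ * ⟨t, ht⟩ := mul_comm _ _
  exact congrArg Subtype.val this

theorem mem_inf_centralizer_zpowers_iff (s : Γ) (x : Γ) :
    x ∈ G ⊓ Subgroup.centralizer ((Subgroup.zpowers s : Subgroup Γ) : Set Γ) ↔
      x ∈ G ∧ x * s = s * x := by
  rw [Subgroup.mem_inf, Subgroup.mem_centralizer_iff]
  constructor
  · rintro ⟨hx, h⟩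
    exact ⟨hx, (h s (Subgroup.mem_zpowers s)).symm⟩
  · rintro ⟨hx, h⟩
    refine ⟨hx, fun t ht => ?_⟩
    obtain ⟨j, rfl⟩ := Subgroup.mem_zpowers_iff.mp ht
    exact ((show Commute x s from h).zpow_right j).eq.symm

/-- Two generators of the same cyclic subgroup are coprime powers of each other. -/
theorem exists_coprime_pow_of_zpowers_eq {s s₀ : Γ}
    (h : Subgroup.zpowers s = Subgroup.zpowers s₀) :
    ∃ k : ℕ, k.Coprime (orderOf s₀) ∧ s = s₀ ^ k := by
  have hs : s ∈ Subgroup.zpowers s₀ := by rw [← h]; exact Subgroup.mem_zpowers s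
  rw [← mem_powers_iff_mem_zpowers] at hs
  obtain ⟨k, hk⟩ := hs
  refine ⟨k, ?_, hk.symm⟩
  have ho : orderOf s = orderOf s₀ := by
    rw [← Nat.card_zpowers, ← Nat.card_zpowers, h]
  rw [← hk, orderOf_pow] at ho
  have hpos : 0 < orderOf s₀ := orderOf_pos s₀
  have hg : (orderOf s₀).gcd k = 1 := by
    have hd : (orderOf s₀).gcd k ∣ orderOf s₀ := Nat.gcd_dvd_left _ _
    have hgpos : 0 < (orderOf s₀).gcd k := Nat.gcd_pos_of_pos_left _ hpos
    have := Nat.div_eq_self.mp ho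
    rcases this with h0 | h1
    · omega
    · exact h1
  rw [Nat.coprime_comm]
  exact hg

end

section

variable {Γ : Type u} [Group Γ] [Fintype Γ] (G : Subgroup Γ) [hG : G.Normal] [Fintype G]

/-- Invariance under a subgroup `S` with `G S = Γ` gives invariance under `Γ`. -/
theorem invariant_of_sup_eq_top (S : Subgroup Γ) (htop : G ⊔ S = ⊤) {χ : G → ℂ}
    (hχ : IsClassFunction G χ)
    (hS : ∀ s ∈ S, ∀ g g' : G, (g' : Γ) = s * g * s⁻¹ → χ g' = χ g) (x : Γ) (g : G) :
    χ ⟨x * g * x⁻¹, hG.conj_mem (g : Γ) g.2 x⟩ = χ g := by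
  have h1 : G ≤ Helper15.inertia G χ := Helper15.le_inertia G hχ
  have h2 : S ≤ Helper15.inertia G χ := by
    intro t ht
    rw [Helper15.mem_inertia_iff]
    intro n
    exact hS t ht n _ rfl
  have h3 : x ∈ Helper15.inertia G χ := by
    have : (⊤ : Subgroup Γ) ≤ Helper15.inertia G χ := by
      rw [← htop]; exact sup_le h1 h2
    exact this (Subgroup.mem_top x)
  exact (Helper15.mem_inertia_iff G χ x).mp h3 g

/-- A character fixed by `irrConjPerm G s` with `G ⟨s⟩ = Γ` is `Γ`-invariant. -/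
theorem invariant_of_irrConjPerm_eq (s : Γ) (htop : G ⊔ Subgroup.zpowers s = ⊤)
    (θ : IrrCharacter G) (hθ : irrConjPerm G s θ = θ) (x : Γ) (g : G) :
    (θ : G → ℂ) ⟨x * g * x⁻¹, hG.conj_mem (g : Γ) g.2 x⟩ = (θ : G → ℂ) g := by
  have h1 : G ≤ Helper15.inertia G (θ : G → ℂ) :=
    Helper15.le_inertia G (Helper79.irr_isClassFunction θ)
  have h2 : s ∈ Helper15.inertia G (θ : G → ℂ) := by
    rw [Helper15.mem_inertia]
    exact (irrConjPerm_eq_iff G s θ).mp hθ
  have h3 : x ∈ Helper15.inertia G (θ : G → ℂ) := by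
    have : (⊤ : Subgroup Γ) ≤ Helper15.inertia G (θ : G → ℂ) := by
      rw [← htop]
      exact sup_le h1 (by rw [Subgroup.zpowers_le]; exact h2)
    exact this (Subgroup.mem_top x)
  exact (Helper15.mem_inertia_iff G _ x).mp h3 g

/-- Conversely a `Γ`-invariant character is fixed by `irrConjPerm G s`. -/
theorem irrConjPerm_eq_of_invariant (s : Γ) (θ : IrrCharacter G)
    (hinv : ∀ (x : Γ) (g : G), (θ : G → ℂ) ⟨x * g * x⁻¹, hG.conj_mem (g : Γ) g.2 x⟩ =
      (θ : G → ℂ) g) : irrConjPerm G s θ = θ := by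
  rw [irrConjPerm_eq_iff]
  funext g
  rw [Helper15.conjFun_apply]
  exact hinv s g

/-- Existence of the canonical extension (from `S0867`). -/
theorem exists_isCanonicalExt (hcop : Nat.Coprime G.index (Nat.card G)) {χ : G → ℂ}
    (hχ : IsIrrCharacter G χ)
    (hinv : ∀ (x : Γ) (g : G), χ ⟨x * g * x⁻¹, hG.conj_mem (g : Γ) g.2 x⟩ = χ g) :
    ∃ χh : Γ → ℂ, IsCanonicalExt G χ χh := by
  have hχc := Helper74.isCharacter_of_isIrr hχ
  have hd : χ 1 = (charDegree χ : ℂ) := (Helper80.IsCharacter.charDegree_cast hχc).symm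
  have hdd : charDegree χ ∣ Nat.card G := Helper80.IsIrrCharacter.charDegree_dvd_card hχ
  have hcop' : Nat.Coprime G.index (detOrder χ * charDegree χ) :=
    Nat.Coprime.mul_right (hcop.coprime_dvd_right (detOrder_dvd_card hχc))
      (hcop.coprime_dvd_right hdd)
  obtain ⟨χ₀, ⟨h1, h2, h3⟩, -⟩ := Cfsg.Agent.S0867.result G χ hχ hinv (charDegree χ) hd hcop'
  refine ⟨χ₀, ⟨hχ, hinv, h1, h2, ?_⟩⟩
  rw [h3]
  exact hcop.coprime_dvd_right (detOrder_dvd_card hχc)

end

end Cfsg.Agent.Helper82
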