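import Mathlib
import Cfsg.Agent.Helper74.FongGT

/-!
# Fong reduction group theory with a characteristic-`p` hypothesis (helper82)

Copy of `Helper74.exists_normal_pGroup_centralizer` (helper74) with the hypotheses
"`K` is `p`-solvable with `O_{p'}(K) = 1`" replaced by their only consequence used there:
`C_K(O_p(K)) ≤ O_p(K)`.
-/

set_option autoImplicit false

namespace Cfsg.Agent.Helper82

open Cfsg Cfsg.Agent.Helper74

section
variable {H K : Type*} [Group H] [Finite H] [Group K] [Finite K] {p : ℕ} [hp : Fact p.Prime]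

theorem exists_normal_pGroup_centralizer_charp (f : H →* K) (hf : Function.Surjective f)
    (hZc : f.ker ≤ Subgroup.center H) (hHH : Subgroup.centralizer (pCore p K : Set K) ≤ pCore p K) :
    ∃ S : Subgroup H, S.Normal ∧ IsPGroup p S ∧
      ∀ h ∈ Subgroup.centralizer (S : Set H), ¬ p ∣ orderOf h → h ∈ f.ker := by
  classical
  have hOc : (pCore p K).Characteristic := Cfsg.Agent.Lib.pCore_characteristic p
  have hOn : (pCore p K).Normal := inferInstance
  have hOp : IsPGroup p (pCore p K) := Cfsg.Agent.Lib.isPGroup_pCore p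
  -- the preimage `R` of `O_p(K)`
  have hRn : ((pCore p K).comap f).Normal := hOn.comap f
  have hker : (f.subgroupComap (pCore p K)).ker ≤ Subgroup.center ((pCore p K).comap f) := by
    intro x hx
    rw [MonoidHom.mem_ker] at hx
    have hx1 : f (x : H) = 1 := congrArg Subtype.val hx
    have hxZ : (x : H) ∈ Subgroup.center H := hZc (MonoidHom.mem_ker.mpr hx1)
    rw [Subgroup.mem_center_iff]
    intro y
    apply Subtype.ext
    exact Subgroup.mem_center_iff.mp hxZ (y : H)
  have hnilO : Group.IsNilpotent (pCore p K) := hOp.isNilpotent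
  have hnilR : Group.IsNilpotent ((pCore p K).comap f) :=
    Subgroup.isNilpotent_of_ker_le_center (f.subgroupComap (pCore p K)) hker
  obtain ⟨S₀⟩ : Nonempty (Sylow p ((pCore p K).comap f)) := inferInstance
  have hS₀n : (S₀ : Subgroup ((pCore p K).comap f)).Normal := inferInstance
  have hS₀c : (S₀ : Subgroup ((pCore p K).comap f)).Characteristic :=
    Sylow.characteristic_of_normal S₀ hS₀n
  have hSn : ((S₀ : Subgroup ((pCore p K).comap f)).map ((pCore p K).comap f).subtype).Normal :=
    ConjAct.normal_of_characteristic_of_normal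
  refine ⟨(S₀ : Subgroup ((pCore p K).comap f)).map ((pCore p K).comap f).subtype, hSn,
    S₀.isPGroup'.map _, ?_⟩
  -- `f` maps `S` onto `O_p(K)`
  have honto : ∀ y ∈ pCore p K, ∃ s ∈ (S₀ : Subgroup ((pCore p K).comap f)).map
      ((pCore p K).comap f).subtype, f s = y := by
    intro y hy
    obtain ⟨r, rfl⟩ := hf y
    obtain ⟨z, hz⟩ := Helper16.exists_isPPart p hp.out r
    obtain ⟨t, ht⟩ := Helper78.exists_pow_eq_of_isPPart hp.out hz
    obtain ⟨w, hzw, hcomm, ⟨k, hk⟩, hw⟩ := hz
    have hzR : z ∈ (pCore p K).comap f := by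
      rw [← ht, Subgroup.mem_comap, map_pow]
      exact Subgroup.pow_mem _ hy t
    have hfw : f w ∈ pCore p K := by
      have : w = z⁻¹ * r := by rw [← hzw, inv_mul_cancel_left]
      rw [this, map_mul, map_inv]
      exact Subgroup.mul_mem _ (Subgroup.inv_mem _ hzR) hy
    have hfw1 : f w = 1 := by
      obtain ⟨j, hj⟩ := hOp ⟨f w, hfw⟩
      have hj' : (f w) ^ p ^ j = 1 := by
        have := congrArg Subtype.val hj
        simpa using this
      have h1 : orderOf (f w) ∣ p ^ j := orderOf_dvd_of_pow_eq_one hj'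
      have h2 : orderOf (f w) ∣ orderOf w := orderOf_map_dvd f w
      have hcop : Nat.Coprime (orderOf w) (p ^ j) :=
        Nat.Coprime.pow_right _ ((Nat.Prime.coprime_iff_not_dvd hp.out).mpr hw).symm
      have h3 : orderOf (f w) = 1 :=
        Nat.eq_one_of_dvd_coprimes hcop h2 h1
      exact orderOf_eq_one_iff.mp h3
    refine ⟨z, ?_, ?_⟩
    · refine ⟨⟨z, hzR⟩, ?_, rfl⟩
      apply mem_sylow_of_normal_of_orderOf S₀ hS₀n ⟨z, hzR⟩ k
      rw [← hk]
      exact (Subgroup.orderOf_mk z hzR)
    · rw [← hzw, map_mul, hfw1, mul_one]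
  intro h hh hreg
  have hfh : f h ∈ Subgroup.centralizer (pCore p K : Set K) := by
    rw [Subgroup.mem_centralizer_iff]
    intro y hy
    obtain ⟨s, hs, rfl⟩ := honto y hy
    rw [← map_mul, ← map_mul]
    congr 1
    exact (Subgroup.mem_centralizer_iff.mp hh) s hs
  have hfhO := hHH hfh
  rw [MonoidHom.mem_ker]
  obtain ⟨j, hj⟩ := hOp ⟨f h, hfhO⟩
  have hj' : (f h) ^ p ^ j = 1 := by
    have := congrArg Subtype.val hj
    simpa using this
  have h1 : orderOf (f h) ∣ p ^ j := orderOf_dvd_of_pow_eq_one hj'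
  have h2 : orderOf (f h) ∣ orderOf h := orderOf_map_dvd f h
  have hcop : Nat.Coprime (orderOf h) (p ^ j) :=
    Nat.Coprime.pow_right _ ((Nat.Prime.coprime_iff_not_dvd hp.out).mpr hreg).symm
  exact orderOf_eq_one_iff.mp (Nat.eq_one_of_dvd_coprimes hcop h2 h1)

end

end Cfsg.Agent.Helper82
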