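import Cfsg.Agent.Helper74.FongCentral
import Cfsg.Agent.Helper82.FongCharPGT

/-!
# Blocks over a central `p'`-subgroup, characteristic-`p` quotient (helper82)

Copy of `Helper74.sameBlock_of_central_ker` with `C_K(O_p(K)) ≤ O_p(K)` as hypothesis.
-/

set_option autoImplicit false

namespace Cfsg.Agent.Helper82

open Cfsg Cfsg.Agent.Helper74

universe u

section
variable {H : Type u} [Group H] [Fintype H] {K : Type*} [Group K] [Finite K] {p : ℕ}
  [hp : Fact p.Prime] {M : Ideal AlgInt}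

theorem sameBlock_of_central_ker_charp (hM : IsPModular p M) (f : H →* K)
    (hf : Function.Surjective f) (hZc : f.ker ≤ Subgroup.center H) (hHH : Subgroup.centralizer (pCore p K : Set K) ≤ pCore p K)
    (β₁ β₂ : IrrCharacter H)
    (hμ : ∀ z ∈ f.ker, (β₁ : H → ℂ) z / (β₁ : H → ℂ) 1 = (β₂ : H → ℂ) z / (β₂ : H → ℂ) 1) :
    SameBlock M (β₁ : H → ℂ) (β₂ : H → ℂ) := by
  classical
  have hMp : M.IsPrime := Helper77.isPrime_of_isPModular hM
  obtain ⟨S, hSn, hSp, hS⟩ := exists_normal_pGroup_centralizer_charp f hf hZc hHH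
  have hB : IsPBlock M (blockOf M (β₁ : H → ℂ)) := ⟨β₁, rfl⟩
  have hsupp : ∀ g : H, g ∉ f.ker → blockCoeff (blockOf M (β₁ : H → ℂ)) g = 0 := by
    intro g hg
    by_cases hgp : p ∣ orderOf g
    · exact Helper77.blockCoeff_eq_zero_of_dvd_orderOf hM hB g hgp
    · by_cases hgC : g ∈ Subgroup.centralizer (S : Set H)
      · exact absurd (hS g hgC hgp) hg
      · exact Helper77.blockCoeff_eq_zero_of_not_mem_centralizer hM S hSp hB g hgC
  obtain ⟨_, _, hom⟩ := Helper16.osima_strong (M := M) β₁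
  have heq : Helper16.omega (β₁ : H → ℂ) (blockCoeff (blockOf M (β₁ : H → ℂ)))
      = Helper16.omega (β₂ : H → ℂ) (blockCoeff (blockOf M (β₁ : H → ℂ))) := by
    unfold Helper16.omega
    rw [Finset.sum_div, Finset.sum_div]
    refine Finset.sum_congr rfl (fun x _ => ?_)
    by_cases hx : x ∈ f.ker
    · rw [mul_div_assoc, mul_div_assoc, hμ x hx]
    · rw [hsupp x hx, zero_mul, zero_mul, zero_div, zero_div]
  rw [hom β₁, hom β₂, if_pos (Helper16.sameBlock_refl _)] at heq
  by_contra hns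
  rw [if_neg hns] at heq
  exact one_ne_zero heq

end

end Cfsg.Agent.Helper82
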