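import Cfsg.Agent.Helper74.FongMain
import Cfsg.Agent.Helper82.FongCharPCentral

/-!
# Fong's theorem over an invariant character of a normal `p'`-subgroup, characteristic-`p`
quotient (helper82)

Copy of `Helper74.sameBlock_of_over_invariant` with `C(O_p(G/N)) ≤ O_p(G/N)` as hypothesis
instead of "`G/N` is `p`-solvable with trivial `p'`-core".
-/

set_option autoImplicit false

namespace Cfsg.Agent.Helper82

open Cfsg Cfsg.Agent.Helper74
open scoped ComplexConjugate

universe u

section main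
variable {G : Type u} [Group G] [Fintype G] {p : ℕ} [hp : Fact p.Prime] {M : Ideal AlgInt}

theorem sameBlock_of_over_invariant_charp (hM : IsPModular p M) (N : Subgroup G) [hN : N.Normal]
    [Fintype N] (hNp : ¬ p ∣ Nat.card N) (hHH : Subgroup.centralizer (pCore p (G ⧸ N) : Set (G ⧸ N)) ≤ pCore p (G ⧸ N))
    (θ : IrrCharacter N)
    (hinv : ∀ g : G, Helper15.conjFun N g (θ : N → ℂ) = (θ : N → ℂ))
    (χ₁ χ₂ : IrrCharacter G)
    (h₁ : classInner (fun n : N => (χ₁ : G → ℂ) n) (θ : N → ℂ) ≠ 0)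
    (h₂ : classInner (fun n : N => (χ₂ : G → ℂ) n) (θ : N → ℂ) ≠ 0) :
    SameBlock M (χ₁ : G → ℂ) (χ₂ : G → ℂ) := by
  classical
  have hMp : M.IsPrime := Helper16.IsPModular.isPrime hM
  have hdeg := charDegree_dvd_card θ
  obtain ⟨θf, hθirr⟩ := θ
  obtain ⟨d, Y, hY, rfl⟩ := hθirr
  have hYirr : Y.IsIrreducible := hY
  have hdN : d ∣ Nat.card N := by
    have h := charDegree_rep Y
    simp only [Module.finrank_fin_fun] at h
    rw [← h]
    exact hdeg
  have hpd : ¬ p ∣ d := fun h => hNp (h.trans hdN)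
  have hpdm : ¬ p ∣ d * Nat.card N := by
    intro h
    rcases (Nat.Prime.dvd_mul hp.out).mp h with h | h
    · exact hpd h
    · exact hNp h
  have hmpos : 0 < Nat.card N := Nat.card_pos
  have hfinE : Finite (extGroup N Y (Nat.card N)) := finite_extGroup N Y hYirr _ hmpos
  let _ : Fintype (extGroup N Y (Nat.card N)) := Fintype.ofFinite _
  have hinv' : ∀ (g : G) (n : N), Y.character (MulAut.conjNormal g n) = Y.character n := by
    intro g n
    have h1 := congrFun (hinv g) n
    rw [Helper15.conjFun_eq_comp] at h1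
    exact h1
  have hsurj := extProj_surjective N Y hYirr hinv' (Nat.card N)
  have hkerp : ¬ p ∣ Nat.card (extProj N Y (Nat.card N)).ker :=
    not_dvd_card_ker_extProj N Y hYirr _ hmpos hpdm
  -- the copy of `N`
  have hN₀n : ((extIncl N Y).range).Normal := by
    refine ⟨?_⟩
    rintro _ ⟨n, rfl⟩ x
    refine ⟨MulAut.conjNormal (extProj N Y _ x) n, ?_⟩
    apply Subtype.ext
    apply Prod.ext
    · show ((MulAut.conjNormal (extProj N Y _ x) n : N) : G)
        = extProj N Y _ x * (n : G) * (extProj N Y _ x)⁻¹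
      exact MulAut.conjNormal_apply _ _
    · apply Units.ext
      show extRep N Y _ (extIncl N Y (MulAut.conjNormal (extProj N Y _ x) n))
        = extRep N Y _ (x * extIncl N Y n * x⁻¹)
      rw [extRep_extIncl, map_mul, map_mul, extRep_extIncl, extRep_mul_eq, mul_assoc, ← map_mul,
        mul_inv_cancel, map_one, mul_one]
  let _ : Fintype ((extIncl N Y).range) := Fintype.ofFinite _
  -- the extension of `θ`
  have hρirr : (extRep N Y (Nat.card N)).IsIrreducible := by
    rw [Helper80.isIrreducible_iff] at hYirr ⊢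
    refine ⟨hYirr.1, fun U hU => hYirr.2 U (fun n v hv => ?_)⟩
    have h1 := hU (extIncl N Y n) v hv
    rwa [extRep_extIncl] at h1
  have hθh : IsIrrCharacter (extGroup N Y (Nat.card N)) (extRep N Y (Nat.card N)).character :=
    ⟨d, extRep N Y _, hρirr, rfl⟩
  have hθhN : IsIrrCharacter ((extIncl N Y).range)
      (fun x : (extIncl N Y).range => (extRep N Y (Nat.card N)).character x) := by
    refine ⟨d, (extRep N Y (Nat.card N)).comp ((extIncl N Y).range).subtype, ?_, rfl⟩
    have hYirr' : Y.IsIrreducible := hY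
    show Representation.IsIrreducible _
    rw [Helper80.isIrreducible_iff] at hYirr' ⊢
    refine ⟨hYirr'.1, fun U hU => hYirr'.2 U (fun n v hv => ?_)⟩
    have h1 := hU ⟨extIncl N Y n, ⟨n, rfl⟩⟩ v hv
    have h2 : ((extRep N Y (Nat.card N)).comp ((extIncl N Y).range).subtype)
        ⟨extIncl N Y n, ⟨n, rfl⟩⟩ = Y n := extRep_extIncl N Y n
    rwa [h2] at h1
  have hΨ1 : (extRep N Y (Nat.card N)).character 1 = (d : ℕ) := by
    rw [Representation.char_one, Module.finrank_fin_fun]
  -- Gallagher for each character over `θ`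
  have key : ∀ χ : IrrCharacter G,
      classInner (fun n : N => (χ : G → ℂ) n) Y.character ≠ 0 →
      ∃ γ : extGroup N Y (Nat.card N) → ℂ, IsIrrCharacter (extGroup N Y (Nat.card N)) γ ∧
        (∀ (n : (extIncl N Y).range) (x : extGroup N Y (Nat.card N)),
          γ ((n : extGroup N Y (Nat.card N)) * x) = γ x) ∧
        γ * (extRep N Y (Nat.card N)).character = fun x => (χ : G → ℂ) (extProj N Y _ x) := by
    intro χ hcon
    have hχ₁irr : IsIrrCharacter (extGroup N Y (Nat.card N))
        (fun x => (χ : G → ℂ) (extProj N Y _ x)) :=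
      Helper80.IsIrrCharacter.comp_surjective χ.2 (extProj N Y _) hsurj
    have hχ₁cf : IsClassFunction (extGroup N Y (Nat.card N))
        (fun x => (χ : G → ℂ) (extProj N Y _ x)) :=
      isClassFunction_of_isCharacter (isCharacter_of_isIrr hχ₁irr)
    let e : N ≃* (extIncl N Y).range := MonoidHom.ofInjective (extIncl_injective N Y)
    have hne : classInner (indFun ((extIncl N Y).range)
        (fun x : (extIncl N Y).range => (extRep N Y (Nat.card N)).character x))
        (fun x => (χ : G → ℂ) (extProj N Y _ x)) ≠ 0 := by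
      rw [Helper15.frobenius_reciprocity ((extIncl N Y).range) _ _ hχ₁cf]
      rw [← Helper15.classInner_comp_mulEquiv e]
      have h1 : (fun a : N => (extRep N Y (Nat.card N)).character
          ((e a : (extIncl N Y).range) : extGroup N Y (Nat.card N))) = Y.character := by
        funext n
        show LinearMap.trace ℂ _ (extRep N Y _ (extIncl N Y n)) = _
        rw [extRep_extIncl]
        rfl
      have h2 : (fun a : N => (fun x => (χ : G → ℂ) (extProj N Y _ x))
          ((e a : (extIncl N Y).range) : extGroup N Y (Nat.card N)))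
          = fun n : N => (χ : G → ℂ) n := by
        funext n
        rfl
      rw [h1, h2, ← Helper15.classInner_conj_symm]
      intro h0
      apply hcon
      have := congrArg conj h0
      simpa using this
    obtain ⟨β, ⟨hβirr, hβ1⟩, hβeq⟩ :=
      (Helper15.gallagher_bijOn ((extIncl N Y).range) hθh hθhN).surjOn ⟨hχ₁irr, hne⟩
    have hβ0 : classInner (fun n : (extIncl N Y).range => β n) (fun _ => (1 : ℂ)) ≠ 0 := by
      rw [Helper15.frobenius_reciprocity ((extIncl N Y).range) _ _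
        (isClassFunction_of_isCharacter (isCharacter_of_isIrr hβirr))] at hβ1
      rw [← Helper15.classInner_conj_symm]
      intro h0
      apply hβ1
      have := congrArg conj h0
      simpa using this
    exact ⟨β, hβirr, Helper15.normal_mul_of_inner_one_ne_zero ((extIncl N Y).range) hβirr hβ0, hβeq⟩
  obtain ⟨γ₁, hγ₁irr, hγ₁ker, hγ₁eq⟩ := key χ₁ h₁
  obtain ⟨γ₂, hγ₂irr, hγ₂ker, hγ₂eq⟩ := key χ₂ h₂
  -- the quotient by the copy of `N`
  let _ : Fintype (extGroup N Y (Nat.card N) ⧸ (extIncl N Y).range) := Fintype.ofFinite _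
  have hkerγ : ∀ (γ : extGroup N Y (Nat.card N) → ℂ),
      (∀ (n : (extIncl N Y).range) (x : extGroup N Y (Nat.card N)),
        γ ((n : extGroup N Y (Nat.card N)) * x) = γ x) →
      ∀ n ∈ (extIncl N Y).range, γ n = γ 1 := by
    intro γ h n hn
    have := h ⟨n, hn⟩ 1
    rwa [mul_one] at this
  let β₁ : IrrCharacter (extGroup N Y (Nat.card N) ⧸ (extIncl N Y).range) :=
    (Helper80.irrQuotientEquiv ((extIncl N Y).range)).symm ⟨⟨γ₁, hγ₁irr⟩, hkerγ γ₁ hγ₁ker⟩
  let β₂ : IrrCharacter (extGroup N Y (Nat.card N) ⧸ (extIncl N Y).range) :=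
    (Helper80.irrQuotientEquiv ((extIncl N Y).range)).symm ⟨⟨γ₂, hγ₂irr⟩, hkerγ γ₂ hγ₂ker⟩
  have hβ₁mk : ∀ x : extGroup N Y (Nat.card N),
      β₁.1 (QuotientGroup.mk x) = γ₁ x := fun x =>
    Helper80.irrQuotientEquiv_symm_apply ((extIncl N Y).range) ⟨⟨γ₁, hγ₁irr⟩, hkerγ γ₁ hγ₁ker⟩ x
  have hβ₂mk : ∀ x : extGroup N Y (Nat.card N),
      β₂.1 (QuotientGroup.mk x) = γ₂ x := fun x =>
    Helper80.irrQuotientEquiv_symm_apply ((extIncl N Y).range) ⟨⟨γ₂, hγ₂irr⟩, hkerγ γ₂ hγ₂ker⟩ x
  -- the map onto `G ⧸ N`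
  have hle : (extIncl N Y).range ≤ N.comap (extProj N Y (Nat.card N)) := by
    rintro _ ⟨n, rfl⟩
    show extProj N Y _ (extIncl N Y n) ∈ N
    rw [extProj_extIncl]
    exact n.2
  let f : (extGroup N Y (Nat.card N) ⧸ (extIncl N Y).range) →* G ⧸ N :=
    QuotientGroup.map ((extIncl N Y).range) N (extProj N Y (Nat.card N)) hle
  have hfmk : ∀ x : extGroup N Y (Nat.card N),
      f (QuotientGroup.mk x) = QuotientGroup.mk (extProj N Y _ x) := fun x => rfl
  have hf : Function.Surjective f := by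
    intro q
    obtain ⟨g, rfl⟩ := QuotientGroup.mk_surjective q
    obtain ⟨x, rfl⟩ := hsurj g
    exact ⟨QuotientGroup.mk x, rfl⟩
  -- elements of the kernel come from the kernel of the projection
  have hkerf : ∀ q ∈ f.ker, ∃ z : extGroup N Y (Nat.card N),
      extProj N Y _ z = 1 ∧ q = QuotientGroup.mk z := by
    intro q hq
    obtain ⟨a, rfl⟩ := QuotientGroup.mk_surjective q
    rw [MonoidHom.mem_ker, hfmk] at hq
    have haN : extProj N Y _ a ∈ N := (QuotientGroup.eq_one_iff _).mp hq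
    refine ⟨(extIncl N Y ⟨extProj N Y _ a, haN⟩)⁻¹ * a, ?_, ?_⟩
    · rw [map_mul, map_inv, extProj_extIncl]
      exact inv_mul_cancel _
    · rw [QuotientGroup.mk_mul, QuotientGroup.mk_inv]
      have : (QuotientGroup.mk (extIncl N Y ⟨extProj N Y _ a, haN⟩) :
          extGroup N Y (Nat.card N) ⧸ (extIncl N Y).range) = 1 :=
        (QuotientGroup.eq_one_iff _).mpr ⟨_, rfl⟩
      rw [this, inv_one, one_mul]
  have hZc : f.ker ≤ Subgroup.center (extGroup N Y (Nat.card N) ⧸ (extIncl N Y).range) := by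
    intro q hq
    obtain ⟨z, hz, rfl⟩ := hkerf q hq
    have hzc : z ∈ Subgroup.center (extGroup N Y (Nat.card N)) :=
      extProj_ker_le_center N Y hYirr _ (MonoidHom.mem_ker.mpr hz)
    rw [Subgroup.mem_center_iff]
    intro q'
    obtain ⟨b, rfl⟩ := QuotientGroup.mk_surjective q'
    rw [← QuotientGroup.mk_mul, ← QuotientGroup.mk_mul, Subgroup.mem_center_iff.mp hzc b]
  -- the central characters agree
  have hratio : ∀ (χ : IrrCharacter G) (γ : extGroup N Y (Nat.card N) → ℂ),
      IsIrrCharacter (extGroup N Y (Nat.card N)) γ →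
      γ * (extRep N Y (Nat.card N)).character = (fun x => (χ : G → ℂ) (extProj N Y _ x)) →
      ∀ z : extGroup N Y (Nat.card N), extProj N Y _ z = 1 →
        γ z / γ 1 = (d : ℂ) / (extRep N Y (Nat.card N)).character z := by
    intro χ γ hγirr hγeq z hz
    have e1 := congrFun hγeq z
    have e2 := congrFun hγeq 1
    simp only [Pi.mul_apply] at e1 e2
    rw [hz] at e1
    rw [map_one, hΨ1] at e2
    have hγ1 : γ 1 ≠ 0 := Helper80.IsIrrCharacter.map_one_ne_zero hγirr
    have hd0 : (d : ℂ) ≠ 0 := by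
      intro h0
      have : d = 0 := by exact_mod_cast h0
      exact hpd (this ▸ dvd_zero p)
    have hprod : γ z * (extRep N Y (Nat.card N)).character z = γ 1 * (d : ℂ) := by
      rw [e1, ← e2]
    have hΨz : (extRep N Y (Nat.card N)).character z ≠ 0 := by
      intro h0
      rw [h0, mul_zero] at hprod
      exact mul_ne_zero hγ1 hd0 hprod.symm
    rw [div_eq_div_iff hγ1 hΨz, hprod, mul_comm]
  have hμ : ∀ q ∈ f.ker, β₁.1 q / β₁.1 1 = β₂.1 q / β₂.1 1 := by
    intro q hq
    obtain ⟨z, hz, rfl⟩ := hkerf q hq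
    have h11 : β₁.1 1 = γ₁ 1 := hβ₁mk 1
    have h21 : β₂.1 1 = γ₂ 1 := hβ₂mk 1
    rw [hβ₁mk, hβ₂mk, h11, h21, hratio χ₁ γ₁ hγ₁irr hγ₁eq z hz, hratio χ₂ γ₂ hγ₂irr hγ₂eq z hz]
  have hβ := sameBlock_of_central_ker_charp hM f hf hZc hHH β₁ β₂ hμ
  have hγ := Helper16.sameBlock_comp_mk ((extIncl N Y).range) hβ
  have hγ₁fun : (β₁.1 ∘ QuotientGroup.mk) = γ₁ := funext hβ₁mk
  have hγ₂fun : (β₂.1 ∘ QuotientGroup.mk) = γ₂ := funext hβ₂mk
  rw [hγ₁fun, hγ₂fun] at hγ
  have hχh := sameBlock_mul_left hM (isCharacter_of_isIrr hθh) d hΨ1 hpd hγ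
  rw [hγ₁eq, hγ₂eq] at hχh
  exact sameBlock_of_comp_surjective hM (extProj N Y (Nat.card N)) hsurj hkerp χ₁ χ₂ hχh

end main

end Cfsg.Agent.Helper82
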