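import Cfsg.Agent.Helper74.FongFinal
import Cfsg.Agent.Helper82.FongCharPMain

/-!
# Fong's theorem over a normal `p'`-subgroup with characteristic-`p` quotient (helper82)

Copy of `Helper74.fong_pPrimeCore_block`: `N ⊴ G` a `p'`-group with `C(O_p(G/N)) ≤ O_p(G/N)`, `θ ∈ Irr(N)`
`G`-invariant. Then `Irr(G | θ)` is one `p`-block whose defect groups are the Sylow `p`-subgroups.
-/

set_option autoImplicit false

namespace Cfsg.Agent.Helper82

open Cfsg Cfsg.Agent.Helper74

universe u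

theorem fong_block_charp {G : Type u} [Group G] [Fintype G] (p : ℕ) [hp : Fact p.Prime]
    (M : Ideal AlgInt) (hM : IsPModular p M) (N : Subgroup G)
    [hN : N.Normal] [Fintype N] (hNp : ¬ p ∣ Nat.card N)
    (hHH : Subgroup.centralizer (pCore p (G ⧸ N) : Set (G ⧸ N)) ≤ pCore p (G ⧸ N))
    (θ : IrrCharacter N)
    (hinv : ∀ (g : G) (n : N),
      (θ : N → ℂ) ⟨g * n * g⁻¹, hN.conj_mem n n.2 g⟩ = (θ : N → ℂ) n) :
    ∃ B : Set (IrrCharacter G), IsPBlock M B ∧
      (∀ χ : IrrCharacter G,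
        χ ∈ B ↔ classInner (fun n : N => (χ : G → ℂ) n) (θ : N → ℂ) ≠ 0) ∧
      (∀ P : Sylow p G, IsDefectGroup p M B (P : Subgroup G)) ∧
      ∀ D : Subgroup G, IsDefectGroup p M B D → ∃ P : Sylow p G, D = (P : Subgroup G) := by
  classical
  have hMp : M.IsPrime := Helper16.IsPModular.isPrime hM
  obtain ⟨χ₀, hχ₀⟩ := Helper16.exists_irr_over (N) θ
  have hinv' : ∀ g : G, Helper15.conjFun (N) g (θ : N → ℂ)
      = (θ : N → ℂ) := by
    intro g
    funext n
    rw [Helper15.conjFun_apply]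
    exact hinv g n
  have hover : ∀ χ : IrrCharacter G,
      classInner (fun n : N => (χ : G → ℂ) n) (θ : N → ℂ) ≠ 0 →
      SameBlock M (χ₀ : G → ℂ) (χ : G → ℂ) := fun χ hχ =>
    sameBlock_of_over_invariant_charp hM N hNp hHH θ hinv' χ₀ χ hχ₀ hχ
  have hB : IsPBlock M (blockOf M (χ₀ : G → ℂ)) := ⟨χ₀, rfl⟩
  have hmem : ∀ χ : IrrCharacter G, χ ∈ blockOf M (χ₀ : G → ℂ) ↔
      classInner (fun n : N => (χ : G → ℂ) n) (θ : N → ℂ) ≠ 0 := by
    intro χ
    constructor
    · intro h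
      exact (Cfsg.Agent.S0921.main p M hM N hNp χ₀ χ h θ).mp hχ₀
    · intro h
      exact hover χ h
  -- the block of `θ` is `{θ}`
  have hbθ : blockOf M (θ : N → ℂ) = {θ} := by
    rw [← Cfsg.Agent.S0914.result p M hM θ]
    intro h
    exact hNp (h.trans (Nat.div_dvd_of_dvd (charDegree_dvd_card θ)))
  -- the defect of the block is full
  have hfac : (Nat.card (N)).factorization p = 0 :=
    Nat.factorization_eq_zero_of_not_dvd hNp
  have hdefB : blockDefect p (blockOf M (χ₀ : G → ℂ)) = (Nat.card G).factorization p := by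
    obtain ⟨g, hg⟩ := Cfsg.Agent.S0906.result p M hM _ hB
    obtain ⟨Q⟩ : Nonempty (Sylow p (Subgroup.centralizer ({g} : Set G))) := inferInstance
    have hD : IsDefectGroup p M (blockOf M (χ₀ : G → ℂ))
        ((Q : Subgroup _).map (Subgroup.centralizer ({g} : Set G)).subtype) := ⟨g, hg, Q, rfl⟩
    have h970 := (Cfsg.Agent.S0970.result p M hM (N)
      (blockOf M (θ : N → ℂ)) ⟨θ, rfl⟩ ?_ (blockOf M (χ₀ : G → ℂ)) hB
      ⟨χ₀, Helper16.sameBlock_refl _, θ, Helper16.sameBlock_refl _, hχ₀⟩ ?_ _ hD).2.2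
    · rw [h970]
      have h0 : blockDefect p (blockOf M (θ : N → ℂ)) = 0 := by
        unfold blockDefect
        rw [hfac]
        exact Nat.zero_sub _
      rw [h0, zero_add]
      have hmul := (N).card_mul_index
      have hne1 : Nat.card (N) ≠ 0 := Nat.card_pos.ne'
      have hne2 : (N).index ≠ 0 := Subgroup.index_ne_zero_of_finite
      rw [← hmul, Nat.factorization_mul hne1 hne2, Finsupp.add_apply, hfac, zero_add]
    · intro g θ' hθ' θ'' hθ''
      rw [hbθ] at hθ' ⊢
      rw [Set.mem_singleton_iff] at hθ' ⊢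
      subst hθ'
      apply Subtype.ext
      funext n
      rw [hθ'' n]
      exact hinv g n
    · intro B' hB' hcov
      obtain ⟨χ, hχB', θ', hθ', hχθ'⟩ := hcov
      rw [hbθ, Set.mem_singleton_iff] at hθ'
      subst hθ'
      have hχB : χ ∈ blockOf M (χ₀ : G → ℂ) := (hmem χ).mpr hχθ'
      rw [Helper78.isPBlock_eq_of_mem_of_mem hMp hB' hB hχB' hχB]
  have hsyl : ∀ D : Subgroup G, IsDefectGroup p M (blockOf M (χ₀ : G → ℂ)) D →
      Nat.card D = p ^ (Nat.card G).factorization p := by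
    intro D hD
    rw [Cfsg.Agent.S0908.result p M hM _ hB D hD, hdefB]
  refine ⟨blockOf M (χ₀ : G → ℂ), hB, hmem, ?_, ?_⟩
  · intro P
    obtain ⟨g, hg⟩ := Cfsg.Agent.S0906.result p M hM _ hB
    obtain ⟨Q⟩ : Nonempty (Sylow p (Subgroup.centralizer ({g} : Set G))) := inferInstance
    have hD : IsDefectGroup p M (blockOf M (χ₀ : G → ℂ))
        ((Q : Subgroup _).map (Subgroup.centralizer ({g} : Set G)).subtype) := ⟨g, hg, Q, rfl⟩
    set D₀ := (Q : Subgroup _).map (Subgroup.centralizer ({g} : Set G)).subtype with hD₀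
    have hcard := hsyl D₀ hD
    obtain ⟨x, hx⟩ := MulAction.exists_smul_eq G (Sylow.ofCard D₀ hcard) P
    have hconj := Helper78.isDefectGroup_map_conj χ₀ hD x
    have heq : (P : Subgroup G) = D₀.map (MulAut.conj x).toMonoidHom := by
      rw [← hx]
      rfl
    rw [heq]
    exact hconj
  · intro D hD
    exact ⟨Sylow.ofCard D (hsyl D hD), rfl⟩

end Cfsg.Agent.Helper82
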