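import Mathlib
import Cfsg.Prelude.Def_Blocks
import Cfsg.Agent.Helper15.CliffordCorr
import Cfsg.Agent.Helper82.RamifiedCyclic

/-!
# Fully ramified characters: basic theory and the Sylow reduction (helper82)

`χ ∈ Irr(H)` is fully ramified over `Z` with respect to `θ ∈ Irr(Z)` when `χ_Z = e θ` and
`e² = |H : Z|`.

* `IsFullyRamified.vanish`, `IsFullyRamified.conjFun_eq`, `IsFullyRamified.inner_eq_zero`
* `IsFullyRamified.indFun_eq_smul` : characters induced from characters over `θ` are multiples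
  of `χ`.
* `IsFullyRamified.sylow` (DeMeyer–Janusz): an irreducible character of a subgroup `R ≥ Z` with
  `|H : R|` coprime to `|R : Z|` lying over `θ` is again fully ramified.
-/

set_option autoImplicit false
set_option linter.unusedSectionVars false

namespace Cfsg.Agent.Helper82

open Cfsg
open scoped ComplexConjugate

universe u

section resTo

variable {G : Type u} [Group G]

/-- Clifford's theorem for an invariant character `θ` of `N ≤ T`, with `N` normal in `G`. -/
theorem resTo_eq_smul_of_invariant (N : Subgroup G) [hN : N.Normal] [Fintype N] (T : Subgroup G)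
    [Fintype T] (hNT : N ≤ T) {θ : N → ℂ} (hθ : IsIrrCharacter N θ)
    (hinv : ∀ t : T, Helper15.conjFun N (t : G) θ = θ) {ψ : T → ℂ} (hψ : IsIrrCharacter T ψ)
    (hne : classInner (Helper15.resTo N T hNT ψ) θ ≠ 0) :
    Helper15.resTo N T hNT ψ = classInner (Helper15.resTo N T hNT ψ) θ • θ := by
  classical
  let _ : Fintype (N.subgroupOf T) := Fintype.ofFinite _
  have hθ' := Helper15.isIrrCharacter_toSub N T hNT hθ
  have hinv' : ∀ t : T, Helper15.conjFun (N.subgroupOf T) t (Helper15.toSub N T hNT θ) =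
      Helper15.toSub N T hNT θ := by
    intro t
    rw [Helper15.conjFun_toSub, hinv t]
  have hψres := Helper15.restrict_subgroupOf N T hNT ψ
  have hinner' : classInner (fun x : N.subgroupOf T => ψ x) (Helper15.toSub N T hNT θ) =
      classInner (Helper15.resTo N T hNT ψ) θ := by
    rw [hψres, Helper15.classInner_toSub]
    rfl
  have hcl := Helper15.restrict_eq_smul_of_invariant (N.subgroupOf T) hψ hθ'
    (by rw [hinner']; exact hne) hinv'
  rw [hinner', hψres, ← Helper15.toSub_smul] at hcl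
  exact Helper15.toSub_injective N T hNT hcl

end resTo

/-- `χ ∈ Irr(H)` is fully ramified over `Z` with respect to `θ ∈ Irr(Z)`. -/
structure IsFullyRamified {H : Type u} [Group H] (Z : Subgroup H) (χ : H → ℂ) (θ : Z → ℂ)
    (e : ℕ) : Prop where
  irr : IsIrrCharacter H χ
  irr' : IsIrrCharacter Z θ
  sq : e ^ 2 = Z.index
  res : ∀ z : Z, χ z = (e : ℂ) * θ z

namespace IsFullyRamified

variable {H : Type u} [Group H] [Fintype H] {Z : Subgroup H} [Fintype Z] {χ : H → ℂ} {θ : Z → ℂ}
  {e : ℕ}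

theorem e_ne_zero (h : IsFullyRamified Z χ θ e) : e ≠ 0 := by
  intro h0
  have h2 := h.sq
  rw [h0] at h2
  have : Z.index ≠ 0 := Subgroup.index_ne_zero_of_finite
  exact this (by rw [← h2]; norm_num)

theorem e_cast_ne_zero (h : IsFullyRamified Z χ θ e) : (e : ℂ) ≠ 0 := by
  exact_mod_cast h.e_ne_zero

theorem theta_one_ne_zero (h : IsFullyRamified Z χ θ e) : θ 1 ≠ 0 :=
  Helper80.IsIrrCharacter.map_one_ne_zero h.irr'

/-- `χ` vanishes off `Z`. -/
theorem vanish (h : IsFullyRamified Z χ θ e) {g : H} (hg : g ∉ Z) : χ g = 0 := by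
  classical
  have hZ0 : (Nat.card Z : ℂ) ≠ 0 := by
    have : 0 < Nat.card Z := Nat.card_pos
    exact_mod_cast this.ne'
  apply vanish_off_of_sum_normSq Z ⟨χ, h.irr⟩ _ hg
  have h1 := Helper74.irr_inner_self (⟨θ, h.irr'⟩ : IrrCharacter Z)
  rw [Helper74.classInner_def] at h1
  have h2 : ∑ z : Z, θ z * conj (θ z) = (Nat.card Z : ℂ) := by
    field_simp at h1
    exact h1
  calc ∑ z : Z, χ z * conj (χ z)
      = ∑ z : Z, (e : ℂ) ^ 2 * (θ z * conj (θ z)) := by
        refine Finset.sum_congr rfl fun z _ => ?_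
        rw [h.res z, map_mul, Complex.conj_natCast]; ring
    _ = (e : ℂ) ^ 2 * (Nat.card Z : ℂ) := by rw [← Finset.mul_sum, h2]
    _ = (Nat.card H : ℂ) := by
        have := Subgroup.index_mul_card Z
        rw [← this, ← h.sq]; push_cast; ring

/-- `θ` is `H`-invariant. -/
theorem conjFun_eq [hZ : Z.Normal] (h : IsFullyRamified Z χ θ e) (x : H) :
    Helper15.conjFun Z x θ = θ := by
  funext z
  rw [Helper15.conjFun_apply]
  have hχcf := Helper74.isClassFunction_of_isCharacter (Helper74.isCharacter_of_isIrr h.irr)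
  have h1 := h.res ⟨x * z * x⁻¹, hZ.conj_mem z z.2 x⟩
  have h2 := h.res z
  have h3 : χ (x * z * x⁻¹) = χ z := hχcf z x
  simp only at h1
  rw [h3, h2] at h1
  exact (mul_left_cancel₀ h.e_cast_ne_zero h1).symm

/-- `χ` is the only irreducible character of `H` lying over `θ`. -/
theorem inner_eq_zero (h : IsFullyRamified Z χ θ e) (ψ : IrrCharacter H)
    (hψ : (ψ : H → ℂ) ≠ χ) : classInner θ (fun z : Z => (ψ : H → ℂ) z) = 0 := by
  classical
  have hH0 : (Nat.card H : ℂ) ≠ 0 := by
    have : 0 < Nat.card H := Nat.card_pos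
    exact_mod_cast this.ne'
  have hne : (⟨χ, h.irr⟩ : IrrCharacter H) ≠ ψ := by
    intro heq
    apply hψ
    rw [← heq]
  have h3 := Helper74.irr_inner_ne hne
  rw [Helper74.classInner_def] at h3
  have h4 : ∑ x : H, χ x * conj ((ψ : H → ℂ) x) = 0 := by
    rcases mul_eq_zero.mp h3 with h' | h'
    · exact absurd h' (inv_ne_zero hH0)
    · exact h'
  rw [sum_eq_sum_subgroup_of_vanish Z _ (fun g hg => by rw [h.vanish hg, zero_mul])] at h4
  rw [Helper74.classInner_def]
  have h5 : ∑ z : Z, χ z * conj ((ψ : H → ℂ) z) =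
      (e : ℂ) * ∑ z : Z, θ z * conj ((ψ : H → ℂ) z) := by
    rw [Finset.mul_sum]
    refine Finset.sum_congr rfl fun z _ => ?_
    rw [h.res z, mul_assoc]
  rw [h5] at h4
  rcases mul_eq_zero.mp h4 with h' | h'
  · exact absurd h' h.e_cast_ne_zero
  · rw [h', mul_zero]

/-- A character induced from a character `η` of `L ≥ Z` with `η_Z = c θ` is a multiple of `χ`. -/
theorem indFun_eq_smul (h : IsFullyRamified Z χ θ e) (L : Subgroup H) [Fintype L] (hZL : Z ≤ L)
    {η : L → ℂ} (hη : IsCharacter L η) (c : ℂ) (hηZ : ∀ z : Z, η ⟨z, hZL z.2⟩ = c * θ z) :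
    indFun L η = classInner (indFun L η) χ • χ := by
  classical
  let _ := Helper74.irrFintype H
  have hΘ := Helper15.isCharacter_indFun L hη
  have hdec := Helper74.isCharacter_eq_sum_irr hΘ
  have key : ∀ ψ : IrrCharacter H, (ψ : H → ℂ) ≠ χ →
      classInner (indFun L η) (ψ : H → ℂ) = 0 := by
    intro ψ hψ
    rw [Helper15.frobenius_reciprocity L η _ (Helper74.irr_isClassFunction ψ)]
    apply classInner_eq_zero_of_comp (Subgroup.inclusion hZL) hη
      (Helper74.isCharacter_restrict L (Helper74.irr_isCharacter ψ))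
    have h1 : η ∘ (Subgroup.inclusion hZL) = c • θ := funext fun z => hηZ z
    have h2 : (fun k : L => (ψ : H → ℂ) k) ∘ (Subgroup.inclusion hZL) =
        fun z : Z => (ψ : H → ℂ) z := rfl
    rw [h1, h2, Helper74.classInner_smul_left, h.inner_eq_zero ψ hψ, mul_zero]
  conv_lhs => rw [hdec]
  rw [Finset.sum_eq_single (⟨χ, h.irr⟩ : IrrCharacter H)]
  · intro ψ _ hψ
    have : (ψ : H → ℂ) ≠ χ := by
      intro heq
      apply hψ
      exact Subtype.ext heq
    rw [key ψ this, zero_smul]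
  · intro hn
    exact absurd (Finset.mem_univ _) hn

/-- The multiplicity in `indFun_eq_smul` is a natural number, determined by degrees. -/
theorem indFun_eq_natCast_smul (h : IsFullyRamified Z χ θ e) (L : Subgroup H) [Fintype L]
    (hZL : Z ≤ L) {η : L → ℂ} (hη : IsCharacter L η) (c : ℂ)
    (hηZ : ∀ z : Z, η ⟨z, hZL z.2⟩ = c * θ z) :
    ∃ a : ℕ, indFun L η = (a : ℂ) • χ ∧ (L.index : ℂ) * η 1 = (a : ℂ) * χ 1 := by
  obtain ⟨a, ha⟩ := Helper74.isCharacter_inner_irr_nat (Helper15.isCharacter_indFun L hη)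
    (⟨χ, h.irr⟩ : IrrCharacter H)
  have h1 := h.indFun_eq_smul L hZL hη c hηZ
  simp only at ha
  rw [ha] at h1
  refine ⟨a, h1, ?_⟩
  have h2 := congrFun h1 1
  rw [Helper15.indFun_apply_one, Pi.smul_apply, smul_eq_mul] at h2
  exact h2

/-- `|Z| · |R : Z| = |R|`. -/
theorem card_mul_relIndex_eq {G : Type*} [Group G] {A B : Subgroup G} (hAB : A ≤ B) :
    Nat.card A * A.relIndex B = Nat.card B := by
  have := Subgroup.relIndex_mul_relIndex (⊥ : Subgroup G) A B bot_le hAB
  rwa [Subgroup.relIndex_bot_left, Subgroup.relIndex_bot_left] at this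

/-- **DeMeyer–Janusz**: if `Z ≤ R ≤ H` with `|H : R|` coprime to `|R : Z|`, every irreducible
character of `R` over `θ` is fully ramified over `Z`. -/
theorem sylow [hZ : Z.Normal] (h : IsFullyRamified Z χ θ e) (R : Subgroup H) [Fintype R]
    (hZR : Z ≤ R) (hcop : Nat.Coprime R.index (Z.relIndex R)) {ψ : R → ℂ}
    (hψ : IsIrrCharacter R ψ) (hne : classInner (Helper15.resTo Z R hZR ψ) θ ≠ 0) :
    ∃ d : ℕ, d ^ 2 = Z.relIndex R ∧ ∀ z : Z, ψ ⟨z, hZR z.2⟩ = (d : ℂ) * θ z := by
  classical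
  have hψc := Helper74.isCharacter_of_isIrr hψ
  have hθc := Helper74.isCharacter_of_isIrr h.irr'
  obtain ⟨d, hd⟩ := Helper15.isCharacter_inner_nat (Helper15.isCharacter_resTo Z R hZR hψc) hθc
  have hres := resTo_eq_smul_of_invariant Z R hZR h.irr' (fun t => h.conjFun_eq (t : H)) hψ hne
  rw [hd] at hres
  have hψZ : ∀ z : Z, ψ ⟨z, hZR z.2⟩ = (d : ℂ) * θ z := fun z => congrFun hres z
  refine ⟨d, ?_, hψZ⟩
  obtain ⟨a, -, hdeg⟩ := h.indFun_eq_natCast_smul R hZR hψc (d : ℂ) hψZ
  have hψ1 : ψ 1 = (d : ℂ) * θ 1 := hψZ 1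
  have hχ1 : χ 1 = (e : ℂ) * θ 1 := h.res 1
  have h1 : (R.index : ℂ) * (d : ℂ) = (a : ℂ) * (e : ℂ) := by
    rw [hψ1, hχ1] at hdeg
    have hθ1 := h.theta_one_ne_zero
    apply mul_right_cancel₀ hθ1
    linear_combination hdeg
  have h1' : R.index * d = a * e := by exact_mod_cast h1
  have hidx : Z.relIndex R * R.index = Z.index := Subgroup.relIndex_mul_index hZR
  have hR0 : R.index ≠ 0 := Subgroup.index_ne_zero_of_finite
  have h2 : R.index * d ^ 2 = a ^ 2 * Z.relIndex R := by
    apply Nat.eq_of_mul_eq_mul_left (Nat.pos_of_ne_zero hR0)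
    calc R.index * (R.index * d ^ 2) = (R.index * d) ^ 2 := by ring
      _ = (a * e) ^ 2 := by rw [h1']
      _ = a ^ 2 * e ^ 2 := by ring
      _ = a ^ 2 * Z.index := by rw [h.sq]
      _ = a ^ 2 * (Z.relIndex R * R.index) := by rw [hidx]
      _ = R.index * (a ^ 2 * Z.relIndex R) := by ring
  have hdvd : Z.relIndex R ∣ d ^ 2 := by
    have : Z.relIndex R ∣ R.index * d ^ 2 := ⟨a ^ 2, by rw [h2]; ring⟩
    exact Nat.Coprime.dvd_of_dvd_mul_left hcop.symm this
  -- the upper bound `d² ≤ |R : Z|`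
  have hR0' : (Nat.card R : ℂ) ≠ 0 := by
    have : 0 < Nat.card R := Nat.card_pos
    exact_mod_cast this.ne'
  have hZ0' : (Nat.card Z : ℂ) ≠ 0 := by
    have : 0 < Nat.card Z := Nat.card_pos
    exact_mod_cast this.ne'
  have hsumR : ∑ r : R, Complex.normSq (ψ r) = (Nat.card R : ℝ) := by
    have h3 := Helper74.irr_inner_self (⟨ψ, hψ⟩ : IrrCharacter R)
    rw [Helper74.classInner_def] at h3
    have h4 : ∑ r : R, ψ r * conj (ψ r) = (Nat.card R : ℂ) := by
      field_simp at h3
      exact h3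
    have : ((∑ r : R, Complex.normSq (ψ r) : ℝ) : ℂ) = ((Nat.card R : ℝ) : ℂ) := by
      push_cast
      rw [← h4]
      refine Finset.sum_congr rfl fun x _ => ?_
      rw [Complex.mul_conj]
    exact_mod_cast this
  have hsumZ : ∑ z : Z, Complex.normSq (θ z) = (Nat.card Z : ℝ) := by
    have h3 := Helper74.irr_inner_self (⟨θ, h.irr'⟩ : IrrCharacter Z)
    rw [Helper74.classInner_def] at h3
    have h4 : ∑ z : Z, θ z * conj (θ z) = (Nat.card Z : ℂ) := by
      field_simp at h3
      exact h3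
    have : ((∑ z : Z, Complex.normSq (θ z) : ℝ) : ℂ) = ((Nat.card Z : ℝ) : ℂ) := by
      push_cast
      rw [← h4]
      refine Finset.sum_congr rfl fun x _ => ?_
      rw [Complex.mul_conj]
    exact_mod_cast this
  have hle1 : ∑ z : Z, Complex.normSq (ψ (Subgroup.inclusion hZR z)) ≤
      ∑ r : R, Complex.normSq (ψ r) := by
    rw [← Finset.sum_image (f := fun r : R => Complex.normSq (ψ r))
      (s := (Finset.univ : Finset Z)) (g := Subgroup.inclusion hZR)
      (fun a _ b _ hab => Subgroup.inclusion_injective hZR hab)]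
    exact Finset.sum_le_sum_of_subset_of_nonneg (Finset.subset_univ _)
      (fun i _ _ => Complex.normSq_nonneg _)
  have hle2 : ((d : ℝ)) ^ 2 * (Nat.card Z : ℝ) ≤ (Nat.card R : ℝ) := by
    rw [← hsumR, ← hsumZ, Finset.mul_sum]
    refine le_trans (le_of_eq ?_) hle1
    refine Finset.sum_congr rfl fun z _ => ?_
    have : ψ (Subgroup.inclusion hZR z) = (d : ℂ) * θ z := hψZ z
    rw [this, Complex.normSq_mul, Complex.normSq_natCast]
    ring
  have hle3 : d ^ 2 * Nat.card Z ≤ Nat.card R := by exact_mod_cast hle2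
  have hcard := card_mul_relIndex_eq hZR
  have hle : d ^ 2 ≤ Z.relIndex R := by
    have hZpos : 0 < Nat.card Z := Nat.card_pos
    rw [← hcard, mul_comm] at hle3
    exact Nat.le_of_mul_le_mul_left hle3 hZpos
  have hd0 : d ≠ 0 := by
    intro h0
    apply hne
    rw [hd, h0, Nat.cast_zero]
  have hrel0 : 0 < d ^ 2 := by positivity
  exact Nat.le_antisymm hle (Nat.le_of_dvd hrel0 hdvd)

end IsFullyRamified

end Cfsg.Agent.Helper82
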