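import Cfsg.Agent.Helper82.GaloisAvg
import Cfsg.Agent.Helper80.CharBasic
import Cfsg.Prelude.Def_Characters

set_option autoImplicit false

/-!
# Galois averaging for character values (helper82)

For a character `χ` and an element `g` of finite order `n` with `χ g ≠ 0`:
`∑_{k < n, (k,n)=1} ‖χ (g^k)‖² ≥ φ n`.  (The values `χ (g^k)` are the Galois conjugates of
`χ g`; their product is a nonzero rational integer.)
This is the tool behind Burnside's theorem on zeros of characters, Knörr-type `k(GV)` bounds, etc.
-/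

namespace Cfsg.Agent.Helper82

open Cfsg

/-- the product of the Galois conjugates of a nonzero character value has absolute value `≥ 1` -/
theorem one_le_prod_norm_char {G : Type*} [Group G] {χ : G → ℂ} (hχ : IsCharacter G χ) (g : G)
    (hg : IsOfFinOrder g) (h0 : χ g ≠ 0) :
    1 ≤ ∏ k ∈ (Finset.range (orderOf g)).filter (fun k => k.Coprime (orderOf g)),
      ‖χ (g ^ k)‖ := by
  obtain ⟨n, ρ, rfl⟩ := hχ
  obtain ⟨b, μ, -, h2, -, h4⟩ := Cfsg.Agent.Helper80.exists_eigen_data_rep ρ g hg
  have h0' : ∑ i, μ i ≠ 0 := by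
    have := h4 1
    simp only [pow_one] at this
    rw [← this]; exact h0
  have := one_le_prod_norm_powersum (orderOf g) hg.orderOf_pos μ h2 h0'
  simpa only [h4] using this

/-- **Galois averaging for characters.** -/
theorem totient_le_sum_normSq_char {G : Type*} [Group G] {χ : G → ℂ} (hχ : IsCharacter G χ) (g : G)
    (hg : IsOfFinOrder g) (h0 : χ g ≠ 0) :
    ((orderOf g).totient : ℝ) ≤
      ∑ k ∈ (Finset.range (orderOf g)).filter (fun k => k.Coprime (orderOf g)),
        ‖χ (g ^ k)‖ ^ 2 := by
  obtain ⟨n, ρ, rfl⟩ := hχ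
  obtain ⟨b, μ, -, h2, -, h4⟩ := Cfsg.Agent.Helper80.exists_eigen_data_rep ρ g hg
  have h0' : ∑ i, μ i ≠ 0 := by
    have := h4 1
    simp only [pow_one] at this
    rw [← this]; exact h0
  have := totient_le_sum_normSq_powersum (orderOf g) hg.orderOf_pos μ h2 h0'
  simpa only [h4] using this

end Cfsg.Agent.Helper82
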