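import Cfsg.Agent.Helper82.GaloisConj
import Cfsg.Agent.Helper15.CliffordCorr

set_option autoImplicit false

/-!
# Galois action and Clifford theory (helper82)

If `N ⊴ G` has index prime to `p`, `σ : g ↦ g ^ k` induces a Galois automorphism of `p`-power order
and `χ ∈ Irr G` is `σ`-fixed, then every irreducible constituent of `χ_N` is `σ`-fixed.
-/

namespace Cfsg.Agent.Helper82

open Cfsg

universe u

section
variable {G : Type u} [Group G] [Fintype G]

theorem galois_fixed_constituent (p : ℕ) [Fact p.Prime] (N : Subgroup G) [hNn : N.Normal]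
    [Fintype N] (hidx : ¬ p ∣ N.index) (k e : ℕ) (hk : Nat.Coprime k (Nat.card G))
    (hke : k ^ (p ^ e) ≡ 1 [MOD Nat.card G]) (χ : IrrCharacter G)
    (hχ : ∀ g : G, (χ : G → ℂ) (g ^ k) = (χ : G → ℂ) g) (θ : IrrCharacter N)
    (hθ : classInner (fun n : N => (χ : G → ℂ) n) (θ : N → ℂ) ≠ 0) :
    ∀ n : N, (θ : N → ℂ) (n ^ k) = (θ : N → ℂ) n := by
  classical
  have : Fintype (IrrCharacter N) := Cfsg.Agent.Helper74.irrFintype N
  set res : N → ℂ := fun n : N => (χ : G → ℂ) n with hres
  have hkN : k.Coprime (Nat.card N) :=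
    hk.coprime_dvd_right (Subgroup.card_subgroup_dvd_card N)
  let gal : IrrCharacter N → IrrCharacter N := fun φ =>
    ⟨fun n => (φ : N → ℂ) (n ^ k), galoisConj_isIrrCharacter φ.2 k hkN⟩
  have hgal_inner : ∀ φ : IrrCharacter N,
      classInner res ((gal φ : IrrCharacter N) : N → ℂ) = classInner res (φ : N → ℂ) := by
    intro φ
    unfold classInner
    congr 1
    have h1 : ∀ n : N, res n * (starRingEnd ℂ) ((φ : N → ℂ) (n ^ k)) =
        res (n ^ k) * (starRingEnd ℂ) ((φ : N → ℂ) (n ^ k)) := by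
      intro n
      congr 1
      show (χ : G → ℂ) (n : G) = (χ : G → ℂ) ((n ^ k : N) : G)
      rw [Subgroup.coe_pow, hχ]
    show ∑ n : N, res n * (starRingEnd ℂ) ((φ : N → ℂ) (n ^ k)) = _
    rw [Finset.sum_congr rfl (fun n _ => h1 n)]
    exact sum_pow_coprime_eq Finset.univ k hkN (fun g _ => Finset.mem_univ _)
      (fun n => res n * (starRingEnd ℂ) ((φ : N → ℂ) n))
  let T := {φ : IrrCharacter N // classInner res (φ : N → ℂ) ≠ 0}
  let f : T → T := fun t => ⟨gal t.1, by rw [hgal_inner]; exact t.2⟩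
  -- iterates
  have hiter : ∀ (m : ℕ) (φ : IrrCharacter N) (n : N),
      ((gal^[m] φ : IrrCharacter N) : N → ℂ) n = (φ : N → ℂ) (n ^ (k ^ m)) := by
    intro m
    induction m with
    | zero => intro φ n; simp
    | succ m ih =>
      intro φ n
      rw [Function.iterate_succ_apply']
      show ((gal^[m] φ : IrrCharacter N) : N → ℂ) (n ^ k) = _
      rw [ih, ← pow_mul, pow_succ, mul_comm]
  have hfiter : ∀ (m : ℕ) (t : T), ((f^[m] t).1 : IrrCharacter N) = gal^[m] t.1 := by
    intro m
    induction m with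
    | zero => intro t; rfl
    | succ m ih =>
      intro t
      rw [Function.iterate_succ_apply', Function.iterate_succ_apply', ← ih]
  have hpow_one : ∀ n : N, n ^ (k ^ (p ^ e)) = n := by
    intro n
    conv_rhs => rw [← pow_one n]
    rw [pow_eq_pow_iff_modEq]
    exact hke.of_dvd ((orderOf_dvd_natCard n).trans (Subgroup.card_subgroup_dvd_card N))
  have hfpe : ∀ t : T, f^[p ^ e] t = t := by
    intro t
    apply Subtype.ext
    apply Subtype.ext
    funext n
    rw [hfiter, hiter, hpow_one]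
  have hpe : 0 < p ^ e := pow_pos (Fact.out : p.Prime).pos e
  have hfbij : Function.Bijective f := by
    obtain ⟨m, hm⟩ : ∃ m, p ^ e = m + 1 := ⟨p ^ e - 1, by omega⟩
    constructor
    · intro a b hab
      have h2 : ∀ x : T, f^[m] (f x) = x := by
        intro x
        have h3 := hfpe x
        rw [hm, Function.iterate_succ_apply] at h3
        exact h3
      have := congrArg (f^[m]) hab
      rw [h2, h2] at this
      exact this
    · intro b
      refine ⟨f^[m] b, ?_⟩
      have h3 := hfpe b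
      rw [hm, Function.iterate_succ_apply'] at h3
      exact h3
  let π : Equiv.Perm T := Equiv.ofBijective f hfbij
  have hπpow : π ^ (p ^ e) = 1 := by
    apply Equiv.ext
    intro t
    rw [← Equiv.Perm.iterate_eq_pow]
    show f^[p ^ e] t = t
    rw [hfpe]
  have hH : IsPGroup p (Subgroup.zpowers π) := by
    intro h
    refine ⟨e, ?_⟩
    obtain ⟨z, hz⟩ := Subgroup.mem_zpowers_iff.1 h.2
    apply Subtype.ext
    rw [Subgroup.coe_pow, ← hz, Subgroup.coe_one, ← zpow_natCast, ← zpow_mul, mul_comm, zpow_mul,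
      zpow_natCast, hπpow, one_zpow]
  -- cardinality of T
  have hχcf : IsClassFunction G (χ : G → ℂ) := Cfsg.Agent.Helper74.irr_isClassFunction χ
  have hcardT : Nat.card T = (Cfsg.Agent.Helper15.inertia N (θ : N → ℂ)).index := by
    rw [← Cfsg.Agent.Helper15.card_conjOrbit, Nat.card_eq_fintype_card, Fintype.card_subtype]
    have himage : (Finset.univ.filter (fun φ : IrrCharacter N =>
        classInner res (φ : N → ℂ) ≠ 0)).image Subtype.val =
        Cfsg.Agent.Helper15.conjOrbit N (θ : N → ℂ) := by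
      ext ψ
      simp only [Finset.mem_image, Finset.mem_filter, Finset.mem_univ, true_and]
      constructor
      · rintro ⟨φ, hφ, rfl⟩
        obtain ⟨g, hg⟩ := Cfsg.Agent.Helper15.exists_conj_of_constituents N χ.2 θ.2 φ.2 hθ hφ
        exact (Cfsg.Agent.Helper15.mem_conjOrbit N).2 ⟨g, hg⟩
      · intro hψ
        obtain ⟨g, rfl⟩ := (Cfsg.Agent.Helper15.mem_conjOrbit N).1 hψ
        refine ⟨⟨_, Cfsg.Agent.Helper15.isIrrCharacter_conjFun N θ.2 g⟩, ?_, rfl⟩
        show classInner res (Cfsg.Agent.Helper15.conjFun N g (θ : N → ℂ)) ≠ 0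
        rw [Cfsg.Agent.Helper15.classInner_restrict_conjFun N hχcf g]
        exact hθ
    rw [← himage, Finset.card_image_of_injective _ Subtype.val_injective]
  have hle : N ≤ Cfsg.Agent.Helper15.inertia N (θ : N → ℂ) :=
    Cfsg.Agent.Helper15.le_inertia N (Cfsg.Agent.Helper74.isClassFunction_of_isCharacter
      (Cfsg.Agent.Helper74.irr_isCharacter θ))
  have hcard : ¬ p ∣ Nat.card T := by
    rw [hcardT]
    exact fun h => hidx (dvd_trans h (Subgroup.index_dvd_of_le hle))
  obtain ⟨t, ht⟩ := hH.nonempty_fixed_point_of_prime_not_dvd_card T hcard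
  have hft : f t = t := by
    have := ht ⟨π, Subgroup.mem_zpowers π⟩
    exact this
  have hθ₀ : ∀ n : N, ((t.1 : IrrCharacter N) : N → ℂ) (n ^ k) = ((t.1 : IrrCharacter N) : N → ℂ) n := by
    intro n
    have := congrArg (fun s : T => ((s.1 : IrrCharacter N) : N → ℂ) n) hft
    exact this
  obtain ⟨g, hg⟩ := Cfsg.Agent.Helper15.exists_conj_of_constituents N χ.2 t.1.2 θ.2 t.2 hθ
  intro n
  rw [hg, Cfsg.Agent.Helper15.conjFun_apply, Cfsg.Agent.Helper15.conjFun_apply]
  have : (⟨g * ((n ^ k : N) : G) * g⁻¹, hNn.conj_mem _ (n ^ k).2 g⟩ : N) =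
      (⟨g * (n : G) * g⁻¹, hNn.conj_mem _ n.2 g⟩ : N) ^ k := by
    apply Subtype.ext
    show g * ((n ^ k : N) : G) * g⁻¹ = (g * (n : G) * g⁻¹) ^ k
    rw [conj_pow]
    rfl
  rw [this, hθ₀]

end

end Cfsg.Agent.Helper82
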