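import Cfsg.Agent.Helper15.CliffordCorr
import Cfsg.Agent.Helper78.ModHom
import Cfsg.Agent.Helper16.Idempotent
import Cfsg.Agent.Helper74.DegP

/-!
# Central characters at the truncation of an invariant character with a distinguished constituent
(helper82)

`N ⊴ X` of order prime to `p`, `ψ` an `X`-invariant character of `N` having exactly one irreducible
constituent `β` of multiplicity prime to `p` (all other multiplicities divisible by `p`).  Then for
`ξ ∈ Irr(X)` and a local unit `a`, the value `ω_ξ` at the element `∑_{n ∈ N} a * conj (ψ n) n` is a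
local unit when `ξ` lies over `β` and lies in the local ideal otherwise.
-/

set_option autoImplicit false
set_option linter.unusedSectionVars false
set_option linter.unusedVariables false

namespace Cfsg.Agent.Helper82.InvDatum

open Cfsg Cfsg.Agent
open scoped ComplexConjugate

universe u

variable {X : Type u} [Group X] [Fintype X] (N : Subgroup X) [hN : N.Normal] [Fintype N]

/-- Extension by zero of `a * conj φ`. -/
noncomputable def extConj (a : ℂ) (φ : N → ℂ) : X → ℂ := by
  classical exact fun x => if h : x ∈ N then a * conj (φ ⟨x, h⟩) else 0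

theorem extConj_of_mem (a : ℂ) (φ : N → ℂ) {x : X} (h : x ∈ N) :
    extConj N a φ x = a * conj (φ ⟨x, h⟩) := by
  unfold extConj; exact dif_pos h

theorem extConj_of_not_mem (a : ℂ) (φ : N → ℂ) {x : X} (h : x ∉ N) :
    extConj N a φ x = 0 := by
  unfold extConj; exact dif_neg h

open Classical in
theorem sum_extend (f : N → ℂ) :
    (∑ x : X, (if h : x ∈ N then f ⟨x, h⟩ else 0)) = ∑ n : N, f n := by
  classical
  rw [← Finset.sum_subset (Finset.subset_univ (Finset.univ.filter (fun x : X => x ∈ N)))]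
  · rw [Finset.sum_subtype (Finset.univ.filter (fun x : X => x ∈ N)) (p := fun x => x ∈ N)
      (by intro x; simp)]
    refine Finset.sum_congr rfl (fun n _ => ?_)
    rw [dif_pos n.2]
  · intro x _ hx
    have : x ∉ N := by simpa using hx
    rw [dif_neg this]

theorem omega_extConj (ξ : X → ℂ) (a : ℂ) (φ : N → ℂ) :
    Helper16.omega ξ (extConj N a φ) =
      a * (Nat.card N : ℂ) * classInner (fun n : N => ξ n) φ / ξ 1 := by
  classical
  unfold Helper16.omega
  congr 1
  have h1 : ∀ x : X, extConj N a φ x * ξ x =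
      if h : x ∈ N then a * conj (φ ⟨x, h⟩) * ξ x else 0 := by
    intro x
    by_cases h : x ∈ N
    · rw [extConj_of_mem N a φ h, dif_pos h]
    · rw [extConj_of_not_mem N a φ h, dif_neg h, zero_mul]
  rw [Finset.sum_congr rfl (fun x _ => h1 x)]
  have h2 := sum_extend N (fun n : N => a * conj (φ n) * ξ (n : X))
  rw [h2]
  unfold classInner
  have hc : (Nat.card N : ℂ) ≠ 0 := by
    have : 0 < Nat.card N := Nat.card_pos
    exact_mod_cast this.ne'
  rw [mul_assoc a, ← mul_assoc (Nat.card N : ℂ), mul_inv_cancel₀ hc, one_mul, Finset.mul_sum]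
  refine Finset.sum_congr rfl (fun n _ => ?_)
  ring

theorem isClassFunction_extConj (a : ℂ) {φ : N → ℂ}
    (hinv : ∀ x : X, Helper15.conjFun N x φ = φ) : IsClassFunction X (extConj N a φ) := by
  intro g h
  by_cases hg : g ∈ N
  · have hg' : h * g * h⁻¹ ∈ N := hN.conj_mem g hg h
    rw [extConj_of_mem N a φ hg, extConj_of_mem N a φ hg']
    have := congrFun (hinv h) ⟨g, hg⟩
    rw [Helper15.conjFun_apply] at this
    rw [← this]
  · have hg' : h * g * h⁻¹ ∉ N := by
      intro hc
      apply hg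
      have := hN.conj_mem _ hc h⁻¹
      simpa [mul_assoc] using this
    rw [extConj_of_not_mem N a φ hg, extConj_of_not_mem N a φ hg']

/-- The datum: an invariant character of `N` with a unique constituent of multiplicity prime to
`p`. -/
structure Datum (p : ℕ) (ψ : N → ℂ) (β : IrrCharacter N) (m : ℕ) : Prop where
  char : IsCharacter N ψ
  inv : ∀ x : X, Helper15.conjFun N x ψ = ψ
  inner : classInner ψ (β : N → ℂ) = m
  ndvd : ¬ p ∣ m
  other : ∀ η : IrrCharacter N, η ≠ β → ∃ m' : ℕ, classInner ψ (η : N → ℂ) = m' ∧ p ∣ m'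

variable {N} {p : ℕ} {ψ : N → ℂ} {β : IrrCharacter N} {m : ℕ}

/-- The distinguished constituent is invariant. -/
theorem Datum.beta_inv (D : Datum N p ψ β m) (x : X) :
    Helper15.conjFun N x (β : N → ℂ) = (β : N → ℂ) := by
  by_contra hne
  let β' : IrrCharacter N := ⟨Helper15.conjFun N x (β : N → ℂ), Helper15.isIrrCharacter_conjFun N β.2 x⟩
  have hβ' : β' ≠ β := fun h => hne (congrArg Subtype.val h)
  obtain ⟨m', hm', hdvd⟩ := D.other β' hβ'
  have h1 : classInner ψ (β' : N → ℂ) = classInner ψ (β : N → ℂ) := by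
    show classInner ψ (Helper15.conjFun N x (β : N → ℂ)) = _
    conv_lhs => rw [← D.inv x]
    exact Helper15.classInner_conjFun_conjFun N x ψ (β : N → ℂ)
  rw [hm', D.inner] at h1
  have : m' = m := by exact_mod_cast h1
  exact D.ndvd (this ▸ hdvd)

variable {M : Ideal AlgInt}

/-- Values of `ψ - m β` are `p` times algebraic integers. -/
theorem Datum.exists_integral (D : Datum N p ψ β m) (n : N) :
    ∃ z : ℂ, IsIntegral ℤ z ∧ ψ n - (m : ℂ) * (β : N → ℂ) n = (p : ℂ) * z := by
  classical
  let _ := Helper74.irrFintype N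
  have hdec := Helper74.isCharacter_eq_sum_irr D.char
  have hk : ∀ η : IrrCharacter N, ∃ k : ℕ, η ≠ β → classInner ψ (η : N → ℂ) = (p : ℂ) * k := by
    intro η
    by_cases h : η = β
    · exact ⟨0, fun h' => absurd h h'⟩
    · obtain ⟨m', hm', k, hk⟩ := D.other η h
      exact ⟨k, fun _ => by rw [hm', hk]; push_cast; ring⟩
  choose k hk using hk
  refine ⟨∑ η ∈ (Finset.univ : Finset (IrrCharacter N)).erase β, (k η : ℂ) * (η : N → ℂ) n, ?_, ?_⟩
  · refine IsIntegral.sum _ (fun η _ => IsIntegral.mul ?_ ?_)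
    · have : IsIntegral ℤ (algebraMap ℤ ℂ (k η : ℤ)) := isIntegral_algebraMap
      simpa using this
    · exact Helper80.IsCharacter.isIntegral (Helper79.irr_isCharacter η) n
  · have h1 := congrFun hdec n
    rw [Finset.sum_apply] at h1
    simp only [Pi.smul_apply, smul_eq_mul] at h1
    rw [← Finset.add_sum_erase _ _ (Finset.mem_univ β), D.inner] at h1
    rw [h1, add_sub_cancel_left, Finset.mul_sum]
    refine Finset.sum_congr rfl (fun η hη => ?_)
    rw [hk η (Finset.ne_of_mem_erase hη)]
    ring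

/-- The rest term `p⁻¹ • (a conj ψ - a m conj β)` is a local-integer valued class function. -/
theorem Datum.isZS_rest [hp : Fact p.Prime] (hM : IsPModular p M) (D : Datum N p ψ β m) {a : ℂ}
    (ha : MemLocalRing M a) :
    Helper78.IsZS M ((p : ℂ)⁻¹ • (extConj N a ψ - extConj N (a * m) (β : N → ℂ))) := by
  have hMp : M.IsPrime := Helper16.IsPModular.isPrime hM
  have hp0 : (p : ℂ) ≠ 0 := by exact_mod_cast hp.out.ne_zero
  refine ⟨?_, fun x => ?_⟩
  · intro g h
    simp only [Pi.smul_apply, Pi.sub_apply]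
    rw [isClassFunction_extConj N a D.inv g h, isClassFunction_extConj N (a * m) D.beta_inv g h]
  · simp only [Pi.smul_apply, Pi.sub_apply, smul_eq_mul]
    by_cases hx : x ∈ N
    · rw [extConj_of_mem N _ _ hx, extConj_of_mem N _ _ hx]
      obtain ⟨z, hz, hzeq⟩ := D.exists_integral ⟨x, hx⟩
      have e : (p : ℂ)⁻¹ * (a * conj (ψ ⟨x, hx⟩) - a * m * conj ((β : N → ℂ) ⟨x, hx⟩)) =
          a * conj z := by
        have : a * conj (ψ ⟨x, hx⟩) - a * m * conj ((β : N → ℂ) ⟨x, hx⟩) =
            a * conj (ψ ⟨x, hx⟩ - (m : ℂ) * (β : N → ℂ) ⟨x, hx⟩) := by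
          rw [map_sub, map_mul, Complex.conj_natCast]; ring
        rw [this, hzeq, map_mul, Complex.conj_natCast]
        field_simp
      rw [e]
      exact Helper16.memLocalRing_mul ha
        (Helper16.memLocalRing_of_isIntegral (map_isIntegral_int (starRingEnd ℂ) hz))
    · rw [extConj_of_not_mem N _ _ hx, extConj_of_not_mem N _ _ hx, sub_zero, mul_zero]
      exact Helper16.memLocalRing_zero

/-- The value of `ω_ξ` at the truncation, up to `p` times a local integer. -/
theorem Datum.omega_eq [hp : Fact p.Prime] (hM : IsPModular p M) (D : Datum N p ψ β m) {a : ℂ}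
    (ha : MemLocalRing M a) (ξ : IrrCharacter X) :
    ∃ l : ℂ, MemLocalRing M l ∧ Helper16.omega (ξ : X → ℂ) (extConj N a ψ) =
      a * m * (Nat.card N : ℂ) * classInner (fun n : N => (ξ : X → ℂ) n) (β : N → ℂ) /
        (ξ : X → ℂ) 1 + (p : ℂ) * l := by
  have hMp : M.IsPrime := Helper16.IsPModular.isPrime hM
  have hp0 : (p : ℂ) ≠ 0 := by exact_mod_cast hp.out.ne_zero
  set s' : X → ℂ := (p : ℂ)⁻¹ • (extConj N a ψ - extConj N (a * m) (β : N → ℂ)) with hs'
  have hZS := D.isZS_rest hM ha
  refine ⟨Helper16.omega (ξ : X → ℂ) s', Helper16.omega_memLocalRing ξ hZS.1 hZS.2, ?_⟩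
  have hdec : extConj N a ψ = extConj N (a * m) (β : N → ℂ) + (p : ℂ) • s' := by
    funext x
    simp only [hs', Pi.add_apply, Pi.smul_apply, Pi.sub_apply, smul_eq_mul]
    field_simp
    ring
  rw [hdec, Helper16.omega_add, Helper16.omega_smul, omega_extConj]

theorem Datum.omega_mem_of_not_over [hp : Fact p.Prime] (hM : IsPModular p M)
    (D : Datum N p ψ β m) {a : ℂ} (ha : MemLocalRing M a) (ξ : IrrCharacter X)
    (h0 : classInner (fun n : N => (ξ : X → ℂ) n) (β : N → ℂ) = 0) :
    MemLocalIdeal M (Helper16.omega (ξ : X → ℂ) (extConj N a ψ)) := by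
  have hMp : M.IsPrime := Helper16.IsPModular.isPrime hM
  obtain ⟨l, hl, heq⟩ := D.omega_eq hM ha ξ
  rw [heq, h0, mul_zero, zero_div, zero_add]
  exact Helper16.memLocalIdeal_mul_right (Helper16.memLocalIdeal_prime hM.2.2) hl

theorem Datum.omega_not_mem_of_over [hp : Fact p.Prime] (hM : IsPModular p M)
    (D : Datum N p ψ β m) (hNp : ¬ p ∣ Nat.card N) {a : ℂ} (ha : MemLocalRing M a)
    (ha' : ¬ MemLocalIdeal M a) (ξ : IrrCharacter X)
    (h0 : classInner (fun n : N => (ξ : X → ℂ) n) (β : N → ℂ) ≠ 0) :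
    ¬ MemLocalIdeal M (Helper16.omega (ξ : X → ℂ) (extConj N a ψ)) := by
  have hMp : M.IsPrime := Helper16.IsPModular.isPrime hM
  obtain ⟨l, hl, heq⟩ := D.omega_eq hM ha ξ
  rw [heq]
  refine Helper16.not_memLocalIdeal_add ?_
    (Helper16.memLocalIdeal_mul_right (Helper16.memLocalIdeal_prime hM.2.2) hl)
  -- Clifford: `ξ_N = e β`
  have hcl := Helper15.restrict_eq_smul_of_invariant N ξ.2 β.2 h0 D.beta_inv
  have h1 := congrFun hcl 1
  simp only [Pi.smul_apply, smul_eq_mul] at h1
  have hβ1 : ((β : N → ℂ) 1) = (charDegree (β : N → ℂ) : ℂ) :=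
    (Helper74.charDegree_cast (Helper79.irr_isCharacter β)).symm
  have hd : ¬ p ∣ charDegree (β : N → ℂ) := fun h => hNp (h.trans (Helper74.charDegree_dvd_card β))
  have hd0 : (charDegree (β : N → ℂ) : ℂ) ≠ 0 := by
    have := Helper74.charDegree_pos' β
    exact_mod_cast this.ne'
  have hξ1 : (ξ : X → ℂ) 1 = classInner (fun n : N => (ξ : X → ℂ) n) (β : N → ℂ) *
      (charDegree (β : N → ℂ) : ℂ) := by
    have : ((1 : N) : X) = 1 := rfl
    rw [← hβ1, ← h1, this]
  have e : a * m * (Nat.card N : ℂ) * classInner (fun n : N => (ξ : X → ℂ) n) (β : N → ℂ) /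
      (ξ : X → ℂ) 1 = a * ((m : ℂ) * ((Nat.card N : ℂ) * (charDegree (β : N → ℂ) : ℂ)⁻¹)) := by
    rw [hξ1]
    field_simp
  rw [e]
  refine Helper16.not_memLocalIdeal_mul ha ha' ?_
  refine Helper16.not_memLocalIdeal_mul (Helper16.memLocalRing_natCast m)
    (Helper16.not_memLocalIdeal_natCast hM D.ndvd) ?_
  refine Helper16.not_memLocalIdeal_mul (Helper16.memLocalRing_natCast _)
    (Helper16.not_memLocalIdeal_natCast hM hNp) ?_
  exact Helper16.not_memLocalIdeal_inv (Helper16.memLocalRing_natCast _)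
    (Helper16.not_memLocalIdeal_natCast hM hd)

end Cfsg.Agent.Helper82.InvDatum
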