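import Cfsg.Agent.Helper77.KW.Defs
import Cfsg.Agent.Helper77.BlockOrth
import Cfsg.Agent.Helper70.DefOneXG

/-!
# S4588, piece (E1a) of helper77's plan: the sum of the exceptional characters on `p`-singular
elements (from the conclusions of S4441)
-/

set_option autoImplicit false
set_option linter.unusedVariables false
set_option linter.unusedSectionVars false

namespace Cfsg.Agent.Helper82.KW

open Cfsg Cfsg.Agent.Helper77.KW
open scoped ComplexConjugate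

universe u

variable {K : Type u} [Group K] [Fintype K]

/-- membership in a conjugate Sylow subgroup -/
theorem mem_smul_sylow_iff' {p : ℕ} (x : K) (Q : Sylow p K) (z : K) :
    z ∈ ((x • Q : Sylow p K) : Subgroup K) ↔ x⁻¹ * z * x ∈ (Q : Subgroup K) := by
  rw [Sylow.coe_subgroup_smul, Subgroup.mem_pointwise_smul_iff_inv_smul_mem]
  simp [MulAut.smul_def]

/-- a `p`-singular element is conjugate to `u * y`, `1 ≠ u ∈ P`, `y ∈ C(P)` `p`-regular -/
theorem exists_conj_eq_mul (p : ℕ) [Fact p.Prime] (P : Sylow p K) (hP : Nat.card P = p)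
    (g : K) (hg : p ∣ orderOf g) :
    ∃ t u y : K, u ∈ (P : Subgroup K) ∧ u ≠ 1 ∧
      y ∈ Subgroup.centralizer ((P : Subgroup K) : Set K) ∧ ¬ p ∣ orderOf y ∧
      t⁻¹ * g * t = u * y := by
  obtain ⟨Q, hQ⟩ := Helper70.DefOneXG.exists_sylow_centralizer P hP hg
  obtain ⟨t, ht⟩ := MulAction.exists_smul_eq K P Q
  have hmem : t⁻¹ * g * t ∈ Subgroup.centralizer ((P : Subgroup K) : Set K) := by
    rw [Subgroup.mem_centralizer_iff]
    intro y hy
    have hyQ : t * y * t⁻¹ ∈ (Q : Subgroup K) := by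
      rw [← ht, mem_smul_sylow_iff']
      have e : t⁻¹ * (t * y * t⁻¹) * t = y := by group
      rw [e]
      exact hy
    have h1 := Subgroup.mem_centralizer_iff.mp hQ _ hyQ
    calc y * (t⁻¹ * g * t) = t⁻¹ * (t * y * t⁻¹ * g) * t := by group
      _ = t⁻¹ * (g * (t * y * t⁻¹)) * t := by rw [h1]
      _ = t⁻¹ * g * t * y := by group
  have hord : orderOf (t⁻¹ * g * t) = orderOf g := by
    have := (MulAut.conj t⁻¹).orderOf_eq g
    simpa [MulAut.conj_apply] using this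
  have hs : p ∣ orderOf (t⁻¹ * g * t) := by rw [hord]; exact hg
  obtain ⟨u, y, hu, hu1, hy, hyreg, huy, -, -⟩ :=
    Helper70.DefOneXG.exists_mul P hP hmem hs
      (show t⁻¹ * g * t * 1 = 1 * (t⁻¹ * g * t) by simp)
  exact ⟨t, u, y, hu, hu1, hy, hyreg, huy.symm⟩

/-- (E1a) the sum of the exceptional characters on `p`-singular elements (from S4441) -/
theorem sum_exceptional_singular (p : ℕ) [Fact p.Prime] (M : Ideal AlgInt) (hM : IsPModular p M)
    (P : Sylow p K) (hP : Nat.card P = p) (X Y : Set (IrrCharacter K))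
    (hXY : principalBlock M K = X ∪ Y) (hdisj : Disjoint X Y) (εX : IrrCharacter K → ℤ) (ε : ℤ)
    (hε : ε = 1 ∨ ε = -1)
    (hX : ∀ χ ∈ X, ∀ x : K, x ∈ (P : Subgroup K) → x ≠ 1 → ∀ y : K,
      y ∈ Subgroup.centralizer ((P : Subgroup K) : Set K) → ¬ p ∣ orderOf y →
      (χ : K → ℂ) (x * y) = (εX χ : ℂ))
    (hYeq : ∀ θ ∈ Y, ∀ θ' ∈ Y, ∀ g : K, ¬ p ∣ orderOf g → (θ : K → ℂ) g = (θ' : K → ℂ) g)
    (hrel : ∀ θ ∈ Y, ∀ g : K, ¬ p ∣ orderOf g →
      (ε : ℂ) * (θ : K → ℂ) g = ∑ᶠ χ ∈ X, (εX χ : ℂ) * (χ : K → ℂ) g)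
    (g : K) (hg : p ∣ orderOf g) :
    (∀ χ ∈ X, (χ : K → ℂ) g = (εX χ : ℂ)) ∧ (Y.Nonempty → ∑ᶠ ψ ∈ Y, (ψ : K → ℂ) g = -(ε : ℂ)) := by
  have hp : p.Prime := Fact.out
  have : Finite (IrrCharacter K) := Helper79.irr_finite'
  have h1reg : ¬ p ∣ orderOf (1 : K) := by
    rw [orderOf_one]
    exact hp.not_dvd_one
  -- the values on `X`
  have hXg : ∀ χ ∈ X, (χ : K → ℂ) g = (εX χ : ℂ) := by
    intro χ hχ
    obtain ⟨t, u, y, hu, hu1, hy, hyreg, huy⟩ := exists_conj_eq_mul p P hP g hg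
    have hcl := Helper79.irr_isClassFunction χ g t⁻¹
    rw [inv_inv] at hcl
    rw [← hcl, huy]
    exact hX χ hχ u hu hu1 y hy hyreg
  refine ⟨hXg, ?_⟩
  rintro ⟨θ₀, hθ₀⟩
  -- weak block orthogonality
  have hB : IsPBlock M (principalBlock M K) := ⟨Helper79.principalIrr K, rfl⟩
  have hw := Helper77.weak_block_orthogonality hM hB 1 g h1reg hg
  rw [hXY, finsum_mem_union hdisj (Set.toFinite _) (Set.toFinite _)] at hw
  -- the part over `X`
  have h1 : ∑ᶠ χ ∈ X, (χ : K → ℂ) g * (χ : K → ℂ) 1 = (ε : ℂ) * (θ₀ : K → ℂ) 1 := by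
    rw [hrel θ₀ hθ₀ 1 h1reg]
    exact finsum_mem_congr rfl (fun χ hχ => by rw [hXg χ hχ])
  -- the part over `Y`
  have h2 : ∑ᶠ ψ ∈ Y, (ψ : K → ℂ) g * (ψ : K → ℂ) 1 =
      (∑ᶠ ψ ∈ Y, (ψ : K → ℂ) g) * (θ₀ : K → ℂ) 1 := by
    rw [finsum_mem_mul' _ _ (Set.toFinite Y)]
    exact finsum_mem_congr rfl (fun ψ hψ => by rw [hYeq ψ hψ θ₀ hθ₀ 1 h1reg])
  rw [h1, h2] at hw
  have hd : (θ₀ : K → ℂ) 1 ≠ 0 := by
    rw [Helper79.irr_one θ₀]
    exact_mod_cast (Helper79.irr_charDegree_pos θ₀).ne'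
  have h3 : ((ε : ℂ) + ∑ᶠ ψ ∈ Y, (ψ : K → ℂ) g) * (θ₀ : K → ℂ) 1 = 0 := by
    linear_combination hw
  rcases mul_eq_zero.mp h3 with h | h
  · linear_combination h
  · exact absurd h hd

end Cfsg.Agent.Helper82.KW
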