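import Cfsg.Agent.Helper77.KW.Defs
import Cfsg.Agent.Helper16.Quotient
import Cfsg.Agent.S4431

/-!
# S4588, piece (H3c) of helper77's plan, with (H3a) and (H3b) as hypotheses: the `p`-regular
values of a character of the principal block of `H` through the `θ i`
-/

set_option autoImplicit false
set_option linter.unusedVariables false
set_option linter.unusedSectionVars false

namespace Cfsg.Agent.Helper82.KW

open Cfsg Cfsg.Agent.Helper77.KW
open scoped ComplexConjugate
open Cfsg.Agent.S4426 (cut)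

universe u

variable {H : Type u} [Group H] [Fintype H] {p : ℕ} [Fact p.Prime] {M : Ideal AlgInt}
  (z : H) [(Subgroup.zpowers z).Normal] (n : ℕ) (D : PimData p M (H ⧸ Subgroup.zpowers z))

/-- (H3c) from (H3a) and the hard direction of (H3b) -/
theorem irr_apply_pRegular_eq_sum_lift' (hM : IsPModular p M)
    (ξ : IrrCharacter H) (hξ : ξ ∈ principalBlock M H) (c : H) (hc : ¬ p ∣ orderOf c)
    (h3a : (ξ : H → ℂ) c = (p : ℂ) ^ n * ∑ θ : IrrCharacter (H ⧸ Subgroup.zpowers z),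
      classInner (cut p 1 (ξ : H → ℂ)) (fun c : H => (θ : H ⧸ Subgroup.zpowers z → ℂ)
        (QuotientGroup.mk c)) * (θ : H ⧸ Subgroup.zpowers z → ℂ) (QuotientGroup.mk c))
    (h3b : ∀ θ : IrrCharacter (H ⧸ Subgroup.zpowers z),
      Helper16.inflate (Subgroup.zpowers z) θ ∈ principalBlock M H →
        θ ∈ principalBlock M (H ⧸ Subgroup.zpowers z)) :
    (ξ : H → ℂ) c = ∑ i : Fin D.e, conj (classInner (cut p 1 (lift z n D i)) (ξ : H → ℂ)) *
      ((D.ε i : ℂ) * ((D.θ i : IrrCharacter (H ⧸ Subgroup.zpowers z)) :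
        H ⧸ Subgroup.zpowers z → ℂ) (QuotientGroup.mk c)) := by
  classical
  have hMp : M.IsPrime := Helper78.isPrime_of_isPModular hM
  have hB : IsPBlock M (principalBlock M H) := ⟨Helper79.principalIrr H, rfl⟩
  -- abbreviations
  obtain ⟨a, ha⟩ : ∃ a : IrrCharacter (H ⧸ Subgroup.zpowers z) → ℂ, a = fun θ =>
      classInner (cut p 1 (ξ : H → ℂ))
        ((Helper16.inflate (Subgroup.zpowers z) θ : IrrCharacter H) : H → ℂ) := ⟨_, rfl⟩
  have ha' : ∀ θ : IrrCharacter (H ⧸ Subgroup.zpowers z),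
      classInner (cut p 1 (ξ : H → ℂ)) (fun c : H => (θ : H ⧸ Subgroup.zpowers z → ℂ)
        (QuotientGroup.mk c)) = a θ := by
    intro θ
    rw [ha]
    rfl
  -- characters outside the principal block of the quotient do not contribute
  have hout : ∀ θ : IrrCharacter (H ⧸ Subgroup.zpowers z),
      θ ∉ principalBlock M (H ⧸ Subgroup.zpowers z) → a θ = 0 := by
    intro θ hθ
    rw [ha]
    apply Cfsg.Agent.S4431.classInner_cut_eq_zero hM 1 ξ
    rw [← Helper78.isPBlock_eq_blockOf_of_mem hMp hB hξ]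
    exact fun h => hθ (h3b θ h)
  -- the image of `c` is `p`-regular
  have hcbar : ¬ p ∣ orderOf (QuotientGroup.mk c : H ⧸ Subgroup.zpowers z) := by
    intro h
    exact hc (h.trans (orderOf_map_dvd (QuotientGroup.mk' (Subgroup.zpowers z)) c))
  have hδ2 : (D.δ : ℂ) * (D.δ : ℂ) = 1 := by
    rcases D.hδ with h | h <;> rw [h] <;> simp
  have hε2 : ∀ i, (D.ε i : ℂ) * (D.ε i : ℂ) = 1 := by
    intro i
    rcases D.hε i with h | h <;> rw [h] <;> simp
  -- the values of the exceptional characters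
  have hY : ∀ ψ ∈ D.Y, (ψ : H ⧸ Subgroup.zpowers z → ℂ) (QuotientGroup.mk c) =
      (D.δ : ℂ) * ∑ i, (D.ε i : ℂ) *
        ((D.θ i : IrrCharacter (H ⧸ Subgroup.zpowers z)) : H ⧸ Subgroup.zpowers z → ℂ)
          (QuotientGroup.mk c) := by
    intro ψ hψ
    rw [← D.hrel ψ hψ _ hcbar, ← mul_assoc, hδ2, one_mul]
  -- split the sum over the irreducible characters of the quotient
  have hsplit : ∑ θ : IrrCharacter (H ⧸ Subgroup.zpowers z),
      a θ * (θ : H ⧸ Subgroup.zpowers z → ℂ) (QuotientGroup.mk c) =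
      ∑ i, a (D.θ i) * ((D.θ i : IrrCharacter (H ⧸ Subgroup.zpowers z)) :
        H ⧸ Subgroup.zpowers z → ℂ) (QuotientGroup.mk c) +
      ∑ ψ ∈ D.Y, a ψ * (ψ : H ⧸ Subgroup.zpowers z → ℂ) (QuotientGroup.mk c) := by
    have hdisj : Disjoint (Finset.univ.image D.θ) D.Y := by
      rw [Finset.disjoint_left]
      intro θ hθ hθY
      obtain ⟨i, -, rfl⟩ := Finset.mem_image.mp hθ
      exact D.hdisj i hθY
    rw [← Finset.sum_subset (Finset.subset_univ (Finset.univ.image D.θ ∪ D.Y)),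
      Finset.sum_union hdisj, Finset.sum_image (fun i _ j _ h => D.hθ h)]
    intro θ _ hθ
    rw [hout θ, zero_mul]
    intro hmem
    apply hθ
    rcases (D.hblock θ).mp hmem with ⟨i, rfl⟩ | h
    · exact Finset.mem_union_left _ (Finset.mem_image_of_mem _ (Finset.mem_univ i))
    · exact Finset.mem_union_right _ h
  -- the inner products of the lifted functions
  have hlift : ∀ i : Fin D.e, conj (classInner (cut p 1 (lift z n D i)) (ξ : H → ℂ)) =
      (D.ε i : ℂ) * (p : ℂ) ^ n * (a (D.θ i) + (D.ε i : ℂ) * (D.δ : ℂ) * ∑ ψ ∈ D.Y, a ψ) := by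
    intro i
    have hfun : cut p 1 (lift z n D i) =
        ((D.ε i : ℂ) * (p : ℂ) ^ n) •
          cut p 1 ((Helper16.inflate (Subgroup.zpowers z) (D.θ i) : IrrCharacter H) : H → ℂ) +
        ((D.ε i : ℂ) * (p : ℂ) ^ n * ((D.ε i : ℂ) * (D.δ : ℂ))) •
          ∑ ψ ∈ D.Y,
            cut p 1 ((Helper16.inflate (Subgroup.zpowers z) ψ : IrrCharacter H) : H → ℂ) := by
      funext c
      simp only [Pi.add_apply, Pi.smul_apply, Finset.sum_apply, smul_eq_mul]
      unfold Cfsg.Agent.S4426.cut lift PimData.pim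
      by_cases hc : p ∣ orderOf c
      · simp [hc]
      · simp only [if_neg hc, one_mul, Helper16.inflate_coe, Function.comp]
        ring
    have hsym : ∀ θ : IrrCharacter (H ⧸ Subgroup.zpowers z),
        conj (classInner (cut p 1
          ((Helper16.inflate (Subgroup.zpowers z) θ : IrrCharacter H) : H → ℂ)) (ξ : H → ℂ)) =
          a θ := by
      intro θ
      rw [ha]
      show conj (classInner (cut p 1
          ((Helper16.inflate (Subgroup.zpowers z) θ : IrrCharacter H) : H → ℂ)) (ξ : H → ℂ)) =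
        classInner (cut p 1 (ξ : H → ℂ))
          ((Helper16.inflate (Subgroup.zpowers z) θ : IrrCharacter H) : H → ℂ)
      rw [Cfsg.Agent.S4426.classInner_cut_symm p 1 (by simp) (ξ : H → ℂ) _]
    rw [hfun, Helper74.classInner_add_left, Helper74.classInner_smul_left,
      Helper74.classInner_smul_left, Helper74.classInner_sum_left]
    simp only [map_add, map_mul, map_sum, map_pow, Complex.conj_natCast, map_intCast,
      hsym]
    ring
  obtain ⟨S, hS⟩ : ∃ S : ℂ, S = ∑ ψ ∈ D.Y, a ψ := ⟨_, rfl⟩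
  have hL : ∑ θ : IrrCharacter (H ⧸ Subgroup.zpowers z),
      classInner (cut p 1 (ξ : H → ℂ)) (fun c : H => (θ : H ⧸ Subgroup.zpowers z → ℂ)
        (QuotientGroup.mk c)) * (θ : H ⧸ Subgroup.zpowers z → ℂ) (QuotientGroup.mk c) =
      ∑ θ : IrrCharacter (H ⧸ Subgroup.zpowers z),
        a θ * (θ : H ⧸ Subgroup.zpowers z → ℂ) (QuotientGroup.mk c) :=
    Finset.sum_congr rfl (fun θ _ => by rw [ha' θ])
  have hYs : ∑ ψ ∈ D.Y, a ψ * (ψ : H ⧸ Subgroup.zpowers z → ℂ) (QuotientGroup.mk c) =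
      S * ((D.δ : ℂ) * ∑ i, (D.ε i : ℂ) *
        ((D.θ i : IrrCharacter (H ⧸ Subgroup.zpowers z)) : H ⧸ Subgroup.zpowers z → ℂ)
          (QuotientGroup.mk c)) := by
    rw [hS, Finset.sum_mul]
    exact Finset.sum_congr rfl (fun ψ hψ => by rw [hY ψ hψ])
  have hR : ∑ i : Fin D.e, conj (classInner (cut p 1 (lift z n D i)) (ξ : H → ℂ)) *
      ((D.ε i : ℂ) * ((D.θ i : IrrCharacter (H ⧸ Subgroup.zpowers z)) :
        H ⧸ Subgroup.zpowers z → ℂ) (QuotientGroup.mk c)) =
      ∑ i : Fin D.e, ((p : ℂ) ^ n * (a (D.θ i) *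
        ((D.θ i : IrrCharacter (H ⧸ Subgroup.zpowers z)) : H ⧸ Subgroup.zpowers z → ℂ)
          (QuotientGroup.mk c)) +
        (p : ℂ) ^ n * S * (D.δ : ℂ) * ((D.ε i : ℂ) *
          ((D.θ i : IrrCharacter (H ⧸ Subgroup.zpowers z)) : H ⧸ Subgroup.zpowers z → ℂ)
            (QuotientGroup.mk c))) := by
    refine Finset.sum_congr rfl (fun i _ => ?_)
    rw [hlift i, ← hS]
    linear_combination ((p : ℂ) ^ n * (a (D.θ i) + (D.ε i : ℂ) * (D.δ : ℂ) * S) *
      ((D.θ i : IrrCharacter (H ⧸ Subgroup.zpowers z)) : H ⧸ Subgroup.zpowers z → ℂ)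
        (QuotientGroup.mk c)) * hε2 i
  rw [h3a, hL, hsplit, hYs, hR, Finset.sum_add_distrib, ← Finset.mul_sum, ← Finset.mul_sum]
  ring

end Cfsg.Agent.Helper82.KW
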