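import Cfsg.Agent.Helper77.KW.Defs
import Cfsg.Agent.Helper16.Quotient
import Cfsg.Agent.S4431

/-!
# S4588, piece (H4) of helper77's plan, with (H3b) as a hypothesis: characters outside the
principal block are orthogonal to the PIM-type functions
-/

set_option autoImplicit false
set_option linter.unusedVariables false
set_option linter.unusedSectionVars false

namespace Cfsg.Agent.Helper82.KW

open Cfsg Cfsg.Agent.Helper77.KW
open scoped ComplexConjugate
open Cfsg.Agent.S4426 (cut)

universe u

variable {H : Type u} [Group H] [Fintype H] {p : ℕ} [Fact p.Prime] {M : Ideal AlgInt}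
  (z : H) [(Subgroup.zpowers z).Normal] (n : ℕ) (D : PimData p M (H ⧸ Subgroup.zpowers z))

/-- (H4) from the easy direction of (H3b) -/
theorem classInner_cut_lift_eq_zero' (hM : IsPModular p M)
    (h3b : ∀ θ : IrrCharacter (H ⧸ Subgroup.zpowers z),
      θ ∈ principalBlock M (H ⧸ Subgroup.zpowers z) →
        Helper16.inflate (Subgroup.zpowers z) θ ∈ principalBlock M H)
    (i : Fin D.e) (ξ : IrrCharacter H) (hξ : ξ ∉ principalBlock M H) :
    classInner (cut p 1 (lift z n D i)) (ξ : H → ℂ) = 0 := by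
  classical
  have hMp : M.IsPrime := Helper78.isPrime_of_isPModular hM
  have hB : IsPBlock M (principalBlock M H) := ⟨Helper79.principalIrr H, rfl⟩
  have hzero : ∀ θ : IrrCharacter (H ⧸ Subgroup.zpowers z),
      θ ∈ principalBlock M (H ⧸ Subgroup.zpowers z) →
      classInner (cut p 1 ((Helper16.inflate (Subgroup.zpowers z) θ : IrrCharacter H) : H → ℂ))
        (ξ : H → ℂ) = 0 := by
    intro θ hθ
    apply Cfsg.Agent.S4431.classInner_cut_eq_zero hM 1 (Helper16.inflate (Subgroup.zpowers z) θ) ξ
    rw [← Helper78.isPBlock_eq_blockOf_of_mem hMp hB (h3b θ hθ)]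
    exact hξ
  have hfun : cut p 1 (lift z n D i) =
      ((D.ε i : ℂ) * (p : ℂ) ^ n) •
        cut p 1 ((Helper16.inflate (Subgroup.zpowers z) (D.θ i) : IrrCharacter H) : H → ℂ) +
      ((D.ε i : ℂ) * (p : ℂ) ^ n * ((D.ε i : ℂ) * (D.δ : ℂ))) •
        ∑ ψ ∈ D.Y, cut p 1 ((Helper16.inflate (Subgroup.zpowers z) ψ : IrrCharacter H) : H → ℂ) := by
    funext c
    simp only [Pi.add_apply, Pi.smul_apply, Finset.sum_apply, smul_eq_mul]
    unfold Cfsg.Agent.S4426.cut lift PimData.pim
    by_cases hc : p ∣ orderOf c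
    · simp [hc]
    · simp only [if_neg hc, one_mul, Helper16.inflate_coe, Function.comp]
      ring
  rw [hfun, Helper74.classInner_add_left, Helper74.classInner_smul_left,
    Helper74.classInner_smul_left, Helper74.classInner_sum_left,
    hzero _ ((D.hblock _).mpr (Or.inl ⟨i, rfl⟩)), mul_zero, zero_add]
  rw [Finset.sum_eq_zero (fun ψ hψ => hzero ψ ((D.hblock ψ).mpr (Or.inr hψ))), mul_zero]

end Cfsg.Agent.Helper82.KW
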