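import Cfsg.Agent.Helper77.KW.Defs
import Cfsg.Agent.Helper16.BlockPart
import Cfsg.Agent.Helper74.CharComplete

/-!
# S4588, piece (L4) of helper77's plan (detection), with (H3c) and (H4) as hypotheses
-/

set_option autoImplicit false
set_option linter.unusedVariables false
set_option linter.unusedSectionVars false

namespace Cfsg.Agent.Helper82.KW

open Cfsg Cfsg.Agent.Helper77.KW
open scoped ComplexConjugate
open Cfsg.Agent.S4426 (cut)

universe u

variable {H : Type u} [Group H] [Fintype H] {p : ℕ} [Fact p.Prime] {M : Ideal AlgInt}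
  (z : H) [(Subgroup.zpowers z).Normal] (n : ℕ) (D : PimData p M (H ⧸ Subgroup.zpowers z))

/-- (L4) detection, from (H3c) and (H4): a class function whose principal-block part does not
vanish on `p`-regular elements is seen by some PIM-type function -/
theorem exists_lift_inner_ne_zero'
    (h3c : ∀ ξ : IrrCharacter H, ξ ∈ principalBlock M H → ∀ c : H, ¬ p ∣ orderOf c →
      (ξ : H → ℂ) c = ∑ i : Fin D.e, conj (classInner (cut p 1 (lift z n D i)) (ξ : H → ℂ)) *
        ((D.ε i : ℂ) * ((D.θ i : IrrCharacter (H ⧸ Subgroup.zpowers z)) :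
          H ⧸ Subgroup.zpowers z → ℂ) (QuotientGroup.mk c)))
    (h4 : ∀ (i : Fin D.e) (ξ : IrrCharacter H), ξ ∉ principalBlock M H →
      classInner (cut p 1 (lift z n D i)) (ξ : H → ℂ) = 0)
    (F : H → ℂ) (hF : IsClassFunction H F) (c : H)
    (hc : ¬ p ∣ orderOf c) (hne : blockPart (principalBlock M H) F c ≠ 0) :
    ∃ i : Fin D.e, classInner (cut p 1 (lift z n D i)) F ≠ 0 := by
  classical
  by_contra hall
  push Not at hall
  apply hne
  -- the inner product with `F` through the principal block
  have hexp : ∀ i : Fin D.e, classInner (cut p 1 (lift z n D i)) F =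
      ∑ ξ : IrrCharacter H, (if ξ ∈ principalBlock M H then (1 : ℂ) else 0) *
        (conj (classInner F (ξ : H → ℂ)) * classInner (cut p 1 (lift z n D i)) (ξ : H → ℂ)) := by
    intro i
    conv_lhs => rw [Helper74.classFunction_eq_sum_irr hF]
    rw [Helper74.classInner_sum_right]
    refine Finset.sum_congr rfl (fun ξ _ => ?_)
    rw [Helper74.classInner_smul_right]
    by_cases hξ : ξ ∈ principalBlock M H
    · rw [if_pos hξ, one_mul]
    · rw [if_neg hξ, zero_mul, h4 i ξ hξ, mul_zero]
  rw [Helper16.blockPart_eq_sum]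
  have hterm : ∀ ξ : IrrCharacter H,
      (if ξ ∈ principalBlock M H then (1 : ℂ) else 0) *
        (classInner F (ξ : H → ℂ) * (ξ : H → ℂ) c) =
      ∑ i : Fin D.e, ((if ξ ∈ principalBlock M H then (1 : ℂ) else 0) *
        (classInner F (ξ : H → ℂ) * conj (classInner (cut p 1 (lift z n D i)) (ξ : H → ℂ)))) *
        ((D.ε i : ℂ) * ((D.θ i : IrrCharacter (H ⧸ Subgroup.zpowers z)) :
          H ⧸ Subgroup.zpowers z → ℂ) (QuotientGroup.mk c)) := by
    intro ξ
    by_cases hξ : ξ ∈ principalBlock M H
    · rw [if_pos hξ, one_mul, h3c ξ hξ c hc, Finset.mul_sum]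
      refine Finset.sum_congr rfl (fun i _ => ?_)
      ring
    · rw [if_neg hξ, zero_mul]
      simp
  rw [Finset.sum_congr rfl (fun ξ _ => hterm ξ), Finset.sum_comm]
  apply Finset.sum_eq_zero
  intro i _
  rw [← Finset.sum_mul]
  have h0 : ∑ ξ : IrrCharacter H, (if ξ ∈ principalBlock M H then (1 : ℂ) else 0) *
      (classInner F (ξ : H → ℂ) * conj (classInner (cut p 1 (lift z n D i)) (ξ : H → ℂ))) =
      conj (classInner (cut p 1 (lift z n D i)) F) := by
    rw [hexp i, map_sum]
    refine Finset.sum_congr rfl (fun ξ _ => ?_)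
    rw [map_mul, map_mul, Complex.conj_conj]
    split_ifs <;> simp
  rw [h0, hall i, map_zero, zero_mul]

end Cfsg.Agent.Helper82.KW
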