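import Mathlib
import Cfsg.Agent.S0904
import Cfsg.Agent.Helper17.SylowKit

/-!
# Sylow `r`-normalizers in simple groups of order `p ^ a * q ^ b * r`

By S0904 the Sylow `r`-subgroup `S` is self-centralizing, hence `|N_G(S)| = r * e` with `e ∣ r - 1`,
and the number of Sylow `r`-subgroups is `|G| / (r * e)`.
-/

set_option autoImplicit false

namespace Cfsg.Agent.Helper82

open Subgroup

/-- In a simple group of order `p ^ a * q ^ b * r`, the normalizer of a Sylow `r`-subgroup has
order `r * e` with `e ∣ r - 1`, and `n_r * (r * e) = |G|`. -/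
theorem card_normalizer_sylow_of_paqbr {G : Type*} [Group G] [Finite G] [IsSimpleGroup G]
    (p q r a b : ℕ) (hp : p.Prime) (hq : q.Prime) [Fact r.Prime] (hpq : p ≠ q) (hpr : p ≠ r)
    (hqr : q ≠ r) (hcard : Nat.card G = p ^ a * q ^ b * r) (S : Sylow r G) :
    ∃ e : ℕ, e ∣ r - 1 ∧ Nat.card (normalizer ((S : Subgroup G) : Set G)) = r * e ∧
      Nat.card (Sylow r G) * (r * e) = Nat.card G ∧
      (∀ k ∈ (S : Subgroup G), k ≠ 1 → centralizer ({k} : Set G) ≤ (S : Subgroup G)) := by
  have hr : r.Prime := Fact.out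
  have hS : Nat.card (S : Subgroup G) = r := by
    have := Helper17.card_sylow_subgroup_of_card_eq (G := G) (p := r) (k := 1) (m := p ^ a * q ^ b)
      (by rw [hcard, pow_one, mul_comm]) (by
        intro h
        rcases (Nat.Prime.dvd_mul hr).mp h with h | h
        · exact hpr ((Nat.prime_dvd_prime_iff_eq hr hp).mp (hr.dvd_of_dvd_pow h)).symm
        · exact hqr ((Nat.prime_dvd_prime_iff_eq hr hq).mp (hr.dvd_of_dvd_pow h)).symm) S
    simpa using this
  have hcent : centralizer ((S : Subgroup G) : Set G) = (S : Subgroup G) :=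
    Cfsg.Agent.S0904.result p q r a b hp hq hpq hpr hqr hcard S
  obtain ⟨hd, -⟩ := Helper17.relIndex_dvd_of_card_sylow_prime S hS
  have hmul := Helper17.card_centralizer_mul_relIndex (S : Subgroup G)
  have hCcard : Nat.card (centralizer ((S : Subgroup G) : Set G)) = r := by rw [hcent]; exact hS
  rw [hCcard] at hmul
  refine ⟨_, hd, hmul.symm, ?_, ?_⟩
  · rw [hmul, mul_comm]
    exact Helper17.card_normalizer_mul_card_sylow S
  · intro k hk hk1 x hx
    rw [← hcent, Subgroup.mem_centralizer_iff]
    have hord : orderOf k = r := by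
      have h1 : orderOf k ∣ r := by
        have := orderOf_dvd_natCard (⟨k, hk⟩ : (S : Subgroup G))
        rwa [hS, Subgroup.orderOf_mk] at this
      rcases (Nat.dvd_prime hr).mp h1 with h | h
      · exact absurd (orderOf_eq_one_iff.mp h) hk1
      · exact h
    have hzp : Subgroup.zpowers k = (S : Subgroup G) :=
      Subgroup.eq_of_le_of_card_ge (Subgroup.zpowers_le.mpr hk)
        (by rw [Nat.card_zpowers, hord, hS])
    intro y hy
    have hy' : y ∈ Subgroup.zpowers k := by rw [hzp]; exact hy
    obtain ⟨i, rfl⟩ := Subgroup.mem_zpowers_iff.mp hy'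
    have hxk : Commute x k := (Subgroup.mem_centralizer_singleton_iff.mp hx)
    exact ((hxk.zpow_right i).eq).symm

end Cfsg.Agent.Helper82
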