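import Mathlib
import Cfsg.Agent.Helper82.SelfCentSylow
import Cfsg.Agent.Helper17.ExcChar5
import Cfsg.Agent.Helper17.ExcApply

/-!
# Non-existence of simple groups of some three-prime orders `p ^ a * q ^ b * r`

Uses S0904 (Sylow `r`-subgroups are self-centralizing) through
`Helper82.card_normalizer_sylow_of_paqbr`, and helper17's Brauer degree equation for `e = 2`.
For helper39's S0983 pipeline.
-/

set_option autoImplicit false
set_option linter.style.haveILetI false
set_option linter.unusedVariables false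
set_option maxHeartbeats 1000000
set_option maxRecDepth 100000

namespace Cfsg.Agent.Helper82.Ord

open Subgroup Cfsg.Agent.Helper17

/-- The Sylow `r`-data in a simple group of order `p ^ a * q ^ b * r` (`p ^ a * q ^ b ≠ 1`):
`|N(S)| = r e`, `e ∣ r - 1`, `e ≠ 1`, `e ∣ p ^ a q ^ b` and `p ^ a q ^ b / e ≡ 1 (mod r)`. -/
theorem sylow_data_paqbr {G : Type*} [Group G] [Finite G] [IsSimpleGroup G]
    (p q r a b : ℕ) (hp : p.Prime) (hq : q.Prime) (hr : r.Prime) (hpq : p ≠ q) (hpr : p ≠ r)
    (hqr : q ≠ r) (hcard : Nat.card G = p ^ a * q ^ b * r) (hm1 : p ^ a * q ^ b ≠ 1) :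
    ∃ (S : Sylow r G) (e : ℕ), e ∈ (r - 1).divisors ∧ e ≠ 1 ∧ e ∣ p ^ a * q ^ b ∧
      (p ^ a * q ^ b / e) % r = 1 ∧ Nat.card (S : Subgroup G) = r ∧
      Nat.card (normalizer ((S : Subgroup G) : Set G)) = r * e ∧
      (∀ k ∈ (S : Subgroup G), k ≠ 1 → centralizer ({k} : Set G) ≤ (S : Subgroup G)) := by
  haveI : Fact r.Prime := ⟨hr⟩
  obtain ⟨S⟩ : Nonempty (Sylow r G) := inferInstance
  obtain ⟨e, he, hN, hn, hC⟩ :=
    card_normalizer_sylow_of_paqbr p q r a b hp hq hpq hpr hqr hcard S
  have hnotdvd : ¬ r ∣ p ^ a * q ^ b := by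
    intro h
    rcases (Nat.Prime.dvd_mul hr).mp h with h | h
    · exact hpr ((Nat.prime_dvd_prime_iff_eq hr hp).mp (hr.dvd_of_dvd_pow h)).symm
    · exact hqr ((Nat.prime_dvd_prime_iff_eq hr hq).mp (hr.dvd_of_dvd_pow h)).symm
  have hS : Nat.card (S : Subgroup G) = r := by
    have := Helper17.card_sylow_subgroup_of_card_eq (G := G) (p := r) (k := 1)
      (m := p ^ a * q ^ b) (by rw [hcard, pow_one, mul_comm]) hnotdvd S
    simpa using this
  have hr1 : r - 1 ≠ 0 := by have := hr.two_le; omega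
  -- n_r * e = p^a q^b
  have hne : Nat.card (Sylow r G) * e = p ^ a * q ^ b := by
    rw [hcard] at hn
    have : (Nat.card (Sylow r G) * e) * r = (p ^ a * q ^ b) * r := by
      rw [← hn]; ring
    exact Nat.eq_of_mul_eq_mul_right hr.pos this
  have he0 : e ≠ 0 := by
    rintro rfl
    rw [Nat.zero_dvd] at he
    exact hr1 he
  have hmod : Nat.card (Sylow r G) % r = 1 := by
    have h := card_sylow_modEq_one r G
    unfold Nat.ModEq at h
    rw [h]
    exact Nat.mod_eq_of_lt hr.one_lt
  have hdiv : p ^ a * q ^ b / e = Nat.card (Sylow r G) := by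
    rw [← hne]
    exact Nat.mul_div_cancel _ (Nat.pos_of_ne_zero he0)
  refine ⟨S, e, Nat.mem_divisors.mpr ⟨he, hr1⟩, ?_, ⟨_, by rw [← hne, mul_comm]⟩, ?_, hS, hN, hC⟩
  · rintro rfl
    -- N(S) = S ≤ C(S)
    have hNS : normalizer ((S : Subgroup G) : Set G) = (S : Subgroup G) := by
      symm
      exact Subgroup.eq_of_le_of_card_ge le_normalizer (by rw [hN, hS, mul_one])
    have hab := Helper17.Exc.comm_of_prime_card (S : Subgroup G) hr hS
    apply Helper17.not_normalizer_le_centralizer_of_simple S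
      (by rw [hS]; exact hr.one_lt.ne')
      (by
        rw [hS, hcard]
        intro h
        have h' : 1 * r = p ^ a * q ^ b * r := by rw [one_mul]; exact h
        exact hm1 (Nat.eq_of_mul_eq_mul_right hr.pos h').symm)
    rw [hNS]
    intro x hx
    rw [Subgroup.mem_centralizer_iff]
    intro y hy
    exact hab y hy x hx
  · rw [hdiv]; exact hmod

/-- Sieve by S0904: no admissible normalizer order for the Sylow `r`-subgroup. -/
theorem kill_paqbr {G : Type*} [Group G] [Finite G] [IsSimpleGroup G]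
    (p q r a b : ℕ) (hp : p.Prime) (hq : q.Prime) (hr : r.Prime) (hpq : p ≠ q) (hpr : p ≠ r)
    (hqr : q ≠ r) (hcard : Nat.card G = p ^ a * q ^ b * r) (hm1 : p ^ a * q ^ b ≠ 1)
    (hdead : ∀ e ∈ (r - 1).divisors, e ≠ 1 → e ∣ p ^ a * q ^ b → (p ^ a * q ^ b / e) % r ≠ 1) :
    False := by
  obtain ⟨S, e, he, he1, hed, hmod, -⟩ :=
    sylow_data_paqbr p q r a b hp hq hr hpq hpr hqr hcard hm1
  exact hdead e he he1 hed hmod

variable {G : Type*} [Group G] [Finite G] [IsSimpleGroup G]

theorem no_simple_3840 (h : Nat.card G = 3840) : False :=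
  kill_paqbr 2 3 5 8 1 (by norm_num) (by norm_num) (by norm_num) (by norm_num) (by norm_num)
    (by norm_num) (by rw [h]; norm_num) (by norm_num) (by decide)

theorem no_simple_4160 (h : Nat.card G = 4160) : False :=
  kill_paqbr 2 5 13 6 1 (by norm_num) (by norm_num) (by norm_num) (by norm_num) (by norm_num)
    (by norm_num) (by rw [h]; norm_num) (by norm_num) (by decide)

theorem no_simple_4400 (h : Nat.card G = 4400) : False :=
  kill_paqbr 2 5 11 4 2 (by norm_num) (by norm_num) (by norm_num) (by norm_num) (by norm_num)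
    (by norm_num) (by rw [h]; norm_num) (by norm_num) (by decide)

theorem no_simple_4480 (h : Nat.card G = 4480) : False :=
  kill_paqbr 2 5 7 7 1 (by norm_num) (by norm_num) (by norm_num) (by norm_num) (by norm_num)
    (by norm_num) (by rw [h]; norm_num) (by norm_num) (by decide)

theorem no_simple_4536 (h : Nat.card G = 4536) : False :=
  kill_paqbr 2 3 7 3 4 (by norm_num) (by norm_num) (by norm_num) (by norm_num) (by norm_num)
    (by norm_num) (by rw [h]; norm_num) (by norm_num) (by decide)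

theorem no_simple_4800 (h : Nat.card G = 4800) : False :=
  kill_paqbr 2 5 3 6 2 (by norm_num) (by norm_num) (by norm_num) (by norm_num) (by norm_num)
    (by norm_num) (by rw [h]; norm_num) (by norm_num) (by decide)

theorem no_simple_4928 (h : Nat.card G = 4928) : False :=
  kill_paqbr 2 11 7 6 1 (by norm_num) (by norm_num) (by norm_num) (by norm_num) (by norm_num)
    (by norm_num) (by rw [h]; norm_num) (by norm_num) (by decide)

theorem no_simple_5200 (h : Nat.card G = 5200) : False :=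
  kill_paqbr 2 5 13 4 2 (by norm_num) (by norm_num) (by norm_num) (by norm_num) (by norm_num)
    (by norm_num) (by rw [h]; norm_num) (by norm_num) (by decide)

theorem no_simple_5376 (h : Nat.card G = 5376) : False :=
  kill_paqbr 2 7 3 8 1 (by norm_num) (by norm_num) (by norm_num) (by norm_num) (by norm_num)
    (by norm_num) (by rw [h]; norm_num) (by norm_num) (by decide)


/-- Brauer's `e = 2` degree equation has no solution: generic kill. -/
theorem kill_e2
    (p q r a b : ℕ) (hp : p.Prime) (hq : q.Prime) (hr : r.Prime) (hpq : p ≠ q) (hpr : p ≠ r)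
    (hqr : q ≠ r) (hcard : Nat.card G = p ^ a * q ^ b * r) (hm1 : p ^ a * q ^ b ≠ 1)
    (he2 : ∀ e ∈ (r - 1).divisors, e ≠ 1 → e ∣ p ^ a * q ^ b → (p ^ a * q ^ b / e) % r = 1 → e = 2)
    (hr5 : 5 ≤ r) (t : ℕ) (ht : t * 2 + 1 = r)
    (hkey : ∀ d₁ ∈ (p ^ a * q ^ b * r).divisors, ∀ d ∈ (p ^ a * q ^ b * r).divisors, 1 < d₁ →
      1 + d₁ ^ 2 + t * d ^ 2 ≤ p ^ a * q ^ b * r →
      ¬ (d₁ % r = 1 ∧ d = d₁ + 1) ∧ ¬ ((d₁ + 1) % r = 0 ∧ d + 1 = d₁)) : False := by
  obtain ⟨S, e, he, he1, hed, hmod, hS, hN, hC⟩ :=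
    sylow_data_paqbr p q r a b hp hq hr hpq hpr hqr hcard hm1
  have hee : e = 2 := he2 e he he1 hed hmod
  subst hee
  have hnotprime : ¬ (Nat.card G).Prime := by
    intro hpr'
    have hdvd : r ∣ Nat.card G := by rw [hcard]; exact Dvd.intro_left _ rfl
    have := (Nat.prime_dvd_prime_iff_eq hr hpr').mp hdvd
    rw [hcard] at this
    have h' : 1 * r = p ^ a * q ^ b * r := by rw [one_mul]; exact this
    exact hm1 (Nat.eq_of_mul_eq_mul_right hr.pos h').symm
  have hperf := Helper17.Exc.commutator_eq_top_of_simple (G := G) hnotprime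
  obtain ⟨δ, d₁, d, r', hδ, hd₁, hd, h1, hcong, hrel, hr', hsum, -⟩ :=
    Helper17.Exc.brauer_two_sq hperf (S : Subgroup G) hr hS hC hN hr5
  have hrt : r' = t := by omega
  subst hrt
  rw [hcard] at hd₁ hd hsum
  have hn0 : p ^ a * q ^ b * r ≠ 0 := by
    rw [← hcard]; exact Nat.card_pos.ne'
  obtain ⟨k1, k2⟩ := hkey d₁ (Nat.mem_divisors.mpr ⟨hd₁, hn0⟩) d (Nat.mem_divisors.mpr ⟨hd, hn0⟩)
    h1 hsum
  unfold Int.ModEq at hcong
  rcases hδ with rfl | rfl
  · apply k1
    have hr1 : (1 : ℤ) % (r : ℤ) = 1 := Int.emod_eq_of_lt (by norm_num) (by exact_mod_cast hr.one_lt)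
    rw [hr1] at hcong
    refine ⟨by exact_mod_cast hcong, ?_⟩
    have : (1 : ℤ) + (d₁ : ℤ) = (d : ℤ) := by linarith
    omega
  · apply k2
    refine ⟨?_, ?_⟩
    · have h2 : ((d₁ : ℤ) + 1) % (r : ℤ) = 0 := by
        have : ((d₁ : ℤ) + 1) % (r : ℤ) = ((d₁ : ℤ) % (r : ℤ) + 1 % (r : ℤ)) % (r : ℤ) :=
          Int.add_emod _ _ _
        rw [this, hcong, ← Int.add_emod]
        norm_num
      exact_mod_cast h2
    · have : (1 : ℤ) - (d₁ : ℤ) = -(d : ℤ) := by linarith
      omega

theorem no_simple_5104 (h : Nat.card G = 5104) : False :=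
  kill_e2 2 11 29 4 1 (by norm_num) (by norm_num) (by norm_num) (by norm_num) (by norm_num)
    (by norm_num) (by rw [h]; norm_num) (by norm_num) (by decide) (by norm_num) 14 (by norm_num)
    (by decide)

theorem no_simple_5600 (h : Nat.card G = 5600) : False :=
  kill_e2 2 5 7 5 2 (by norm_num) (by norm_num) (by norm_num) (by norm_num) (by norm_num)
    (by norm_num) (by rw [h]; norm_num) (by norm_num) (by decide) (by norm_num) 3 (by norm_num)
    (by decide)

theorem no_simple_5724 (h : Nat.card G = 5724) : False :=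
  kill_e2 2 3 53 2 3 (by norm_num) (by norm_num) (by norm_num) (by norm_num) (by norm_num)
    (by norm_num) (by rw [h]; norm_num) (by norm_num) (by decide) (by norm_num) 26 (by norm_num)
    (by decide)

end Cfsg.Agent.Helper82.Ord
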