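import Mathlib
import Cfsg.Agent.Helper82.OrdA
import Cfsg.Agent.Helper82.BrauerTwoBound

/-!
# No simple group of order 4960 = 2^5 · 5 · 31

S0904 gives `C(P_31) = P_31`, `|N(P_31)| = 155`; the exceptional-character theory for `p = 31`,
`e = 5` (helper17's `ExcData.main'`) forces an irreducible character of degree 2 taking the value 2
on elements of order 31, which is impossible in a simple group.
-/

set_option autoImplicit false
set_option linter.style.haveILetI false
set_option linter.unusedVariables false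
set_option maxHeartbeats 2000000
set_option maxRecDepth 100000

namespace Cfsg.Agent.Helper82.Ord

open Subgroup Cfsg Cfsg.Agent.Helper17 Cfsg.Agent.Helper17.Exc

theorem key_e_4960 : ∀ e ∈ (31 - 1).divisors, e ≠ 1 → e ∣ 2 ^ 5 * 5 ^ 1 →
    (2 ^ 5 * 5 ^ 1 / e) % 31 = 1 → e = 5 := by decide

theorem key_deg_4960 : ∀ n ∈ (4960 : ℕ).divisors, 1 < n → n ≤ 70 →
    ∀ a ∈ Finset.Icc (-2 : ℤ) 2, (n : ℤ) % 31 = a % 31 →
      a = 0 ∨ (a = 1 ∧ n = 32) ∨ (a = 2 ∧ n = 2) := by decide

theorem key_d_4960 : ∀ d ∈ (4960 : ℕ).divisors, d ≤ 28 →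
    ((d : ℤ) % 31 = 5 % 31 → d = 5) ∧ ((d : ℤ) % 31 = (-5) % 31 → False) := by decide

theorem no_simple_4960 {G : Type*} [Group G] [Finite G] [IsSimpleGroup G]
    (h : Nat.card G = 4960) : False := by
  classical
  obtain ⟨S, e, he, he1, hed, hmod, hS, hN, hC⟩ :=
    sylow_data_paqbr (G := G) 2 5 31 5 1 (by norm_num) (by norm_num) (by norm_num) (by norm_num)
      (by norm_num) (by norm_num) (by rw [h]; norm_num) (by norm_num)
  have hee : e = 5 := key_e_4960 e he he1 hed hmod
  subst hee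
  have hp31 : Nat.Prime 31 := by norm_num
  have hnotprime : ¬ (Nat.card G).Prime := by rw [h]; norm_num
  have hperf := commutator_eq_top_of_simple (G := G) hnotprime
  let _ : Fintype G := Fintype.ofFinite G
  let _ : Fintype ↥(Subgroup.normalizer ((S : Subgroup G) : Set G)) := Fintype.ofFinite _
  let _ := Helper74.irrFintype G
  let _ := Helper74.irrFintype ↥(Subgroup.normalizer ((S : Subgroup G) : Set G))
  obtain ⟨D, hidx, hcount⟩ := exists_excData (S : Subgroup G) hp31 hS hC hN (by norm_num)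
    (by norm_num)
  have hRel : Nat.card (Rel (S : Subgroup G)) = 6 := by omega
  obtain ⟨c, d, a, s, h1, h2, h3, h4, h5, h6, h7, h8, hs, hd, hval, hnonval⟩ :=
    D.main' (by omega)
  rw [hidx, hRel] at h6
  rw [hidx, hS] at h2
  rw [hRel] at h7 h8
  rw [hS] at h5
  rw [h] at h1 h8
  -- an element of order 31
  have hSnt : Nontrivial (S : Subgroup G) := by
    rw [← Finite.one_lt_card_iff_nontrivial, hS]; norm_num
  obtain ⟨⟨u, huS⟩, hu1⟩ := exists_ne (1 : (S : Subgroup G))
  have hu1' : u ≠ 1 := fun hh => hu1 (Subtype.ext hh)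
  set u' : ↥(Subgroup.normalizer ((S : Subgroup G) : Set G)) :=
    ⟨u, Subgroup.le_normalizer huS⟩ with hu'def
  have hu'1 : u' ≠ 1 := fun hh => hu1' (congrArg Subtype.val hh)
  -- splitting off the principal character
  have hsq := Finset.add_sum_erase s (fun ψ => a ψ ^ 2) h3
  have hdeg := Finset.add_sum_erase s (fun ψ => a ψ * (charDegree (ψ : G → ℂ) : ℤ)) h3
  rw [h4] at hsq hdeg
  rw [charDegree_principal] at hdeg
  have hnonneg : 0 ≤ ∑ ψ ∈ s.erase (Helper79.principalIrr G), a ψ ^ 2 :=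
    Finset.sum_nonneg (fun j _ => sq_nonneg _)
  have hε := D.hε
  -- bound d
  have hd28 : d ≤ 28 := by
    have : 6 * d ^ 2 ≤ 4960 := by omega
    nlinarith
  have hdmem : d ∈ (4960 : ℕ).divisors := Nat.mem_divisors.mpr ⟨h1, by norm_num⟩
  obtain ⟨kd1, kd2⟩ := key_d_4960 d hdmem hd28
  unfold Int.ModEq at h2
  push_cast at h2
  -- c ∈ {-1, 0, 1}
  have hS1 : ∑ ψ ∈ s, a ψ ^ 2 = 1 + ∑ ψ ∈ s.erase (Helper79.principalIrr G), a ψ ^ 2 := by
    rw [← hsq]; ring
  have hdeg1 : ∑ ψ ∈ s, a ψ * (charDegree (ψ : G → ℂ) : ℤ)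
      = 1 + ∑ ψ ∈ s.erase (Helper79.principalIrr G), a ψ * (charDegree (ψ : G → ℂ) : ℤ) := by
    rw [← hdeg]; push_cast; ring
  push_cast at h6 h7
  have hineq : 6 * c ^ 2 - 2 * D.ε * c ≤ 4 := by linarith
  have hcu : c ≤ 1 := by
    by_contra hcon
    push_neg at hcon
    rcases hε with hε | hε <;> rw [hε] at hineq <;> nlinarith
  have hcl : -1 ≤ c := by
    by_contra hcon
    push_neg at hcon
    rcases hε with hε | hε <;> rw [hε] at hineq <;> nlinarith
  -- reduce to c = 0, ε = 1, d = 5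
  have hmain : c = 0 ∧ D.ε = 1 ∧ d = 5 := by
    have hdpos : 0 < d := Nat.pos_of_ne_zero (by
      rintro rfl
      simp at h1)
    interval_cases c
    · -- c = -1
      rcases hε with hε | hε <;> rw [hε] at h6 h7 h2 hineq
      · exfalso; norm_num at hineq
      · -- ε = -1 = c: Σ a² = 1
        exfalso
        have hs0 : ∑ ψ ∈ s.erase (Helper79.principalIrr G), a ψ ^ 2 = 0 := by
          linarith
        have hall : ∀ ψ ∈ s.erase (Helper79.principalIrr G), a ψ = 0 := by
          intro ψ hψ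
          have := (Finset.sum_eq_zero_iff_of_nonneg (fun j _ => sq_nonneg (a j))).mp hs0 ψ hψ
          exact pow_eq_zero_iff (by norm_num) |>.mp this
        have hz : ∑ ψ ∈ s.erase (Helper79.principalIrr G),
            a ψ * (charDegree (ψ : G → ℂ) : ℤ) = 0 :=
          Finset.sum_eq_zero (fun ψ hψ => by rw [hall ψ hψ, zero_mul])
        have : (d : ℤ) * 5 = 1 := by linarith
        omega
    · -- c = 0
      rcases hε with hε | hε <;> rw [hε] at h2
      · refine ⟨rfl, hε, kd1 ?_⟩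
        rw [h2]; norm_num
      · exfalso
        apply kd2
        rw [h2]; norm_num
    · -- c = 1
      rcases hε with hε | hε <;> rw [hε] at h6 h7 h2 hineq
      · exfalso
        have hs0 : ∑ ψ ∈ s.erase (Helper79.principalIrr G), a ψ ^ 2 = 0 := by
          linarith
        have hall : ∀ ψ ∈ s.erase (Helper79.principalIrr G), a ψ = 0 := by
          intro ψ hψ
          have := (Finset.sum_eq_zero_iff_of_nonneg (fun j _ => sq_nonneg (a j))).mp hs0 ψ hψ
          exact pow_eq_zero_iff (by norm_num) |>.mp this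
        have hz : ∑ ψ ∈ s.erase (Helper79.principalIrr G),
            a ψ * (charDegree (ψ : G → ℂ) : ℤ) = 0 :=
          Finset.sum_eq_zero (fun ψ hψ => by rw [hall ψ hψ, zero_mul])
        have : (d : ℤ) * 5 = -1 := by linarith
        omega
      · exfalso; norm_num at hineq
  obtain ⟨rfl, hε1, rfl⟩ := hmain
  rw [hε1] at h6 h7
  norm_num at h6 h7
  have hsq4 : ∑ ψ ∈ s.erase (Helper79.principalIrr G), a ψ ^ 2 = 4 := by
    linarith
  have hdeg4 : ∑ ψ ∈ s.erase (Helper79.principalIrr G),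
      a ψ * (charDegree (ψ : G → ℂ) : ℤ) = 4 := by
    linarith
  -- classification of the terms
  have hterm : ∀ ψ ∈ s.erase (Helper79.principalIrr G),
      a ψ = 0 ∨ (a ψ = 1 ∧ charDegree (ψ : G → ℂ) = 32) ∨
        (a ψ = 2 ∧ charDegree (ψ : G → ℂ) = 2) := by
    intro ψ hψ
    have hψs := Finset.mem_of_mem_erase hψ
    have hψne := Finset.ne_of_mem_erase hψ
    have ha2 : a ψ ^ 2 ≤ 4 := by
      rw [← hsq4]
      exact Finset.single_le_sum (f := fun ψ => a ψ ^ 2) (fun j _ => sq_nonneg _) hψ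
    have haI : a ψ ∈ Finset.Icc (-2 : ℤ) 2 := by
      rw [Finset.mem_Icc]; constructor <;> nlinarith
    have hdvd : charDegree (ψ : G → ℂ) ∣ 4960 := by
      rw [← h]; exact Helper80.IsIrrCharacter.charDegree_dvd_card ψ.2
    have hgt : 1 < charDegree (ψ : G → ℂ) := one_lt_charDegree_of_perfect hperf ψ hψne
    have hle : charDegree (ψ : G → ℂ) ≤ 70 := by
      have e2 := Finset.single_le_sum (f := fun ψ : IrrCharacter G => charDegree (ψ : G → ℂ) ^ 2)
        (fun _ _ => Nat.zero_le _) hψs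
      beta_reduce at e2
      have : charDegree (ψ : G → ℂ) ^ 2 ≤ 4960 := by omega
      nlinarith
    have hcong := h5 ψ hψs
    unfold Int.ModEq at hcong
    exact key_deg_4960 _ (Nat.mem_divisors.mpr ⟨hdvd, by norm_num⟩) hgt hle _ haI hcong
  -- some term is (2, 2)
  obtain ⟨ψ, hψ, ha, hdeg2⟩ : ∃ ψ ∈ s.erase (Helper79.principalIrr G),
      a ψ = 2 ∧ charDegree (ψ : G → ℂ) = 2 := by
    by_contra hno
    push_neg at hno
    have hterm' : ∀ ψ ∈ s.erase (Helper79.principalIrr G),
        a ψ * (charDegree (ψ : G → ℂ) : ℤ) = 0 ∨ 32 ≤ a ψ * (charDegree (ψ : G → ℂ) : ℤ) := by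
      intro ψ hψ
      rcases hterm ψ hψ with h0 | ⟨h1', h32⟩ | ⟨h2', h22⟩
      · left; rw [h0, zero_mul]
      · right; rw [h1', h32]; norm_num
      · exact absurd h22 (hno ψ hψ h2')
    have hnn : ∀ ψ ∈ s.erase (Helper79.principalIrr G),
        0 ≤ a ψ * (charDegree (ψ : G → ℂ) : ℤ) := by
      intro ψ hψ
      rcases hterm' ψ hψ with h0 | h32
      · rw [h0]
      · linarith
    by_cases hex : ∃ ψ ∈ s.erase (Helper79.principalIrr G),
        32 ≤ a ψ * (charDegree (ψ : G → ℂ) : ℤ)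
    · obtain ⟨ψ, hψ, h32⟩ := hex
      have := Finset.single_le_sum (f := fun ψ => a ψ * (charDegree (ψ : G → ℂ) : ℤ)) hnn hψ
      beta_reduce at this
      linarith
    · push_neg at hex
      have : ∑ ψ ∈ s.erase (Helper79.principalIrr G),
          a ψ * (charDegree (ψ : G → ℂ) : ℤ) = 0 := by
        apply Finset.sum_eq_zero
        intro ψ hψ
        rcases hterm' ψ hψ with h0 | h32
        · exact h0
        · exact absurd h32 (not_le.mpr (hex ψ hψ))
      rw [this] at hdeg4
      norm_num at hdeg4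
  -- ψ takes its degree at u
  have hψs := Finset.mem_of_mem_erase hψ
  have hvalu : (ψ : G → ℂ) u = a ψ := hnonval ψ hψs u' huS hu'1
  have h1ψ : (ψ : G → ℂ) 1 = (charDegree (ψ : G → ℂ) : ℂ) :=
    Helper78.irrChar_one_eq_charDegree ψ.2
  apply hu1'
  apply Helper82.B2I.eq_one_of_irr_value_eq_degree ψ (by rw [hdeg2]; norm_num) u
  rw [hvalu, h1ψ, ha, hdeg2]
  norm_num

end Cfsg.Agent.Helper82.Ord
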