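import Mathlib
import Cfsg.Agent.Helper82.OrdA
import Cfsg.Agent.Helper82.BrauerTwoBound
import Cfsg.Agent.S1010
import Cfsg.Agent.Helper39.SimpOrd.Kit
import Cfsg.Agent.Helper39.SimpOrd.H5040A
import Cfsg.Agent.Helper17.VTrick

/-!
# No simple group of order 5880 = 2^3 · 3 · 5 · 7^2

Sylow analysis shows that `K = C(P_5)` is an abelian CC-subgroup of order 15 with `|N(K)| = 30`;
the Brauer–Suzuki exceptional-character theory (S0851 through helper17's `ExcData`) then has no
solution.
-/

set_option autoImplicit false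
set_option linter.style.haveILetI false
set_option linter.unusedVariables false
set_option maxHeartbeats 2000000
set_option maxRecDepth 100000

namespace Cfsg.Agent.Helper82.Ord

open Subgroup Cfsg Cfsg.Agent.Helper17 Cfsg.Agent.Helper17.Exc

section CC

variable {G : Type*} [Group G]

/-- An abelian subgroup containing the centralizers of its non-identity elements is a TI-set. -/
theorem ti_of_cc (K : Subgroup G) (hab : ∀ a ∈ K, ∀ b ∈ K, a * b = b * a)
    (hC : ∀ k ∈ K, k ≠ 1 → Subgroup.centralizer ({k} : Set G) ≤ K) :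
    ∀ g : G, g ∉ Subgroup.normalizer (K : Set G) → ∀ k ∈ K, g * k * g⁻¹ ∈ K → k = 1 := by
  intro g hg k hk hgk
  by_contra hk1
  apply hg
  have hk'1 : g * k * g⁻¹ ≠ 1 := by
    intro h
    apply hk1
    calc k = g⁻¹ * (g * k * g⁻¹) * g := by group
      _ = 1 := by rw [h]; group
  rw [Subgroup.mem_normalizer_iff]
  intro x
  constructor
  · intro hx
    apply hC _ hgk hk'1
    rw [Subgroup.mem_centralizer_singleton_iff]
    have := hab x hx k hk
    calc g * x * g⁻¹ * (g * k * g⁻¹) = g * (x * k) * g⁻¹ := by group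
      _ = g * (k * x) * g⁻¹ := by rw [this]
      _ = g * k * g⁻¹ * (g * x * g⁻¹) := by group
  · intro hx
    apply hC _ hk hk1
    rw [Subgroup.mem_centralizer_singleton_iff]
    have := hab _ hx _ hgk
    calc x * k = g⁻¹ * ((g * x * g⁻¹) * (g * k * g⁻¹)) * g := by group
      _ = g⁻¹ * ((g * k * g⁻¹) * (g * x * g⁻¹)) * g := by rw [this]
      _ = k * x := by group

end CC


section Exc

universe u

variable {G : Type u} [Group G] [Fintype G]

/-- Exceptional-character data for an abelian CC-subgroup `K` with `|N(K)| = |K| e`,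
`2 ≤ e`, `e + 1 < |K|` (version of helper17's `exists_excData` without primality of `|K|`). -/
theorem exists_excData_cc (K : Subgroup G) {k e : ℕ} (hK : Nat.card K = k) (hk0 : 0 < k)
    (hab : ∀ a ∈ K, ∀ b ∈ K, a * b = b * a)
    (hC : ∀ k ∈ K, k ≠ 1 → Subgroup.centralizer ({k} : Set G) ≤ K)
    (hN : Nat.card (Subgroup.normalizer (K : Set G)) = k * e) (he : 2 ≤ e) (hek : e + 1 < k)
    [Fintype ↥(Subgroup.normalizer (K : Set G))] :
    ∃ _ : ExcData K, (K.subgroupOf (Subgroup.normalizer (K : Set G))).index = e ∧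
      Nat.card (Rel K) * e + 1 = k := by
  have hTI := ti_of_cc K hab hC
  have hle : K ≤ Subgroup.normalizer (K : Set G) := Subgroup.le_normalizer
  have hidx : (K.subgroupOf (Subgroup.normalizer (K : Set G))).index = e := by
    have h1 := (K.subgroupOf (Subgroup.normalizer (K : Set G))).card_mul_index
    rw [card_subgroupOf_normalizer, hK, hN] at h1
    exact Nat.eq_of_mul_eq_mul_left hk0 h1
  have hlt : K < Subgroup.normalizer (K : Set G) := by
    refine lt_of_le_of_ne hle (fun h => ?_)
    have h1 : Nat.card K = Nat.card (Subgroup.normalizer (K : Set G)) :=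
      congrArg (fun H : Subgroup G => Nat.card H) h
    rw [hK, hN] at h1
    have : k * 1 = k * e := by rw [mul_one]; exact h1
    have := Nat.eq_of_mul_eq_mul_left hk0 this
    omega
  have hcount := rel_count hC hab
  rw [hidx, hK] at hcount
  rcases Cfsg.Agent.S0851.result K hTI hlt hC hab with ⟨_, q, _, _, hcard⟩ | ⟨ε, f, hε, hinj, hf⟩
  · exfalso
    rw [hK, hidx] at hcard
    omega
  · rcases hε with rfl | rfl
    · exact ⟨⟨hTI, hC, hab, 1, Or.inl rfl, f, hinj, fun χ ξ => by
        rw [hf χ ξ]; simp⟩, hidx, hcount⟩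
    · exact ⟨⟨hTI, hC, hab, -1, Or.inr rfl, f, hinj, fun χ ξ => by
        rw [hf χ ξ]; simp⟩, hidx, hcount⟩

end Exc

theorem key_5880 : ∀ d₁ ∈ (5880 : ℕ).divisors, ∀ d ∈ (5880 : ℕ).divisors, 1 < d₁ → d₁ ≤ 76 →
    d ≤ 28 → ∀ δ ∈ ({1, -1} : Finset ℤ), ∀ ε ∈ ({1, -1} : Finset ℤ),
      (d₁ : ℤ) % 15 = δ % 15 → (d : ℤ) % 15 = (ε * 2) % 15 → 1 + δ * d₁ ≠ d * ε := by
  decide

/-- A simple group of order 5880 has no abelian CC-subgroup of order 15 with normalizer of
order 30. -/
theorem kill_cc15 {G : Type*} [Group G] [Finite G] [IsSimpleGroup G] (h : Nat.card G = 5880)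
    (K : Subgroup G) (hK : Nat.card K = 15)
    (hab : ∀ a ∈ K, ∀ b ∈ K, a * b = b * a)
    (hC : ∀ k ∈ K, k ≠ 1 → Subgroup.centralizer ({k} : Set G) ≤ K)
    (hN : Nat.card (Subgroup.normalizer (K : Set G)) = 30) : False := by
  classical
  have hnotprime : ¬ (Nat.card G).Prime := by rw [h]; norm_num
  have hperf := commutator_eq_top_of_simple (G := G) hnotprime
  let _ : Fintype G := Fintype.ofFinite G
  let _ : Fintype ↥(Subgroup.normalizer (K : Set G)) := Fintype.ofFinite _
  let _ := Helper74.irrFintype G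
  let _ := Helper74.irrFintype ↥(Subgroup.normalizer (K : Set G))
  obtain ⟨D, hidx, hcount⟩ := exists_excData_cc K (k := 15) (e := 2) hK (by norm_num) hab hC
    (by rw [hN]) (by norm_num) (by norm_num)
  have hRel : Nat.card (Rel K) = 7 := by omega
  obtain ⟨c, d, a, s, h1, h2, h3, h4, h5, h6, h7, h8, hs, hd, hval, hnonval⟩ :=
    D.main' (by omega)
  rw [hidx, hRel] at h6
  rw [hidx, hK] at h2
  rw [hRel] at h7 h8
  rw [hK] at h5
  rw [h] at h1 h8
  have hsq := Finset.add_sum_erase s (fun ψ => a ψ ^ 2) h3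
  have hdeg := Finset.add_sum_erase s (fun ψ => a ψ * (charDegree (ψ : G → ℂ) : ℤ)) h3
  rw [h4] at hsq hdeg
  rw [charDegree_principal] at hdeg
  have hnonneg : 0 ≤ ∑ ψ ∈ s.erase (Helper79.principalIrr G), a ψ ^ 2 :=
    Finset.sum_nonneg (fun j _ => sq_nonneg _)
  have hε := D.hε
  have hS1 : ∑ ψ ∈ s, a ψ ^ 2 = 1 + ∑ ψ ∈ s.erase (Helper79.principalIrr G), a ψ ^ 2 := by
    rw [← hsq]; ring
  have hdeg1 : ∑ ψ ∈ s, a ψ * (charDegree (ψ : G → ℂ) : ℤ)
      = 1 + ∑ ψ ∈ s.erase (Helper79.principalIrr G), a ψ * (charDegree (ψ : G → ℂ) : ℤ) := by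
    rw [← hdeg]; push_cast; ring
  push_cast at h6 h7
  have hineq : 7 * c ^ 2 - 2 * D.ε * c ≤ 1 := by linarith
  have hc0 : c = 0 := by
    have hcu : c ≤ 0 ∨ 1 ≤ c := by omega
    rcases hε with hε | hε <;> rw [hε] at hineq
    · rcases hcu with hcu | hcu
      · nlinarith
      · nlinarith
    · rcases hcu with hcu | hcu
      · nlinarith
      · nlinarith
  subst hc0
  norm_num at h6 h7
  have hsum1 : ∑ ψ ∈ s.erase (Helper79.principalIrr G), a ψ ^ 2 = 1 := by linarith
  obtain ⟨ψ₁, hψ₁, haψ₁, hrest⟩ := sq_sum_one _ a hsum1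
  have hψ₁s := Finset.mem_of_mem_erase hψ₁
  have hψ₁ne := Finset.ne_of_mem_erase hψ₁
  have hdegerase := sum_eq_of_support_one _ a (fun ψ => (charDegree (ψ : G → ℂ) : ℤ)) hψ₁ hrest
  beta_reduce at hdegerase
  -- the relation 1 + δ d₁ = d ε
  have hrel : 1 + a ψ₁ * (charDegree (ψ₁ : G → ℂ) : ℤ) = (d : ℤ) * D.ε := by
    linarith
  have hd₁gt : 1 < charDegree (ψ₁ : G → ℂ) := one_lt_charDegree_of_perfect hperf ψ₁ hψ₁ne
  have hd₁dvd : charDegree (ψ₁ : G → ℂ) ∣ 5880 := by
    rw [← h]; exact Helper80.IsIrrCharacter.charDegree_dvd_card ψ₁.2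
  have hd₁le : charDegree (ψ₁ : G → ℂ) ≤ 76 := by
    have e2 := Finset.single_le_sum (f := fun ψ : IrrCharacter G => charDegree (ψ : G → ℂ) ^ 2)
      (fun _ _ => Nat.zero_le _) hψ₁s
    beta_reduce at e2
    have : charDegree (ψ₁ : G → ℂ) ^ 2 ≤ 5880 := by omega
    nlinarith
  have hd28 : d ≤ 28 := by
    have : 7 * d ^ 2 ≤ 5880 := by omega
    nlinarith
  have hcong := h5 ψ₁ hψ₁s
  unfold Int.ModEq at hcong h2
  push_cast at hcong h2
  have hδmem : a ψ₁ ∈ ({1, -1} : Finset ℤ) := by
    rcases haψ₁ with h' | h' <;> rw [h'] <;> simp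
  have hεmem : D.ε ∈ ({1, -1} : Finset ℤ) := by
    rcases hε with h' | h' <;> rw [h'] <;> simp
  have h2' : (d : ℤ) % 15 = (D.ε * 2) % 15 := by
    rw [h2]; ring_nf
  exact key_5880 _ (Nat.mem_divisors.mpr ⟨hd₁dvd, by norm_num⟩) d
    (Nat.mem_divisors.mpr ⟨h1, by norm_num⟩) hd₁gt hd₁le hd28 _ hδmem _ hεmem hcong h2' hrel


section Grp

variable {G : Type*} [Group G]

theorem centralizer_singleton_eq_of_zpowers' {x : G} {P : Subgroup G} (hP : P = zpowers x) :
    centralizer ({x} : Set G) = centralizer (P : Set G) := by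
  apply le_antisymm
  · intro z hz
    rw [Subgroup.mem_centralizer_singleton_iff] at hz
    rw [Subgroup.mem_centralizer_iff]
    intro y hy
    rw [hP] at hy
    obtain ⟨k, rfl⟩ := Subgroup.mem_zpowers_iff.mp hy
    have hc : Commute z x := hz
    exact ((hc.zpow_right k).eq).symm
  · intro z hz
    rw [Subgroup.mem_centralizer_singleton_iff]
    rw [Subgroup.mem_centralizer_iff] at hz
    exact (hz x (by rw [hP]; exact Subgroup.mem_zpowers x)).symm

/-- A subgroup of prime order is generated by any of its non-identity elements. -/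
theorem eq_zpowers_of_prime_card [Finite G] {P : Subgroup G} {p : ℕ} (hp : p.Prime)
    (hP : Nat.card P = p) {y : G} (hy : y ∈ P) (hy1 : y ≠ 1) : P = zpowers y := by
  have hord : orderOf y = p := by
    have h1 : orderOf y ∣ p := by
      have := orderOf_dvd_natCard (⟨y, hy⟩ : P)
      rwa [hP, Subgroup.orderOf_mk] at this
    rcases (Nat.dvd_prime hp).mp h1 with h | h
    · exact absurd (orderOf_eq_one_iff.mp h) hy1
    · exact h
  symm
  exact Subgroup.eq_of_le_of_card_ge (Subgroup.zpowers_le.mpr hy)
    (by rw [Nat.card_zpowers, hord, hP])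

end Grp

theorem npList_5880_5 : Helper39.SimpOrd.npList 5 1 1176 = [21, 196] := by decide +kernel

theorem npList_5880_3 : Helper39.SimpOrd.npList 3 1 1960 = [28, 49, 70, 196, 490] := by
  decide +kernel

theorem key_C3_5880 : ∀ n ∈ ([28, 49, 70, 196, 490] : List ℕ), ∀ N C m k : ℕ, N * n = 5880 →
    C * 2 = N → 5 ∣ C → 15 ∣ m → m ∣ 30 → k * m = C → k % 5 = 1 → n = 196 ∧ C = 15 := by
  intro n hn N C m k h1 h2 h3 h4 h5 h6 h7
  have hm : m = 15 ∨ m = 30 := by
    have hle : m ≤ 30 := Nat.le_of_dvd (by norm_num) h5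
    obtain ⟨j, rfl⟩ := h4
    have : j ≤ 2 := by omega
    interval_cases j
    · simp at h5
    · left; rfl
    · right; rfl
  simp only [List.mem_cons, List.mem_nil_iff, or_false] at hn
  rcases hn with rfl | rfl | rfl | rfl | rfl <;> rcases hm with rfl | rfl <;> omega


theorem no_simple_5880 {G : Type*} [Group G] [Finite G] [IsSimpleGroup G]
    (h : Nat.card G = 5880) : False := by
  classical
  haveI f5 : Fact (Nat.Prime 5) := ⟨by norm_num⟩
  haveI f3 : Fact (Nat.Prime 3) := ⟨by norm_num⟩
  have hG : ¬ IsMulCommutative G := not_comm_of_simple_of_not_prime (by rw [h]; norm_num)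
  -- Sylow 5
  obtain ⟨P⟩ : Nonempty (Sylow 5 G) := inferInstance
  have hP : Nat.card (P : Subgroup G) = 5 := by
    have := card_sylow_subgroup_of_card_eq (G := G) (p := 5) (k := 1) (m := 1176)
      (by rw [h]; norm_num) (by norm_num) P
    simpa using this
  have hn5mem := Helper39.SimpOrd.card_sylow_mem_npList hG 5 1 1176 (by norm_num)
    (by rw [h]; norm_num) (by norm_num) (by norm_num) (by norm_num)
  rw [npList_5880_5] at hn5mem
  have hn5 : Nat.card (Sylow 5 G) = 196 := by
    simp only [List.mem_cons, List.mem_nil_iff, or_false] at hn5mem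
    rcases hn5mem with h21 | h196
    · exact absurd h21 Cfsg.Agent.S1010.result
    · exact h196
  have hNP : Nat.card (normalizer ((P : Subgroup G) : Set G)) = 30 :=
    Helper39.SimpOrd.card_normalizer_of_card_sylow P h hn5 (by norm_num) (by norm_num)
  -- K = C(P) has order 15
  set K : Subgroup G := centralizer ((P : Subgroup G) : Set G) with hKdef
  have hKN : K ≤ normalizer ((P : Subgroup G) : Set G) := Subgroup.centralizer_le_normalizer _
  have hK : Nat.card K = 15 := by
    obtain ⟨hd1, -⟩ := relIndex_dvd_of_card_sylow_prime P hP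
    have hcm := card_centralizer_mul_relIndex (P : Subgroup G)
    have hne : ¬ (normalizer ((P : Subgroup G) : Set G) ≤ centralizer ((P : Subgroup G) : Set G)) :=
      not_normalizer_le_centralizer_of_simple P (by rw [hP]; norm_num) (by rw [hP, h]; norm_num)
    have h1' : (centralizer ((P : Subgroup G) : Set G)).relIndex
      (normalizer ((P : Subgroup G) : Set G)) ≠ 1 := fun h => hne (Subgroup.relIndex_eq_one.mp h)
    have h0 : (centralizer ((P : Subgroup G) : Set G)).relIndex
      (normalizer ((P : Subgroup G) : Set G)) ≠ 0 := Subgroup.index_ne_zero_of_finite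
    generalize hdd : (centralizer ((P : Subgroup G) : Set G)).relIndex
      (normalizer ((P : Subgroup G) : Set G)) = d at hd1 hcm h0 h1'
    have hd4 : d ≤ 4 := Nat.le_of_dvd (by norm_num) hd1
    rw [hNP] at hcm
    interval_cases d
    · exact absurd rfl h0
    · exact absurd rfl h1'
    · rw [hKdef]; omega
    · norm_num at hd1
    · omega
  have hPK : (P : Subgroup G) ≤ K := by
    intro x hx
    rw [hKdef, Subgroup.mem_centralizer_iff]
    intro y hy
    exact Helper17.Exc.comm_of_prime_card (P : Subgroup G) (by norm_num) hP y hy x hx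
  -- K is abelian
  have hab : ∀ a ∈ K, ∀ b ∈ K, a * b = b * a := by
    -- P.subgroupOf K is central in K
    have hcen : (P : Subgroup G).subgroupOf K ≤ Subgroup.center K := by
      intro x hx
      rw [Subgroup.mem_subgroupOf] at hx
      rw [Subgroup.mem_center_iff]
      intro g
      apply Subtype.ext
      have hg : (g : G) ∈ centralizer ((P : Subgroup G) : Set G) := g.2
      rw [Subgroup.mem_centralizer_iff] at hg
      simp only [Subgroup.coe_mul]
      exact (hg _ hx).symm
    have h5 : 5 ∣ Nat.card (Subgroup.center K) := by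
      have h1 := Subgroup.card_dvd_of_le hcen
      have h2 : Nat.card ((P : Subgroup G).subgroupOf K) = 5 :=
        (Nat.card_congr (Subgroup.subgroupOfEquivOfLe hPK).toEquiv).trans hP
      rwa [h2] at h1
    have h15 : Nat.card (Subgroup.center K) ∣ 15 := by
      rw [← hK]; exact Subgroup.card_subgroup_dvd_card _
    have hidx : (Subgroup.center K).index = 1 ∨ (Subgroup.center K).index = 3 := by
      have hmul := (Subgroup.center K).card_mul_index
      rw [hK] at hmul
      have hmem : Nat.card (Subgroup.center K) ∈ Nat.divisors 15 :=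
        Nat.mem_divisors.mpr ⟨h15, by norm_num⟩
      have key : ∀ n ∈ Nat.divisors 15, 5 ∣ n → n = 5 ∨ n = 15 := by decide
      rcases key _ hmem h5 with h5' | h15'
      · right
        rw [h5'] at hmul
        omega
      · left
        rw [h15'] at hmul
        omega
    have hcyc : IsCyclic (K ⧸ Subgroup.center K) := by
      have hcard : Nat.card (K ⧸ Subgroup.center K) = (Subgroup.center K).index := rfl
      rcases hidx with h1 | h3
      · haveI : Subsingleton (K ⧸ Subgroup.center K) := by
          rw [← Finite.card_le_one_iff_subsingleton, hcard, h1]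
        exact isCyclic_of_subsingleton
      · exact isCyclic_of_prime_card (p := 3) (by rw [hcard, h3])
    intro a ha b hb
    have := commutative_of_cyclic_center_quotient (QuotientGroup.mk' (Subgroup.center K))
      (by rw [QuotientGroup.ker_mk']) (⟨a, ha⟩ : K) ⟨b, hb⟩
    exact congrArg Subtype.val this
  -- an element w of order 3 in K and the Sylow 3-subgroup Q = ⟨w⟩
  obtain ⟨w', hw'⟩ := exists_prime_orderOf_dvd_card' (G := K) 3 (by rw [hK]; norm_num)
  set w : G := (w' : G) with hwdef
  have hwK : w ∈ K := w'.2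
  have hw3 : orderOf w = 3 := by rw [hwdef, Subgroup.orderOf_coe]; exact hw'
  have hw1 : w ≠ 1 := by
    intro h1
    rw [h1, orderOf_one] at hw3
    omega
  have hW3 : IsPGroup 3 (zpowers w) := by
    apply IsPGroup.of_card (n := 1)
    rw [Nat.card_zpowers, hw3, pow_one]
  obtain ⟨Q, hWQ⟩ := hW3.exists_le_sylow
  have hQ : Nat.card (Q : Subgroup G) = 3 := by
    have := card_sylow_subgroup_of_card_eq (G := G) (p := 3) (k := 1) (m := 1960)
      (by rw [h]; norm_num) (by norm_num) Q
    simpa using this
  have hwQ : w ∈ (Q : Subgroup G) := hWQ (Subgroup.mem_zpowers w)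
  have hQz : (Q : Subgroup G) = zpowers w := eq_zpowers_of_prime_card (by norm_num) hQ hwQ hw1
  have hQK : (Q : Subgroup G) ≤ K := by
    rw [hQz]; exact Subgroup.zpowers_le.mpr hwK
  -- P ≤ C(Q)
  have hCQ : centralizer ({w} : Set G) = centralizer ((Q : Subgroup G) : Set G) :=
    centralizer_singleton_eq_of_zpowers' hQz
  have hPCQ : (P : Subgroup G) ≤ centralizer ((Q : Subgroup G) : Set G) := by
    rw [← hCQ]
    intro x hx
    rw [Subgroup.mem_centralizer_singleton_iff]
    exact hab x (hPK hx) w hwK
  have hKCQ : K ≤ centralizer ((Q : Subgroup G) : Set G) := by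
    rw [← hCQ]
    intro x hx
    rw [Subgroup.mem_centralizer_singleton_iff]
    exact hab x hx w hwK
  -- Sylow 3 count
  have hn3mem := Helper39.SimpOrd.card_sylow_mem_npList hG 3 1 1960 (by norm_num)
    (by rw [h]; norm_num) (by norm_num) (by norm_num) (by norm_num)
  rw [npList_5880_3] at hn3mem
  have hNQmul := card_normalizer_mul_card_sylow Q
  rw [h] at hNQmul
  have hCQcard : Nat.card (centralizer ((Q : Subgroup G) : Set G)) * 2
      = Nat.card (normalizer ((Q : Subgroup G) : Set G)) := by
    obtain ⟨hd1, -⟩ := relIndex_dvd_of_card_sylow_prime Q hQ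
    have hcm := card_centralizer_mul_relIndex (Q : Subgroup G)
    have hne : ¬ (normalizer ((Q : Subgroup G) : Set G) ≤ centralizer ((Q : Subgroup G) : Set G)) :=
      not_normalizer_le_centralizer_of_simple Q (by rw [hQ]; norm_num) (by rw [hQ, h]; norm_num)
    have h1' : (centralizer ((Q : Subgroup G) : Set G)).relIndex
      (normalizer ((Q : Subgroup G) : Set G)) ≠ 1 := fun h => hne (Subgroup.relIndex_eq_one.mp h)
    have h0 : (centralizer ((Q : Subgroup G) : Set G)).relIndex
      (normalizer ((Q : Subgroup G) : Set G)) ≠ 0 := Subgroup.index_ne_zero_of_finite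
    generalize hdd : (centralizer ((Q : Subgroup G) : Set G)).relIndex
      (normalizer ((Q : Subgroup G) : Set G)) = d at hd1 hcm h0 h1'
    have hd2 : d ≤ 2 := Nat.le_of_dvd (by norm_num) hd1
    interval_cases d
    · exact absurd rfl h0
    · exact absurd rfl h1'
    · exact hcm
  have h5C : 5 ∣ Nat.card (centralizer ((Q : Subgroup G) : Set G)) := by
    rw [← hP]; exact Subgroup.card_dvd_of_le hPCQ
  -- Sylow 5-count in C(Q)
  have hcount := card_sylow_of_le P (centralizer ((Q : Subgroup G) : Set G)) hPCQ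
  set m := Nat.card (centralizer ((Q : Subgroup G) : Set G) ⊓
    normalizer ((P : Subgroup G) : Set G) : Subgroup G) with hmdef
  have hm30 : m ∣ 30 := by
    rw [← hNP]; exact Subgroup.card_dvd_of_le inf_le_right
  have hm15 : 15 ∣ m := by
    have h3 : 3 ∣ m := by
      rw [← hQ]
      apply Subgroup.card_dvd_of_le
      refine le_inf ?_ (hQK.trans hKN)
      intro x hx
      rw [Subgroup.mem_centralizer_iff]
      intro y hy
      exact hab y (hQK hy) x (hQK hx)
    have h5 : 5 ∣ m := by
      rw [← hP]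
      exact Subgroup.card_dvd_of_le (le_inf hPCQ le_normalizer)
    exact Nat.Coprime.mul_dvd_of_dvd_of_dvd (by norm_num : Nat.Coprime 3 5) h3 h5
  have hmod : Nat.card (Sylow 5 ↥(centralizer ((Q : Subgroup G) : Set G))) % 5 = 1 := by
    have hh := card_sylow_modEq_one 5 ↥(centralizer ((Q : Subgroup G) : Set G))
    unfold Nat.ModEq at hh
    rw [hh]
  obtain ⟨hn3, hC15⟩ := key_C3_5880 _ hn3mem _ _ m _ hNQmul hCQcard h5C hm15 hm30 hcount hmod
  -- C(Q) = K
  have hCQK : centralizer ((Q : Subgroup G) : Set G) = K := by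
    symm
    exact Subgroup.eq_of_le_of_card_ge hKCQ (by rw [hC15, hK])
  -- uniqueness of Sylow subgroups of K
  have hsub5 : Subsingleton (Sylow 5 ↥K) := by
    have hdvd : Nat.card (Sylow 5 ↥K) ∣ 3 :=
      card_sylow_dvd_of_card_eq (G := ↥K) (p := 5) (k := 1) (m := 3) (by rw [hK]; norm_num)
        (by norm_num)
    have hh := card_sylow_modEq_one 5 ↥K
    unfold Nat.ModEq at hh
    have hmem : Nat.card (Sylow 5 ↥K) ∈ Nat.divisors 3 := Nat.mem_divisors.mpr ⟨hdvd, by norm_num⟩
    have key : ∀ n ∈ Nat.divisors 3, n % 5 = 1 % 5 → n = 1 := by decide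
    have h1 := key _ hmem hh
    exact (Nat.card_eq_one_iff_unique.mp h1).1
  have hsub3 : Subsingleton (Sylow 3 ↥K) := by
    have hdvd : Nat.card (Sylow 3 ↥K) ∣ 5 :=
      card_sylow_dvd_of_card_eq (G := ↥K) (p := 3) (k := 1) (m := 5) (by rw [hK]; norm_num)
        (by norm_num)
    have hh := card_sylow_modEq_one 3 ↥K
    unfold Nat.ModEq at hh
    have hmem : Nat.card (Sylow 3 ↥K) ∈ Nat.divisors 5 := Nat.mem_divisors.mpr ⟨hdvd, by norm_num⟩
    have key : ∀ n ∈ Nat.divisors 5, n % 3 = 1 % 3 → n = 1 := by decide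
    have h1 := key _ hmem hh
    exact (Nat.card_eq_one_iff_unique.mp h1).1
  have hmapP : ((P.subtype hPK : Sylow 5 ↥K) : Subgroup ↥K).map K.subtype = (P : Subgroup G) := by
    rw [Sylow.coe_subtype]
    exact Subgroup.map_subgroupOf_eq_of_le hPK
  have hmapQ : ((Q.subtype hQK : Sylow 3 ↥K) : Subgroup ↥K).map K.subtype = (Q : Subgroup G) := by
    rw [Sylow.coe_subtype]
    exact Subgroup.map_subgroupOf_eq_of_le hQK
  -- the CC property
  have hC : ∀ k ∈ K, k ≠ 1 → centralizer ({k} : Set G) ≤ K := by
    intro k hk hk1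
    have hord : orderOf k ∣ 15 := by
      have := orderOf_dvd_natCard (⟨k, hk⟩ : K)
      rwa [hK, Subgroup.orderOf_mk] at this
    have hord1 : orderOf k ≠ 1 := fun hh => hk1 (orderOf_eq_one_iff.mp hh)
    have hcases : orderOf k = 3 ∨ 5 ∣ orderOf k := by
      have hmem : orderOf k ∈ Nat.divisors 15 := Nat.mem_divisors.mpr ⟨hord, by norm_num⟩
      have key : ∀ n ∈ Nat.divisors 15, n ≠ 1 → n = 3 ∨ 5 ∣ n := by decide
      exact key _ hmem hord1
    rcases hcases with h3 | h5
    · -- k generates Q
      have hk3 : IsPGroup 3 (zpowers k) := by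
        apply IsPGroup.of_card (n := 1)
        rw [Nat.card_zpowers, h3, pow_one]
      have hle := Helper39.SimpOrd.le_map_of_subsingleton_sylow K (Q.subtype hQK) (zpowers k)
        (Subgroup.zpowers_le.mpr hk) hk3
      rw [hmapQ] at hle
      have hkQ : k ∈ (Q : Subgroup G) := hle (Subgroup.mem_zpowers k)
      have hQk : (Q : Subgroup G) = zpowers k := eq_zpowers_of_prime_card (by norm_num) hQ hkQ hk1
      rw [centralizer_singleton_eq_of_zpowers' hQk, hCQK]
    · -- a power of k generates P
      obtain ⟨j, hj⟩ := h5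
      set y : G := k ^ j with hydef
      have hj0 : j ≠ 0 := by
        rintro rfl
        rw [mul_zero] at hj
        exact (orderOf_pos k).ne' hj
      have hy5 : orderOf y = 5 := by
        rw [hydef, orderOf_pow' k hj0, hj, Nat.gcd_eq_right (Dvd.intro_left 5 rfl)]
        exact Nat.mul_div_cancel 5 (Nat.pos_of_ne_zero hj0)
      have hyK : y ∈ K := K.pow_mem hk j
      have hy1 : y ≠ 1 := by
        intro hh
        rw [hh, orderOf_one] at hy5
        omega
      have hy5grp : IsPGroup 5 (zpowers y) := by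
        apply IsPGroup.of_card (n := 1)
        rw [Nat.card_zpowers, hy5, pow_one]
      have hle := Helper39.SimpOrd.le_map_of_subsingleton_sylow K (P.subtype hPK) (zpowers y)
        (Subgroup.zpowers_le.mpr hyK) hy5grp
      rw [hmapP] at hle
      have hyP : y ∈ (P : Subgroup G) := hle (Subgroup.mem_zpowers y)
      have hPy : (P : Subgroup G) = zpowers y := eq_zpowers_of_prime_card (by norm_num) hP hyP hy1
      have hstep : centralizer ({k} : Set G) ≤ centralizer ({y} : Set G) := by
        intro z hz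
        rw [Subgroup.mem_centralizer_singleton_iff] at hz ⊢
        have hc : Commute z k := hz
        exact (hc.pow_right j).eq
      refine hstep.trans ?_
      rw [centralizer_singleton_eq_of_zpowers' hPy]
  -- N(K) = N(P) has order 30
  have hNK : Nat.card (normalizer (K : Set G)) = 30 := by
    have hle1 : normalizer ((P : Subgroup G) : Set G) ≤ normalizer (K : Set G) := by
      intro g hg
      rw [Subgroup.mem_normalizer_iff]
      intro x
      constructor
      · intro hx
        exact Helper39.SimpOrd.conj_mem_centralizer_of_mem_normalizer (P : Subgroup G) hg hx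
      · intro hx
        have h1 := Helper39.SimpOrd.conj_mem_centralizer_of_mem_normalizer (P : Subgroup G)
          (Subgroup.inv_mem _ hg) hx
        have h2 : g⁻¹ * (g * x * g⁻¹) * g⁻¹⁻¹ = x := by group
        rw [h2] at h1
        exact h1
    have hle2 : normalizer (K : Set G) ≤ normalizer ((P : Subgroup G) : Set G) := by
      intro g hg
      rw [Subgroup.mem_normalizer_iff] at hg ⊢
      -- g P g⁻¹ is a 5-subgroup of K, hence inside P
      have hconj : ∀ x ∈ (P : Subgroup G), g * x * g⁻¹ ∈ (P : Subgroup G) := by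
        intro x hx
        by_cases hx1 : x = 1
        · rw [hx1]; simp
        have hxK : g * x * g⁻¹ ∈ K := (hg x).mp (hPK hx)
        have hord : orderOf (g * x * g⁻¹) = 5 := by
          have : g * x * g⁻¹ = MulAut.conj g x := rfl
          rw [this, MulEquiv.orderOf_eq]
          have h1 : orderOf x ∣ 5 := by
            have := orderOf_dvd_natCard (⟨x, hx⟩ : (P : Subgroup G))
            rwa [hP, Subgroup.orderOf_mk] at this
          rcases (Nat.dvd_prime (by norm_num : Nat.Prime 5)).mp h1 with h' | h'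
          · exact absurd (orderOf_eq_one_iff.mp h') hx1
          · exact h'
        have hgrp : IsPGroup 5 (zpowers (g * x * g⁻¹)) := by
          apply IsPGroup.of_card (n := 1)
          rw [Nat.card_zpowers, hord, pow_one]
        have hle := Helper39.SimpOrd.le_map_of_subsingleton_sylow K (P.subtype hPK)
          (zpowers (g * x * g⁻¹)) (Subgroup.zpowers_le.mpr hxK) hgrp
        rw [hmapP] at hle
        exact hle (Subgroup.mem_zpowers _)
      intro x
      constructor
      · exact hconj x
      · intro hx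
        -- P and gPg⁻¹ have the same finite cardinality
        have hinj : Function.Injective (fun x : (P : Subgroup G) =>
            (⟨g * x * g⁻¹, hconj x x.2⟩ : (P : Subgroup G))) := by
          intro a b hab'
          have := congrArg Subtype.val hab'
          simp only [mul_left_inj, mul_right_inj] at this
          exact Subtype.ext this
        have hsurj := Finite.surjective_of_injective hinj
        obtain ⟨⟨y, hy⟩, hy'⟩ := hsurj ⟨g * x * g⁻¹, hx⟩
        have := congrArg Subtype.val hy'
        simp only [mul_left_inj, mul_right_inj] at this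
        rw [← this]; exact hy
    rw [le_antisymm hle2 hle1]
    exact hNP
  exact kill_cc15 h K hK hab hC hNK

end Cfsg.Agent.Helper82.Ord
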