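import Mathlib
import Cfsg.Agent.Helper39.SimpOrd.Kit
import Cfsg.Agent.Helper17.LemmaR
import Cfsg.Agent.Helper17.SylowKit2
import Cfsg.Agent.Helper17.FixCount
import Cfsg.Agent.Helper4.OddSL2b

/-!
# No simple group of order 4200 = 2^3 · 3 · 5^2 · 7   (for S0983; paper proof by helper54, #4000)

`n_7 = 50` (the value `15` dies on a fixed-point congruence), so an involution `z` centralizes a
Sylow `7`-subgroup.  `n_5 ∈ {21, 56}` is not `1 mod 25`, so two Sylow `5`-subgroups meet in `D`
of order `5` and `H = C(D)` has order `150` or `300`.  Order `150` forces a unique Sylow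
`5`-subgroup in `H`; order `300` (index `14`) dies because `z` would fix all `14` cosets.
-/

set_option autoImplicit false
set_option linter.style.haveILetI false
set_option linter.unusedVariables false
set_option maxHeartbeats 1000000

namespace Cfsg.Agent.Helper82.Ord

open Subgroup Cfsg.Agent.Helper9 Cfsg.Agent.Helper17 Cfsg.Agent.Helper39.SimpOrd

/-- **Step (D).** In a simple group of order `25 m'`, `5 ∤ m'`, with `n_5 ≢ 1 (mod 25)`, two Sylow
`5`-subgroups `P ≠ R` meet in `D` of order `5`, and `C(D) ⊇ P, R` is a proper subgroup of order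
`25 n m` with `n ≥ 6`, `n ≡ 1 (mod 5)`. -/
theorem stepD5 {G : Type*} [Group G] [Finite G] [IsSimpleGroup G] (m' : ℕ)
    (hcard : Nat.card G = 5 ^ 2 * m') (hm' : ¬ 5 ∣ m')
    (hn : ¬ Nat.card (Sylow 5 G) ≡ 1 [MOD 5 ^ 2]) :
    ∃ (P R : Sylow 5 G) (D : Subgroup G), P ≠ R ∧ Nat.card D = 5 ∧
      D = (P : Subgroup G) ⊓ (R : Subgroup G) ∧
      (P : Subgroup G) ≤ centralizer (D : Set G) ∧ (R : Subgroup G) ≤ centralizer (D : Set G) ∧
      centralizer (D : Set G) ≠ ⊤ ∧
      ∃ n m : ℕ, 6 ≤ n ∧ n % 5 = 1 ∧ Nat.card (centralizer (D : Set G)) = 25 * (n * m) := by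
  haveI : Fact (Nat.Prime 5) := ⟨by norm_num⟩
  obtain ⟨P, R, hPR, hidx⟩ := exists_sylow_pair_large_inter 5 2 hn
  have hP : Nat.card (P : Subgroup G) = 5 ^ 2 :=
    card_sylow_subgroup_of_card_eq (p := 5) (k := 2) (m := m') hcard hm' P
  have hR : Nat.card (R : Subgroup G) = 5 ^ 2 :=
    card_sylow_subgroup_of_card_eq (p := 5) (k := 2) (m := m') hcard hm' R
  have hcard' : Nat.card G = 25 * m' := by rw [hcard]; norm_num
  obtain ⟨D, hD⟩ : ∃ D : Subgroup G, D = (P : Subgroup G) ⊓ (R : Subgroup G) := ⟨_, rfl⟩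
  have hmul := index_subgroupOf_mul_card_inf (P : Subgroup G) (R : Subgroup G)
  rw [hP, ← hD] at hmul
  have hDne : Nat.card D ≠ 25 := by
    intro h25
    apply hPR
    have hDP : D = (P : Subgroup G) :=
      Subgroup.eq_of_le_of_card_ge (hD ▸ inf_le_left) (by rw [h25, hP]; norm_num)
    have hPleR : (P : Subgroup G) ≤ (R : Subgroup G) := by
      rw [← hDP, hD]; exact inf_le_right
    have : (P : Subgroup G) = (R : Subgroup G) :=
      Subgroup.eq_of_le_of_card_ge hPleR (by rw [hP, hR])
    exact Sylow.ext this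
  have hD5 : Nat.card D = 5 := by
    have hi5 : ((R : Subgroup G).subgroupOf (P : Subgroup G)).index ≤ 5 := by
      simpa using hidx
    generalize ((R : Subgroup G).subgroupOf (P : Subgroup G)).index = i at hmul hi5
    generalize Nat.card D = c at hmul hDne
    have hc : c ∣ 25 := ⟨i, by rw [mul_comm]; norm_num at hmul; omega⟩
    have hc25 : c ≤ 25 := Nat.le_of_dvd (by norm_num) hc
    norm_num at hmul
    interval_cases i <;> omega
  have hPc : ∀ a ∈ (P : Subgroup G), ∀ b ∈ (P : Subgroup G), a * b = b * a := by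
    have hc : IsMulCommutative (P : Subgroup G) := IsPGroup.isMulCommutative_of_card_eq_prime_sq hP
    exact fun a ha b hb => congrArg Subtype.val (hc.is_comm.comm ⟨a, ha⟩ ⟨b, hb⟩)
  have hRc : ∀ a ∈ (R : Subgroup G), ∀ b ∈ (R : Subgroup G), a * b = b * a := by
    have hc : IsMulCommutative (R : Subgroup G) := IsPGroup.isMulCommutative_of_card_eq_prime_sq hR
    exact fun a ha b hb => congrArg Subtype.val (hc.is_comm.comm ⟨a, ha⟩ ⟨b, hb⟩)
  have hPle : (P : Subgroup G) ≤ centralizer (D : Set G) := by
    intro x hx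
    rw [Subgroup.mem_centralizer_iff]
    intro d hd
    have hdP : d ∈ (P : Subgroup G) := by
      have : d ∈ D := hd
      rw [hD] at this; exact this.1
    exact hPc d hdP x hx
  have hRle : (R : Subgroup G) ≤ centralizer (D : Set G) := by
    intro x hx
    rw [Subgroup.mem_centralizer_iff]
    intro d hd
    have hdR : d ∈ (R : Subgroup G) := by
      have : d ∈ D := hd
      rw [hD] at this; exact this.2
    exact hRc d hdR x hx
  have hCne : centralizer (D : Set G) ≠ ⊤ := by
    intro htop
    apply normalizer_ne_top_of_simple D (by rw [hD5]; norm_num) (by rw [hD5, hcard']; omega)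
    have hle : centralizer (D : Set G) ≤ normalizer (D : Set G) :=
      Subgroup.centralizer_le_normalizer _
    rw [htop] at hle
    exact top_le_iff.mp hle
  obtain ⟨n, m, hn6, hn1, hH⟩ := card_ge_of_two_sylow_le P R hPR hPle hRle
  refine ⟨P, R, D, hPR, hD5, hD, hPle, hRle, hCne, n, m, hn6, hn1, ?_⟩
  rw [hH, hP]; norm_num

/-- **Lemma (T).** A subgroup `H` of order `2 u`, `u` odd, contains a subgroup of order `u`
containing every element of `H` of `5`-power order. -/
theorem exists_odd_half {G : Type*} [Group G] [Finite G] (H : Subgroup G) (u : ℕ) (hu : Odd u)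
    (hH : Nat.card H = 2 * u) :
    ∃ M : Subgroup G, M ≤ H ∧ Nat.card M = u ∧
      ∀ x ∈ H, ∀ j : ℕ, x ^ (5 ^ j) = 1 → x ∈ M := by
  haveI : Fact (Nat.Prime 2) := ⟨by norm_num⟩
  obtain ⟨S⟩ : Nonempty (Sylow 2 H) := inferInstance
  have hu0 : u ≠ 0 := by
    rintro rfl
    exact absurd hu (by decide)
  have hS : Nat.card (S : Subgroup H) = 2 := by
    have hc : Nat.card H = 2 ^ 1 * u := by rw [hH]; norm_num
    have := card_sylow_subgroup_of_card_eq (p := 2) (k := 1) (m := u) hc
      (by rw [← even_iff_two_dvd, Nat.not_even_iff_odd]; exact hu) S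
    simpa using this
  have hcyc : IsCyclic (S : Subgroup H) := isCyclic_of_prime_card (p := 2) hS
  obtain ⟨M, hMn, hModd, k, hk⟩ :=
    Cfsg.Agent.Helper4.exists_normal_odd_of_cyclic_sylow_two S hcyc
  have hmul := M.card_mul_index
  rw [hk, hH] at hmul
  -- `|M| * 2 ^ k = 2 * u` with `|M|`, `u` odd: `|M| = u`
  have hMu : Nat.card M = u := by
    have hk1 : k = 1 := by
      rcases k with _ | _ | k
      · exfalso
        rw [pow_zero, mul_one] at hmul
        rw [hmul] at hModd
        exact absurd hModd (by rw [Nat.not_odd_iff_even]; exact even_two_mul u)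
      · rfl
      · exfalso
        have h4 : 4 ∣ 2 * u := by
          rw [← hmul]
          refine Dvd.dvd.mul_left ?_ _
          rw [pow_succ, pow_succ]
          exact ⟨2 ^ k, by ring⟩
        obtain ⟨r, hr⟩ := hu
        omega
    rw [hk1] at hmul
    omega
  refine ⟨M.map H.subtype, ?_, ?_, ?_⟩
  · intro x hx
    obtain ⟨y, -, rfl⟩ := Subgroup.mem_map.mp hx
    exact y.2
  · rw [Subgroup.card_map_of_injective H.subtype_injective, hMu]
  · intro x hx j hxj
    have : (⟨x, hx⟩ : H) ∈ M :=
      Cfsg.Agent.Helper4.mem_of_index_two_pow M k hk 5 (by norm_num) (by norm_num) ⟨x, hx⟩ j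
        (Subtype.ext (by simpa using hxj))
    exact Subgroup.mem_map.mpr ⟨⟨x, hx⟩, this, rfl⟩

theorem no_simple_4200 {G : Type*} [Group G] [Finite G] [IsSimpleGroup G]
    (h : Nat.card G = 4200) : False := by
  classical
  haveI f7 : Fact (Nat.Prime 7) := ⟨by norm_num⟩
  haveI f5 : Fact (Nat.Prime 5) := ⟨by norm_num⟩
  haveI f2 : Fact (Nat.Prime 2) := ⟨by norm_num⟩
  have hG : ¬ IsMulCommutative G := not_comm_of_simple_of_not_prime (by rw [h]; norm_num)
  have hG2 : 2 < Nat.card G := by rw [h]; norm_num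
  have hcard7 : Nat.card G = 7 ^ 1 * 600 := h.trans (by norm_num)
  have hcard5 : Nat.card G = 5 ^ 2 * 168 := h.trans (by norm_num)
  -- Sylow 7
  have hmem7 := card_sylow_mem_npList hG 7 1 600 (by norm_num) hcard7 (by norm_num)
    (by norm_num) (by norm_num)
  have hL7 : npList 7 1 600 = [15, 50] := by decide +kernel
  rw [hL7] at hmem7
  simp only [List.mem_cons, List.not_mem_nil, or_false] at hmem7
  obtain ⟨P7⟩ : Nonempty (Sylow 7 G) := inferInstance
  have hP7 : Nat.card (P7 : Subgroup G) = 7 := by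
    have := card_sylow_subgroup_of_card_eq (p := 7) (k := 1) (m := 600) hcard7 (by norm_num) P7
    simpa using this
  obtain ⟨hd6, -⟩ := relIndex_dvd_of_card_sylow_prime P7 hP7
  have hne7 := not_normalizer_le_centralizer_of_simple P7 (by rw [hP7]; norm_num)
    (by rw [hP7, h]; norm_num)
  have hCmul := card_centralizer_mul_relIndex (P7 : Subgroup G)
  have hd1 : (centralizer ((P7 : Subgroup G) : Set G)).relIndex
      (normalizer ((P7 : Subgroup G) : Set G)) ≠ 1 :=
    fun h1 => hne7 (Subgroup.relIndex_eq_one.mp h1)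
  -- an involution in `C(P7)`
  have hinv : ∃ z : G, orderOf z = 2 ∧ z ∈ centralizer ((P7 : Subgroup G) : Set G) := by
    have hn7 : Nat.card (Sylow 7 G) = 50 := by
      rcases hmem7 with h15 | h50
      · exfalso
        have hN : Nat.card (normalizer ((P7 : Subgroup G) : Set G)) = 280 :=
          card_normalizer_of_card_sylow P7 h h15 (by norm_num) (by norm_num)
        rw [hN] at hCmul
        have hC : Nat.card (centralizer ((P7 : Subgroup G) : Set G)) = 140 := by
          generalize (centralizer ((P7 : Subgroup G) : Set G)).relIndex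
            (normalizer ((P7 : Subgroup G) : Set G)) = d at hd6 hd1 hCmul
          have hd : d ≤ 6 := Nat.le_of_dvd (by norm_num) hd6
          interval_cases d <;> omega
        obtain ⟨c', hc'⟩ := exists_prime_orderOf_dvd_card'
          (G := ↥(centralizer ((P7 : Subgroup G) : Set G))) 5 (by rw [hC]; norm_num)
        obtain ⟨c, hcdef⟩ : ∃ c : G, c = (c' : G) := ⟨_, rfl⟩
        have hc5 : orderOf c = 5 := by rw [hcdef, Subgroup.orderOf_coe, hc']
        have hcC : c ∈ centralizer ((P7 : Subgroup G) : Set G) := by rw [hcdef]; exact c'.2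
        have h1 := card_fixSyl_modEq_one P7 c hcC
        have h2 := card_fixSyl_modEq_card (p := 7) c hc5
        have h3 := card_fixSyl_le (p := 7) c
        rw [h15] at h2 h3
        have hF : (fixSyl 7 c).card = 15 := by
          unfold Nat.ModEq at h1 h2
          omega
        have hc1 := eq_one_of_card_fixSyl (p := 7) (by rw [h15]; norm_num) c (by rw [hF, h15])
        rw [hc1, orderOf_one] at hc5
        norm_num at hc5
      · exact h50
    have hN : Nat.card (normalizer ((P7 : Subgroup G) : Set G)) = 84 :=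
      card_normalizer_of_card_sylow P7 h hn7 (by norm_num) (by norm_num)
    rw [hN] at hCmul
    have hCeven : 2 ∣ Nat.card (centralizer ((P7 : Subgroup G) : Set G)) := by
      generalize (centralizer ((P7 : Subgroup G) : Set G)).relIndex
        (normalizer ((P7 : Subgroup G) : Set G)) = d at hd6 hd1 hCmul
      have hd : d ≤ 6 := Nat.le_of_dvd (by norm_num) hd6
      interval_cases d <;> omega
    obtain ⟨z', hz'⟩ := exists_prime_orderOf_dvd_card'
      (G := ↥(centralizer ((P7 : Subgroup G) : Set G))) 2 hCeven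
    exact ⟨(z' : G), by rw [Subgroup.orderOf_coe, hz'], z'.2⟩
  obtain ⟨z, hz2, hzC⟩ := hinv
  -- Sylow 5
  have hmem5 := card_sylow_mem_npList hG 5 2 168 (by norm_num) hcard5 (by norm_num)
    (by norm_num) (by norm_num)
  have hL5 : npList 5 2 168 = [21, 56] := by decide +kernel
  rw [hL5] at hmem5
  simp only [List.mem_cons, List.not_mem_nil, or_false] at hmem5
  have hn5 : ¬ Nat.card (Sylow 5 G) ≡ 1 [MOD 5 ^ 2] := by
    rcases hmem5 with h21 | h56
    · rw [h21]; decide
    · rw [h56]; decide
  obtain ⟨P, R, D, hPR, hD5, hDdef, hPle, hRle, hHne, n, m, hn6, hn1, hH⟩ :=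
    stepD5 168 hcard5 (by norm_num) hn5
  have hP : Nat.card (P : Subgroup G) = 5 ^ 2 :=
    card_sylow_subgroup_of_card_eq (p := 5) (k := 2) (m := 168) hcard5 (by norm_num) P
  have hR : Nat.card (R : Subgroup G) = 5 ^ 2 :=
    card_sylow_subgroup_of_card_eq (p := 5) (k := 2) (m := 168) hcard5 (by norm_num) R
  obtain ⟨H, hHdef⟩ : ∃ H : Subgroup G, H = centralizer (D : Set G) := ⟨_, rfl⟩
  rw [← hHdef] at hPle hRle hHne hH
  have hidx10 : 10 ≤ H.index := by
    by_contra hlt
    push Not at hlt
    have hdv := two_mul_card_dvd_factorial_of_index_le hG H hHne (k := 9) (by omega)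
    rw [h] at hdv
    revert hdv
    decide
  have hmulidx := H.card_mul_index
  rw [hH, h] at hmulidx
  obtain ⟨idx, hidxdef⟩ : ∃ idx : ℕ, idx = H.index := ⟨_, rfl⟩
  rw [← hidxdef] at hidx10 hmulidx
  have h168 : n * (m * idx) = 168 := by
    have : 25 * (n * (m * idx)) = 25 * 168 := by
      calc 25 * (n * (m * idx)) = 25 * (n * m) * idx := by ring
        _ = 4200 := hmulidx
        _ = 25 * 168 := by norm_num
    omega
  have hn168 : n ∈ Nat.divisors 168 := Nat.mem_divisors.mpr ⟨⟨m * idx, h168.symm⟩, by norm_num⟩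
  have key : ∀ n ∈ Nat.divisors 168, 6 ≤ n → n % 5 = 1 → n = 6 ∨ n = 21 ∨ n = 56 := by decide
  have hn6' : n = 6 := by
    rcases key n hn168 hn6 hn1 with rfl | rfl | rfl
    · rfl
    · exfalso
      have : m * idx = 8 := by omega
      have hm0 : m ≠ 0 := by rintro rfl; simp at this
      have : idx ≤ m * idx := Nat.le_mul_of_pos_left _ (Nat.pos_of_ne_zero hm0)
      omega
    · exfalso
      have : m * idx = 3 := by omega
      have hm0 : m ≠ 0 := by rintro rfl; simp at this
      have : idx ≤ m * idx := Nat.le_mul_of_pos_left _ (Nat.pos_of_ne_zero hm0)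
      omega
  subst hn6'
  have h28 : m * idx = 28 := by omega
  have hidx28 : idx ∈ Nat.divisors 28 := Nat.mem_divisors.mpr ⟨⟨m, by rw [mul_comm]; exact h28.symm⟩, by norm_num⟩
  have key2 : ∀ i ∈ Nat.divisors 28, 10 ≤ i → i = 14 ∨ i = 28 := by decide
  rcases key2 idx hidx28 hidx10 with h14 | h28'
  · -- `|H| = 300`, index 14
    have hm2 : m = 2 := by rw [h14] at h28; omega
    subst hm2
    have hH300 : Nat.card H = 300 := by rw [hH]
    letI : Fintype (G ⧸ H) := Fintype.ofFinite _
    have hz2' : z ^ 2 = 1 := by rw [← hz2]; exact pow_orderOf_eq_one z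
    obtain ⟨m4, hm4⟩ := card_fixed_add_four_mul hG2 (Ω := G ⧸ H) z hz2'
    have hcardΩ : Fintype.card (G ⧸ H) = 14 := by
      rw [← Nat.card_eq_fintype_card, ← h14, hidxdef]; rfl
    set Tset : Finset (G ⧸ H) := Finset.univ.filter (fun x => z • x = x) with hTset
    have hmemT : ∀ x : G ⧸ H, x ∈ Tset ↔ z • x = x := by
      intro x; rw [hTset, Finset.mem_filter]; simp
    have hinvT : ∀ g : (P7 : Subgroup G), ∀ x ∈ Tset, g • x ∈ Tset := by
      intro g x hx
      rw [hmemT] at hx ⊢
      have hcomm : (g : G) * z = z * g := hzC g g.2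
      change z • ((g : G) • x) = (g : G) • x
      rw [← mul_smul, ← hcomm, mul_smul, hx]
    have h1 := Helper70.PCount.card_modEq_card_fixed (p := 7) P7.isPGroup' Tset hinvT
    have h2 : (Tset.filter (fun x => ∀ g : (P7 : Subgroup G), g • x = x)) = ∅ := by
      rw [Finset.filter_eq_empty_iff]
      intro x _ hx
      obtain ⟨y, hy⟩ := exists_prime_orderOf_dvd_card' (G := ↥(P7 : Subgroup G)) 7 (by rw [hP7])
      induction x using QuotientGroup.induction_on with
      | H g =>
        have hfix := hx y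
        change ((y : G) • (g : G ⧸ H)) = g at hfix
        rw [MulAction.Quotient.smul_mk, QuotientGroup.eq] at hfix
        have hw : ((y : G) * g)⁻¹ * g ∈ H := by simpa [smul_eq_mul] using hfix
        have hord : orderOf (((y : G) * g)⁻¹ * g) = 7 := by
          have e : ((y : G) * g)⁻¹ * g = MulAut.conj g⁻¹ ((y : G)⁻¹) := by
            simp [MulAut.conj_apply, mul_assoc]
          rw [e, MulEquiv.orderOf_eq, orderOf_inv, Subgroup.orderOf_coe, hy]
        have hdvd := orderOf_dvd_natCard (⟨_, hw⟩ : H)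
        rw [Subgroup.orderOf_mk, hord, hH300] at hdvd
        norm_num at hdvd
    rw [h2, Finset.card_empty] at h1
    have hT14 : Tset.card = 14 := by
      unfold Nat.ModEq at h1
      rw [hcardΩ] at hm4
      omega
    have hTuniv : Tset = Finset.univ := by
      rw [← Finset.card_eq_iff_eq_univ, hT14, hcardΩ]
    have hzfix : ∀ x : G ⧸ H, z • x = x := fun x => (hmemT x).mp (hTuniv ▸ Finset.mem_univ x)
    have hzcore : z ∈ H.normalCore := by
      change ∀ b : G, b * z * b⁻¹ ∈ H
      intro b
      have h3 := hzfix ((b⁻¹ : G) : G ⧸ H)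
      rw [MulAction.Quotient.smul_mk, QuotientGroup.eq] at h3
      have h4 := H.inv_mem h3
      have e : (z • b⁻¹)⁻¹ * b⁻¹ = (b * z * b⁻¹)⁻¹ := by
        simp [smul_eq_mul, mul_assoc]
      rw [e, inv_inv] at h4
      exact h4
    have hcore : H.normalCore = ⊥ := by
      rcases (H.normalCore_normal).eq_bot_or_eq_top with hb | ht
      · exact hb
      · exfalso
        apply hHne
        have hle := H.normalCore_le
        rw [ht] at hle
        exact top_le_iff.mp hle
    rw [hcore, Subgroup.mem_bot] at hzcore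
    rw [hzcore, orderOf_one] at hz2
    norm_num at hz2
  · -- `|H| = 150`
    have hm1 : m = 1 := by rw [h28'] at h28; omega
    subst hm1
    have hH150 : Nat.card H = 2 * 75 := by rw [hH]
    obtain ⟨M, hMH, hM75, hmem⟩ := exists_odd_half H 75 (by decide) hH150
    have hPM : (P : Subgroup G) ≤ M := by
      intro x hx
      refine hmem x (hPle hx) 2 ?_
      have := pow_card_eq_one' (G := (P : Subgroup G)) (x := ⟨x, hx⟩)
      rw [hP] at this
      exact congrArg Subtype.val this
    have hRM : (R : Subgroup G) ≤ M := by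
      intro x hx
      refine hmem x (hRle hx) 2 ?_
      have := pow_card_eq_one' (G := (R : Subgroup G)) (x := ⟨x, hx⟩)
      rw [hR] at this
      exact congrArg Subtype.val this
    obtain ⟨n', m', hn6', -, hM'⟩ := card_ge_of_two_sylow_le P R hPR hPM hRM
    rw [hM75, hP] at hM'
    have h3 : n' * m' = 3 := by omega
    have hm0 : m' ≠ 0 := by rintro rfl; simp at h3
    have : n' ≤ n' * m' := Nat.le_mul_of_pos_right _ (Nat.pos_of_ne_zero hm0)
    omega

end Cfsg.Agent.Helper82.Ord
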