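import Mathlib
import Cfsg.Prelude.Def_Blocks
import Cfsg.Agent.Helper80.Pullback
import Cfsg.Agent.Helper74.CharBasic

/-!
# Counting irreducible characters of degree divisible by `p` in quotients

`pSingCount p G` is the number of irreducible characters of `G` of degree divisible by `p`;
it does not increase on passing to a quotient `G ⧸ N`, and strictly decreases if some
irreducible character of degree divisible by `p` is nontrivial on `N`.
-/

set_option autoImplicit false

namespace Cfsg.Agent.Helper82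

open Cfsg

universe u

variable {G : Type u} [Group G]

/-- inflation of irreducible characters of degree divisible by `p` -/
noncomputable def pSingInfl (p : ℕ) (N : Subgroup G) [N.Normal] :
    {β : IrrCharacter (G ⧸ N) // p ∣ charDegree (β : G ⧸ N → ℂ)} →
      {χ : IrrCharacter G // p ∣ charDegree (χ : G → ℂ)} :=
  fun β => ⟨⟨fun g => β.1.1 (QuotientGroup.mk' N g),
    Helper80.IsIrrCharacter.comp_surjective β.1.2 (QuotientGroup.mk' N)
      (QuotientGroup.mk'_surjective N)⟩, by
    have h3 : charDegree (fun g : G => β.1.1 (QuotientGroup.mk' N g)) = charDegree β.1.1 := by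
      unfold charDegree
      show ⌊(β.1.1 ((QuotientGroup.mk' N) 1)).re⌋₊ = ⌊(β.1.1 1).re⌋₊
      rw [map_one]
    show p ∣ charDegree (fun g : G => β.1.1 (QuotientGroup.mk' N g))
    rw [h3]
    exact β.2⟩

theorem pSingInfl_injective (p : ℕ) (N : Subgroup G) [N.Normal] :
    Function.Injective (pSingInfl p N) := by
  intro β γ h
  apply Subtype.ext
  apply Subtype.ext
  funext x
  obtain ⟨g, rfl⟩ := QuotientGroup.mk'_surjective N x
  have h1 := congrArg (fun χ : {χ : IrrCharacter G // p ∣ charDegree (χ : G → ℂ)} => χ.1.1 g) h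
  exact h1

theorem card_pSing_quotient_le [Finite G] (p : ℕ) (N : Subgroup G) [N.Normal] :
    Nat.card {β : IrrCharacter (G ⧸ N) // p ∣ charDegree (β : G ⧸ N → ℂ)} ≤
      Nat.card {χ : IrrCharacter G // p ∣ charDegree (χ : G → ℂ)} := by
  have := Helper74.irr_finite (G := G)
  exact Nat.card_le_card_of_injective _ (pSingInfl_injective p N)

theorem card_pSing_quotient_lt [Finite G] (p : ℕ) (N : Subgroup G) [N.Normal]
    (χ₀ : IrrCharacter G) (hp : p ∣ charDegree (χ₀ : G → ℂ)) {x : G} (hx : x ∈ N)
    (hne : (χ₀ : G → ℂ) x ≠ (χ₀ : G → ℂ) 1) :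
    Nat.card {β : IrrCharacter (G ⧸ N) // p ∣ charDegree (β : G ⧸ N → ℂ)} <
      Nat.card {χ : IrrCharacter G // p ∣ charDegree (χ : G → ℂ)} := by
  classical
  have := Helper74.irr_finite (G := G)
  have := Helper74.irr_finite (G := G ⧸ N)
  have := Fintype.ofFinite {β : IrrCharacter (G ⧸ N) // p ∣ charDegree (β : G ⧸ N → ℂ)}
  have := Fintype.ofFinite {χ : IrrCharacter G // p ∣ charDegree (χ : G → ℂ)}
  rw [Nat.card_eq_fintype_card, Nat.card_eq_fintype_card]
  refine Fintype.card_lt_of_injective_of_notMem (b := ⟨χ₀, hp⟩) _ (pSingInfl_injective p N) ?_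
  rintro ⟨β, hβ⟩
  apply hne
  have h1 := congrArg (fun χ : {χ : IrrCharacter G // p ∣ charDegree (χ : G → ℂ)} => χ.1.1 x) hβ
  have h2 := congrArg (fun χ : {χ : IrrCharacter G // p ∣ charDegree (χ : G → ℂ)} => χ.1.1 1) hβ
  simp only at h1 h2
  rw [← h1, ← h2]
  show β.1.1 (QuotientGroup.mk' N x) = β.1.1 (QuotientGroup.mk' N 1)
  have h3 : QuotientGroup.mk' N x = 1 := (QuotientGroup.eq_one_iff x).2 hx
  rw [map_one, h3]

end Cfsg.Agent.Helper82
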