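import Cfsg.Agent.Helper82.InvDatum
import Cfsg.Agent.Helper78.BrauerHom
import Cfsg.Agent.Helper78.BlockBasic

/-!
# Blocks of `C_G(R)` inducing the block `Irr(G | θ)` (helper82)

`K ⊴ G` of order prime to `p`, `θ ∈ Irr(K)` invariant in `G`, `B = Irr(G | θ)` a `p`-block.  For a
`p`-subgroup `R`, let `C = C_G(R)`, `N = K ∩ C ⊴ C`, and suppose the restriction `θ_N` has a unique
constituent `β` of multiplicity prime to `p` (Glauberman) and that `Irr(C | β)` lies in a single block.
Then exactly one block of `C` induces `B`.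
-/

set_option autoImplicit false
set_option linter.unusedSectionVars false
set_option linter.unusedVariables false

namespace Cfsg.Agent.Helper82.PrincipalType

open Cfsg Cfsg.Agent Cfsg.Agent.Helper82.InvDatum
open scoped ComplexConjugate

universe u

variable {G : Type u} [Group G] [Fintype G] {p : ℕ} {M : Ideal AlgInt}

section idem

variable (K : Subgroup G) [hK : K.Normal] [Fintype K]

/-- The coefficient function of the idempotent of `θ ∈ Irr(K)`, extended by zero to `G`. -/
noncomputable def eTheta (θ : K → ℂ) : G → ℂ :=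
  extConj K (θ 1 / (Nat.card K : ℂ)) θ

theorem isZS_eTheta [hp : Fact p.Prime] (hM : IsPModular p M) (hKp : ¬ p ∣ Nat.card K)
    (θ : IrrCharacter K) (hinv : ∀ g : G, Helper15.conjFun K g (θ : K → ℂ) = (θ : K → ℂ)) :
    Helper78.IsZS M (eTheta K (θ : K → ℂ)) := by
  have hMp : M.IsPrime := Helper16.IsPModular.isPrime hM
  refine ⟨isClassFunction_extConj K _ hinv, fun g => ?_⟩
  unfold eTheta
  by_cases hg : g ∈ K
  · rw [extConj_of_mem K _ _ hg]
    refine Helper16.memLocalRing_mul ?_ ?_
    · rw [div_eq_mul_inv]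
      exact Helper16.memLocalRing_mul
        (Helper16.memLocalRing_of_isIntegral
          (Helper80.IsCharacter.isIntegral (Helper79.irr_isCharacter θ) 1))
        (Helper16.memLocalRing_inv_natCast hM hKp)
    · exact Helper16.memLocalRing_of_isIntegral (map_isIntegral_int (starRingEnd ℂ)
        (Helper80.IsCharacter.isIntegral (Helper79.irr_isCharacter θ) ⟨g, hg⟩))
  · rw [extConj_of_not_mem K _ _ hg]
    exact Helper16.memLocalRing_zero

/-- `ω_χ(e_θ)` is `1` when `χ` lies over the invariant `θ` and `0` otherwise. -/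
theorem omega_eTheta (θ : IrrCharacter K)
    (hinv : ∀ g : G, Helper15.conjFun K g (θ : K → ℂ) = (θ : K → ℂ)) (χ : IrrCharacter G) :
    Helper16.omega (χ : G → ℂ) (eTheta K (θ : K → ℂ)) =
      by classical exact
        if classInner (fun k : K => (χ : G → ℂ) k) (θ : K → ℂ) ≠ 0 then (1 : ℂ) else 0 := by
  classical
  unfold eTheta
  rw [omega_extConj]
  have hc : (Nat.card K : ℂ) ≠ 0 := by
    have : 0 < Nat.card K := Nat.card_pos
    exact_mod_cast this.ne'
  by_cases h0 : classInner (fun k : K => (χ : G → ℂ) k) (θ : K → ℂ) = 0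
  · rw [if_neg (not_not.mpr h0), h0, mul_zero, zero_div]
  · rw [if_pos h0]
    have hcl := Helper15.restrict_eq_smul_of_invariant K χ.2 θ.2 h0 hinv
    have h1 := congrFun hcl 1
    simp only [Pi.smul_apply, smul_eq_mul] at h1
    have h1' : (χ : G → ℂ) 1 =
        classInner (fun k : K => (χ : G → ℂ) k) (θ : K → ℂ) * (θ : K → ℂ) 1 := h1
    have hθ1 : (θ : K → ℂ) 1 ≠ 0 := Helper16.irr_one_ne_zero θ
    rw [h1']
    field_simp

end idem

section core

variable [hp : Fact p.Prime] (K : Subgroup G) [hK : K.Normal] [Fintype K] (R : Subgroup G)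

/-- The restriction of a function on `K` to `K ∩ C`, read on `K.subgroupOf C`. -/
def resSub (C : Subgroup G) (θ : K → ℂ) : K.subgroupOf C → ℂ :=
  fun n => θ ⟨((n : C) : G), Subgroup.mem_subgroupOf.mp n.2⟩

/-- The Brauer truncation at `R` of `e_θ` is the extension by zero of `a * conj θ_N`. -/
theorem brRes_eTheta [Fintype ↥(Subgroup.centralizer (R : Set G))]
    [Fintype ↥(K.subgroupOf (Subgroup.centralizer (R : Set G)))] (θ : K → ℂ) :
    Helper78.brRes R (Subgroup.centralizer (R : Set G)) (eTheta K θ) =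
      extConj (K.subgroupOf (Subgroup.centralizer (R : Set G))) (θ 1 / (Nat.card K : ℂ))
        (resSub K (Subgroup.centralizer (R : Set G)) θ) := by
  funext c
  rw [Helper78.brRes_of_mem R _ _ c.2]
  unfold eTheta
  by_cases hc : (c : G) ∈ K
  · have hc' : c ∈ K.subgroupOf (Subgroup.centralizer (R : Set G)) := Subgroup.mem_subgroupOf.mpr hc
    rw [extConj_of_mem K _ _ hc, extConj_of_mem _ _ _ hc']
    rfl
  · have hc' : c ∉ K.subgroupOf (Subgroup.centralizer (R : Set G)) :=
      fun h => hc (Subgroup.mem_subgroupOf.mp h)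
    rw [extConj_of_not_mem K _ _ hc, extConj_of_not_mem _ _ _ hc']

/-- For `H = C_G(R)` the Brauer-truncated central character is the induced central character. -/
theorem brauerCentralChar_centralizer (ξ : Subgroup.centralizer (R : Set G) → ℂ) (g : G) :
    brauerCentralChar R (Subgroup.centralizer (R : Set G)) ξ g =
      inducedCentralChar (Subgroup.centralizer (R : Set G)) ξ g := by
  unfold brauerCentralChar inducedCentralChar
  have hset : {h : ↥(Subgroup.centralizer (R : Set G)) | IsConj g (h : G) ∧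
      (h : G) ∈ Subgroup.centralizer (R : Set G)} =
      {h : ↥(Subgroup.centralizer (R : Set G)) | IsConj g (h : G)} := by
    ext h
    exact ⟨fun h1 => h1.1, fun h1 => ⟨h1, h.2⟩⟩
  rw [hset]

/-- **Core theorem.** Exactly one block of `C_G(R)` induces `B = Irr(G | θ)`. -/
theorem existsUnique_isInducedBlock (hM : IsPModular p M) (hKp : ¬ p ∣ Nat.card K)
    (θ : IrrCharacter K) (hinv : ∀ g : G, Helper15.conjFun K g (θ : K → ℂ) = (θ : K → ℂ))
    (B : Set (IrrCharacter G)) (hB : IsPBlock M B)
    (hBmem : ∀ χ : IrrCharacter G,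
      χ ∈ B ↔ classInner (fun k : K => (χ : G → ℂ) k) (θ : K → ℂ) ≠ 0)
    (hR : IsPGroup p R)
    [Fintype ↥(Subgroup.centralizer (R : Set G))]
    [Fintype ↥(K.subgroupOf (Subgroup.centralizer (R : Set G)))]
    (β : IrrCharacter ↥(K.subgroupOf (Subgroup.centralizer (R : Set G)))) (m : ℕ)
    (D : Datum (K.subgroupOf (Subgroup.centralizer (R : Set G))) p
      (resSub K (Subgroup.centralizer (R : Set G)) (θ : K → ℂ)) β m)
    (hfong : ∀ ξ₁ ξ₂ : IrrCharacter ↥(Subgroup.centralizer (R : Set G)),
      classInner (fun n : K.subgroupOf (Subgroup.centralizer (R : Set G)) =>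
        (ξ₁ : ↥(Subgroup.centralizer (R : Set G)) → ℂ) n) (β : _ → ℂ) ≠ 0 →
      classInner (fun n : K.subgroupOf (Subgroup.centralizer (R : Set G)) =>
        (ξ₂ : ↥(Subgroup.centralizer (R : Set G)) → ℂ) n) (β : _ → ℂ) ≠ 0 →
      SameBlock M (ξ₁ : ↥(Subgroup.centralizer (R : Set G)) → ℂ)
        (ξ₂ : ↥(Subgroup.centralizer (R : Set G)) → ℂ)) :
    ∃! f : Set (IrrCharacter ↥(Subgroup.centralizer (R : Set G))),
      IsInducedBlock M (Subgroup.centralizer (R : Set G)) f B := by
  classical
  have hMp : M.IsPrime := Helper16.IsPModular.isPrime hM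
  -- the order of `N = K ∩ C` is prime to `p`
  have hNp : ¬ p ∣ Nat.card ↥(K.subgroupOf (Subgroup.centralizer (R : Set G))) := by
    intro h
    apply hKp
    refine h.trans ?_
    let φ : ↥(K.subgroupOf (Subgroup.centralizer (R : Set G))) →* K :=
      { toFun := fun n => ⟨((n : ↥(Subgroup.centralizer (R : Set G))) : G),
          Subgroup.mem_subgroupOf.mp n.2⟩
        map_one' := rfl
        map_mul' := fun _ _ => rfl }
    have hφ : Function.Injective φ := by
      intro x y hxy
      have : ((x : ↥(Subgroup.centralizer (R : Set G))) : G) =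
          ((y : ↥(Subgroup.centralizer (R : Set G))) : G) :=
        congrArg (fun z : K => (z : G)) hxy
      exact Subtype.ext (Subtype.ext this)
    exact Subgroup.card_dvd_of_injective φ hφ
  -- the scalar `a = θ(1)/|K|` is a local unit
  have hθ1 : ((θ : K → ℂ) 1) = (charDegree (θ : K → ℂ) : ℂ) :=
    (Helper74.charDegree_cast (Helper79.irr_isCharacter θ)).symm
  have hd : ¬ p ∣ charDegree (θ : K → ℂ) :=
    fun h => hKp (h.trans (Helper74.charDegree_dvd_card θ))
  have ha : MemLocalRing M ((θ : K → ℂ) 1 / (Nat.card K : ℂ)) := by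
    rw [div_eq_mul_inv, hθ1]
    exact Helper16.memLocalRing_mul (Helper16.memLocalRing_natCast _)
      (Helper16.memLocalRing_inv_natCast hM hKp)
  have ha' : ¬ MemLocalIdeal M ((θ : K → ℂ) 1 / (Nat.card K : ℂ)) := by
    rw [div_eq_mul_inv, hθ1]
    exact Helper16.not_memLocalIdeal_mul (Helper16.memLocalRing_natCast _)
      (Helper16.not_memLocalIdeal_natCast hM hd)
      (Helper16.not_memLocalIdeal_inv (Helper16.memLocalRing_natCast _)
        (Helper16.not_memLocalIdeal_natCast hM hKp))
  have hZS := isZS_eTheta K hM hKp θ hinv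
  have hCN : Subgroup.centralizer (R : Set G) ≤ Subgroup.normalizer (R : Set G) :=
    Subgroup.centralizer_le_normalizer _
  -- the Brauer homomorphism
  have hmod : ∀ ξ : IrrCharacter ↥(Subgroup.centralizer (R : Set G)),
      ∃ χ : IrrCharacter G, ∀ t, Helper78.IsZS M t →
        MemLocalIdeal M (Helper16.omega (ξ : _ → ℂ)
          (Helper78.brRes R (Subgroup.centralizer (R : Set G)) t) -
            Helper16.omega (χ : G → ℂ) t) :=
    fun ξ => (Helper78.isModHom_brauer (P := R) (H := Subgroup.centralizer (R : Set G)) hM hR le_rfl hCN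
      ξ).exists_irr
  -- lying over `β` corresponds to lying in `B`
  have hkey : ∀ (ξ : IrrCharacter ↥(Subgroup.centralizer (R : Set G))) (χ : IrrCharacter G),
      (∀ t, Helper78.IsZS M t →
        MemLocalIdeal M (Helper16.omega (ξ : _ → ℂ)
          (Helper78.brRes R (Subgroup.centralizer (R : Set G)) t) -
            Helper16.omega (χ : G → ℂ) t)) →
      (classInner (fun n : K.subgroupOf (Subgroup.centralizer (R : Set G)) =>
        (ξ : ↥(Subgroup.centralizer (R : Set G)) → ℂ) n) (β : _ → ℂ) ≠ 0 ↔ χ ∈ B) := by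
    intro ξ χ h
    have h1 := h _ hZS
    rw [brRes_eTheta, omega_eTheta K θ hinv χ] at h1
    constructor
    · intro hover
      by_contra hχ
      rw [hBmem] at hχ
      rw [if_neg hχ, sub_zero] at h1
      exact D.omega_not_mem_of_over hM hNp ha ha' ξ hover h1
    · intro hχ
      by_contra hover
      rw [if_pos ((hBmem χ).mp hχ)] at h1
      have h2 := D.omega_mem_of_not_over hM ha ξ hover
      have h3 := Helper16.memLocalIdeal_sub h2 h1
      rw [sub_sub_cancel] at h3
      exact Helper16.not_memLocalIdeal_one h3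
  -- induced central characters
  have hind : ∀ (ξ : IrrCharacter ↥(Subgroup.centralizer (R : Set G))) (χ : IrrCharacter G),
      (∀ t, Helper78.IsZS M t →
        MemLocalIdeal M (Helper16.omega (ξ : _ → ℂ)
          (Helper78.brRes R (Subgroup.centralizer (R : Set G)) t) -
            Helper16.omega (χ : G → ℂ) t)) →
      ∀ g : G, MemLocalIdeal M (inducedCentralChar (Subgroup.centralizer (R : Set G))
        (ξ : _ → ℂ) g - centralChar (χ : G → ℂ) g) := by
    intro ξ χ h g
    have h1 := h _ (Helper78.isZS_classInd (M := M) g)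
    rw [← Helper78.brauerCentralChar_eq_omega, brauerCentralChar_centralizer,
      Helper16.omega_classInd _ (Helper16.irr_isClassFunction χ)] at h1
    exact h1
  -- existence
  obtain ⟨ξ₀, hξ₀⟩ := Helper16.exists_irr_over (K.subgroupOf (Subgroup.centralizer (R : Set G))) β
  obtain ⟨χ₀, hχ₀⟩ := hmod ξ₀
  have hχ₀B : χ₀ ∈ B := (hkey ξ₀ χ₀ hχ₀).mp hξ₀
  refine ⟨blockOf M (ξ₀ : _ → ℂ), ⟨⟨ξ₀, rfl⟩, hB, fun ξ hξ χ hχ g => ?_⟩, ?_⟩
  · have hξ' : SameBlock M (ξ₀ : ↥(Subgroup.centralizer (R : Set G)) → ℂ)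
        (ξ : ↥(Subgroup.centralizer (R : Set G)) → ℂ) := hξ
    have a1 := Helper16.inducedCentralChar_sub_memLocalIdeal (M := M)
      (Subgroup.centralizer (R : Set G)) (Helper16.sameBlock_symm hξ') g
    have a2 := hind ξ₀ χ₀ hχ₀ g
    have a3 : MemLocalIdeal M (centralChar (χ₀ : G → ℂ) g - centralChar (χ : G → ℂ) g) :=
      Helper78.sameBlock_of_mem_of_mem hMp hB hχ₀B hχ g
    have := Helper16.memLocalIdeal_add (Helper16.memLocalIdeal_add a1 a2) a3
    have e : inducedCentralChar (Subgroup.centralizer (R : Set G)) (ξ : _ → ℂ) g -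
        inducedCentralChar (Subgroup.centralizer (R : Set G)) (ξ₀ : _ → ℂ) g +
        (inducedCentralChar (Subgroup.centralizer (R : Set G)) (ξ₀ : _ → ℂ) g -
          centralChar (χ₀ : G → ℂ) g) +
        (centralChar (χ₀ : G → ℂ) g - centralChar (χ : G → ℂ) g) =
        inducedCentralChar (Subgroup.centralizer (R : Set G)) (ξ : _ → ℂ) g -
          centralChar (χ : G → ℂ) g := by ring
    rwa [e] at this
  · rintro f' ⟨hf', -, h⟩
    obtain ⟨ξ₁, rfl⟩ := hf'
    obtain ⟨χ₁, hχ₁⟩ := hmod ξ₁
    obtain ⟨χ, hχ⟩ := Helper78.isPBlock_nonempty hMp hB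
    have hsame : SameBlock M (χ : G → ℂ) (χ₁ : G → ℂ) := by
      intro g
      have b1 := h ξ₁ (Helper78.mem_blockOf_self hMp ξ₁) χ hχ g
      have b2 := hind ξ₁ χ₁ hχ₁ g
      have := Helper16.memLocalIdeal_sub b2 b1
      have e : inducedCentralChar (Subgroup.centralizer (R : Set G)) (ξ₁ : _ → ℂ) g -
          centralChar (χ₁ : G → ℂ) g -
          (inducedCentralChar (Subgroup.centralizer (R : Set G)) (ξ₁ : _ → ℂ) g -
            centralChar (χ : G → ℂ) g) =
          centralChar (χ : G → ℂ) g - centralChar (χ₁ : G → ℂ) g := by ring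
      rwa [e] at this
    have hχ₁B : χ₁ ∈ B := by
      rw [Helper78.isPBlock_eq_blockOf_of_mem hMp hB hχ]
      exact hsame
    have hover := (hkey ξ₁ χ₁ hχ₁).mpr hχ₁B
    exact (Helper78.blockOf_eq_of_sameBlock hMp (hfong ξ₀ ξ₁ hξ₀ hover)).symm

end core

end Cfsg.Agent.Helper82.PrincipalType
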