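import Cfsg.Agent.Helper82.PrincipalTypeCore
import Cfsg.Agent.Helper78.IrrTransport
import Cfsg.Agent.S4444

/-!
# The Glauberman datum on `K ∩ C_G(R)` (helper82)

For `K ⊴ G` of order prime to `p`, a `p`-subgroup `R` and a `G`-invariant `θ ∈ Irr(K)`, the restriction
of `θ` to `K ∩ C_G(R)` has a unique irreducible constituent of multiplicity prime to `p` (S4444).
-/

set_option autoImplicit false
set_option linter.unusedSectionVars false
set_option linter.unusedVariables false

namespace Cfsg.Agent.Helper82.PrincipalType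

open Cfsg Cfsg.Agent Cfsg.Agent.Helper82.InvDatum
open scoped ComplexConjugate

universe u

variable {G : Type u} [Group G] [Fintype G] {p : ℕ}

theorem classInner_comp_equiv {A B : Type*} [Group A] [Group B] [Fintype A] [Fintype B]
    (e : A ≃* B) (f g : B → ℂ) :
    classInner (fun a => f (e a)) (fun a => g (e a)) = classInner f g := by
  unfold classInner
  rw [Nat.card_congr e.toEquiv]
  congr 1
  exact Fintype.sum_equiv e.toEquiv _ _ (fun a => rfl)

variable [hp : Fact p.Prime] (K : Subgroup G) [hK : K.Normal] [Fintype K] (R : Subgroup G)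

/-- `K ∩ C_G(R)` as a subgroup of `G` is isomorphic to `K.subgroupOf C_G(R)`. -/
def infEquiv : ↥(K ⊓ Subgroup.centralizer (R : Set G)) ≃*
    ↥(K.subgroupOf (Subgroup.centralizer (R : Set G))) where
  toFun c := ⟨⟨c, c.2.2⟩, Subgroup.mem_subgroupOf.mpr c.2.1⟩
  invFun n := ⟨((n : ↥(Subgroup.centralizer (R : Set G))) : G),
    ⟨Subgroup.mem_subgroupOf.mp n.2, (n : ↥(Subgroup.centralizer (R : Set G))).2⟩⟩
  left_inv _ := rfl
  right_inv _ := rfl
  map_mul' _ _ := rfl

theorem exists_datum (hKp : ¬ p ∣ Nat.card K) (hR : IsPGroup p R) (θ : IrrCharacter K)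
    (hinv : ∀ g : G, Helper15.conjFun K g (θ : K → ℂ) = (θ : K → ℂ))
    [Fintype ↥(Subgroup.centralizer (R : Set G))]
    [Fintype ↥(K.subgroupOf (Subgroup.centralizer (R : Set G)))] :
    ∃ (β : IrrCharacter ↥(K.subgroupOf (Subgroup.centralizer (R : Set G)))) (m : ℕ),
      Datum (K.subgroupOf (Subgroup.centralizer (R : Set G))) p
        (resSub K (Subgroup.centralizer (R : Set G)) (θ : K → ℂ)) β m := by
  classical
  letI : Fintype ↥(K ⊓ Subgroup.centralizer (R : Set G)) := Fintype.ofFinite _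
  have hCG : K ⊓ Subgroup.centralizer (R : Set G) ≤ K := inf_le_left
  have hnorm : ∀ s ∈ R, ∀ g ∈ K, s * g * s⁻¹ ∈ K := fun s _ g hg => hK.conj_mem g hg s
  have hcop : (Nat.card K).Coprime (Nat.card R) := by
    obtain ⟨n, hn⟩ := IsPGroup.iff_card.mp hR
    rw [hn]
    exact Nat.Coprime.pow_right _ ((Nat.Prime.coprime_iff_not_dvd hp.out).mpr hKp).symm
  have hθinv : ∀ s ∈ R, ∀ g g' : K, (g' : G) = s * g * s⁻¹ →
      (θ : K → ℂ) g' = (θ : K → ℂ) g := by
    intro s _ g g' hgg'
    have h1 := congrFun (hinv s) g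
    rw [Helper15.conjFun_apply] at h1
    rw [← h1]
    exact congrArg (θ : K → ℂ) (Subtype.ext hgg')
  have hS := Cfsg.Agent.S4444.result K R hnorm hcop p hp.out hR
    (K ⊓ Subgroup.centralizer (R : Set G)) rfl hCG
  obtain ⟨β', ⟨m, hm, hpm⟩, huniq⟩ := hS.1 θ hθinv
  set e := infEquiv K R with he
  -- the inclusion hom
  let φ : ↥(K ⊓ Subgroup.centralizer (R : Set G)) →* K :=
    { toFun := fun c => ⟨c, hCG c.2⟩
      map_one' := rfl
      map_mul' := fun _ _ => rfl }
  have hchar' : IsCharacter ↥(K ⊓ Subgroup.centralizer (R : Set G))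
      (fun c : ↥(K ⊓ Subgroup.centralizer (R : Set G)) => (θ : K → ℂ) ⟨c, hCG c.2⟩) :=
    Helper74.isCharacter_comp φ (Helper79.irr_isCharacter θ)
  have hres : ∀ c : ↥(K ⊓ Subgroup.centralizer (R : Set G)),
      resSub K (Subgroup.centralizer (R : Set G)) (θ : K → ℂ) (e c) =
        (θ : K → ℂ) ⟨c, hCG c.2⟩ := fun c => rfl
  have hinner : ∀ η' : IrrCharacter ↥(K ⊓ Subgroup.centralizer (R : Set G)),
      classInner (resSub K (Subgroup.centralizer (R : Set G)) (θ : K → ℂ))
        (Helper78.irrMap e η' : _ → ℂ) =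
      classInner (fun c : ↥(K ⊓ Subgroup.centralizer (R : Set G)) => (θ : K → ℂ) ⟨c, hCG c.2⟩)
        (η' : _ → ℂ) := by
    intro η'
    rw [← classInner_comp_equiv e]
    congr 1
  refine ⟨Helper78.irrMap e β', m, ?_, ?_, ?_, hpm, ?_⟩
  · -- character
    let φ' : ↥(K.subgroupOf (Subgroup.centralizer (R : Set G))) →* K :=
      { toFun := fun n => ⟨((n : ↥(Subgroup.centralizer (R : Set G))) : G),
          Subgroup.mem_subgroupOf.mp n.2⟩
        map_one' := rfl
        map_mul' := fun _ _ => rfl }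
    exact Helper74.isCharacter_comp φ' (Helper79.irr_isCharacter θ)
  · -- invariance
    intro x
    funext n
    rw [Helper15.conjFun_apply]
    have h1 := congrFun (hinv (x : G)) ⟨((n : ↥(Subgroup.centralizer (R : Set G))) : G),
      Subgroup.mem_subgroupOf.mp n.2⟩
    rw [Helper15.conjFun_apply] at h1
    exact h1
  · rw [hinner β', hm]
  · intro η hη
    obtain ⟨m', hm'⟩ := Helper74.isCharacter_inner_irr_nat hchar' (Helper78.irrMap e.symm η)
    refine ⟨m', ?_, ?_⟩
    · rw [← hm', ← hinner, Helper78.irrMap_irrMap_symm]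
    · by_contra hnd
      apply hη
      have := huniq (Helper78.irrMap e.symm η) ⟨m', hm', hnd⟩
      rw [← this, Helper78.irrMap_irrMap_symm]

end Cfsg.Agent.Helper82.PrincipalType
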