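import Mathlib
import Cfsg.Prelude.Def_Blocks
import Cfsg.Agent.Helper15.CliffordCorr
import Cfsg.Agent.Helper79.ClassMult
import Cfsg.Agent.Helper81.CliffordInd
import Cfsg.Agent.Helper82.FullyRamified

/-!
# Fully ramified characters: orbits of characters of intermediate subgroups (helper82)

* `IsFullyRamified.exists_conj` : if `χ` is fully ramified over `Z` and `Q ⊴ H` contains `Z`, the
  irreducible characters of `Q` over `θ` are `H`-conjugate.
* `IsFullyRamified.exists_conj_of_coprime` : the same inside a subgroup `R` with `|H : R|` coprime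
  to `|R : Z|` (for instance the preimage of a Sylow subgroup of `H / Z`).
* `prime_dvd_sum_of_perm` : a weighted orbit count.
-/

set_option autoImplicit false
set_option linter.unusedSectionVars false

namespace Cfsg.Agent.Helper82

open Cfsg
open scoped ComplexConjugate

universe u

namespace IsFullyRamified

variable {H : Type u} [Group H] [Fintype H] {Z : Subgroup H} [Fintype Z] {χ : H → ℂ} {θ : Z → ℂ}
  {e : ℕ}

/-- An irreducible character of `Q ≥ Z` over `θ` lies under `χ`. -/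
theorem inner_res_ne_zero (h : IsFullyRamified Z χ θ e) (Q : Subgroup H) [Fintype Q]
    (hZQ : Z ≤ Q) {ξ : Q → ℂ} (hξ : IsIrrCharacter Q ξ) (c : ℂ)
    (hc : ∀ z : Z, ξ ⟨z, hZQ z.2⟩ = c * θ z) : classInner (fun q : Q => χ q) ξ ≠ 0 := by
  classical
  have hξc := Helper74.isCharacter_of_isIrr hξ
  obtain ⟨a, ha, hdeg⟩ := h.indFun_eq_natCast_smul Q hZQ hξc c hc
  have ha0 : (a : ℂ) ≠ 0 := by
    intro h0
    rw [h0, zero_mul] at hdeg
    rcases mul_eq_zero.mp hdeg with h1 | h1
    · have : Q.index ≠ 0 := Subgroup.index_ne_zero_of_finite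
      exact this (by exact_mod_cast h1)
    · exact Helper80.IsIrrCharacter.map_one_ne_zero hξ h1
  have hχcf := Helper74.isClassFunction_of_isCharacter (Helper74.isCharacter_of_isIrr h.irr)
  rw [← Helper15.frobenius_reciprocity' Q ξ χ hχcf, ha, Helper74.classInner_smul_right,
    Helper74.irr_inner_self (⟨χ, h.irr⟩ : IrrCharacter H), mul_one, Complex.conj_natCast]
  exact ha0

/-- The irreducible characters over `θ` of a normal subgroup `Q ≥ Z` are conjugate. -/
theorem exists_conj (h : IsFullyRamified Z χ θ e) (Q : Subgroup H) [hQ : Q.Normal] [Fintype Q]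
    (hZQ : Z ≤ Q) {ξ ξ' : Q → ℂ} (hξ : IsIrrCharacter Q ξ) (hξ' : IsIrrCharacter Q ξ')
    (c c' : ℂ) (hc : ∀ z : Z, ξ ⟨z, hZQ z.2⟩ = c * θ z)
    (hc' : ∀ z : Z, ξ' ⟨z, hZQ z.2⟩ = c' * θ z) : ∃ g : H, ξ' = Helper15.conjFun Q g ξ :=
  Helper15.exists_conj_of_constituents Q h.irr hξ hξ' (h.inner_res_ne_zero Q hZQ hξ c hc)
    (h.inner_res_ne_zero Q hZQ hξ' c' hc')

/-- Some irreducible character of a subgroup `R ≥ Z` lies over `θ`. -/
theorem exists_irr_over (h : IsFullyRamified Z χ θ e) (R : Subgroup H) [Fintype R]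
    (hZR : Z ≤ R) : ∃ ρ : IrrCharacter R,
      classInner (Helper15.resTo Z R hZR (ρ : R → ℂ)) θ ≠ 0 := by
  classical
  have hχc := Helper74.isCharacter_of_isIrr h.irr
  have hχR := Helper74.isCharacter_restrict R hχc
  have h1 : (fun r : R => χ r) 1 ≠ 0 := Helper80.IsIrrCharacter.map_one_ne_zero h.irr
  obtain ⟨ρ, hρ⟩ := Helper81.exists_irr_constituent hχR h1
  refine ⟨ρ, ?_⟩
  intro h0
  apply hρ
  apply classInner_eq_zero_of_comp (Subgroup.inclusion hZR) hχR (Helper74.irr_isCharacter ρ)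
  have h2 : (fun r : R => χ r) ∘ (Subgroup.inclusion hZR) = (e : ℂ) • θ :=
    funext fun z => h.res z
  have h3 : (ρ : R → ℂ) ∘ (Subgroup.inclusion hZR) = Helper15.resTo Z R hZR (ρ : R → ℂ) := rfl
  rw [h2, h3, Helper74.classInner_smul_left, ← Helper74.classInner_conj_symm, h0, map_zero,
    mul_zero]

/-- Inside a subgroup `R` with `|H : R|` coprime to `|R : Z|`, the irreducible characters over
`θ` of a subgroup `Z ≤ Q ≤ R` normalized by `R` are `R`-conjugate. -/
theorem exists_conj_of_coprime [hZ : Z.Normal] (h : IsFullyRamified Z χ θ e) (R : Subgroup H)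
    [Fintype R] (hZR : Z ≤ R) (hcop : Nat.Coprime R.index (Z.relIndex R)) (Q : Subgroup H)
    [Fintype Q] (hZQ : Z ≤ Q) (hQR : Q ≤ R) (hnorm : R ≤ Subgroup.normalizer (Q : Set H)) {ξ ξ' : Q → ℂ}
    (hξ : IsIrrCharacter Q ξ) (hξ' : IsIrrCharacter Q ξ') (c c' : ℂ)
    (hc : ∀ z : Z, ξ ⟨z, hZQ z.2⟩ = c * θ z) (hc' : ∀ z : Z, ξ' ⟨z, hZQ z.2⟩ = c' * θ z) :
    ∃ r : H, r ∈ R ∧ ∀ (q : Q) (hq : r * q * r⁻¹ ∈ Q), ξ' q = ξ ⟨r * q * r⁻¹, hq⟩ := by
  classical
  obtain ⟨ρ, hρ⟩ := h.exists_irr_over R hZR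
  obtain ⟨d, hd2, hρZ⟩ := h.sylow R hZR hcop ρ.2 hρ
  let _ : Fintype (Z.subgroupOf R) := Fintype.ofFinite _
  let _ : Fintype (Q.subgroupOf R) := Fintype.ofFinite _
  have hFR : IsFullyRamified (Z.subgroupOf R) (ρ : R → ℂ) (Helper15.toSub Z R hZR θ) d :=
    { irr := ρ.2
      irr' := Helper15.isIrrCharacter_toSub Z R hZR h.irr'
      sq := hd2
      res := fun z => hρZ ⟨((z : R) : H), z.2⟩ }
  have hQn : (Q.subgroupOf R).Normal := (Subgroup.normal_subgroupOf_iff_le_normalizer hQR).mpr hnorm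
  have hle : Z.subgroupOf R ≤ Q.subgroupOf R := fun x hx => hZQ hx
  obtain ⟨g, hg⟩ := hFR.exists_conj (Q.subgroupOf R) hle
    (Helper15.isIrrCharacter_toSub Q R hQR hξ) (Helper15.isIrrCharacter_toSub Q R hQR hξ') c c'
    (fun z => hc ⟨((z : R) : H), z.2⟩) (fun z => hc' ⟨((z : R) : H), z.2⟩)
  refine ⟨(g : H), g.2, ?_⟩
  intro q hq
  have h1 := congrFun hg ⟨⟨(q : H), hQR q.2⟩, q.2⟩
  rw [Helper15.conjFun_apply] at h1
  exact h1

end IsFullyRamified

section degree

variable {H : Type u} [Group H] {Z : Subgroup H} [Fintype Z] {θ : Z → ℂ}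

/-- If every irreducible character of `Q` over `θ` has degree `d`, a character of `Q` whose
restriction to `Z` is a multiple of `θ` has degree a natural multiple of `d`. -/
theorem degree_multiple (Q : Subgroup H) [Fintype Q] (hZQ : Z ≤ Q) (d : ℂ)
    (hdeg : ∀ ξ' : IrrCharacter Q, classInner (Helper15.resTo Z Q hZQ (ξ' : Q → ℂ)) θ ≠ 0 →
      (ξ' : Q → ℂ) 1 = d)
    {Φ : Q → ℂ} (hΦ : IsCharacter Q Φ) (c : ℂ) (hc : ∀ z : Z, Φ ⟨z, hZQ z.2⟩ = c * θ z) :
    ∃ n : ℕ, Φ 1 = (n : ℂ) * d := by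
  classical
  let _ := Helper74.irrFintype Q
  have hdec := Helper74.isCharacter_eq_sum_irr hΦ
  choose m hm using fun ξ' : IrrCharacter Q => Helper74.isCharacter_inner_irr_nat hΦ ξ'
  have hover : ∀ ξ' : IrrCharacter Q, m ξ' ≠ 0 →
      classInner (Helper15.resTo Z Q hZQ (ξ' : Q → ℂ)) θ ≠ 0 := by
    intro ξ' hmξ h0
    apply hmξ
    have h1 : classInner Φ (ξ' : Q → ℂ) = 0 := by
      apply classInner_eq_zero_of_comp (Subgroup.inclusion hZQ) hΦ (Helper74.irr_isCharacter ξ')
      have h2 : Φ ∘ (Subgroup.inclusion hZQ) = c • θ := funext fun z => hc z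
      have h3 : (ξ' : Q → ℂ) ∘ (Subgroup.inclusion hZQ) =
          Helper15.resTo Z Q hZQ (ξ' : Q → ℂ) := rfl
      rw [h2, h3, Helper74.classInner_smul_left, ← Helper74.classInner_conj_symm, h0, map_zero,
        mul_zero]
    rw [hm ξ'] at h1
    exact_mod_cast h1
  refine ⟨∑ ξ' : IrrCharacter Q, m ξ', ?_⟩
  have h1 := congrFun hdec 1
  rw [h1, Finset.sum_apply]
  push_cast
  rw [Finset.sum_mul]
  refine Finset.sum_congr rfl fun ξ' _ => ?_
  rw [Pi.smul_apply, smul_eq_mul, hm ξ']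
  by_cases h0 : m ξ' = 0
  · rw [h0, Nat.cast_zero, zero_mul, zero_mul]
  · rw [hdeg ξ' (hover ξ' h0)]

end degree

section perm

/-- A weighted orbit count: if a permutation of order dividing `p` preserves the weights and all
fixed points have weight `0`, then `p` divides the total weight. -/
theorem prime_dvd_sum_of_perm {X : Type*} [Fintype X] {p : ℕ} [hp : Fact p.Prime]
    (σ : Equiv.Perm X) (hσ : σ ^ p = 1) (w : X → ℕ) (hw : ∀ x, w (σ x) = w x)
    (hfix : ∀ x, σ x = x → w x = 0) : p ∣ ∑ x, w x := by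
  classical
  have h0 : ∑ x, w x = ∑ x, (fun b : ℕ => b) (w x) := rfl
  rw [h0, Finset.sum_comp (fun b : ℕ => b) w]
  apply Finset.dvd_sum
  intro b _
  by_cases hb0 : b = 0
  · simp [hb0]
  · have hcard : p ∣ (Finset.univ.filter (fun x => w x = b)).card := by
      have hmem : ∀ x, w (σ x) = b ↔ w x = b := fun x => by rw [hw]
      set τ : Equiv.Perm {x : X // w x = b} := σ.subtypePerm hmem with hτdef
      have hτ : τ ^ p ^ 1 = 1 := by
        rw [pow_one, hτdef, Equiv.Perm.subtypePerm_pow]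
        ext x
        simp [hσ]
      have h1 := Equiv.Perm.card_compl_support_modEq hτ
      have h2 : τ.supportᶜ = ∅ := by
        rw [Finset.eq_empty_iff_forall_notMem]
        intro x hx
        rw [Finset.mem_compl, Equiv.Perm.mem_support, not_not] at hx
        have h3 : σ (x : X) = x := by
          have := congrArg Subtype.val hx
          simpa [hτdef] using this
        exact hb0 (x.2 ▸ hfix x h3)
      rw [h2, Finset.card_empty] at h1
      have h4 : p ∣ Fintype.card {x : X // w x = b} :=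
        (Nat.modEq_zero_iff_dvd.mp h1.symm)
      rwa [Fintype.card_subtype] at h4
    exact Dvd.dvd.mul_right hcard b

end perm

section weighted

variable {H : Type u} [Group H]

/-- Conjugation by an element normalizing `Q`, as a permutation of `Q`. -/
def conjEquivOfNormalizer (Q : Subgroup H) (y : H) (hy : y ∈ Subgroup.normalizer (Q : Set H)) :
    Q ≃ Q where
  toFun q := ⟨y * q * y⁻¹, (Subgroup.mem_normalizer_iff.mp hy q).mp q.2⟩
  invFun q := ⟨y⁻¹ * q * y, (Subgroup.mem_normalizer_iff''.mp hy q).mp q.2⟩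
  left_inv q := by apply Subtype.ext; simp [mul_assoc]
  right_inv q := by apply Subtype.ext; simp [mul_assoc]

/-- The weighted orbit count on the irreducible characters of `K` lying over a `y`-invariant
character `ξ` of `Q ≤ K`: if `y ^ p ∈ K` and `y` fixes none of them, then `p ∣ |K : Q|`. -/
theorem prime_dvd_relIndex_of_no_fixed (K : Subgroup H) [hK : K.Normal] [Fintype K]
    (Q : Subgroup H) [Fintype Q] (hQK : Q ≤ K) {p : ℕ} [hp : Fact p.Prime] {ξ : Q → ℂ}
    (hξ : IsIrrCharacter Q ξ) (y : H) (hyQ : y ∈ Subgroup.normalizer (Q : Set H))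
    (hyξ : ∀ (q : Q) (hq : y * q * y⁻¹ ∈ Q), ξ ⟨y * q * y⁻¹, hq⟩ = ξ q) (hyp : y ^ p ∈ K)
    (hmult : ∀ φ : IrrCharacter K, classInner (Helper15.resTo Q K hQK (φ : K → ℂ)) ξ ≠ 0 →
      ∃ n : ℕ, (φ : K → ℂ) 1 = (n : ℂ) * ξ 1)
    (hnofix : ∀ φ : IrrCharacter K, classInner (Helper15.resTo Q K hQK (φ : K → ℂ)) ξ ≠ 0 →
      Helper15.conjFun K y (φ : K → ℂ) ≠ (φ : K → ℂ)) :
    p ∣ Q.relIndex K := by
  classical
  let _ := Helper74.irrFintype K
  have hξc := Helper74.isCharacter_of_isIrr hξ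
  have hξ1 : ξ 1 ≠ 0 := Helper80.IsIrrCharacter.map_one_ne_zero hξ
  -- the permutation
  let σ : Equiv.Perm (IrrCharacter K) :=
    { toFun := fun φ => ⟨Helper15.conjFun K y (φ : K → ℂ), Helper15.isIrrCharacter_conjFun K φ.2 y⟩
      invFun := fun φ =>
        ⟨Helper15.conjFun K y⁻¹ (φ : K → ℂ), Helper15.isIrrCharacter_conjFun K φ.2 y⁻¹⟩
      left_inv := fun φ => Subtype.ext (Helper15.conjFun_inv_conjFun K y _)
      right_inv := fun φ => Subtype.ext (Helper15.conjFun_conjFun_inv K y _) }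
  have hσapp : ∀ φ : IrrCharacter K, ((σ φ : IrrCharacter K) : K → ℂ) =
      Helper15.conjFun K y (φ : K → ℂ) := fun φ => rfl
  have hσpow : ∀ (n : ℕ) (φ : IrrCharacter K), (((σ ^ n) φ : IrrCharacter K) : K → ℂ) =
      Helper15.conjFun K (y ^ n) (φ : K → ℂ) := by
    intro n
    induction n with
    | zero => intro φ; simp
    | succ n ih =>
      intro φ
      rw [pow_succ', Equiv.Perm.mul_apply, hσapp, ih, pow_succ, Helper15.conjFun_mul]
  have hσ : σ ^ p = 1 := by
    ext φ : 1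
    apply Subtype.ext
    rw [hσpow, Equiv.Perm.one_apply]
    exact Helper15.conjFun_of_mem K (Helper74.irr_isClassFunction φ) hyp
  -- the multiplicities
  choose a ha using fun φ : IrrCharacter K => Helper15.isCharacter_inner_nat
    (Helper15.isCharacter_resTo Q K hQK (Helper74.irr_isCharacter φ)) hξc
  have hane : ∀ φ : IrrCharacter K, a φ ≠ 0 →
      classInner (Helper15.resTo Q K hQK (φ : K → ℂ)) ξ ≠ 0 := by
    intro φ h0
    rw [ha φ]
    exact_mod_cast h0
  let n : IrrCharacter K → ℕ := fun φ =>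
    if h : a φ ≠ 0 then Classical.choose (hmult φ (hane φ h)) else 0
  have hn : ∀ φ : IrrCharacter K, a φ ≠ 0 → (φ : K → ℂ) 1 = (n φ : ℂ) * ξ 1 := by
    intro φ h
    have := Classical.choose_spec (hmult φ (hane φ h))
    simp only [n, dif_pos h]
    exact this
  have hn0 : ∀ φ : IrrCharacter K, a φ = 0 → n φ = 0 := by
    intro φ h
    simp only [n]
    rw [dif_neg (by simpa using h)]
  -- invariance of the multiplicities
  let E := conjEquivOfNormalizer Q y hyQ
  have haσ : ∀ φ : IrrCharacter K, a (σ φ) = a φ := by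
    intro φ
    have h1 : classInner (Helper15.resTo Q K hQK ((σ φ : IrrCharacter K) : K → ℂ)) ξ =
        classInner (Helper15.resTo Q K hQK (φ : K → ℂ)) ξ := by
      rw [Helper74.classInner_def, Helper74.classInner_def]
      congr 1
      apply Fintype.sum_equiv E
      intro q
      have h2 : ξ (E q) = ξ q := hyξ q _
      rw [h2]
      rfl
    rw [ha, ha] at h1
    exact_mod_cast h1
  have hσ1 : ∀ φ : IrrCharacter K, ((σ φ : IrrCharacter K) : K → ℂ) 1 = (φ : K → ℂ) 1 := by
    intro φ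
    rw [hσapp, Helper15.conjFun_apply]
    exact congrArg (φ : K → ℂ) (Subtype.ext (by simp))
  have hnσ : ∀ φ : IrrCharacter K, n (σ φ) = n φ := by
    intro φ
    by_cases h0 : a φ = 0
    · rw [hn0 φ h0, hn0 (σ φ) (by rw [haσ]; exact h0)]
    · have h1 := hn φ h0
      have h2 := hn (σ φ) (by rw [haσ]; exact h0)
      rw [hσ1, h1] at h2
      have h3 := mul_right_cancel₀ hξ1 h2
      exact_mod_cast h3.symm
  let w : IrrCharacter K → ℕ := fun φ => a φ * n φ
  have hw : ∀ φ, w (σ φ) = w φ := fun φ => by simp only [w]; rw [haσ, hnσ]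
  have hfix : ∀ φ, σ φ = φ → w φ = 0 := by
    intro φ hφ
    by_cases h0 : a φ = 0
    · simp only [w]; rw [h0, zero_mul]
    · exfalso
      apply hnofix φ (hane φ h0)
      rw [← hσapp, hφ]
  have hdvd := prime_dvd_sum_of_perm σ hσ w hw hfix
  -- the total weight is `|K : Q|`
  have hQ0 : (Nat.card Q : ℂ) ≠ 0 := by
    have : 0 < Nat.card Q := Nat.card_pos
    exact_mod_cast this.ne'
  have hkey : ∑ φ : IrrCharacter K, (φ : K → ℂ) 1 *
      classInner (Helper15.resTo Q K hQK (φ : K → ℂ)) ξ =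
      (Nat.card Q : ℂ)⁻¹ * ((Nat.card K : ℂ) * ξ 1) := by
    simp only [Helper74.classInner_def, Helper15.resTo_apply]
    have h1 : ∀ φ : IrrCharacter K, (φ : K → ℂ) 1 * ((Nat.card Q : ℂ)⁻¹ *
        ∑ q : Q, (φ : K → ℂ) ⟨(q : H), hQK q.2⟩ * conj (ξ q)) =
        (Nat.card Q : ℂ)⁻¹ * ∑ q : Q, conj (ξ q) *
          ((φ : K → ℂ) 1 * (φ : K → ℂ) ⟨(q : H), hQK q.2⟩) := by
      intro φ
      rw [Finset.mul_sum, Finset.mul_sum, Finset.mul_sum]
      refine Finset.sum_congr rfl fun q _ => ?_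
      ring
    simp only [h1]
    rw [← Finset.mul_sum, Finset.sum_comm]
    congr 1
    simp only [← Finset.mul_sum, Helper79.sum_irr_one_mul]
    rw [Finset.sum_eq_single (1 : Q)]
    · rw [if_pos (by rfl)]
      obtain ⟨d, hd⟩ := Helper74.isCharacter_apply_one hξc
      rw [hd, Complex.conj_natCast]
      ring
    · intro q _ hq
      rw [if_neg, mul_zero]
      intro h1
      apply hq
      apply Subtype.ext
      have h2 := congrArg Subtype.val h1
      simpa using h2
    · intro hn1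
      exact absurd (Finset.mem_univ _) hn1
  have hterm : ∀ φ : IrrCharacter K, (φ : K → ℂ) 1 *
      classInner (Helper15.resTo Q K hQK (φ : K → ℂ)) ξ = ((w φ : ℕ) : ℂ) * ξ 1 := by
    intro φ
    rw [ha φ]
    by_cases h0 : a φ = 0
    · simp only [w]; rw [h0]; simp
    · rw [hn φ h0]; simp only [w]; push_cast; ring
  simp only [hterm] at hkey
  rw [← Finset.sum_mul] at hkey
  have hsum : ((∑ φ : IrrCharacter K, w φ : ℕ) : ℂ) * (Nat.card Q : ℂ) = (Nat.card K : ℂ) := by
    have h2 : (∑ φ : IrrCharacter K, ((w φ : ℕ) : ℂ)) =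
        (Nat.card Q : ℂ)⁻¹ * (Nat.card K : ℂ) := by
      apply mul_right_cancel₀ hξ1
      rw [hkey]; ring
    push_cast
    rw [h2]
    field_simp
  have hsum' : (∑ φ : IrrCharacter K, w φ) * Nat.card Q = Nat.card K := by exact_mod_cast hsum
  have hrel := IsFullyRamified.card_mul_relIndex_eq hQK
  have hfinal : ∑ φ : IrrCharacter K, w φ = Q.relIndex K := by
    have hQpos : 0 < Nat.card Q := Nat.card_pos
    apply Nat.eq_of_mul_eq_mul_left hQpos
    rw [hrel, mul_comm, hsum']
  rw [← hfinal]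
  exact hdvd

end weighted

end Cfsg.Agent.Helper82
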