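import Mathlib
import Cfsg.Prelude.Def_Blocks
import Cfsg.Agent.Helper82.RamifiedOrbit

/-!
# Fully ramified characters: `p`-complements in quotients (helper82)

`IsFullyRamified.exists_pComplement`: if `χ` is fully ramified over `Z ⊴ H`, `Z ≤ K ⊴ H`, and no
element `y ∉ K` with `y ^ p ∈ K` fixes an irreducible character of `K` over `θ`, then `H / K` has
a `p`-complement (a subgroup of `p`-power index and order prime to `p`).
-/

set_option autoImplicit false
set_option linter.unusedSectionVars false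

namespace Cfsg.Agent.Helper82

open Cfsg
open scoped ComplexConjugate

universe u

section aux

theorem conjEquivOfNormalizer_coe {H : Type u} [Group H] (Q : Subgroup H) (y : H)
    (hy : y ∈ Subgroup.normalizer (Q : Set H)) (q : Q) :
    ((conjEquivOfNormalizer Q y hy q : Q) : H) = y * q * y⁻¹ := rfl

/-- The stabilizer in `N_H(Q)` of a function on `Q`. -/
def stabOf {H : Type u} [Group H] (Q : Subgroup H) (ξ : Q → ℂ) : Subgroup H where
  carrier := {y | ∃ hy : y ∈ Subgroup.normalizer (Q : Set H),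
    ∀ q : Q, ξ (conjEquivOfNormalizer Q y hy q) = ξ q}
  one_mem' := by
    refine ⟨Subgroup.one_mem _, fun q => ?_⟩
    congr 1
    apply Subtype.ext
    rw [conjEquivOfNormalizer_coe]
    simp
  mul_mem' := by
    rintro a b ⟨ha, ha'⟩ ⟨hb, hb'⟩
    refine ⟨Subgroup.mul_mem _ ha hb, fun q => ?_⟩
    have h1 : conjEquivOfNormalizer Q (a * b) (Subgroup.mul_mem _ ha hb) q =
        conjEquivOfNormalizer Q a ha (conjEquivOfNormalizer Q b hb q) := by
      apply Subtype.ext
      simp only [conjEquivOfNormalizer_coe]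
      group
    rw [h1, ha', hb']
  inv_mem' := by
    rintro a ⟨ha, ha'⟩
    refine ⟨Subgroup.inv_mem _ ha, fun q => ?_⟩
    have h1 : conjEquivOfNormalizer Q a ha
        (conjEquivOfNormalizer Q a⁻¹ (Subgroup.inv_mem _ ha) q) = q := by
      apply Subtype.ext
      simp only [conjEquivOfNormalizer_coe]
      group
    rw [← ha' (conjEquivOfNormalizer Q a⁻¹ (Subgroup.inv_mem _ ha) q), h1]

theorem mem_stabOf {H : Type u} [Group H] (Q : Subgroup H) (ξ : Q → ℂ) (y : H) :
    y ∈ stabOf Q ξ ↔ ∃ hy : y ∈ Subgroup.normalizer (Q : Set H),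
      ∀ q : Q, ξ (conjEquivOfNormalizer Q y hy q) = ξ q := Iff.rfl

/-- If `G = R M` as a set, then `|G : M|` divides `|R|`. -/
theorem index_dvd_card_of_exists_mul {G : Type*} [Group G] [Finite G] (M R : Subgroup G)
    (h : ∀ x : G, ∃ r ∈ R, ∃ m ∈ M, x = r * m) : M.index ∣ Nat.card R := by
  have horb : MulAction.orbit R ((1 : G) : G ⧸ M) = Set.univ := by
    rw [Set.eq_univ_iff_forall]
    intro q
    obtain ⟨x, rfl⟩ := QuotientGroup.mk_surjective q
    obtain ⟨r, hr, m, hm, rfl⟩ := h x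
    refine ⟨⟨r, hr⟩, ?_⟩
    show ((r * 1 : G) : G ⧸ M) = ((r * m : G) : G ⧸ M)
    rw [QuotientGroup.eq]
    simp [hm]
  have h1 := MulAction.index_stabilizer (G := R) ((1 : G) : G ⧸ M)
  rw [horb, Set.ncard_univ] at h1
  rw [Subgroup.index, ← h1]
  exact Subgroup.index_dvd_card _

/-- Conjugation by an element normalizing `Q`, as an automorphism of `Q`. -/
def conjMulEquivOfNormalizer {H : Type u} [Group H] (Q : Subgroup H) (y : H)
    (hy : y ∈ Subgroup.normalizer (Q : Set H)) : Q ≃* Q :=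
  { conjEquivOfNormalizer Q y hy with
    map_mul' := fun a b => by
      apply Subtype.ext
      show y * ((a : H) * (b : H)) * y⁻¹ = (y * a * y⁻¹) * (y * b * y⁻¹)
      group }

end aux

namespace IsFullyRamified

variable {H : Type u} [Group H] [Fintype H] {Z : Subgroup H} [Fintype Z] {χ : H → ℂ} {θ : Z → ℂ}
  {e : ℕ}

/-- **Existence of `p`-complements** in `H / K`. -/
theorem exists_pComplement [hZ : Z.Normal] (h : IsFullyRamified Z χ θ e) (K : Subgroup H)
    [hK : K.Normal] [Fintype K] (hZK : Z ≤ K) (p : ℕ) [hp : Fact p.Prime]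
    (hnofix : ∀ y : H, y ∉ K → y ^ p ∈ K → ∀ φ : IrrCharacter K,
      classInner (Helper15.resTo Z K hZK (φ : K → ℂ)) θ ≠ 0 →
      Helper15.conjFun K y (φ : K → ℂ) ≠ (φ : K → ℂ)) :
    ∃ M : Subgroup (H ⧸ K), (∃ k : ℕ, M.index = p ^ k) ∧ ¬ p ∣ Nat.card M := by
  classical
  -- the quotient by `Z`
  set π : H →* H ⧸ Z := QuotientGroup.mk' Z with hπ
  have hπs : Function.Surjective π := QuotientGroup.mk'_surjective Z
  have hker : π.ker = Z := QuotientGroup.ker_mk' Z
  set Kb : Subgroup (H ⧸ Z) := K.map π with hKb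
  have hKbn : Kb.Normal := Subgroup.Normal.map hK π hπs
  have hcomapKb : Kb.comap π = K := by
    rw [hKb, Subgroup.comap_map_eq, hker]
    exact sup_eq_left.mpr hZK
  -- a Sylow `p`-subgroup of `K / Z`
  obtain ⟨P⟩ : Nonempty (Sylow p Kb) := inferInstance
  set Qb : Subgroup (H ⧸ Z) := (P : Subgroup Kb).map Kb.subtype with hQb
  have hQbK : Qb ≤ Kb := Subgroup.map_subtype_le _
  have hQbp : IsPGroup p Qb := P.isPGroup'.map Kb.subtype
  obtain ⟨Rb, hQbR⟩ := hQbp.exists_le_sylow
  have hQbeq : Qb = (Rb : Subgroup (H ⧸ Z)) ⊓ Kb := by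
    have h1 : IsPGroup p (((Rb : Subgroup (H ⧸ Z)) ⊓ Kb).subgroupOf Kb) :=
      (Rb.isPGroup'.to_le inf_le_left).comap_of_injective Kb.subtype (Subgroup.subtype_injective _)
    have h2 : (P : Subgroup Kb) ≤ ((Rb : Subgroup (H ⧸ Z)) ⊓ Kb).subgroupOf Kb := by
      intro x hx
      rw [Subgroup.mem_subgroupOf]
      exact ⟨hQbR (Subgroup.mem_map_of_mem Kb.subtype hx), x.2⟩
    have h3 := P.is_maximal' h1 h2
    rw [hQb, ← h3, Subgroup.subgroupOf_map_subtype, inf_assoc, inf_idem]
  -- the corresponding subgroups of `H`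
  set Q : Subgroup H := Qb.comap π with hQ
  set R : Subgroup H := (Rb : Subgroup (H ⧸ Z)).comap π with hR
  have hZQ : Z ≤ Q := by
    intro z hz
    rw [hQ, Subgroup.mem_comap]
    have : π z = 1 := by rw [← MonoidHom.mem_ker, hker]; exact hz
    rw [this]; exact Subgroup.one_mem _
  have hZR : Z ≤ R := by
    intro z hz
    rw [hR, Subgroup.mem_comap]
    have : π z = 1 := by rw [← MonoidHom.mem_ker, hker]; exact hz
    rw [this]; exact Subgroup.one_mem _
  have hQR : Q ≤ R := Subgroup.comap_mono hQbR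
  have hQK : Q ≤ K := by
    rw [← hcomapKb]
    exact Subgroup.comap_mono hQbK
  have hQeq : Q = R ⊓ K := by
    rw [← hcomapKb, hR, ← Subgroup.comap_inf, ← hQbeq]
  have hnorm : R ≤ Subgroup.normalizer (Q : Set H) := by
    intro r hr
    rw [Subgroup.mem_normalizer_iff]
    intro q
    rw [hQeq]
    constructor
    · rintro ⟨h1, h2⟩
      exact ⟨R.mul_mem (R.mul_mem hr h1) (R.inv_mem hr), hK.conj_mem q h2 r⟩
    · rintro ⟨h1, h2⟩
      have e1 : q = r⁻¹ * (r * q * r⁻¹) * r := by group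
      constructor
      · rw [e1]
        exact R.mul_mem (R.mul_mem (R.inv_mem hr) h1) hr
      · have := hK.conj_mem _ h2 r⁻¹
        rw [inv_inv] at this
        rw [e1]
        exact this
  let _ : Fintype Q := Fintype.ofFinite Q
  let _ : Fintype R := Fintype.ofFinite R
  -- index facts
  have hRidx : R.index = (Rb : Subgroup (H ⧸ Z)).index :=
    Subgroup.index_comap_of_surjective _ hπs
  have hZrel : Z.relIndex R = Nat.card Rb := by
    have h1 : Z.relIndex R = (π.ker).relIndex R := by rw [hker]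
    rw [h1, ← MonoidHom.comap_bot, Subgroup.relIndex_comap, hR,
      Subgroup.map_comap_eq_self_of_surjective hπs, Subgroup.relIndex_bot_left]
  have hcop : Nat.Coprime R.index (Z.relIndex R) := by
    obtain ⟨n, hn⟩ := IsPGroup.iff_card.mp Rb.isPGroup'
    have hnd : ¬ p ∣ (Rb : Subgroup (H ⧸ Z)).index := Rb.not_dvd_index
    rw [hRidx, hZrel, hn]
    exact Nat.Coprime.pow_right n
      (Nat.Coprime.symm ((Nat.Prime.coprime_iff_not_dvd hp.out).mpr hnd))
  have hKQ : ¬ p ∣ Q.relIndex K := by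
    have h1 : Q.relIndex K = (P : Subgroup Kb).index := by
      rw [hQ, Subgroup.relIndex_comap, ← hKb, Subgroup.relIndex, hQb]
      have : ((P : Subgroup Kb).map Kb.subtype).subgroupOf Kb = (P : Subgroup Kb) :=
        Subgroup.comap_map_eq_self_of_injective (Subgroup.subtype_injective _) _
      rw [this]
    rw [h1]
    exact P.not_dvd_index
  -- a character `ξ` of `Q` over `θ`
  obtain ⟨ξ, hξθ⟩ := h.exists_irr_over Q hZQ
  have hinvθ : ∀ x : H, Helper15.conjFun Z x θ = θ := fun x => h.conjFun_eq x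
  have hresξ := resTo_eq_smul_of_invariant Z Q hZQ h.irr' (fun t => hinvθ (t : H)) ξ.2 hξθ
  set c : ℂ := classInner (Helper15.resTo Z Q hZQ (ξ : Q → ℂ)) θ with hcdef
  have hc : ∀ z : Z, (ξ : Q → ℂ) ⟨z, hZQ z.2⟩ = c * θ z := fun z => congrFun hresξ z
  -- all irreducible characters of `Q` over `θ` have the degree of `ξ`
  have hdeg : ∀ ξ' : IrrCharacter Q,
      classInner (Helper15.resTo Z Q hZQ (ξ' : Q → ℂ)) θ ≠ 0 →
      (ξ' : Q → ℂ) 1 = (ξ : Q → ℂ) 1 := by
    intro ξ' hξ'
    have hres' := resTo_eq_smul_of_invariant Z Q hZQ h.irr' (fun t => hinvθ (t : H)) ξ'.2 hξ'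
    obtain ⟨r, hrR, hr⟩ := h.exists_conj_of_coprime R hZR hcop Q hZQ hQR hnorm ξ.2 ξ'.2 c _ hc
      (fun z => congrFun hres' z)
    have h1 := hr 1 (by simp [Q.one_mem])
    rw [h1]
    exact congrArg (ξ : Q → ℂ) (Subtype.ext (by simp))
  -- the subgroup `M`
  set T : Subgroup H := stabOf Q (ξ : Q → ℂ) with hT
  set πK : H →* H ⧸ K := QuotientGroup.mk' K with hπK
  have hπKone : ∀ x : H, x ∈ K → πK x = 1 := fun x hx =>
    (QuotientGroup.eq_one_iff x).mpr hx
  refine ⟨T.map πK, ?_, ?_⟩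
  · -- the index is a power of `p`
    have hcover : ∀ x : H ⧸ K, ∃ r ∈ R.map πK, ∃ m ∈ T.map πK, x = r * m := by
      intro x
      obtain ⟨g, hg⟩ := QuotientGroup.mk'_surjective K x⁻¹
      -- Frattini
      have hfr := Sylow.normalizer_sup_eq_top P
      have hmem : π g ∈ ((Subgroup.normalizer (((P : Subgroup Kb).map Kb.subtype :
          Subgroup (H ⧸ Z)) : Set (H ⧸ Z)) ⊔ Kb : Subgroup (H ⧸ Z)) : Set (H ⧸ Z)) := by
        rw [hfr]; exact Set.mem_univ _
      rw [Subgroup.mul_normal] at hmem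
      obtain ⟨nb, hnb, kb, hkb, hnk⟩ := Set.mem_mul.mp hmem
      obtain ⟨n, rfl⟩ := hπs nb
      obtain ⟨k, hk, rfl⟩ := Subgroup.mem_map.mp hkb
      have hn : n ∈ Subgroup.normalizer (Q : Set H) := by
        have h1 : n ∈ (Subgroup.normalizer (Qb : Set (H ⧸ Z))).comap π := hnb
        rw [Subgroup.comap_normalizer_eq_of_surjective _ hπs] at h1
        exact h1
      have hz : (n * k)⁻¹ * g ∈ K := by
        apply hZK
        rw [← hker, MonoidHom.mem_ker, map_mul, map_inv, map_mul, hnk]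
        group
      have hgn : πK g = πK n := by
        have e1 : g = n * (k * ((n * k)⁻¹ * g)) := by group
        rw [e1, map_mul, hπKone _ (K.mul_mem hk hz), mul_one]
      -- the conjugate character
      let f : Q ≃* Q := conjMulEquivOfNormalizer Q n hn
      have hξ'irr : IsIrrCharacter Q (fun q => (ξ : Q → ℂ) (f q)) :=
        Helper80.IsIrrCharacter.comp_surjective ξ.2 f.toMonoidHom f.surjective
      have hc' : ∀ z : Z, (fun q => (ξ : Q → ℂ) (f q)) ⟨z, hZQ z.2⟩ = c * θ z := by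
        intro z
        have h1 := hc ⟨n * z * n⁻¹, hZ.conj_mem z z.2 n⟩
        have h2 := congrFun (hinvθ n) z
        rw [Helper15.conjFun_apply] at h2
        rw [h2] at h1
        exact h1
      obtain ⟨r, hrR, hr⟩ := h.exists_conj_of_coprime R hZR hcop Q hZQ hQR hnorm ξ.2 hξ'irr c c
        hc hc'
      have hrn : r ∈ Subgroup.normalizer (Q : Set H) := hnorm hrR
      have htn : n * r⁻¹ ∈ Subgroup.normalizer (Q : Set H) :=
        Subgroup.mul_mem _ hn (Subgroup.inv_mem _ hrn)
      have ht : n * r⁻¹ ∈ T := by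
        rw [hT, mem_stabOf]
        refine ⟨htn, fun q => ?_⟩
        set q' : Q := conjEquivOfNormalizer Q r⁻¹ (Subgroup.inv_mem _ hrn) q with hq'
        have e3 : (q' : H) = r⁻¹ * (q : H) * r⁻¹⁻¹ := rfl
        have hq'mem : r * (q' : H) * r⁻¹ ∈ Q := by
          have : r * (q' : H) * r⁻¹ = q := by rw [e3]; group
          rw [this]; exact q.2
        have h1 := hr q' hq'mem
        have h2 : (⟨r * (q' : H) * r⁻¹, hq'mem⟩ : Q) = q := by
          apply Subtype.ext
          show r * (q' : H) * r⁻¹ = (q : H)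
          rw [e3]; group
        rw [h2] at h1
        rw [← h1]
        refine congrArg (ξ : Q → ℂ) (Subtype.ext ?_)
        show n * r⁻¹ * (q : H) * (n * r⁻¹)⁻¹ = n * (q' : H) * n⁻¹
        rw [e3]
        group
      -- conclusion
      refine ⟨(πK r)⁻¹, Subgroup.inv_mem _ (Subgroup.mem_map_of_mem πK hrR),
        (πK (n * r⁻¹))⁻¹, Subgroup.inv_mem _ (Subgroup.mem_map_of_mem πK ht), ?_⟩
      have e2 : x⁻¹ = πK (n * r⁻¹) * πK r := by
        rw [← hg, ← map_mul]
        show πK g = _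
        rw [hgn]
        congr 1
        group
      rw [← mul_inv_rev, ← e2, inv_inv]
    have hdvd := index_dvd_card_of_exists_mul (T.map πK) (R.map πK) hcover
    have hRp : IsPGroup p (R.map πK) := by
      rintro ⟨g, hg⟩
      obtain ⟨r, hr, rfl⟩ := Subgroup.mem_map.mp hg
      obtain ⟨k, hk⟩ := Rb.isPGroup' ⟨π r, hr⟩
      refine ⟨k, ?_⟩
      apply Subtype.ext
      have h1 : (π r) ^ p ^ k = 1 := by
        have := congrArg Subtype.val hk
        simpa using this
      have h2 : r ^ p ^ k ∈ K := by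
        apply hZK
        rw [← hker, MonoidHom.mem_ker, map_pow, h1]
      show (πK r) ^ p ^ k = 1
      rw [← map_pow]
      exact hπKone _ h2
    obtain ⟨n, hn⟩ := IsPGroup.iff_card.mp hRp
    rw [hn] at hdvd
    obtain ⟨k, -, hk⟩ := (Nat.dvd_prime_pow hp.out).mp hdvd
    exact ⟨k, hk⟩
  · -- the order is prime to `p`
    intro hdvd
    obtain ⟨⟨m, hmM⟩, hm⟩ := exists_prime_orderOf_dvd_card' p hdvd
    obtain ⟨t, ht, rfl⟩ := Subgroup.mem_map.mp hmM
    have hord : orderOf (πK t) = p := by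
      rw [← hm]
      exact Subgroup.orderOf_coe (⟨πK t, hmM⟩ : T.map πK)
    have htK : t ∉ K := by
      intro htK
      rw [hπKone t htK, orderOf_one] at hord
      exact hp.out.one_lt.ne hord
    have htp : t ^ p ∈ K := by
      rw [← QuotientGroup.eq_one_iff]
      show πK (t ^ p) = 1
      rw [map_pow, ← hord]
      exact pow_orderOf_eq_one _
    obtain ⟨htn, htξ⟩ := (mem_stabOf Q (ξ : Q → ℂ) t).mp ht
    have hover : ∀ φ : IrrCharacter K,
        classInner (Helper15.resTo Q K hQK (φ : K → ℂ)) (ξ : Q → ℂ) ≠ 0 →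
        classInner (Helper15.resTo Z K hZK (φ : K → ℂ)) θ ≠ 0 := by
      intro φ hφ h0
      apply hφ
      apply classInner_eq_zero_of_comp (Subgroup.inclusion hZQ)
        (Helper15.isCharacter_resTo Q K hQK (Helper74.irr_isCharacter φ))
        (Helper74.irr_isCharacter ξ)
      have h2 : (Helper15.resTo Q K hQK (φ : K → ℂ)) ∘ (Subgroup.inclusion hZQ) =
          Helper15.resTo Z K hZK (φ : K → ℂ) := rfl
      have h3 : (ξ : Q → ℂ) ∘ (Subgroup.inclusion hZQ) = c • θ := funext fun z => hc z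
      rw [h2, h3, Helper74.classInner_smul_right, h0, mul_zero]
    apply hKQ
    apply prime_dvd_relIndex_of_no_fixed K Q hQK ξ.2 t htn (fun q _ => htξ q) htp
    · intro φ hφ
      have hφθ := hover φ hφ
      have hresφ := resTo_eq_smul_of_invariant Z K hZK h.irr' (fun t => hinvθ (t : H)) φ.2 hφθ
      exact degree_multiple Q hZQ ((ξ : Q → ℂ) 1) hdeg
        (Helper15.isCharacter_resTo Q K hQK (Helper74.irr_isCharacter φ)) _
        (fun z => congrFun hresφ z)
    · intro φ hφ
      exact hnofix t htK htp φ (hover φ hφ)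

end IsFullyRamified

end Cfsg.Agent.Helper82
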