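import Mathlib
import Cfsg.Prelude.Def_Blocks
import Cfsg.Agent.Helper82.RamifiedComplement

/-!
# Fully ramified characters: inertia groups of characters of intermediate normal subgroups

* `IsFullyRamified.index_eq_sq_mul_index` : for `φ ∈ Irr(K | θ)` with `b = ⟨χ_K, φ⟩` and inertia
  group `T`, `|H : K| = b² |H : T|` and `χ 1 = b |H : T| φ 1`.
* `IsFullyRamified.inertia_eq_of_induced` : if `χ` is induced from a character of `K`, every
  `φ ∈ Irr(K | θ)` has inertia group `K`.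
-/

set_option autoImplicit false
set_option linter.unusedSectionVars false

namespace Cfsg.Agent.Helper82

open Cfsg
open scoped ComplexConjugate

universe u

namespace IsFullyRamified

variable {H : Type u} [Group H] [Fintype H] {Z : Subgroup H} [Fintype Z] {χ : H → ℂ} {θ : Z → ℂ}
  {e : ℕ}

/-- For `φ ∈ Irr(K | θ)`: with `b = ⟨χ_K, φ⟩` and `T` the inertia group of `φ`,
`χ_K = b ∑ (conjugates of φ)`, `χ 1 = b |H : T| φ 1` and `|H : K| = b² |H : T|`. -/
theorem index_eq_sq_mul_index [hZ : Z.Normal] (h : IsFullyRamified Z χ θ e) (K : Subgroup H)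
    [hK : K.Normal] [Fintype K] (hZK : Z ≤ K) (φ : IrrCharacter K)
    (hφ : classInner (Helper15.resTo Z K hZK (φ : K → ℂ)) θ ≠ 0) :
    ∃ b : ℕ, b ≠ 0 ∧ classInner (fun k : K => χ k) (φ : K → ℂ) = b ∧
      (fun k : K => χ k) = (b : ℂ) • ∑ φ' ∈ Helper15.conjOrbit K (φ : K → ℂ), φ' ∧
      χ 1 = (b : ℂ) * ((Helper15.inertia K (φ : K → ℂ)).index : ℂ) * (φ : K → ℂ) 1 ∧
      K.index = b ^ 2 * (Helper15.inertia K (φ : K → ℂ)).index := by
  classical
  have hφc := Helper74.irr_isCharacter φ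
  have hχc := Helper74.isCharacter_of_isIrr h.irr
  have hχcf := Helper74.isClassFunction_of_isCharacter hχc
  have hres := resTo_eq_smul_of_invariant Z K hZK h.irr' (fun t => h.conjFun_eq (t : H)) φ.2 hφ
  have hc : ∀ z : Z, (φ : K → ℂ) ⟨z, hZK z.2⟩ =
      classInner (Helper15.resTo Z K hZK (φ : K → ℂ)) θ * θ z := fun z => congrFun hres z
  have hcon := h.inner_res_ne_zero K hZK φ.2 _ hc
  obtain ⟨b, hb⟩ := Helper15.isCharacter_inner_nat (Helper74.isCharacter_restrict K hχc) hφc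
  have hb0 : b ≠ 0 := by
    intro h0
    apply hcon
    rw [hb, h0, Nat.cast_zero]
  have hcl := Helper15.clifford_restrict K h.irr φ.2 hcon
  rw [hb] at hcl
  set T := Helper15.inertia K (φ : K → ℂ) with hT
  have hφ1 : (φ : K → ℂ) 1 ≠ 0 := Helper80.IsIrrCharacter.map_one_ne_zero φ.2
  -- degree of `χ`
  have hχ1 : χ 1 = (b : ℂ) * (T.index : ℂ) * (φ : K → ℂ) 1 := by
    have h1 := congrFun hcl 1
    simp only [Pi.smul_apply, Finset.sum_apply, smul_eq_mul] at h1
    have h2 : ∀ φ' ∈ Helper15.conjOrbit K (φ : K → ℂ), φ' 1 = (φ : K → ℂ) 1 := by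
      intro φ' hφ'
      obtain ⟨g, rfl⟩ := (Helper15.mem_conjOrbit K).mp hφ'
      rw [Helper15.conjFun_apply]
      exact congrArg (φ : K → ℂ) (Subtype.ext (by simp))
    rw [Finset.sum_congr rfl h2, Finset.sum_const, Helper15.card_conjOrbit, nsmul_eq_mul] at h1
    have h3 : χ 1 = χ ((1 : K) : H) := rfl
    rw [h3, h1]
    ring
  -- the induced character
  obtain ⟨a, ha, hdeg⟩ := h.indFun_eq_natCast_smul K hZK hφc _ hc
  have hab : a = b := by
    have h1 := Helper15.frobenius_reciprocity K (φ : K → ℂ) χ hχcf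
    rw [ha, Helper74.classInner_smul_left, Helper74.irr_inner_self (⟨χ, h.irr⟩ : IrrCharacter H),
      mul_one, ← Helper74.classInner_conj_symm, hb, Complex.conj_natCast] at h1
    exact_mod_cast h1
  rw [hab] at hdeg
  refine ⟨b, hb0, hb, hcl, hχ1, ?_⟩
  rw [hχ1] at hdeg
  have h4 : (K.index : ℂ) = ((b ^ 2 * T.index : ℕ) : ℂ) := by
    apply mul_right_cancel₀ hφ1
    rw [hdeg]
    push_cast
    ring
  exact_mod_cast h4

/-- If `χ = φ₀^H` for a character `φ₀` of `K`, every `φ ∈ Irr(K | θ)` has inertia group `K`. -/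
theorem inertia_le_of_induced [hZ : Z.Normal] (h : IsFullyRamified Z χ θ e) (K : Subgroup H)
    [hK : K.Normal] [Fintype K] (hZK : Z ≤ K) {φ₀ : K → ℂ} (hφ₀ : IsCharacter K φ₀)
    (hind : indFun K φ₀ = χ) (φ : IrrCharacter K)
    (hφ : classInner (Helper15.resTo Z K hZK (φ : K → ℂ)) θ ≠ 0) :
    Helper15.inertia K (φ : K → ℂ) ≤ K := by
  classical
  obtain ⟨b, hb0, hb, hcl, -, hidx⟩ := h.index_eq_sq_mul_index K hZK φ hφ
  have hχc := Helper74.isCharacter_of_isIrr h.irr
  have hχcf := Helper74.isClassFunction_of_isCharacter hχc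
  -- `b = 1`
  have h1 := Helper15.frobenius_reciprocity K φ₀ χ hχcf
  rw [hind, Helper74.irr_inner_self (⟨χ, h.irr⟩ : IrrCharacter H), hcl,
    Helper74.classInner_smul_right, Helper74.classInner_sum_right, Complex.conj_natCast] at h1
  have hnat : ∀ φ' ∈ Helper15.conjOrbit K (φ : K → ℂ), ∃ m : ℕ, classInner φ₀ φ' = m := by
    intro φ' hφ'
    exact Helper15.isCharacter_inner_nat hφ₀ (Helper74.isCharacter_of_isIrr
      (Helper15.isIrrCharacter_of_mem_conjOrbit K φ.2 hφ'))
  have hsum : ∃ N : ℕ, ∑ φ' ∈ Helper15.conjOrbit K (φ : K → ℂ), classInner φ₀ φ' = N := by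
    refine ⟨∑ φ' ∈ (Helper15.conjOrbit K (φ : K → ℂ)).attach,
      Classical.choose (hnat φ'.1 φ'.2), ?_⟩
    rw [← Finset.sum_attach]
    push_cast
    refine Finset.sum_congr rfl fun φ' _ => ?_
    exact Classical.choose_spec (hnat φ'.1 φ'.2)
  obtain ⟨N, hN⟩ := hsum
  rw [hN] at h1
  have hbN : b * N = 1 := by exact_mod_cast h1.symm
  have hb1 : b = 1 := Nat.eq_one_of_mul_eq_one_right hbN
  rw [hb1, one_pow, one_mul] at hidx
  -- `|H : K| = |H : T|` and `K ≤ T`
  have hKT : K ≤ Helper15.inertia K (φ : K → ℂ) :=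
    Helper15.le_inertia K (Helper74.irr_isClassFunction φ)
  have h2 := Subgroup.relIndex_mul_index hKT
  rw [← hidx] at h2
  have hK0 : K.index ≠ 0 := Subgroup.index_ne_zero_of_finite
  have h3 : K.relIndex (Helper15.inertia K (φ : K → ℂ)) = 1 := by
    have : K.relIndex (Helper15.inertia K (φ : K → ℂ)) * K.index = 1 * K.index := by
      rw [h2, one_mul]
    exact Nat.eq_of_mul_eq_mul_right (Nat.pos_of_ne_zero hK0) this
  exact Subgroup.relIndex_eq_one.mp h3

end IsFullyRamified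

end Cfsg.Agent.Helper82
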