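import Mathlib
import Cfsg.Prelude.Def_Blocks
import Cfsg.Agent.S0886
import Cfsg.Agent.Helper82.RamifiedInduced

/-!
# Fully ramified characters: cyclic Sylow subgroups of `H / K` (helper82)

If `χ` is fully ramified over `Z ⊴ H`, `Z ≤ K ⊴ H` and `H / K` has a cyclic Sylow `p`-subgroup,
then the inertia group `T` of any `φ ∈ Irr(K | θ)` has `p ∤ |T : K|`, and `H / K` has a
`p`-complement.
-/

set_option autoImplicit false
set_option linter.unusedSectionVars false

namespace Cfsg.Agent.Helper82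

open Cfsg
open scoped ComplexConjugate

universe u

/-- The preimage of a cyclic subgroup of `G / N` is cyclic modulo `N`. -/
theorem isCyclic_quotient_comap {G : Type*} [Group G] (N : Subgroup G) [N.Normal]
    (C : Subgroup (G ⧸ N)) (hC : IsCyclic C) :
    IsCyclic (↥(C.comap (QuotientGroup.mk' N)) ⧸
      N.subgroupOf (C.comap (QuotientGroup.mk' N))) := by
  obtain ⟨c₀, hc₀⟩ := hC.exists_generator
  obtain ⟨g₀, hg₀⟩ := QuotientGroup.mk_surjective (c₀ : G ⧸ N)
  set Y : Subgroup G := C.comap (QuotientGroup.mk' N) with hY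
  have hg₀Y : g₀ ∈ Y := by
    show (QuotientGroup.mk' N g₀) ∈ C
    rw [QuotientGroup.mk'_apply, hg₀]
    exact c₀.2
  refine ⟨⟨((⟨g₀, hg₀Y⟩ : Y) : Y ⧸ N.subgroupOf Y), ?_⟩⟩
  intro q
  obtain ⟨k, rfl⟩ := QuotientGroup.mk_surjective q
  have hkC : ((k : G) : G ⧸ N) ∈ C := k.2
  obtain ⟨j, hj⟩ := Subgroup.mem_zpowers_iff.mp (hc₀ ⟨((k : G) : G ⧸ N), hkC⟩)
  refine Subgroup.mem_zpowers_iff.mpr ⟨j, ?_⟩
  rw [← QuotientGroup.mk_zpow, QuotientGroup.eq, Subgroup.mem_subgroupOf]
  rw [← QuotientGroup.eq_one_iff]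
  have h1 := congrArg Subtype.val hj
  simp only [Subgroup.coe_zpow] at h1
  simp only [Subgroup.coe_mul, Subgroup.coe_inv, Subgroup.coe_zpow, QuotientGroup.mk_mul,
    QuotientGroup.mk_inv, QuotientGroup.mk_zpow]
  rw [← h1, hg₀]
  group

namespace IsFullyRamified

variable {H : Type u} [Group H] [Fintype H] {Z : Subgroup H} [Fintype Z] {χ : H → ℂ} {θ : Z → ℂ}
  {e : ℕ}

/-- If `H / K` has a cyclic Sylow `p`-subgroup, no element of order `p` modulo `K` fixes a
character in `Irr(K | θ)`. -/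
theorem conjFun_ne_of_cyclic_sylow [hZ : Z.Normal] (h : IsFullyRamified Z χ θ e) (K : Subgroup H)
    [hK : K.Normal] [Fintype K] (hZK : Z ≤ K) (p : ℕ) [hp : Fact p.Prime]
    (P : Sylow p (H ⧸ K)) (hcyc : IsCyclic P) (φ : IrrCharacter K)
    (hφ : classInner (Helper15.resTo Z K hZK (φ : K → ℂ)) θ ≠ 0) (y : H) (hyK : y ∉ K)
    (hyp : y ^ p ∈ K) : Helper15.conjFun K y (φ : K → ℂ) ≠ (φ : K → ℂ) := by
  classical
  intro heq
  obtain ⟨b, hb0, -, -, hχ1, hidx⟩ := h.index_eq_sq_mul_index K hZK φ hφ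
  set T := Helper15.inertia K (φ : K → ℂ) with hT
  have hyT : y ∈ T := (Helper15.mem_inertia K (φ : K → ℂ) y).mpr heq
  have hKT : K ≤ T := Helper15.le_inertia K (Helper74.irr_isClassFunction φ)
  set πK : H →* H ⧸ K := QuotientGroup.mk' K with hπK
  have hπKs : Function.Surjective πK := QuotientGroup.mk'_surjective K
  have hkerK : πK.ker = K := QuotientGroup.ker_mk' K
  set Tb : Subgroup (H ⧸ K) := T.map πK with hTb
  obtain ⟨S⟩ : Nonempty (Sylow p Tb) := inferInstance
  set S' : Subgroup (H ⧸ K) := (S : Subgroup Tb).map Tb.subtype with hS'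
  have hS'T : S' ≤ Tb := Subgroup.map_subtype_le _
  have hS'p : IsPGroup p S' := S.isPGroup'.map Tb.subtype
  -- `S'` is cyclic
  have hS'cyc : IsCyclic S' := by
    obtain ⟨P', hP'⟩ := hS'p.exists_le_sylow
    obtain ⟨g, hg⟩ := MulAction.exists_smul_eq (H ⧸ K) P P'
    haveI : IsCyclic P := hcyc
    have h1 : IsCyclic (g • P : Sylow p (H ⧸ K)) :=
      isCyclic_of_surjective (P.equivSMul g) (P.equivSMul g).surjective
    rw [hg] at h1
    haveI : IsCyclic (P' : Subgroup (H ⧸ K)) := h1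
    exact isCyclic_of_surjective (Subgroup.subgroupOfEquivOfLe hP')
      (Subgroup.subgroupOfEquivOfLe hP').surjective
  set Y : Subgroup H := S'.comap πK with hY
  have hKY : K ≤ Y := by
    rw [← hkerK]
    exact MonoidHom.ker_le_comap πK S'
  have hYT : Y ≤ T := by
    intro x hx
    have h1 : πK x ∈ Tb := hS'T hx
    obtain ⟨t, ht, htx⟩ := Subgroup.mem_map.mp h1
    have h2 : t⁻¹ * x ∈ K := by
      rw [← hkerK, MonoidHom.mem_ker, map_mul, map_inv, htx, inv_mul_cancel]
    have : x = t * (t⁻¹ * x) := by group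
    rw [this]
    exact T.mul_mem ht (hKT h2)
  have hZY : Z ≤ Y := hZK.trans hKY
  let _ : Fintype Y := Fintype.ofFinite Y
  let _ : Fintype (K.subgroupOf Y) := Fintype.ofFinite _
  have hYcyc : IsCyclic (↥Y ⧸ K.subgroupOf Y) := isCyclic_quotient_comap K S' hS'cyc
  -- the extension of `φ` to `Y`
  have hφY := Helper15.isIrrCharacter_toSub K Y hKY φ.2
  obtain ⟨φh, hφh, hφhext⟩ := Cfsg.Agent.S0886.result (K.subgroupOf Y) hYcyc
    (Helper15.toSub K Y hKY (φ : K → ℂ)) hφY
    (fun g n => (Helper15.mem_inertia_iff K (φ : K → ℂ) (g : H)).mp (hYT g.2)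
      ⟨((n : Y) : H), n.2⟩)
  have hφhK : ∀ k : K, φh ⟨k, hKY k.2⟩ = (φ : K → ℂ) k := by
    intro k
    have := hφhext ⟨⟨(k : H), hKY k.2⟩, k.2⟩
    exact this
  -- `φh` lies over `θ`
  have hres := resTo_eq_smul_of_invariant Z K hZK h.irr' (fun t => h.conjFun_eq (t : H)) φ.2 hφ
  have hφhZ : ∀ z : Z, φh ⟨z, hZY z.2⟩ =
      classInner (Helper15.resTo Z K hZK (φ : K → ℂ)) θ * θ z := by
    intro z
    have h5 : (φ : K → ℂ) ⟨z, hZK z.2⟩ =
        classInner (Helper15.resTo Z K hZK (φ : K → ℂ)) θ * θ z := congrFun hres z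
    rw [← h5]
    exact hφhK ⟨z, hZK z.2⟩
  obtain ⟨a', -, hdeg⟩ := h.indFun_eq_natCast_smul Y hZY (Helper74.isCharacter_of_isIrr hφh) _ hφhZ
  have hφh1 : φh 1 = (φ : K → ℂ) 1 := hφhK 1
  have hφ1 : (φ : K → ℂ) 1 ≠ 0 := Helper80.IsIrrCharacter.map_one_ne_zero φ.2
  rw [hφh1, hχ1] at hdeg
  have hYidx : Y.index = a' * b * T.index := by
    have h4 : (Y.index : ℂ) = ((a' * b * T.index : ℕ) : ℂ) := by
      apply mul_right_cancel₀ hφ1
      rw [hdeg]
      push_cast
      ring
    exact_mod_cast h4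
  -- index arithmetic
  have hT0 : T.index ≠ 0 := Subgroup.index_ne_zero_of_finite
  have h1 : Y.relIndex T * T.index = Y.index := Subgroup.relIndex_mul_index hYT
  have h2 : K.relIndex Y * Y.index = K.index := Subgroup.relIndex_mul_index hKY
  have hYT' : Y.relIndex T = a' * b := by
    rw [hYidx] at h1
    exact Nat.eq_of_mul_eq_mul_right (Nat.pos_of_ne_zero hT0) h1
  have hb' : b = K.relIndex Y * a' := by
    rw [hidx, hYidx] at h2
    have h3 : (K.relIndex Y * a') * (b * T.index) = b * (b * T.index) := by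
      calc (K.relIndex Y * a') * (b * T.index) = K.relIndex Y * (a' * b * T.index) := by ring
        _ = b ^ 2 * T.index := h2
        _ = b * (b * T.index) := by ring
    have hpos : 0 < b * T.index := Nat.mul_pos (Nat.pos_of_ne_zero hb0) (Nat.pos_of_ne_zero hT0)
    exact (Nat.eq_of_mul_eq_mul_right hpos h3).symm
  have hdvd : K.relIndex Y ∣ Y.relIndex T := by
    rw [hYT']
    exact Dvd.dvd.mul_left ⟨a', hb'⟩ a'
  -- identify the two relative indices
  have hKrel : K.relIndex Y = Nat.card S := by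
    have e1 : K.relIndex Y = (πK.ker).relIndex Y := by rw [hkerK]
    rw [e1, ← MonoidHom.comap_bot, Subgroup.relIndex_comap, hY,
      Subgroup.map_comap_eq_self_of_surjective hπKs, Subgroup.relIndex_bot_left, hS',
      Subgroup.card_subtype]
  have hYrel : Y.relIndex T = (S : Subgroup Tb).index := by
    rw [hY, Subgroup.relIndex_comap, ← hTb, Subgroup.relIndex, hS']
    have : ((S : Subgroup Tb).map Tb.subtype).subgroupOf Tb = (S : Subgroup Tb) :=
      Subgroup.comap_map_eq_self_of_injective (Subgroup.subtype_injective _) _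
    rw [this]
  -- `p` divides `|T / K|`
  have hpT : p ∣ Nat.card Tb := by
    have hmem : πK y ∈ Tb := Subgroup.mem_map_of_mem πK hyT
    have hne : πK y ≠ 1 := by
      intro h1'
      apply hyK
      rw [← hkerK, MonoidHom.mem_ker]
      exact h1'
    have hpow : (πK y) ^ p = 1 := by
      rw [← map_pow, ← MonoidHom.mem_ker, hkerK]
      exact hyp
    have hord : orderOf (πK y) = p := orderOf_eq_prime hpow hne
    have h3 : orderOf (⟨πK y, hmem⟩ : Tb) = p := by
      rw [← hord]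
      exact (Subgroup.orderOf_coe (⟨πK y, hmem⟩ : Tb)).symm
    rw [← h3]
    exact orderOf_dvd_natCard _
  have hpS : p ∣ Nat.card S := S.dvd_card_of_dvd_card hpT
  have hnd : ¬ p ∣ (S : Subgroup Tb).index := S.not_dvd_index
  apply hnd
  rw [← hYrel]
  exact dvd_trans (hKrel ▸ hpS) hdvd

end IsFullyRamified

end Cfsg.Agent.Helper82
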