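import Mathlib
import Cfsg.Prelude.Def_Blocks
import Cfsg.Agent.Helper15.Clifford
import Cfsg.Agent.Helper15.CliffordCorr
import Cfsg.Agent.Helper74.CharBasic
import Cfsg.Agent.Helper74.CharCenter
import Cfsg.Agent.Helper74.ReynoldsC
import Cfsg.Agent.Helper79.CharComplete
import Cfsg.Agent.Helper80.Degree
import Cfsg.Agent.Helper80.CharLevel
import Cfsg.Agent.Helper81.CliffordInd

/-!
# Irreducible characters of absolute value one on a normal `p`-subgroup (helper82)

`partA`: if `χ ∈ Irr(G)` is nonlinear and `‖χ x‖ = 1` for all `1 ≠ x` in the nontrivial normal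
`p`-subgroup `N`, then `χ(1) = |N| - 1`, `N` is abelian, `χ_N` is the sum of all nonprincipal
linear characters of `N`, and these are permuted transitively by `G`.
-/

set_option autoImplicit false

namespace Cfsg.Agent.Helper82.RootUnity

open Cfsg Cfsg.Agent.Helper15
open scoped ComplexConjugate

universe u

theorem arith_key {n e t : ℕ} (hn : 2 ≤ n) (he : 1 ≤ e) (ht : 1 ≤ t) (hne : e * t ≠ 1)
    (h : n * (e ^ 2 * t) = (e * t) ^ 2 + (n - 1)) : e = 1 ∧ t + 1 = n := by
  have h1 : t + 1 ≤ n := by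
    by_contra hcon
    push Not at hcon
    have h2 : n ≤ t := by omega
    have h3 : n * (e ^ 2 * t) ≤ (e * t) ^ 2 := by
      have : (e * t) ^ 2 = t * (e ^ 2 * t) := by ring
      rw [this]
      exact Nat.mul_le_mul_right _ h2
    omega
  obtain ⟨k, hk⟩ : ∃ k, n = t + 1 + k := ⟨n - (t + 1), by omega⟩
  subst hk
  have h2 : e ^ 2 * t * (1 + k) = t + k := by
    have h3 : t + 1 + k - 1 = t + k := by omega
    rw [h3] at h
    have h4 : (t + 1 + k) * (e ^ 2 * t) = (e * t) ^ 2 + e ^ 2 * t * (1 + k) := by ring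
    rw [h4] at h
    omega
  have h3 : t + k ≤ t * (1 + k) := by
    have : t * (1 + k) = t + t * k := by ring
    rw [this]
    have : k ≤ t * k := Nat.le_mul_of_pos_left k ht
    omega
  have he1 : e = 1 := by
    by_contra hcon
    have he2 : 2 ≤ e := by omega
    have h4 : 4 ≤ e ^ 2 := by nlinarith
    have h5 : 4 * (t * (1 + k)) ≤ e ^ 2 * t * (1 + k) := by
      have : e ^ 2 * t * (1 + k) = e ^ 2 * (t * (1 + k)) := by ring
      rw [this]
      exact Nat.mul_le_mul_right _ h4
    have h6 : 1 ≤ t * (1 + k) := Nat.mul_pos ht (by omega)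
    omega
  refine ⟨he1, ?_⟩
  subst he1
  have h4 : t * k = k := by
    have : 1 ^ 2 * t * (1 + k) = t + t * k := by ring
    rw [this] at h2
    omega
  rcases Nat.eq_zero_or_pos k with hk0 | hkpos
  · omega
  · exfalso
    have : t = 1 := by
      have h5 : t * k = 1 * k := by rw [h4, one_mul]
      exact Nat.eq_of_mul_eq_mul_right hkpos h5
    apply hne
    rw [this]

variable {G : Type u} [Group G] [Finite G]

theorem partA (p : ℕ) [hp : Fact p.Prime] (N : Subgroup G) [hN : N.Normal] [Fintype N]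
    (hNp : IsPGroup p N) (hN1 : N ≠ ⊥) (χ : IrrCharacter G) (hnl : (χ : G → ℂ) 1 ≠ 1)
    (hnorm : ∀ x ∈ N, x ≠ 1 → ‖(χ : G → ℂ) x‖ = 1) :
    (χ : G → ℂ) 1 = (Nat.card N : ℂ) - 1 ∧
    (∀ x y : N, x * y = y * x) ∧
    (∀ lam : IrrCharacter N, (lam : N → ℂ) ≠ (fun _ => 1) →
      classInner (fun n : N => (χ : G → ℂ) n) (lam : N → ℂ) = 1) ∧
    classInner (fun n : N => (χ : G → ℂ) n) (fun _ => (1 : ℂ)) = 0 ∧
    (∀ lam mu : IrrCharacter N, (lam : N → ℂ) ≠ (fun _ => 1) → (mu : N → ℂ) ≠ (fun _ => 1) →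
      ∃ g : G, (mu : N → ℂ) = conjFun N g (lam : N → ℂ)) := by
  classical
  haveI : Fintype G := Fintype.ofFinite G
  letI := Helper74.irrFintype N
  set n := Nat.card N with hn
  have hn2 : 2 ≤ n := (Subgroup.one_lt_card_iff_ne_bot N).2 hN1
  have hχc : IsCharacter G (χ : G → ℂ) := Helper74.irr_isCharacter χ
  have hres : IsCharacter N (fun x : N => (χ : G → ℂ) x) := Helper74.isCharacter_restrict N hχc
  obtain ⟨D, hD⟩ := Helper74.isCharacter_apply_one hχc
  have hD0 : D ≠ 0 := by
    intro h0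
    apply Helper80.IsIrrCharacter.map_one_ne_zero χ.2
    rw [hD, h0]; simp
  -- the norm sum
  have hsum : (∑ x : N, ‖(χ : G → ℂ) x‖ ^ 2 : ℝ) = (D : ℝ) ^ 2 + ((n : ℝ) - 1) := by
    rw [← Finset.add_sum_erase Finset.univ _ (Finset.mem_univ (1 : N))]
    congr 1
    · have : (χ : G → ℂ) ((1 : N) : G) = (D : ℂ) := by rw [Subgroup.coe_one, hD]
      rw [this]
      simp
    · have h1 : ∀ x ∈ Finset.univ.erase (1 : N), ‖(χ : G → ℂ) x‖ ^ 2 = (1 : ℝ) := by
        intro x hx
        have hx1 : x ≠ 1 := (Finset.mem_erase.1 hx).1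
        rw [hnorm x x.2 (fun h => hx1 (Subtype.ext h))]
        norm_num
      rw [Finset.sum_congr rfl h1, Finset.sum_const, Finset.card_erase_of_mem (Finset.mem_univ _),
        Finset.card_univ, ← Nat.card_eq_fintype_card, ← hn, nsmul_eq_mul, mul_one,
        Nat.cast_sub (by omega)]
      simp
  have hsq := Helper74.sum_norm_sq_eq (fun x : N => (χ : G → ℂ) x)
  rw [hsum] at hsq
  -- Clifford
  have h1 : (fun x : N => (χ : G → ℂ) x) 1 ≠ 0 := by
    show (χ : G → ℂ) ((1 : N) : G) ≠ 0
    rw [Subgroup.coe_one]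
    exact Helper80.IsIrrCharacter.map_one_ne_zero χ.2
  obtain ⟨θ, hθ⟩ := Helper81.exists_irr_constituent hres h1
  obtain ⟨e, he⟩ := Helper74.isCharacter_inner_irr_nat hres θ
  have he0 : e ≠ 0 := by
    intro h0
    apply hθ
    rw [he, h0]; simp
  have hcl := Helper15.clifford_restrict N χ.2 θ.2 hθ
  rw [he] at hcl
  set O := conjOrbit N (θ : N → ℂ) with hO
  set t := O.card with ht
  have hirr : ∀ φ ∈ O, IsIrrCharacter N φ := fun φ hφ =>
    isIrrCharacter_of_mem_conjOrbit N θ.2 hφ
  have hval1 : ∀ φ ∈ O, φ 1 = (θ : N → ℂ) 1 := by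
    intro φ hφ
    obtain ⟨g, rfl⟩ := (mem_conjOrbit N).1 hφ
    rw [conjFun_apply]
    exact congrArg _ (Subtype.ext (by simp))
  have horth : ∀ φ ∈ O, ∀ φ' ∈ O, classInner φ φ' = if φ = φ' then 1 else 0 := by
    intro φ hφ φ' hφ'
    have := Helper74.irr_orthonormal (⟨φ, hirr φ hφ⟩ : IrrCharacter N) ⟨φ', hirr φ' hφ'⟩
    simp only [Subtype.mk.injEq] at this
    exact this
  have hinner : classInner (fun x : N => (χ : G → ℂ) x) (fun x : N => (χ : G → ℂ) x)
      = (e : ℂ) ^ 2 * (t : ℂ) := by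
    conv_lhs => rw [hcl]
    rw [Helper74.classInner_smul_left, Helper74.classInner_smul_right,
      Helper74.classInner_sum_left]
    have h2 : ∀ φ ∈ O, classInner φ (∑ φ' ∈ O, φ') = 1 := by
      intro φ hφ
      rw [Helper74.classInner_sum_right, Finset.sum_congr rfl (fun φ' hφ' => horth φ hφ φ' hφ'),
        Finset.sum_ite_eq O φ, if_pos hφ]
    rw [Finset.sum_congr rfl h2, Finset.sum_const, nsmul_eq_mul, mul_one]
    simp only [Complex.conj_natCast]
    ring
  obtain ⟨d, hd0, hd⟩ := Helper15.irr_degree_pos θ.2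
  have hdeg : (D : ℂ) = (e : ℂ) * (t : ℂ) * (d : ℂ) := by
    rw [← hD]
    have h2 : (χ : G → ℂ) ((1 : N) : G) = ((e : ℂ) • ∑ φ ∈ O, φ) 1 := congrFun hcl 1
    rw [Subgroup.coe_one] at h2
    rw [h2, Pi.smul_apply, Finset.sum_apply, Finset.sum_congr rfl hval1, Finset.sum_const,
      nsmul_eq_mul, hd, smul_eq_mul]
    ring
  have hdegN : D = e * t * d := by exact_mod_cast hdeg
  -- the key equation
  have hkey : n * (e ^ 2 * t) = (e * t * d) ^ 2 + (n - 1) := by
    rw [hinner] at hsq
    have h2 : ((n * (e ^ 2 * t) : ℕ) : ℂ) = (((e * t * d) ^ 2 + (n - 1) : ℕ) : ℂ) := by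
      rw [← hdegN]
      push_cast [Nat.cast_sub (show 1 ≤ n by omega)]
      rw [← hsq]
      push_cast
      ring
    exact_mod_cast h2
  -- `d = 1`
  have hd1 : d = 1 := by
    have hdvd : d ∣ n := by
      have h2 := Helper80.IsIrrCharacter.charDegree_dvd_card θ.2
      have h3 : charDegree (θ : N → ℂ) = d := by
        have h4 := Helper74.charDegree_cast (Helper74.irr_isCharacter θ)
        rw [hd] at h4
        exact_mod_cast h4
      rw [h3] at h2
      exact h2
    obtain ⟨k, hk⟩ := IsPGroup.iff_card.1 hNp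
    rw [← hn] at hk
    rw [hk] at hdvd
    obtain ⟨j, -, hj⟩ := (Nat.dvd_prime_pow hp.out).1 hdvd
    rcases Nat.eq_zero_or_pos j with hj0 | hjpos
    · rw [hj, hj0, pow_zero]
    · exfalso
      have hpd : p ∣ d := by rw [hj]; exact dvd_pow_self p (by omega)
      have hk0 : k ≠ 0 := by
        intro h0
        rw [h0, pow_zero] at hk
        omega
      have hpn : p ∣ n := by rw [hk]; exact dvd_pow_self p hk0
      have h2 : p ∣ n * (e ^ 2 * t) := Dvd.dvd.mul_right hpn _
      have h3 : p ∣ (e * t * d) ^ 2 := by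
        apply Dvd.dvd.pow _ (by norm_num)
        exact Dvd.dvd.mul_left hpd _
      rw [hkey] at h2
      have h4 : p ∣ n - 1 := (Nat.dvd_add_right h3).1 h2
      have h5 : p ∣ 1 := by
        have h6 : n = (n - 1) + 1 := by omega
        rw [h6] at hpn
        exact (Nat.dvd_add_right h4).1 hpn
      exact hp.out.one_lt.ne' (Nat.dvd_one.1 h5)
  subst hd1
  rw [mul_one] at hkey hdegN
  have het : e * t ≠ 1 := by
    intro h2
    apply hnl
    rw [hD, hdegN, h2]; simp
  have ht1 : 1 ≤ t := by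
    rw [ht, Nat.one_le_iff_ne_zero, Ne, Finset.card_eq_zero]
    intro h2
    have := self_mem_conjOrbit N (θ : N → ℂ)
    rw [← hO, h2] at this
    exact absurd this (Finset.notMem_empty _)
  obtain ⟨he1, htn⟩ := arith_key hn2 (by omega) ht1 het hkey
  subst he1
  rw [one_mul] at hdegN
  rw [Nat.cast_one, one_smul] at hcl
  -- multiplicities
  have hmult : ∀ lam : IrrCharacter N, classInner (fun n : N => (χ : G → ℂ) n) (lam : N → ℂ)
      = if (lam : N → ℂ) ∈ O then 1 else 0 := by
    intro lam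
    conv_lhs => rw [hcl]
    rw [Helper74.classInner_sum_left]
    by_cases hmem : (lam : N → ℂ) ∈ O
    · rw [if_pos hmem]
      have h2 : ∀ φ ∈ O, classInner φ (lam : N → ℂ) = if φ = (lam : N → ℂ) then 1 else 0 :=
        fun φ hφ => horth φ hφ _ hmem
      rw [Finset.sum_congr rfl h2, Finset.sum_ite_eq' O, if_pos hmem]
    · rw [if_neg hmem]
      apply Finset.sum_eq_zero
      intro φ hφ
      have h2 : (⟨φ, hirr φ hφ⟩ : IrrCharacter N) ≠ lam := by
        intro h3
        apply hmem
        rw [← h3]; exact hφ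
      exact Helper74.irr_inner_ne h2
  -- the principal character is not in the orbit
  have hprinc : (fun _ : N => (1 : ℂ)) ∉ O := by
    intro hmem
    obtain ⟨g, hg⟩ := (mem_conjOrbit N).1 hmem
    have hθ1 : (θ : N → ℂ) = fun _ => 1 := by
      have h2 := congrArg (conjFun N g⁻¹) hg
      rw [conjFun_inv_conjFun] at h2
      rw [← h2]
      funext x
      rw [conjFun_apply]
    have hO1 : O = {fun _ => (1 : ℂ)} := by
      ext φ
      rw [Finset.mem_singleton, hO, mem_conjOrbit]
      constructor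
      · rintro ⟨g', rfl⟩
        rw [hθ1]
        funext x
        rw [conjFun_apply]
      · intro h2
        refine ⟨1, ?_⟩
        rw [conjFun_one, h2, hθ1]
    have : t = 1 := by rw [ht, hO1, Finset.card_singleton]
    apply het
    rw [this]
  -- counting: `Irr(N) = O ∪ {1}`
  have hsumsq : ∑ lam : IrrCharacter N, (lam : N → ℂ) 1 * conj ((lam : N → ℂ) 1) = (n : ℂ) := by
    have h2 := Helper79.column_orthogonality (G := N) 1 1
    rw [if_pos (IsConj.refl 1)] at h2
    have hc : Subgroup.centralizer ({1} : Set N) = ⊤ := by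
      rw [eq_top_iff]
      intro x _
      rw [Subgroup.mem_centralizer_iff]
      intro y hy
      rw [Set.mem_singleton_iff.mp hy]; simp
    rw [hc, Subgroup.card_top] at h2
    exact h2
  have hprincIrr : IsIrrCharacter N (fun _ : N => (1 : ℂ)) := Helper15.isIrrCharacter_one N
  let Oirr : Finset (IrrCharacter N) :=
    Finset.univ.filter (fun lam : IrrCharacter N => (lam : N → ℂ) ∈ O)
  have hOirr_card : Oirr.card = t := by
    have himage : Oirr.image Subtype.val = O := by
      ext f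
      simp only [Oirr, Finset.mem_image, Finset.mem_filter, Finset.mem_univ, true_and]
      constructor
      · rintro ⟨φ, hφ, rfl⟩; exact hφ
      · intro hf
        exact ⟨⟨f, hirr f hf⟩, hf, rfl⟩
    rw [ht, ← himage, Finset.card_image_of_injective _ Subtype.val_injective]
  have hall : ∀ lam : IrrCharacter N, (lam : N → ℂ) ∈ O ∨ (lam : N → ℂ) = fun _ => 1 := by
    by_contra hcon
    push Not at hcon
    obtain ⟨lam₀, hl1, hl2⟩ := hcon
    -- sum over `Oirr ∪ {1, lam₀}` already exceeds `n`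
    have hpos : ∀ lam : IrrCharacter N, ∃ m : ℕ, 0 < m ∧ (lam : N → ℂ) 1 * conj ((lam : N → ℂ) 1)
        = (m : ℂ) := by
      intro lam
      obtain ⟨m, hm0, hm⟩ := Helper15.irr_degree_pos lam.2
      refine ⟨m * m, Nat.mul_pos hm0 hm0, ?_⟩
      rw [hm]; simp
    choose m hm0 hm using hpos
    have h2 : ∑ lam : IrrCharacter N, m lam = n := by
      have h3 : ((∑ lam : IrrCharacter N, m lam : ℕ) : ℂ) = (n : ℂ) := by
        rw [← hsumsq]
        push_cast
        exact Finset.sum_congr rfl (fun lam _ => (hm lam).symm)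
      exact_mod_cast h3
    let pr : IrrCharacter N := ⟨fun _ => 1, hprincIrr⟩
    have hpr : pr ∉ Oirr := by
      simp only [Oirr, Finset.mem_filter, Finset.mem_univ, true_and]
      exact hprinc
    have hl0 : lam₀ ∉ insert pr Oirr := by
      rw [Finset.mem_insert]
      rintro (h3 | h3)
      · apply hl2
        rw [h3]
      · simp only [Oirr, Finset.mem_filter, Finset.mem_univ, true_and] at h3
        exact hl1 h3
    have h3 : ∑ lam ∈ insert lam₀ (insert pr Oirr), m lam ≤ ∑ lam : IrrCharacter N, m lam :=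
      Finset.sum_le_sum_of_subset (Finset.subset_univ _)
    rw [Finset.sum_insert hl0, Finset.sum_insert hpr] at h3
    have h4 : t ≤ ∑ lam ∈ Oirr, m lam := by
      rw [← hOirr_card, Finset.card_eq_sum_ones]
      exact Finset.sum_le_sum (fun lam _ => hm0 lam)
    have h5 := hm0 lam₀
    have h6 := hm0 pr
    omega
  refine ⟨?_, ?_, ?_, ?_, ?_⟩
  · rw [hD, hdegN, ← htn]
    push_cast
    ring
  · apply Helper74.comm_of_forall_irr_one
    intro lam
    rcases hall lam with h2 | h2
    · rw [hval1 _ h2, hd]; simp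
    · rw [h2]
  · intro lam hlam
    rw [hmult lam, if_pos]
    rcases hall lam with h2 | h2
    · exact h2
    · exact absurd h2 hlam
  · have := hmult ⟨fun _ => 1, hprincIrr⟩
    simp only at this
    rw [this, if_neg hprinc]
  · intro lam mu hlam hmu
    have h2 : (lam : N → ℂ) ∈ O := (hall lam).resolve_right hlam
    have h3 : (mu : N → ℂ) ∈ O := (hall mu).resolve_right hmu
    obtain ⟨g, hg⟩ := (mem_conjOrbit N).1 h2
    obtain ⟨g', hg'⟩ := (mem_conjOrbit N).1 h3
    refine ⟨g⁻¹ * g', ?_⟩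
    rw [conjFun_mul, hg, conjFun_inv_conjFun, hg']

end Cfsg.Agent.Helper82.RootUnity
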