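import Mathlib
import Cfsg.Prelude.Def_Blocks
import Cfsg.Agent.Helper82.RootUnityA
import Cfsg.Agent.Helper79.Linear
import Cfsg.Agent.Helper15.LinChar
import Cfsg.Agent.Helper15.ElemFacts
import Cfsg.Agent.Helper74.DegP3
import Cfsg.Agent.Helper15.IndChar

/-!
# Root-of-unity values on `p`-singular elements: elementary abelian, centre (helper82)
-/

set_option autoImplicit false

namespace Cfsg.Agent.Helper82.RootUnity

open Cfsg Cfsg.Agent.Helper15
open scoped ComplexConjugate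

universe u

variable {G : Type u} [Group G] [Finite G]

theorem dvd_orderOf_of_mem_pgroup {p : ℕ} [hp : Fact p.Prime] {N : Subgroup G} (hNp : IsPGroup p N)
    {x : G} (hx : x ∈ N) (h1 : x ≠ 1) : p ∣ orderOf x := by
  obtain ⟨k, hk⟩ := hNp ⟨x, hx⟩
  have hk' : x ^ p ^ k = 1 := by
    have := congrArg Subtype.val hk
    simpa using this
  have hdvd : orderOf x ∣ p ^ k := orderOf_dvd_of_pow_eq_one hk'
  obtain ⟨j, _, hj⟩ := (Nat.dvd_prime_pow hp.out).1 hdvd
  rcases Nat.eq_zero_or_pos j with h0 | hpos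
  · exfalso
    rw [h0, pow_zero, orderOf_eq_one_iff] at hj
    exact h1 hj
  · rw [hj]
    exact dvd_pow_self p hpos.ne'

theorem norm_eq_one_of_root {z : ℂ} (h : ∃ n : ℕ, 0 < n ∧ z ^ n = 1) : ‖z‖ = 1 := by
  obtain ⟨n, hn, hz⟩ := h
  exact Complex.norm_eq_one_of_pow_eq_one hz hn.ne'

/-- If all nonprincipal irreducible characters of the abelian `p`-group `N` are conjugate under
`G`, then `N` has exponent `p`. -/
theorem pow_eq_one_of_transitive (p : ℕ) [hp : Fact p.Prime] (N : Subgroup G) [hN : N.Normal]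
    (hNp : IsPGroup p N) (hN1 : N ≠ ⊥) (hcomm : ∀ x y : N, x * y = y * x)
    (htrans : ∀ lam mu : IrrCharacter N, (lam : N → ℂ) ≠ (fun _ => 1) →
      (mu : N → ℂ) ≠ (fun _ => 1) → ∃ g : G, (mu : N → ℂ) = conjFun N g (lam : N → ℂ)) :
    ∀ x ∈ N, x ^ p = 1 := by
  classical
  haveI : Fintype G := Fintype.ofFinite G
  letI := Helper74.irrFintype N
  have hlin : ∀ lam : IrrCharacter N, (lam : N → ℂ) 1 = 1 := fun lam =>
    irr_one_eq_one_of_comm hcomm lam.2
  -- a nonprincipal irreducible character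
  obtain ⟨x0, hx0N, hx01⟩ : ∃ x ∈ N, x ≠ 1 := by
    by_contra hcon
    push Not at hcon
    exact hN1 ((Subgroup.eq_bot_iff_forall N).2 hcon)
  have hex : ∃ lam : IrrCharacter N, (lam : N → ℂ) ≠ (fun _ => 1) := by
    by_contra hcon
    push Not at hcon
    have hcol := Helper79.column_orthogonality (G := N) (⟨x0, hx0N⟩ : N) (1 : N)
    have hnc : ¬ IsConj (1 : N) (⟨x0, hx0N⟩ : N) := by
      intro h
      rw [isConj_iff] at h
      obtain ⟨c, hc⟩ := h
      apply hx01
      have : (⟨x0, hx0N⟩ : N) = 1 := by rw [← hc]; simp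
      exact congrArg Subtype.val this
    rw [if_neg hnc] at hcol
    have hsum : ∑ χ : IrrCharacter N, (χ : N → ℂ) ⟨x0, hx0N⟩ * conj ((χ : N → ℂ) 1) =
        (Fintype.card (IrrCharacter N) : ℂ) := by
      have : ∀ χ : IrrCharacter N, (χ : N → ℂ) ⟨x0, hx0N⟩ * conj ((χ : N → ℂ) 1) = 1 := by
        intro χ
        rw [hcon χ]
        simp
      rw [Finset.sum_congr rfl (fun χ _ => this χ)]
      simp
    rw [hsum] at hcol
    have hpos : 0 < Fintype.card (IrrCharacter N) :=
      Fintype.card_pos_iff.2 ⟨Helper79.principalIrr N⟩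
    have : (Fintype.card (IrrCharacter N) : ℂ) ≠ 0 := by exact_mod_cast hpos.ne'
    exact this hcol
  obtain ⟨lam, hlam⟩ := hex
  have hlamc : IsCharacter N (lam : N → ℂ) := Helper74.irr_isCharacter lam
  -- the exponent
  obtain ⟨a, ha⟩ : ∃ a, Nat.card N = p ^ a := IsPGroup.iff_card.1 hNp
  have hexk : ∃ k : ℕ, ∀ x : N, (lam : N → ℂ) x ^ p ^ k = 1 := by
    refine ⟨a, fun x => ?_⟩
    rw [← linChar_pow hlamc (hlin lam), ← ha, pow_card_eq_one', hlin lam]
  let k0 := Nat.find hexk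
  have hk0 : ∀ x : N, (lam : N → ℂ) x ^ p ^ k0 = 1 := Nat.find_spec hexk
  have hk0pos : k0 ≠ 0 := by
    intro h0
    apply hlam
    funext x
    have := hk0 x
    rw [h0, pow_zero, pow_one] at this
    exact this
  obtain ⟨j, hj⟩ : ∃ j, k0 = j + 1 := ⟨k0 - 1, by omega⟩
  have hjmin : ¬ ∀ x : N, (lam : N → ℂ) x ^ p ^ j = 1 := Nat.find_min hexk (by omega)
  -- `lam0 = lam ^ (p ^ j)`
  let φ : N →* ℂ := (linCharHom hlamc (hlin lam)) ^ (p ^ j)
  have hφapp : ∀ x : N, φ x = (lam : N → ℂ) x ^ p ^ j := fun x => rfl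
  have hφirr : IsIrrCharacter N φ := Helper79.isIrrCharacter_of_monoidHom φ
  have hφne : (φ : N → ℂ) ≠ (fun _ => 1) := by
    intro h
    apply hjmin
    intro x
    rw [← hφapp x]
    exact congrFun h x
  have hφp : ∀ x : N, φ x ^ p = 1 := by
    intro x
    rw [hφapp, ← pow_mul, ← pow_succ, ← hj]
    exact hk0 x
  -- every irreducible character has `mu x ^ p = 1`
  have hall : ∀ mu : IrrCharacter N, ∀ x : N, (mu : N → ℂ) x ^ p = 1 := by
    intro mu x
    by_cases hmu : (mu : N → ℂ) = (fun _ => 1)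
    · rw [hmu]; simp
    · obtain ⟨g, hg⟩ := htrans ⟨φ, hφirr⟩ mu hφne hmu
      rw [hg, conjFun_apply]
      exact hφp _
  intro x hx
  have hcol := Helper79.column_orthogonality (G := N) ((⟨x, hx⟩ : N) ^ p) (1 : N)
  have hsum : ∑ χ : IrrCharacter N, (χ : N → ℂ) ((⟨x, hx⟩ : N) ^ p) * conj ((χ : N → ℂ) 1) =
      (Fintype.card (IrrCharacter N) : ℂ) := by
    have : ∀ χ : IrrCharacter N,
        (χ : N → ℂ) ((⟨x, hx⟩ : N) ^ p) * conj ((χ : N → ℂ) 1) = 1 := by
      intro χ
      rw [linChar_pow (Helper74.irr_isCharacter χ) (hlin χ), hall χ, hlin χ]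
      simp
    rw [Finset.sum_congr rfl (fun χ _ => this χ)]
    simp
  rw [hsum] at hcol
  have hpos : 0 < Fintype.card (IrrCharacter N) :=
    Fintype.card_pos_iff.2 ⟨Helper79.principalIrr N⟩
  have hne : (Fintype.card (IrrCharacter N) : ℂ) ≠ 0 := by exact_mod_cast hpos.ne'
  by_cases hc : IsConj (1 : N) ((⟨x, hx⟩ : N) ^ p)
  · rw [isConj_iff] at hc
    obtain ⟨c, hc⟩ := hc
    have h1 : (⟨x, hx⟩ : N) ^ p = 1 := by rw [← hc]; simp
    have := congrArg Subtype.val h1
    simpa using this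
  · rw [if_neg hc] at hcol
    exact absurd hcol hne

/-- A character `ξ` of `C` whose restriction to the central subgroup `N` has norm `ξ 1`: all
constituents are linear, with multiplicity one and pairwise orthogonal restrictions to `N`. -/
theorem central_multfree {C : Type u} [Group C] [Finite C] (N : Subgroup C) [Fintype N]
    (hNZ : N ≤ Subgroup.center C) {ξ : C → ℂ} (hξ : IsCharacter C ξ)
    (hm : classInner (fun x : N => ξ x) (fun x : N => ξ x) = ξ 1) :
    (∀ a b : C, ξ (a * b * a⁻¹ * b⁻¹) = ξ 1) ∧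
    (∀ r : C, ((∑ x : N, ‖ξ (r * x)‖ ^ 2 : ℝ) : ℂ) = (Nat.card N : ℂ) * ξ 1) := by
  classical
  haveI : Fintype C := Fintype.ofFinite C
  letI := Helper74.irrFintype C
  choose m hmm using fun θ : IrrCharacter C => Helper74.isCharacter_inner_irr_nat hξ θ
  let d : IrrCharacter C → ℕ := fun θ => charDegree (θ : C → ℂ)
  have hd : ∀ θ : IrrCharacter C, ((d θ : ℕ) : ℂ) = (θ : C → ℂ) 1 := fun θ =>
    Helper74.charDegree_cast (Helper74.irr_isCharacter θ)
  have hdpos : ∀ θ, 0 < d θ := fun θ => Helper80.IsIrrCharacter.charDegree_pos θ.2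
  have hdec : ξ = ∑ θ : IrrCharacter C, (m θ : ℂ) • (θ : C → ℂ) := by
    conv_lhs => rw [Helper74.isCharacter_eq_sum_irr hξ]
    exact Finset.sum_congr rfl (fun θ _ => by rw [hmm θ])
  have hdecN : (fun x : N => ξ x) =
      ∑ θ : IrrCharacter C, (m θ : ℂ) • (fun x : N => (θ : C → ℂ) x) := by
    funext x
    conv_lhs => rw [hdec]
    simp only [Finset.sum_apply, Pi.smul_apply]
  choose k hk using fun θ θ' : IrrCharacter C => Helper15.isCharacter_inner_nat
     (Helper74.isCharacter_restrict N (Helper74.irr_isCharacter θ))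
     (Helper74.isCharacter_restrict N (Helper74.irr_isCharacter θ'))
  have hnormN : ∀ (θ : IrrCharacter C) (x : N), ‖(θ : C → ℂ) x‖ = (d θ : ℝ) := by
    intro θ x
    exact (Helper74.mem_charCenter_iff θ x).1 (Helper74.center_le_charCenter θ (hNZ x.2))
  have hkk : ∀ θ, k θ θ = d θ ^ 2 := by
    intro θ
    have h1 := Helper74.sum_norm_sq_eq (fun x : N => (θ : C → ℂ) x)
    rw [hk θ θ] at h1
    have h2 : (∑ x : N, ‖(θ : C → ℂ) x‖ ^ 2 : ℝ) = (Nat.card N : ℝ) * (d θ : ℝ) ^ 2 := by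
      rw [Finset.sum_congr rfl (fun x _ => by rw [hnormN θ x])]
      simp [Nat.card_eq_fintype_card]
    rw [h2] at h1
    have hN0 : (Nat.card N : ℂ) ≠ 0 := by exact_mod_cast Nat.card_pos.ne'
    push_cast at h1
    have h3 := mul_left_cancel₀ hN0 h1
    exact_mod_cast h3.symm
  have hdeg1 : ξ 1 = ((∑ θ, m θ * d θ : ℕ) : ℂ) := by
    conv_lhs => rw [hdec]
    simp only [Finset.sum_apply, Pi.smul_apply, smul_eq_mul]
    push_cast
    exact Finset.sum_congr rfl (fun θ _ => by rw [hd θ])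
  have hinn : classInner (fun x : N => ξ x) (fun x : N => ξ x) =
      ((∑ θ, ∑ θ', m θ * m θ' * k θ θ' : ℕ) : ℂ) := by
    conv_lhs => rw [hdecN]
    rw [Helper74.classInner_sum_left]
    push_cast
    refine Finset.sum_congr rfl (fun θ _ => ?_)
    rw [Helper74.classInner_smul_left, Helper74.classInner_sum_right, Finset.mul_sum]
    refine Finset.sum_congr rfl (fun θ' _ => ?_)
    rw [Helper74.classInner_smul_right, hk θ θ']
    simp only [Complex.conj_natCast]
    ring
  have hnat : ∑ θ, m θ * d θ = ∑ θ, ∑ θ', m θ * m θ' * k θ θ' := by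
    have : ((∑ θ, m θ * d θ : ℕ) : ℂ) = ((∑ θ, ∑ θ', m θ * m θ' * k θ θ' : ℕ) : ℂ) := by
      rw [← hdeg1, ← hinn, hm]
    exact_mod_cast this
  have hle : ∀ θ ∈ (Finset.univ : Finset (IrrCharacter C)),
      m θ * d θ ≤ ∑ θ', m θ * m θ' * k θ θ' := by
    intro θ _
    have h1 : m θ * m θ * k θ θ ≤ ∑ θ', m θ * m θ' * k θ θ' :=
      Finset.single_le_sum (f := fun θ' => m θ * m θ' * k θ θ') (fun _ _ => Nat.zero_le _)
        (Finset.mem_univ θ)
    rw [hkk] at h1
    have h2 : m θ * d θ ≤ m θ * m θ * d θ ^ 2 := by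
      have : m θ * m θ * d θ ^ 2 = (m θ * d θ) * (m θ * d θ) := by ring
      rw [this]
      exact Nat.le_mul_self _
    exact h2.trans h1
  have hterm : ∀ θ, m θ * d θ = ∑ θ', m θ * m θ' * k θ θ' := by
    intro θ
    exact (Finset.sum_eq_sum_iff_of_le hle).1 hnat θ (Finset.mem_univ θ)
  have hF : ∀ θ, m θ ≠ 0 → m θ = 1 ∧ d θ = 1 ∧ ∀ θ', θ' ≠ θ → m θ' ≠ 0 → k θ θ' = 0 := by
    intro θ hmθ
    have h1 := hterm θ
    rw [← Finset.add_sum_erase Finset.univ _ (Finset.mem_univ θ), hkk] at h1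
    have hu1 : 1 ≤ m θ * d θ := Nat.mul_pos (Nat.pos_of_ne_zero hmθ) (hdpos θ)
    have hsq : m θ * m θ * d θ ^ 2 = (m θ * d θ) * (m θ * d θ) := by ring
    rw [hsq] at h1
    have hu2 : m θ * d θ ≤ (m θ * d θ) * (m θ * d θ) := Nat.le_mul_self _
    have hrest : ∑ θ' ∈ Finset.univ.erase θ, m θ * m θ' * k θ θ' = 0 := by omega
    have huu : (m θ * d θ) * (m θ * d θ) = (m θ * d θ) * 1 := by omega
    have hu : m θ * d θ = 1 := Nat.eq_of_mul_eq_mul_left hu1 huu
    have hmpos : 1 ≤ m θ := Nat.pos_of_ne_zero hmθ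
    have hdp := hdpos θ
    have hm1 : m θ = 1 := by
      by_contra hne
      have : 2 ≤ m θ := by omega
      nlinarith
    have hd1 : d θ = 1 := by rw [hm1, one_mul] at hu; exact hu
    refine ⟨hm1, hd1, ?_⟩
    intro θ' hne hmθ'
    have h2 := (Finset.sum_eq_zero_iff.1 hrest) θ' (Finset.mem_erase.2 ⟨hne, Finset.mem_univ _⟩)
    rcases Nat.mul_eq_zero.1 h2 with h3 | h3
    · rcases Nat.mul_eq_zero.1 h3 with h4 | h4
      · exact absurd h4 hmθ
      · exact absurd h4 hmθ'
    · exact h3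
  refine ⟨?_, ?_⟩
  · intro a b
    have h1 : ∀ θ : IrrCharacter C, (m θ : ℂ) * (θ : C → ℂ) (a * b * a⁻¹ * b⁻¹) =
        (m θ : ℂ) * (θ : C → ℂ) 1 := by
      intro θ
      by_cases hmθ : m θ = 0
      · rw [hmθ]; simp
      · obtain ⟨_, hd1, _⟩ := hF θ hmθ
        have hθc := Helper74.irr_isCharacter θ
        have hθ1 : (θ : C → ℂ) 1 = 1 := by rw [← hd θ, hd1]; simp
        rw [linChar_mul hθc hθ1, linChar_mul hθc hθ1, linChar_mul hθc hθ1, linChar_inv hθc hθ1,
          linChar_inv hθc hθ1, hθ1]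
        have ha := linChar_ne_zero hθc hθ1 a
        have hb := linChar_ne_zero hθc hθ1 b
        field_simp
    conv_lhs => rw [hdec]
    conv_rhs => rw [hdec]
    simp only [Finset.sum_apply, Pi.smul_apply, smul_eq_mul]
    exact Finset.sum_congr rfl (fun θ _ => h1 θ)
  · intro r
    have hφ : (fun x : N => ξ (r * x)) = ∑ θ : IrrCharacter C,
        ((m θ : ℂ) * (θ : C → ℂ) r) • (fun x : N => (θ : C → ℂ) x) := by
      funext x
      conv_lhs => rw [hdec]
      simp only [Finset.sum_apply, Pi.smul_apply, smul_eq_mul]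
      refine Finset.sum_congr rfl (fun θ _ => ?_)
      by_cases hmθ : m θ = 0
      · rw [hmθ]; simp
      · obtain ⟨_, hd1, _⟩ := hF θ hmθ
        have hθ1 : (θ : C → ℂ) 1 = 1 := by rw [← hd θ, hd1]; simp
        rw [linChar_mul (Helper74.irr_isCharacter θ) hθ1]
        ring
    have hinner : classInner (fun x : N => ξ (r * x)) (fun x : N => ξ (r * x)) = ξ 1 := by
      rw [hφ, Helper74.classInner_sum_left, hdeg1]
      push_cast
      refine Finset.sum_congr rfl (fun θ _ => ?_)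
      rw [Helper74.classInner_smul_left, Helper74.classInner_sum_right]
      by_cases hmθ : m θ = 0
      · rw [hmθ]; simp
      · obtain ⟨hm1, hd1, hk0⟩ := hF θ hmθ
        rw [Finset.sum_eq_single θ]
        · rw [Helper74.classInner_smul_right, hk θ θ, hkk θ, hm1, hd1]
          have hθ1 : (θ : C → ℂ) 1 = 1 := by rw [← hd θ, hd1]; simp
          have hn := linChar_norm (Helper74.irr_isCharacter θ) hθ1 r
          have : (θ : C → ℂ) r * conj ((θ : C → ℂ) r) = 1 := by
            rw [Helper74.mul_conj_eq_norm_sq, hn]; simp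
          simp only [Nat.cast_one, one_mul, one_pow, mul_one]
          exact this
        · intro θ' _ hne
          rw [Helper74.classInner_smul_right]
          by_cases hmθ' : m θ' = 0
          · rw [hmθ']; simp
          · rw [hk θ θ', hk0 θ' hne hmθ']; simp
        · intro h; exact absurd (Finset.mem_univ _) h
    have h1 := Helper74.sum_norm_sq_eq (fun x : N => ξ (r * x))
    rw [hinner] at h1
    exact h1

end Cfsg.Agent.Helper82.RootUnity
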