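import Mathlib
import Cfsg.Prelude.Def_Blocks
import Cfsg.Agent.Helper82.RootUnityB

/-!
# Root-of-unity values on `p`-singular elements: the centralizer of `O_p(G)` (helper82)
-/

set_option autoImplicit false

namespace Cfsg.Agent.Helper82.RootUnity

open Cfsg Cfsg.Agent.Helper15
open scoped ComplexConjugate

universe u

variable {G : Type u} [Group G]

theorem pow_split [Finite G] (p : ℕ) (hp : p.Prime) (c : G) :
    ∃ a b : ℕ, c ^ a * c ^ b = c ∧ (∃ k : ℕ, (c ^ a) ^ p ^ k = 1) ∧ ¬ p ∣ orderOf (c ^ b) := by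
  set n := orderOf c with hn
  have hnpos : 0 < n := orderOf_pos c
  set k := n.factorization p with hk
  set m := n / p ^ k with hm
  have hnm : p ^ k * m = n := Nat.ordProj_mul_ordCompl_eq_self n p
  have hcop : Nat.Coprime (p ^ k) m := Nat.Coprime.pow_left _ (Nat.coprime_ordCompl hp hnpos.ne')
  have hpm : ¬ p ∣ m := Nat.not_dvd_ordCompl hp hnpos.ne'
  obtain ⟨a, ha1, ha2⟩ := Nat.chineseRemainder hcop 1 0
  obtain ⟨b, hb1, hb2⟩ := Nat.chineseRemainder hcop 0 1
  refine ⟨a, b, ?_, ⟨k, ?_⟩, ?_⟩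
  · rw [← pow_add]
    have h1 : a + b ≡ 1 [MOD p ^ k] := by simpa using ha1.add hb1
    have h2 : a + b ≡ 1 [MOD m] := by simpa using ha2.add hb2
    have h3 : a + b ≡ 1 [MOD n] := by
      rw [← hnm]
      exact (Nat.modEq_and_modEq_iff_modEq_mul hcop).1 ⟨h1, h2⟩
    have := (pow_eq_pow_iff_modEq (x := c)).2 h3
    rw [this, pow_one]
  · rw [← pow_mul]
    have hma : m ∣ a := (Nat.modEq_zero_iff_dvd).1 ha2
    obtain ⟨a', rfl⟩ := hma
    have : m * a' * p ^ k = n * a' := by rw [← hnm]; ring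
    rw [this, pow_mul, hn, pow_orderOf_eq_one, one_pow]
  · have hpb : p ^ k ∣ b := (Nat.modEq_zero_iff_dvd).1 hb1
    obtain ⟨b', rfl⟩ := hpb
    have h1 : (c ^ (p ^ k * b')) ^ m = 1 := by
      rw [← pow_mul]
      have : p ^ k * b' * m = n * b' := by rw [← hnm]; ring
      rw [this, pow_mul, hn, pow_orderOf_eq_one, one_pow]
    intro hdvd
    exact hpm (hdvd.trans (orderOf_dvd_of_pow_eq_one h1))

variable [Finite G]

theorem mem_center_of_mem_charCenter (χ : IrrCharacter G)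
    (hfaith : ∀ g : G, (χ : G → ℂ) g = (χ : G → ℂ) 1 → g = 1) {g : G}
    (hg : g ∈ Helper74.charCenter χ) : g ∈ Subgroup.center G := by
  obtain ⟨c, hc⟩ : ∃ c : ℂ, Helper74.irrRep χ g = c • LinearMap.id := hg
  rw [Subgroup.mem_center_iff]
  intro h
  have h1 : Helper74.irrRep χ (g * h) = Helper74.irrRep χ (h * g) := by
    rw [map_mul, map_mul, hc]
    ext v
    simp
  have h2 : Helper74.irrRep χ (h * g * h⁻¹ * g⁻¹) = 1 := by
    have : h * g * h⁻¹ * g⁻¹ = (h * g) * (g * h)⁻¹ := by group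
    rw [this, map_mul, ← h1, ← map_mul, mul_inv_cancel, map_one]
  have h3 : (χ : G → ℂ) (h * g * h⁻¹ * g⁻¹) = (χ : G → ℂ) 1 := by
    rw [← Helper74.irrRep_character χ]
    show LinearMap.trace ℂ _ (Helper74.irrRep χ (h * g * h⁻¹ * g⁻¹)) =
      LinearMap.trace ℂ _ (Helper74.irrRep χ 1)
    have h0 : Helper74.irrRep χ 1 = 1 := map_one _
    rw [h2, h0]
  have h4 := hfaith _ h3
  calc h * g = (h * g * h⁻¹ * g⁻¹) * (g * h) := by group
    _ = g * h := by rw [h4, one_mul]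

theorem inf_center_eq_bot (p : ℕ) [hp : Fact p.Prime] (N : Subgroup G) (hNp : IsPGroup p N)
    (χ : IrrCharacter G) (hnl : (χ : G → ℂ) 1 ≠ 1)
    (hsing : ∀ g : G, p ∣ orderOf g → ‖(χ : G → ℂ) g‖ = 1) :
    N ⊓ Subgroup.center G = ⊥ := by
  haveI : Fintype G := Fintype.ofFinite G
  rw [eq_bot_iff]
  intro z hz
  rw [Subgroup.mem_bot]
  by_contra hz1
  obtain ⟨hzN, hzZ⟩ := Subgroup.mem_inf.1 hz
  have h1 := hsing z (dvd_orderOf_of_mem_pgroup hNp hzN hz1)
  have h2 := (Helper74.mem_charCenter_iff χ z).1 (Helper74.center_le_charCenter χ hzZ)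
  rw [h1] at h2
  have h3 : charDegree (χ : G → ℂ) = 1 := by exact_mod_cast h2.symm
  apply hnl
  rw [← Helper74.charDegree_cast (Helper74.irr_isCharacter χ), h3]
  simp

theorem centralizer_eq (p : ℕ) [hp : Fact p.Prime] (N : Subgroup G) [hN : N.Normal]
    (hNp : IsPGroup p N) (hN1 : N ≠ ⊥) (χ : IrrCharacter G) (hnl : (χ : G → ℂ) 1 ≠ 1)
    (hfaith : ∀ g : G, (χ : G → ℂ) g = (χ : G → ℂ) 1 → g = 1)
    (hsing : ∀ g : G, p ∣ orderOf g → ‖(χ : G → ℂ) g‖ = 1)
    (hmax : ∀ M : Subgroup G, M.Normal → IsPGroup p M → M ≤ N) :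
    Subgroup.centralizer (N : Set G) = N ⊔ Subgroup.center G := by
  classical
  haveI : Fintype G := Fintype.ofFinite G
  haveI : Fintype N := Fintype.ofFinite N
  obtain ⟨hdeg, hcomm, -, -, -⟩ := partA p N hNp hN1 χ hnl
    (fun x hx hx1 => hsing x (dvd_orderOf_of_mem_pgroup hNp hx hx1))
  have hχc : IsCharacter G (χ : G → ℂ) := Helper74.irr_isCharacter χ
  set n := Nat.card N with hn
  have hn2 : 2 ≤ n := (Subgroup.one_lt_card_iff_ne_bot N).2 hN1
  set C := Subgroup.centralizer (N : Set G) with hC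
  have hNC : N ≤ C := by
    intro x hx
    rw [hC, Subgroup.mem_centralizer_iff]
    intro y hy
    have := hcomm ⟨y, hy⟩ ⟨x, hx⟩
    exact congrArg Subtype.val this
  let N' : Subgroup C := N.subgroupOf C
  haveI : Fintype N' := Fintype.ofFinite N'
  have hN'Z : N' ≤ Subgroup.center C := by
    intro x hx
    rw [Subgroup.mem_center_iff]
    intro c
    apply Subtype.ext
    have hxN : (x : G) ∈ N := Subgroup.mem_subgroupOf.1 hx
    have := (Subgroup.mem_centralizer_iff.1 c.2) (x : G) hxN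
    simpa using this.symm
  have hcardN' : Nat.card N' = n :=
    Nat.card_congr (Subgroup.subgroupOfEquivOfLe hNC).toEquiv
  -- the coset sum
  have hsumN' : ∀ r : C, (¬ p ∣ orderOf (r : G)) →
      (∑ x : N', ‖(χ : G → ℂ) ((r : G) * ((x : C) : G))‖ ^ 2 : ℝ) =
        ‖(χ : G → ℂ) r‖ ^ 2 + ((n : ℝ) - 1) := by
    intro r hr
    rw [← Finset.add_sum_erase Finset.univ _ (Finset.mem_univ (1 : N'))]
    congr 1
    · simp
    · have h1 : ∀ x ∈ Finset.univ.erase (1 : N'),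
          ‖(χ : G → ℂ) ((r : G) * ((x : C) : G))‖ ^ 2 = (1 : ℝ) := by
        intro x hx
        have hx1 : x ≠ 1 := (Finset.mem_erase.1 hx).1
        have hxN : ((x : C) : G) ∈ N := Subgroup.mem_subgroupOf.1 x.2
        have hxne : ((x : C) : G) ≠ 1 := by
          intro h
          apply hx1
          apply Subtype.ext
          apply Subtype.ext
          simpa using h
        have hpx : p ∣ orderOf ((x : C) : G) := dvd_orderOf_of_mem_pgroup hNp hxN hxne
        have hcomm' : Commute (r : G) ((x : C) : G) :=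
          ((Subgroup.mem_centralizer_iff.1 r.2) _ hxN).symm
        have hcop : (orderOf (r : G)).Coprime (orderOf ((x : C) : G)) := by
          obtain ⟨k, hk⟩ := hNp ⟨_, hxN⟩
          have hk' : ((x : C) : G) ^ p ^ k = 1 := by
            have := congrArg Subtype.val hk
            simpa using this
          obtain ⟨j, _, hj⟩ := (Nat.dvd_prime_pow hp.out).1 (orderOf_dvd_of_pow_eq_one hk')
          rw [hj]
          exact Nat.Coprime.pow_right j ((Nat.Prime.coprime_iff_not_dvd hp.out).2 hr).symm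
        have hdvd : p ∣ orderOf ((r : G) * ((x : C) : G)) := by
          rw [hcomm'.orderOf_mul_eq_mul_orderOf_of_coprime hcop]
          exact Dvd.dvd.mul_left hpx _
        rw [hsing _ hdvd]
        norm_num
      rw [Finset.sum_congr rfl h1, Finset.sum_const, Finset.card_erase_of_mem (Finset.mem_univ _),
        Finset.card_univ, ← Nat.card_eq_fintype_card, hcardN', nsmul_eq_mul, mul_one,
        Nat.cast_sub (by omega)]
      simp
  have hnR : (0 : ℝ) ≤ (n : ℝ) - 1 := by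
    have : (2 : ℝ) ≤ (n : ℝ) := by exact_mod_cast hn2
    linarith
  have hnormone : ‖(χ : G → ℂ) 1‖ = (n : ℝ) - 1 := by
    rw [hdeg]
    have : ((n : ℂ) - 1) = (((n : ℝ) - 1 : ℝ) : ℂ) := by push_cast; ring
    rw [this, Complex.norm_real, Real.norm_eq_abs, abs_of_nonneg hnR]
  have hp1 : ¬ p ∣ orderOf (((1 : C) : C) : G) := by
    rw [Subgroup.coe_one, orderOf_one]
    exact hp.out.one_lt.ne' ∘ Nat.dvd_one.1
  let ξ : C → ℂ := fun c => (χ : G → ℂ) c
  have hξ : IsCharacter C ξ := Helper74.isCharacter_restrict C hχc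
  have hN0 : (n : ℂ) ≠ 0 := by
    have : 0 < n := by omega
    exact_mod_cast this.ne'
  have hm : classInner (fun x : N' => ξ x) (fun x : N' => ξ x) = ξ 1 := by
    have h1 := Helper74.sum_norm_sq_eq (fun x : N' => ξ x)
    have h2 := hsumN' 1 hp1
    simp only [Subgroup.coe_one, one_mul] at h2
    have h3 : (∑ x : N', ‖(fun x : N' => ξ x) x‖ ^ 2 : ℝ) =
        ((n : ℝ) - 1) ^ 2 + ((n : ℝ) - 1) := by
      rw [hnormone] at h2
      exact h2
    rw [h3, hcardN'] at h1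
    have h4 : (n : ℂ) * classInner (fun x : N' => ξ x) (fun x : N' => ξ x) =
        (n : ℂ) * ((n : ℂ) - 1) := by
      rw [← h1]; push_cast; ring
    have h5 := mul_left_cancel₀ hN0 h4
    rw [h5]
    show _ = (χ : G → ℂ) ((1 : C) : G)
    rw [Subgroup.coe_one, hdeg]
  obtain ⟨hi, hii⟩ := central_multfree N' hN'Z hξ hm
  -- `C` is abelian
  have hCab : ∀ a b : G, a ∈ C → b ∈ C → a * b = b * a := by
    intro a b ha hb
    have h1 := hi ⟨a, ha⟩ ⟨b, hb⟩
    have h2 : (χ : G → ℂ) (a * b * a⁻¹ * b⁻¹) = (χ : G → ℂ) 1 := h1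
    have h3 := hfaith _ h2
    calc a * b = (a * b * a⁻¹ * b⁻¹) * (b * a) := by group
      _ = b * a := by rw [h3, one_mul]
  -- `p`-regular elements of `C` are central
  have hdegR : (charDegree (χ : G → ℂ) : ℝ) = (n : ℝ) - 1 := by
    have h1 : ((charDegree (χ : G → ℂ) : ℕ) : ℂ) = (n : ℂ) - 1 := by
      rw [Helper74.charDegree_cast hχc, hdeg]
    have h2 : charDegree (χ : G → ℂ) + 1 = n := by
      have : ((charDegree (χ : G → ℂ) + 1 : ℕ) : ℂ) = (n : ℂ) := by
        push_cast; rw [h1]; ring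
      exact_mod_cast this
    rw [← h2]; push_cast; ring
  have hreg : ∀ r ∈ C, ¬ p ∣ orderOf r → r ∈ Subgroup.center G := by
    intro r hrC hr
    have h1 := hii ⟨r, hrC⟩
    have h2 := hsumN' ⟨r, hrC⟩ hr
    have h3 : (∑ x : N', ‖ξ (⟨r, hrC⟩ * (x : C))‖ ^ 2 : ℝ) =
        ‖(χ : G → ℂ) r‖ ^ 2 + ((n : ℝ) - 1) := h2
    rw [h3, hcardN'] at h1
    have h4 : ξ 1 = (n : ℂ) - 1 := by
      show (χ : G → ℂ) ((1 : C) : G) = _
      rw [Subgroup.coe_one, hdeg]
    rw [h4] at h1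
    have h5 : ‖(χ : G → ℂ) r‖ ^ 2 + ((n : ℝ) - 1) = (n : ℝ) * ((n : ℝ) - 1) := by
      have : ((‖(χ : G → ℂ) r‖ ^ 2 + ((n : ℝ) - 1) : ℝ) : ℂ) =
          (((n : ℝ) * ((n : ℝ) - 1) : ℝ) : ℂ) := by
        rw [h1]; push_cast; ring
      exact_mod_cast this
    have h6 : ‖(χ : G → ℂ) r‖ ^ 2 = ((n : ℝ) - 1) ^ 2 := by nlinarith
    have h7 : ‖(χ : G → ℂ) r‖ = (n : ℝ) - 1 := by
      have h8 := norm_nonneg ((χ : G → ℂ) r)
      nlinarith
    apply mem_center_of_mem_charCenter χ hfaith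
    rw [Helper74.mem_charCenter_iff, h7, hdegR]
  -- `p`-elements of `C` lie in `N`
  let Cp : Subgroup G :=
    { carrier := {c | c ∈ C ∧ ∃ k : ℕ, c ^ p ^ k = 1}
      one_mem' := ⟨C.one_mem, 0, by simp⟩
      mul_mem' := by
        rintro a b ⟨ha, ka, hka⟩ ⟨hb, kb, hkb⟩
        refine ⟨C.mul_mem ha hb, ka + kb, ?_⟩
        have hab : Commute a b := hCab a b ha hb
        rw [hab.mul_pow, pow_add, pow_mul, hka, one_pow, mul_comm (p ^ ka) (p ^ kb), pow_mul, hkb,
          one_pow, one_mul]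
      inv_mem' := by
        rintro a ⟨ha, ka, hka⟩
        exact ⟨C.inv_mem ha, ka, by rw [inv_pow, hka, inv_one]⟩ }
  have hCpN : Cp.Normal := by
    constructor
    rintro a ⟨ha, ka, hka⟩ g
    refine ⟨(Subgroup.normal_centralizer (H := N)).conj_mem a ha g, ka, ?_⟩
    rw [conj_pow, hka, mul_one, mul_inv_cancel]
  have hCpP : IsPGroup p Cp := by
    rintro ⟨c, hc, k, hk⟩
    exact ⟨k, Subtype.ext (by simpa using hk)⟩
  have hCpN' : Cp ≤ N := hmax Cp hCpN hCpP
  apply le_antisymm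
  · intro c hc
    obtain ⟨a, b, hab, ⟨k, hk⟩, hb⟩ := pow_split p hp.out c
    rw [← hab]
    apply Subgroup.mul_mem_sup
    · exact hCpN' ⟨C.pow_mem hc a, k, hk⟩
    · exact hreg _ (C.pow_mem hc b) hb
  · exact sup_le hNC (Subgroup.center_le_centralizer _)

end Cfsg.Agent.Helper82.RootUnity
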