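import Mathlib
import Cfsg.Prelude.Def_Blocks
import Cfsg.Agent.Helper82.RootUnityC
import Cfsg.Agent.Helper82.UnitOffOne

/-!
# Root-of-unity values on `p`-singular elements: the index-two lemma (helper82)
-/

set_option autoImplicit false

namespace Cfsg.Agent.Helper82.RootUnity

open Cfsg Cfsg.Agent.Helper15
open scoped ComplexConjugate

universe u

variable {B : Type u} [Group B] [Finite B]

/-- Brauer's permutation lemma for one element acting on an abelian normal subgroup. -/
theorem card_fixed_irr_eq (M : Subgroup B) [hMn : M.Normal] [Fintype M] [Fintype (IrrCharacter M)]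
    [DecidableEq M] (hcomm : ∀ x y : M, x * y = y * x) (y : B)
    [DecidablePred fun lam : IrrCharacter M => conjFun M y (lam : M → ℂ) = (lam : M → ℂ)] :
    (Finset.univ.filter
      (fun lam : IrrCharacter M => conjFun M y (lam : M → ℂ) = (lam : M → ℂ))).card =
    (Finset.univ.filter (fun x : M => MulAut.conjNormal y x = x)).card := by
  classical
  have hn0 : (Nat.card M : ℂ) ≠ 0 := by exact_mod_cast Nat.card_pos.ne'
  have hL : ∑ lam : IrrCharacter M, classInner (lam : M → ℂ) (conjFun M y (lam : M → ℂ)) =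
      ((Finset.univ.filter
        (fun lam : IrrCharacter M => conjFun M y (lam : M → ℂ) = (lam : M → ℂ))).card : ℂ) := by
    rw [Finset.card_eq_sum_ones, Finset.sum_filter]
    push_cast
    refine Finset.sum_congr rfl (fun lam _ => ?_)
    have h := Helper74.irr_orthonormal lam ⟨conjFun M y (lam : M → ℂ), isIrrCharacter_conjFun M lam.2 y⟩
    simp only at h
    rw [h]
    by_cases hfix : conjFun M y (lam : M → ℂ) = (lam : M → ℂ)
    · rw [if_pos hfix, if_pos]
      exact Subtype.ext hfix.symm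
    · rw [if_neg hfix, if_neg]
      intro h'
      exact hfix (congrArg Subtype.val h').symm
  have hR : ∑ lam : IrrCharacter M, classInner (lam : M → ℂ) (conjFun M y (lam : M → ℂ)) =
      ((Finset.univ.filter (fun x : M => MulAut.conjNormal y x = x)).card : ℂ) := by
    simp only [Helper74.classInner_def]
    rw [← Finset.mul_sum, Finset.sum_comm]
    have hcol : ∀ x : M, ∑ lam : IrrCharacter M,
        (lam : M → ℂ) x * conj (conjFun M y (lam : M → ℂ) x) =
        if MulAut.conjNormal y x = x then (Nat.card M : ℂ) else 0 := by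
      intro x
      have h := Helper79.column_orthogonality (G := M) x (MulAut.conjNormal y x)
      have hconj : IsConj (MulAut.conjNormal y x) x ↔ MulAut.conjNormal y x = x := by
        rw [isConj_iff]
        constructor
        · rintro ⟨c, hc⟩
          have h' : c * MulAut.conjNormal y x * c⁻¹ = MulAut.conjNormal y x := by
            rw [hcomm c, mul_inv_cancel_right]
          rw [h'] at hc
          exact hc
        · intro h; exact ⟨1, by simp [h]⟩
      have hcent : Subgroup.centralizer ({MulAut.conjNormal y x} : Set M) = ⊤ := by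
        rw [eq_top_iff]
        intro z _
        rw [Subgroup.mem_centralizer_iff]
        intro w _
        exact hcomm w z
      simp only [hconj, hcent, Subgroup.card_top] at h
      rw [← h]
      refine Finset.sum_congr rfl (fun lam _ => ?_)
      rw [conjFun_eq_comp]
    rw [Finset.sum_congr rfl (fun x _ => hcol x), Finset.sum_ite, Finset.sum_const_zero, add_zero,
      Finset.sum_const, nsmul_eq_mul, mul_comm, mul_assoc, mul_inv_cancel₀ hn0, mul_one]
  have := hL.symm.trans hR
  exact_mod_cast this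

/-- An involutory action on an abelian group of exponent two has at least `√n` fixed points. -/
theorem card_le_fixed_sq (M : Subgroup B) [hMn : M.Normal] [Fintype M] [DecidableEq M]
    (hidx : M.index = 2) (hcomm : ∀ x y : M, x * y = y * x) (hexp : ∀ x : M, x ^ 2 = 1) (y : B) :
    Nat.card M ≤ (Finset.univ.filter (fun x : M => MulAut.conjNormal y x = x)).card ^ 2 := by
  set σ : M ≃* M := MulAut.conjNormal y with hσ
  have hσσ : ∀ x : M, σ (σ x) = x := by
    intro x
    apply Subtype.ext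
    simp only [hσ, MulAut.conjNormal_apply]
    have hy2 : y ^ 2 ∈ M := Subgroup.sq_mem_of_index_two hidx y
    have := hcomm ⟨y ^ 2, hy2⟩ x
    have h' : y ^ 2 * (x : B) = (x : B) * y ^ 2 := congrArg Subtype.val this
    calc y * (y * x * y⁻¹) * y⁻¹ = (y ^ 2 * x) * (y⁻¹ * y⁻¹) := by rw [pow_two]; group
      _ = x * y ^ 2 * (y⁻¹ * y⁻¹) := by rw [h']
      _ = x := by rw [pow_two]; group
  let Fix : Subgroup M :=
    { carrier := {x | σ x = x}
      one_mem' := map_one σ
      mul_mem' := by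
        intro a b ha hb
        simp only [Set.mem_setOf_eq] at *
        rw [map_mul, ha, hb]
      inv_mem' := by
        intro a ha
        simp only [Set.mem_setOf_eq] at *
        rw [map_inv, ha] }
  let φ : M →* M :=
    { toFun := fun x => x * σ x
      map_one' := by simp
      map_mul' := by
        intro a b
        rw [map_mul, mul_assoc, mul_assoc, ← mul_assoc b, hcomm b (σ a), mul_assoc] }
  have hker : φ.ker ≤ Fix := by
    intro x hx
    rw [MonoidHom.mem_ker] at hx
    have hx' : x * σ x = 1 := hx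
    have h1 : σ x = x⁻¹ := eq_inv_of_mul_eq_one_right hx'
    have h2 : x⁻¹ = x := by
      have := hexp x
      rw [pow_two] at this
      exact inv_eq_of_mul_eq_one_right this
    show σ x = x
    rw [h1, h2]
  have hrange : φ.range ≤ Fix := by
    rintro _ ⟨x, rfl⟩
    show σ (x * σ x) = x * σ x
    rw [map_mul, hσσ, hcomm]
  have hcard : Nat.card M = Nat.card φ.ker * Nat.card φ.range := by
    rw [← Subgroup.index_ker, Subgroup.card_mul_index]
  have hFix : Nat.card Fix = (Finset.univ.filter (fun x : M => σ x = x)).card := by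
    have : Nat.card Fix = Nat.card {x : M // σ x = x} := rfl
    rw [this, ← Fintype.card_subtype, Fintype.card_eq_nat_card]
  calc Nat.card M = Nat.card φ.ker * Nat.card φ.range := hcard
    _ ≤ Nat.card Fix * Nat.card Fix :=
        Nat.mul_le_mul (Subgroup.card_le_of_le hker) (Subgroup.card_le_of_le hrange)
    _ = _ := by rw [hFix, pow_two]

/-- The index-two lemma. -/
theorem card_le_four_of_index_two (M : Subgroup B) [hMn : M.Normal]
    (hidx : M.index = 2) (hcomm : ∀ x y : M, x * y = y * x) (hexp : ∀ x : M, x ^ 2 = 1)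
    {ξ : B → ℂ} (hξ : IsCharacter B ξ) (h1 : ξ 1 = (Nat.card M : ℂ) - 1)
    (h2 : ∀ x ∈ M, x ≠ 1 → ξ x = -1) (h3 : ∀ s : B, s ∉ M → ‖ξ s‖ = 1) :
    Nat.card M ≤ 4 := by
  classical
  haveI : Fintype B := Fintype.ofFinite B
  haveI : Fintype M := Fintype.ofFinite M
  letI := Helper74.irrFintype B
  letI := Helper74.irrFintype M
  set n := Nat.card M with hn
  have hnpos : 0 < n := Nat.card_pos
  have hn0 : (n : ℂ) ≠ 0 := by exact_mod_cast hnpos.ne'
  have hcardB : Nat.card B = n * 2 := by rw [← Subgroup.card_mul_index M, hidx]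
  obtain ⟨y, hy⟩ : ∃ y : B, y ∉ M := by
    by_contra hcon
    push Not at hcon
    have : M = ⊤ := (Subgroup.eq_top_iff' M).2 hcon
    rw [this, Subgroup.index_top] at hidx
    omega
  have hlinM : ∀ θ : IrrCharacter M, (θ : M → ℂ) 1 = 1 := fun θ =>
    irr_one_eq_one_of_comm hcomm θ.2
  -- the multiplicities of `ξ_M`
  have hcθ : ∀ θ : IrrCharacter M, classInner (fun x : M => ξ x) (θ : M → ℂ) =
      if θ = Helper79.principalIrr M then 0 else 1 := by
    intro θ
    have hval : ∀ x : M, ξ x = (if x = 1 then (n : ℂ) else 0) - 1 := by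
      intro x
      by_cases hx : x = 1
      · rw [if_pos hx, hx, Subgroup.coe_one, h1]
      · rw [if_neg hx, h2 x x.2 (fun h => hx (Subtype.ext h))]; ring
    have hprin := Helper74.irr_orthonormal (Helper79.principalIrr M) θ
    rw [Helper74.classInner_def] at hprin ⊢
    have hsum : ∑ x : M, ξ x * conj ((θ : M → ℂ) x) =
        (n : ℂ) - ∑ x : M, ((Helper79.principalIrr M : IrrCharacter M) : M → ℂ) x *
          conj ((θ : M → ℂ) x) := by
      have e1 : ∀ x : M, ((if x = 1 then (n : ℂ) else 0) - 1) * conj ((θ : M → ℂ) x) =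
          (if x = 1 then (n : ℂ) * conj ((θ : M → ℂ) 1) else 0) -
            1 * conj ((θ : M → ℂ) x) := by
        intro x
        by_cases hx : x = 1
        · rw [if_pos hx, if_pos hx, hx]; ring
        · rw [if_neg hx, if_neg hx]; ring
      rw [Finset.sum_congr rfl (fun x _ => by rw [hval x, e1 x]), Finset.sum_sub_distrib,
        Finset.sum_ite_eq' Finset.univ (1 : M), if_pos (Finset.mem_univ _), hlinM θ]
      simp [Helper79.principalIrr]
    rw [hsum, mul_sub, hprin, inv_mul_cancel₀ hn0]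
    by_cases hθ : θ = Helper79.principalIrr M
    · rw [if_pos hθ, if_pos hθ.symm]; ring
    · rw [if_neg hθ, if_neg (fun h => hθ h.symm)]; ring
  -- decomposition over `Irr B`
  choose a ha using fun ψ : IrrCharacter B => Helper74.isCharacter_inner_irr_nat hξ ψ
  have hdec : ξ = ∑ ψ : IrrCharacter B, (a ψ : ℂ) • (ψ : B → ℂ) := by
    conv_lhs => rw [Helper74.isCharacter_eq_sum_irr hξ]
    exact Finset.sum_congr rfl (fun ψ _ => by rw [ha ψ])
  choose k hk using fun (ψ : IrrCharacter B) (θ : IrrCharacter M) =>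
    Helper74.isCharacter_inner_irr_nat
      (Helper74.isCharacter_restrict M (Helper74.irr_isCharacter ψ)) θ
  have hck : ∀ θ : IrrCharacter M, (∑ ψ, a ψ * k ψ θ : ℕ) =
      if θ = Helper79.principalIrr M then 0 else 1 := by
    intro θ
    have : ((∑ ψ, a ψ * k ψ θ : ℕ) : ℂ) = classInner (fun x : M => ξ x) (θ : M → ℂ) := by
      have hdecM : (fun x : M => ξ x) =
          ∑ ψ : IrrCharacter B, (a ψ : ℂ) • (fun x : M => (ψ : B → ℂ) x) := by
        funext x
        conv_lhs => rw [hdec]
        simp only [Finset.sum_apply, Pi.smul_apply]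
      rw [hdecM, Helper74.classInner_sum_left]
      push_cast
      refine Finset.sum_congr rfl (fun ψ _ => ?_)
      rw [Helper74.classInner_smul_left, hk ψ θ]
    rw [hcθ θ] at this
    by_cases hθ : θ = Helper79.principalIrr M
    · rw [if_pos hθ] at this ⊢; exact_mod_cast this
    · rw [if_neg hθ] at this ⊢; exact_mod_cast this
  have hle1 : ∀ (ψ : IrrCharacter B) (θ : IrrCharacter M), a ψ * k ψ θ ≤ 1 := by
    intro ψ θ
    have h : a ψ * k ψ θ ≤ ∑ ψ, a ψ * k ψ θ :=
      Finset.single_le_sum (f := fun ψ => a ψ * k ψ θ) (fun _ _ => Nat.zero_le _)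
        (Finset.mem_univ ψ)
    have h' := hck θ
    by_cases hθ : θ = Helper79.principalIrr M
    · rw [if_pos hθ] at h'; omega
    · rw [if_neg hθ] at h'; omega
  let d : IrrCharacter B → ℕ := fun ψ => charDegree (ψ : B → ℂ)
  have hd : ∀ ψ : IrrCharacter B, ((d ψ : ℕ) : ℂ) = (ψ : B → ℂ) 1 := fun ψ =>
    Helper74.charDegree_cast (Helper74.irr_isCharacter ψ)
  have hdpos : ∀ ψ, 0 < d ψ := fun ψ => Helper80.IsIrrCharacter.charDegree_pos ψ.2
  -- Clifford theory for the constituents of `ξ`
  have hcliff : ∀ (ψ : IrrCharacter B) (θ : IrrCharacter M), a ψ ≠ 0 → k ψ θ ≠ 0 →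
      a ψ = 1 ∧ k ψ θ = 1 ∧ d ψ = (conjOrbit M (θ : M → ℂ)).card := by
    intro ψ θ haψ hkθ
    have h := hle1 ψ θ
    have ha1 : a ψ = 1 := by
      have h1' : 1 ≤ a ψ := Nat.pos_of_ne_zero haψ
      have h2' : 1 ≤ k ψ θ := Nat.pos_of_ne_zero hkθ
      by_contra hne
      have : 2 ≤ a ψ := by omega
      nlinarith
    have hk1 : k ψ θ = 1 := by
      have h2' : 1 ≤ k ψ θ := Nat.pos_of_ne_zero hkθ
      rw [ha1, one_mul] at h
      omega
    refine ⟨ha1, hk1, ?_⟩
    have hne : classInner (fun x : M => (ψ : B → ℂ) x) (θ : M → ℂ) ≠ 0 := by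
      rw [hk ψ θ, hk1]; simp
    have hcl := clifford_restrict M ψ.2 θ.2 hne
    have h1' := congrFun hcl 1
    rw [hk ψ θ, hk1] at h1'
    simp only [Pi.smul_apply, Finset.sum_apply, Nat.cast_one, one_smul] at h1'
    have h2' : ∑ φ ∈ conjOrbit M (θ : M → ℂ), φ 1 =
        ((conjOrbit M (θ : M → ℂ)).card : ℂ) := by
      have : ∀ φ ∈ conjOrbit M (θ : M → ℂ), φ 1 = (1 : ℂ) := by
        intro φ hφ
        obtain ⟨g, rfl⟩ := (mem_conjOrbit M).1 hφ
        rw [conjFun_apply_one, hlinM θ]
      rw [Finset.sum_congr rfl this]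
      simp
    rw [h2', Subgroup.coe_one, ← hd ψ] at h1'
    exact_mod_cast h1'
  have horb : ∀ θ : IrrCharacter M, (conjOrbit M (θ : M → ℂ)).card ∣ 2 := by
    intro θ
    rw [card_conjOrbit, ← hidx]
    exact Subgroup.index_dvd_of_le (le_inertia M
      (Helper74.isClassFunction_of_isCharacter (Helper74.irr_isCharacter θ)))
  have hexθ : ∀ ψ : IrrCharacter B, ∃ θ : IrrCharacter M, k ψ θ ≠ 0 := by
    intro ψ
    have h1' : (fun x : M => (ψ : B → ℂ) x) 1 ≠ 0 := by
      show (ψ : B → ℂ) ((1 : M) : B) ≠ 0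
      rw [Subgroup.coe_one]
      exact Helper80.IsIrrCharacter.map_one_ne_zero ψ.2
    obtain ⟨θ, hθ⟩ := Helper81.exists_irr_constituent
      (Helper74.isCharacter_restrict M (Helper74.irr_isCharacter ψ)) h1'
    refine ⟨θ, ?_⟩
    intro h0
    apply hθ
    rw [hk ψ θ, h0]; simp
  have hA1 : ∀ ψ, a ψ ≠ 0 → a ψ = 1 ∧ d ψ ≤ 2 := by
    intro ψ haψ
    obtain ⟨θ, hθ⟩ := hexθ ψ
    obtain ⟨ha1, -, hdo⟩ := hcliff ψ θ haψ hθ
    refine ⟨ha1, ?_⟩
    rw [hdo]
    exact Nat.le_of_dvd (by norm_num) (horb θ)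
  -- the norm of `ξ`
  have hsumB : (∑ s : B, ‖ξ s‖ ^ 2 : ℝ) = (n : ℝ) ^ 2 := by
    rw [← Finset.sum_filter_add_sum_filter_not Finset.univ (fun s : B => s ∈ M)]
    have hc1 : (Finset.univ.filter (fun s : B => s ∈ M)).card = n := by
      rw [← Fintype.card_subtype, Fintype.card_eq_nat_card]
    have hA : ∑ s ∈ Finset.univ.filter (fun s : B => s ∈ M), ‖ξ s‖ ^ 2 =
        ((n : ℝ) - 1) ^ 2 + ((n : ℝ) - 1) := by
      rw [Finset.sum_subtype (Finset.univ.filter (fun s : B => s ∈ M)) (p := fun s => s ∈ M)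
        (by simp) (fun s => ‖ξ s‖ ^ 2)]
      rw [← Finset.add_sum_erase Finset.univ _ (Finset.mem_univ (⟨1, M.one_mem⟩ : {s // s ∈ M}))]
      congr 1
      · simp only [h1]
        have : ((n : ℂ) - 1) = (((n : ℝ) - 1 : ℝ) : ℂ) := by push_cast; ring
        rw [this, Complex.norm_real, Real.norm_eq_abs, sq_abs]
      · have h1' : ∀ x ∈ Finset.univ.erase (⟨1, M.one_mem⟩ : {s // s ∈ M}),
            ‖ξ (x : B)‖ ^ 2 = (1 : ℝ) := by
          intro x hx
          have hx1 : x ≠ ⟨1, M.one_mem⟩ := (Finset.mem_erase.1 hx).1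
          rw [h2 x x.2 (fun h => hx1 (Subtype.ext h))]
          simp
        rw [Finset.sum_congr rfl h1', Finset.sum_const,
          Finset.card_erase_of_mem (Finset.mem_univ _), Finset.card_univ,
          Fintype.card_eq_nat_card, nsmul_eq_mul, mul_one]
        have : Nat.card {s // s ∈ M} = n := rfl
        rw [this, Nat.cast_sub (by omega)]
        simp
    have hBc : ∑ s ∈ Finset.univ.filter (fun s : B => ¬ s ∈ M), ‖ξ s‖ ^ 2 = (n : ℝ) := by
      rw [Finset.sum_congr rfl (fun s hs => by rw [h3 s (Finset.mem_filter.1 hs).2])]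
      simp only [one_pow, Finset.sum_const, nsmul_eq_mul, mul_one]
      have hc2 := Finset.card_filter_add_card_filter_not (s := (Finset.univ : Finset B))
        (fun s : B => s ∈ M)
      rw [hc1, Finset.card_univ, Fintype.card_eq_nat_card, hcardB] at hc2
      have : (Finset.univ.filter (fun s : B => ¬ s ∈ M)).card = n := by omega
      rw [this]
    rw [hA, hBc]; ring
  have hinnξ : classInner ξ ξ = ((∑ ψ, a ψ : ℕ) : ℂ) := by
    conv_lhs => rw [hdec]
    rw [Helper74.classInner_sum_left]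
    push_cast
    refine Finset.sum_congr rfl (fun ψ _ => ?_)
    rw [Helper74.classInner_smul_left, ← hdec, ← Helper74.classInner_conj_symm, ha ψ,
      Complex.conj_natCast]
    by_cases haψ : a ψ = 0
    · rw [haψ]; simp
    · rw [(hA1 ψ haψ).1]; simp
  have hsumA : 2 * ∑ ψ, a ψ = n := by
    have h := Helper74.sum_norm_sq_eq ξ
    rw [hsumB, hinnξ, hcardB] at h
    have h' : ((n ^ 2 : ℕ) : ℂ) = ((n * 2 * ∑ ψ, a ψ : ℕ) : ℂ) := by
      rw [show ((n ^ 2 : ℕ) : ℂ) = (((n : ℝ) ^ 2 : ℝ) : ℂ) by push_cast; ring, h]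
      push_cast; ring
    have h'' : n ^ 2 = n * 2 * ∑ ψ, a ψ := by exact_mod_cast h'
    have : n * n = n * (2 * ∑ ψ, a ψ) := by rw [← pow_two, h'']; ring
    exact (Nat.eq_of_mul_eq_mul_left hnpos this).symm
  have hsumD : ∑ ψ, a ψ * d ψ + 1 = n := by
    have h : ξ 1 = ((∑ ψ, a ψ * d ψ : ℕ) : ℂ) := by
      conv_lhs => rw [hdec]
      simp only [Finset.sum_apply, Pi.smul_apply, smul_eq_mul]
      push_cast
      exact Finset.sum_congr rfl (fun ψ _ => by rw [hd ψ])
    rw [h1] at h
    have : ((∑ ψ, a ψ * d ψ + 1 : ℕ) : ℂ) = (n : ℂ) := by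
      push_cast
      push_cast at h
      rw [← h]; ring
    exact_mod_cast this
  have hsumF : ∑ ψ, a ψ * (2 - d ψ) = 1 := by
    have hterm : ∀ ψ, a ψ * (2 - d ψ) + a ψ * d ψ = 2 * a ψ := by
      intro ψ
      by_cases haψ : a ψ = 0
      · rw [haψ]; simp
      · have := (hA1 ψ haψ).2
        rw [← Nat.mul_add, Nat.sub_add_cancel this, mul_comm]
    have : ∑ ψ, a ψ * (2 - d ψ) + ∑ ψ, a ψ * d ψ = 2 * ∑ ψ, a ψ := by
      rw [← Finset.sum_add_distrib, Finset.mul_sum]
      exact Finset.sum_congr rfl (fun ψ _ => hterm ψ)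
    omega
  -- invariance under `y` is invariance under `B`
  have hinv : ∀ θ : IrrCharacter M, conjFun M y (θ : M → ℂ) = (θ : M → ℂ) →
      ∀ s : B, conjFun M s (θ : M → ℂ) = (θ : M → ℂ) := by
    intro θ hθ s
    have hcf : IsClassFunction M (θ : M → ℂ) :=
      Helper74.isClassFunction_of_isCharacter (Helper74.irr_isCharacter θ)
    by_cases hs : s ∈ M
    · exact conjFun_of_mem M hcf hs
    · have h' : y⁻¹ * s ∈ M := by
        rw [Subgroup.mul_mem_iff_of_index_two hidx]
        constructor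
        · intro h; exact absurd (M.inv_mem_iff.1 h) hy
        · intro h; exact absurd h hs
      have : s = y * (y⁻¹ * s) := by group
      rw [this, conjFun_mul, hθ, conjFun_of_mem M hcf h']
  -- a `y`-fixed nonprincipal character lies under a linear constituent of `ξ`
  have hfixlin : ∀ θ : IrrCharacter M, θ ≠ Helper79.principalIrr M →
      conjFun M y (θ : M → ℂ) = (θ : M → ℂ) →
      ∃ ψ : IrrCharacter B, a ψ = 1 ∧ d ψ = 1 ∧ k ψ θ = 1 := by
    intro θ hθ hfix
    have h := hck θ
    rw [if_neg hθ] at h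
    obtain ⟨ψ, -, hψ⟩ : ∃ ψ ∈ (Finset.univ : Finset (IrrCharacter B)), a ψ * k ψ θ ≠ 0 := by
      by_contra hcon
      push Not at hcon
      rw [Finset.sum_eq_zero hcon] at h
      omega
    have haψ : a ψ ≠ 0 := fun h0 => hψ (by rw [h0, zero_mul])
    have hkψ : k ψ θ ≠ 0 := fun h0 => hψ (by rw [h0, mul_zero])
    obtain ⟨ha1, hk1, hdo⟩ := hcliff ψ θ haψ hkψ
    refine ⟨ψ, ha1, ?_, hk1⟩
    rw [hdo]
    have : conjOrbit M (θ : M → ℂ) = {(θ : M → ℂ)} := by
      ext φ
      rw [mem_conjOrbit, Finset.mem_singleton]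
      constructor
      · rintro ⟨g, rfl⟩
        exact hinv θ hfix g
      · intro h; exact ⟨1, by rw [h, conjFun_one]⟩
    rw [this, Finset.card_singleton]
  -- at most two `y`-fixed characters
  have hfixcard : (Finset.univ.filter
      (fun lam : IrrCharacter M => conjFun M y (lam : M → ℂ) = (lam : M → ℂ))).card ≤ 2 := by
    by_contra hcon
    push Not at hcon
    set F := Finset.univ.filter
      (fun lam : IrrCharacter M => conjFun M y (lam : M → ℂ) = (lam : M → ℂ)) with hF
    have h2' : 1 < (F.erase (Helper79.principalIrr M)).card := by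
      have := Finset.pred_card_le_card_erase (s := F) (a := Helper79.principalIrr M)
      omega
    obtain ⟨θ₁, hθ₁, θ₂, hθ₂, hne⟩ := Finset.one_lt_card.1 h2'
    obtain ⟨hθ₁p, hθ₁F⟩ := Finset.mem_erase.1 hθ₁
    obtain ⟨hθ₂p, hθ₂F⟩ := Finset.mem_erase.1 hθ₂
    have hfix₁ := (Finset.mem_filter.1 hθ₁F).2
    have hfix₂ := (Finset.mem_filter.1 hθ₂F).2
    obtain ⟨ψ₁, ha₁, hd₁, hk₁⟩ := hfixlin θ₁ hθ₁p hfix₁
    obtain ⟨ψ₂, ha₂, hd₂, hk₂⟩ := hfixlin θ₂ hθ₂p hfix₂
    have hψne : ψ₁ ≠ ψ₂ := by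
      intro heq
      -- `ψ₁` restricted to `M` contains both `θ₁` and `θ₂`, but has degree one
      have hres : IsCharacter M (fun x : M => (ψ₁ : B → ℂ) x) :=
        Helper74.isCharacter_restrict M (Helper74.irr_isCharacter ψ₁)
      have hdecM := Helper74.isCharacter_eq_sum_irr hres
      have h1' := congrFun hdecM 1
      simp only [Finset.sum_apply, Pi.smul_apply, smul_eq_mul] at h1'
      have h2'' : ∑ θ : IrrCharacter M, classInner (fun x : M => (ψ₁ : B → ℂ) x) (θ : M → ℂ) *
          (θ : M → ℂ) 1 = ((∑ θ : IrrCharacter M, k ψ₁ θ : ℕ) : ℂ) := by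
        push_cast
        exact Finset.sum_congr rfl (fun θ _ => by rw [hk ψ₁ θ, hlinM θ, mul_one])
      rw [h2'', Subgroup.coe_one, ← hd ψ₁, hd₁] at h1'
      have h3' : ∑ θ : IrrCharacter M, k ψ₁ θ = 1 := by exact_mod_cast h1'.symm
      have h4' : k ψ₁ θ₁ + k ψ₁ θ₂ ≤ ∑ θ : IrrCharacter M, k ψ₁ θ := by
        have := Finset.sum_le_sum_of_subset (f := fun θ => k ψ₁ θ)
          (Finset.subset_univ ({θ₁, θ₂} : Finset (IrrCharacter M)))
        rw [Finset.sum_pair hne] at this
        exact this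
      rw [heq] at h4' h3'
      rw [heq] at hk₁
      omega
    have h4' : a ψ₁ * (2 - d ψ₁) + a ψ₂ * (2 - d ψ₂) ≤ ∑ ψ, a ψ * (2 - d ψ) := by
      have := Finset.sum_le_sum_of_subset (f := fun ψ => a ψ * (2 - d ψ))
        (Finset.subset_univ ({ψ₁, ψ₂} : Finset (IrrCharacter B)))
      rw [Finset.sum_pair hψne] at this
      exact this
    rw [ha₁, hd₁, ha₂, hd₂, hsumF] at h4'
    omega
  have hfix := card_fixed_irr_eq M hcomm y
  have hsq := card_le_fixed_sq M hidx hcomm hexp y
  rw [← hfix] at hsq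
  calc n ≤ _ := hsq
    _ ≤ 2 ^ 2 := Nat.pow_le_pow_left hfixcard 2
    _ = 4 := by norm_num

end Cfsg.Agent.Helper82.RootUnity
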