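import Mathlib
import Cfsg.Prelude.Def_Blocks
import Cfsg.Agent.Helper82.RootUnityD

/-!
# Root-of-unity values on `p`-singular elements: `O_p(G)` is Sylow or of order four (helper82)
-/

set_option autoImplicit false

namespace Cfsg.Agent.Helper82.RootUnity

open Cfsg Cfsg.Agent.Helper15
open scoped ComplexConjugate

universe u

variable {G : Type u} [Group G] [Finite G]

/-- `χ = -1` on `N ∖ 1`. -/
theorem apply_eq_neg_one (p : ℕ) [hp : Fact p.Prime] (N : Subgroup G) [hN : N.Normal]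
    (hNp : IsPGroup p N) (hN1 : N ≠ ⊥) (χ : IrrCharacter G) (hnl : (χ : G → ℂ) 1 ≠ 1)
    (hnorm : ∀ x ∈ N, x ≠ 1 → ‖(χ : G → ℂ) x‖ = 1) :
    ∀ x ∈ N, x ≠ 1 → (χ : G → ℂ) x = -1 := by
  classical
  haveI : Fintype G := Fintype.ofFinite G
  haveI : Fintype N := Fintype.ofFinite N
  letI := Helper74.irrFintype N
  obtain ⟨-, hcomm, hmult, h0, -⟩ := partA p N hNp hN1 χ hnl hnorm
  intro x hx hx1
  have hres : IsCharacter N (fun x : N => (χ : G → ℂ) x) :=
    Helper74.isCharacter_restrict N (Helper74.irr_isCharacter χ)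
  have hdec := Helper74.isCharacter_eq_sum_irr hres
  have h1 := congrFun hdec ⟨x, hx⟩
  simp only [Finset.sum_apply, Pi.smul_apply, smul_eq_mul] at h1
  have hc : ∀ lam : IrrCharacter N, classInner (fun x : N => (χ : G → ℂ) x) (lam : N → ℂ) =
      1 - (if lam = Helper79.principalIrr N then 1 else 0) := by
    intro lam
    by_cases hl : lam = Helper79.principalIrr N
    · rw [if_pos hl, hl]
      show classInner (fun x : N => (χ : G → ℂ) x) (fun _ => (1 : ℂ)) = _
      rw [h0]; ring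
    · rw [if_neg hl, hmult lam (fun h => hl (Subtype.ext h))]; ring
  rw [Finset.sum_congr rfl (fun lam _ => by rw [hc lam])] at h1
  simp only [sub_mul, one_mul, ite_mul, zero_mul, Finset.sum_sub_distrib] at h1
  rw [Helper82.sum_irr_apply_of_ne_one hcomm (t := (⟨x, hx⟩ : N))
    (fun h => hx1 (congrArg Subtype.val h)),
    Finset.sum_ite_eq' Finset.univ (Helper79.principalIrr N), if_pos (Finset.mem_univ _)] at h1
  rw [h1]
  show (0 : ℂ) - 1 = -1
  ring

theorem sylow_card (p : ℕ) [hp : Fact p.Prime] (N : Subgroup G) [hN : N.Normal]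
    (hNp : IsPGroup p N) (hN1 : N ≠ ⊥) (χ : IrrCharacter G) (hnl : (χ : G → ℂ) 1 ≠ 1)
    (hsing : ∀ g : G, p ∣ orderOf g → ‖(χ : G → ℂ) g‖ = 1) (S : Sylow p G)
    (hNS : N ≤ (S : Subgroup G)) :
    Nat.card (S : Subgroup G) = Nat.card N ∨
      (p = 2 ∧ Nat.card (S : Subgroup G) = 2 * Nat.card N) := by
  classical
  haveI : Fintype G := Fintype.ofFinite G
  haveI : Fintype N := Fintype.ofFinite N
  haveI : Fintype (S : Subgroup G) := Fintype.ofFinite _
  obtain ⟨hdeg, -, -, -, -⟩ := partA p N hNp hN1 χ hnl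
    (fun x hx hx1 => hsing x (dvd_orderOf_of_mem_pgroup hNp hx hx1))
  set n := Nat.card N with hn
  set s := Nat.card (S : Subgroup G) with hs
  have hn2 : 2 ≤ n := (Subgroup.one_lt_card_iff_ne_bot N).2 hN1
  have hspos : 0 < s := Nat.card_pos
  have hχc := Helper74.irr_isCharacter χ
  have hn3 : n ≠ 2 := by
    intro h
    apply hnl
    rw [hdeg, h]; norm_num
  obtain ⟨m, hm⟩ := Helper15.isCharacter_inner_nat
    (Helper74.isCharacter_restrict (S : Subgroup G) hχc)
    (Helper74.isCharacter_restrict (S : Subgroup G) hχc)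
  have hnR : (0 : ℝ) ≤ (n : ℝ) - 1 := by
    have : (2 : ℝ) ≤ (n : ℝ) := by exact_mod_cast hn2
    linarith
  have hsum : (∑ x : (S : Subgroup G), ‖(χ : G → ℂ) x‖ ^ 2 : ℝ) =
      ((n : ℝ) - 1) ^ 2 + ((s : ℝ) - 1) := by
    rw [← Finset.add_sum_erase Finset.univ _ (Finset.mem_univ (1 : (S : Subgroup G)))]
    congr 1
    · rw [Subgroup.coe_one, hdeg]
      have : ((n : ℂ) - 1) = (((n : ℝ) - 1 : ℝ) : ℂ) := by push_cast; ring
      rw [this, Complex.norm_real, Real.norm_eq_abs, sq_abs]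
    · have h1 : ∀ x ∈ Finset.univ.erase (1 : (S : Subgroup G)),
          ‖(χ : G → ℂ) x‖ ^ 2 = (1 : ℝ) := by
        intro x hx
        have hx1 : x ≠ 1 := (Finset.mem_erase.1 hx).1
        rw [hsing x (dvd_orderOf_of_mem_pgroup S.2 x.2 (fun h => hx1 (Subtype.ext h)))]
        norm_num
      rw [Finset.sum_congr rfl h1, Finset.sum_const, Finset.card_erase_of_mem (Finset.mem_univ _),
        Finset.card_univ, ← Nat.card_eq_fintype_card, ← hs, nsmul_eq_mul, mul_one,
        Nat.cast_sub (by omega)]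
      simp
  have hsq := Helper74.sum_norm_sq_eq (fun x : (S : Subgroup G) => (χ : G → ℂ) x)
  rw [hsum, hm, ← hs] at hsq
  have hZ : ((n : ℤ) - 1) ^ 2 + ((s : ℤ) - 1) = (s : ℤ) * m := by
    push_cast at hsq
    exact_mod_cast hsq
  have hdvd : (s : ℤ) ∣ (n : ℤ) * ((n : ℤ) - 2) := ⟨(m : ℤ) - 1, by linear_combination hZ⟩
  obtain ⟨a, ha⟩ : ∃ a, n = p ^ a := IsPGroup.iff_card.1 hNp
  obtain ⟨b, hb⟩ : ∃ b, s = p ^ b := IsPGroup.iff_card.1 S.2
  have hp1 : 1 < p := hp.out.one_lt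
  have hab : a ≤ b := by
    have : n ∣ s := Subgroup.card_dvd_of_le hNS
    rw [ha, hb] at this
    exact (Nat.pow_dvd_pow_iff_le_right hp1).1 this
  have ha1 : 1 ≤ a := by
    rcases Nat.eq_zero_or_pos a with h | h
    · rw [h, pow_zero] at ha; omega
    · exact h
  obtain ⟨c, hc⟩ : ∃ c, b = a + c := ⟨b - a, by omega⟩
  have hpZ : ((p : ℤ) ^ a) ≠ 0 := pow_ne_zero _ (by exact_mod_cast hp.out.ne_zero)
  have hdvd2 : ((p : ℤ) ^ c) ∣ (p : ℤ) ^ a - 2 := by
    rw [hb, ha, hc] at hdvd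
    push_cast at hdvd
    rw [pow_add] at hdvd
    exact (mul_dvd_mul_iff_left hpZ).1 hdvd
  rcases Nat.eq_zero_or_pos c with hc0 | hcpos
  · left
    rw [hb, ha, hc, hc0, add_zero]
  · right
    have h1 : (p : ℤ) ∣ (p : ℤ) ^ a - 2 := (dvd_pow_self (p : ℤ) hcpos.ne').trans hdvd2
    have h2 : (p : ℤ) ∣ (p : ℤ) ^ a := dvd_pow_self _ (by omega)
    have h3 : (p : ℤ) ∣ 2 := by
      have := dvd_sub h2 h1
      simpa using this
    have h4 : p ∣ 2 := by exact_mod_cast h3
    have hp2 : p = 2 := (Nat.prime_dvd_prime_iff_eq hp.out Nat.prime_two).1 h4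
    refine ⟨hp2, ?_⟩
    have ha2 : 2 ≤ a := by
      by_contra hcon
      have : a = 1 := by omega
      rw [this, hp2, pow_one] at ha
      exact hn3 ha
    have hc1 : c = 1 := by
      by_contra hcon
      have hc2 : 2 ≤ c := by omega
      have h5 : ((p : ℤ) ^ 2) ∣ (p : ℤ) ^ a - 2 := (pow_dvd_pow (p : ℤ) hc2).trans hdvd2
      have h6 : ((p : ℤ) ^ 2) ∣ (p : ℤ) ^ a := pow_dvd_pow (p : ℤ) ha2
      have h7 : ((p : ℤ) ^ 2) ∣ 2 := by
        have := dvd_sub h6 h5
        simpa using this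
      rw [hp2] at h7
      norm_num at h7
    rw [hb, ha, hc, hc1, hp2, pow_succ]
    ring

theorem card_eq_four (N : Subgroup G) [hN : N.Normal] (hNp : IsPGroup 2 N) (hN1 : N ≠ ⊥)
    (χ : IrrCharacter G) (hnl : (χ : G → ℂ) 1 ≠ 1)
    (hsing : ∀ g : G, 2 ∣ orderOf g → ‖(χ : G → ℂ) g‖ = 1) (S : Sylow 2 G)
    (hNS : N ≤ (S : Subgroup G)) (hS : Nat.card (S : Subgroup G) = 2 * Nat.card N)
    (hexpN : ∀ x ∈ N, x ^ 2 = 1) : Nat.card N = 4 := by
  classical
  haveI : Fintype G := Fintype.ofFinite G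
  haveI : Fintype N := Fintype.ofFinite N
  have hnorm : ∀ x ∈ N, x ≠ 1 → ‖(χ : G → ℂ) x‖ = 1 :=
    fun x hx hx1 => hsing x (dvd_orderOf_of_mem_pgroup hNp hx hx1)
  obtain ⟨hdeg, hcomm, -, -, -⟩ := partA 2 N hNp hN1 χ hnl hnorm
  have hneg := apply_eq_neg_one 2 N hNp hN1 χ hnl hnorm
  set n := Nat.card N with hn
  have hn2 : 2 ≤ n := (Subgroup.one_lt_card_iff_ne_bot N).2 hN1
  have hn3 : n ≠ 2 := by
    intro h
    apply hnl
    rw [hdeg, h]; norm_num
  let M : Subgroup (S : Subgroup G) := N.subgroupOf (S : Subgroup G)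
  haveI : M.Normal := Subgroup.Normal.subgroupOf hN _
  have hcardM : Nat.card M = n := Nat.card_congr (Subgroup.subgroupOfEquivOfLe hNS).toEquiv
  have hidx : M.index = 2 := by
    have h := Subgroup.card_mul_index M
    rw [hcardM, hS] at h
    have hnpos : 0 < n := by omega
    have : n * M.index = n * 2 := by rw [h]; ring
    exact Nat.eq_of_mul_eq_mul_left hnpos this
  have hcommM : ∀ x y : M, x * y = y * x := by
    intro x y
    have := hcomm ⟨((x : (S : Subgroup G)) : G), x.2⟩ ⟨((y : (S : Subgroup G)) : G), y.2⟩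
    have h' : ((x : (S : Subgroup G)) : G) * ((y : (S : Subgroup G)) : G) =
        ((y : (S : Subgroup G)) : G) * ((x : (S : Subgroup G)) : G) := congrArg Subtype.val this
    exact Subtype.ext (Subtype.ext h')
  have hexpM : ∀ x : M, x ^ 2 = 1 := by
    intro x
    have := hexpN ((x : (S : Subgroup G)) : G) x.2
    exact Subtype.ext (Subtype.ext (by simpa using this))
  have hξ : IsCharacter (S : Subgroup G) (fun s : (S : Subgroup G) => (χ : G → ℂ) s) :=
    Helper74.isCharacter_restrict (S : Subgroup G) (Helper74.irr_isCharacter χ)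
  have h1 : (fun s : (S : Subgroup G) => (χ : G → ℂ) s) 1 = (Nat.card M : ℂ) - 1 := by
    show (χ : G → ℂ) ((1 : (S : Subgroup G)) : G) = _
    rw [Subgroup.coe_one, hdeg, hcardM]
  have h2 : ∀ x ∈ M, x ≠ 1 → (fun s : (S : Subgroup G) => (χ : G → ℂ) s) x = -1 := by
    intro x hx hx1
    exact hneg (x : G) hx (fun h => hx1 (Subtype.ext h))
  have h3 : ∀ s : (S : Subgroup G), s ∉ M →
      ‖(fun s : (S : Subgroup G) => (χ : G → ℂ) s) s‖ = 1 := by
    intro s hs
    have hs1 : (s : G) ≠ 1 := by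
      intro h
      apply hs
      have : s = 1 := Subtype.ext h
      rw [this]
      exact M.one_mem
    exact hsing (s : G) (dvd_orderOf_of_mem_pgroup S.2 s.2 hs1)
  have hle := card_le_four_of_index_two M hidx hcommM hexpM hξ h1 h2 h3
  rw [hcardM] at hle
  obtain ⟨a, ha⟩ : ∃ a, n = 2 ^ a := IsPGroup.iff_card.1 hNp
  have ha2 : a = 2 := by
    rcases Nat.lt_or_ge a 3 with h | h
    · interval_cases a
      · rw [pow_zero] at ha; omega
      · rw [pow_one] at ha; omega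
      · rfl
    · have : 2 ^ 3 ≤ 2 ^ a := Nat.pow_le_pow_right (by norm_num) h
      omega
  rw [ha, ha2]
  norm_num

end Cfsg.Agent.Helper82.RootUnity
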