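import Mathlib
import Cfsg.Prelude.Def_Blocks
import Cfsg.Agent.Helper82.RootUnityE
import Cfsg.Agent.Helper71.S4Embed

/-!
# Root-of-unity values on `2`-singular elements: the `S₄` case, group-theoretic preliminaries
(helper82)
-/

set_option autoImplicit false

namespace Cfsg.Agent.Helper82.RootUnity

open Cfsg Cfsg.Agent.Helper15
open scoped ComplexConjugate

universe u

variable {G : Type u} [Group G] [Finite G]

/-- The centralizer of a normal subgroup of order four has index dividing six. -/
theorem index_centralizer_dvd_six (N : Subgroup G) [hN : N.Normal] (hcard : Nat.card N = 4) :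
    (Subgroup.centralizer (N : Set G)).index ∣ 6 := by
  classical
  letI act : MulAction G (Helper71.S4eNonOne N) := Helper71.s4eAct N
  letI : Fintype N := Fintype.ofFinite N
  letI : Fintype (Helper71.S4eNonOne N) := Fintype.ofFinite _
  have hsmul : ∀ (g : G) (ω : Helper71.S4eNonOne N),
      (((g • ω : Helper71.S4eNonOne N).1 : N) : G) = g * (ω.1 : G) * g⁻¹ := fun _ _ => rfl
  let ρ : G →* Equiv.Perm (Helper71.S4eNonOne N) :=
    MulAction.toPermHom G (Helper71.S4eNonOne N)
  have hker : ρ.ker = Subgroup.centralizer (N : Set G) := by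
    apply le_antisymm
    · intro g hg
      rw [Subgroup.mem_centralizer_iff]
      intro v hv
      by_cases hv1 : v = 1
      · rw [hv1, one_mul, mul_one]
      · have hω : (⟨⟨v, hv⟩, fun h => hv1 (congrArg Subtype.val h)⟩ : Helper71.S4eNonOne N) =
            g • (⟨⟨v, hv⟩, fun h => hv1 (congrArg Subtype.val h)⟩ : Helper71.S4eNonOne N) := by
          have := MonoidHom.mem_ker.mp hg
          have h2 := congrArg (fun σ : Equiv.Perm (Helper71.S4eNonOne N) =>
            σ (⟨⟨v, hv⟩, fun h => hv1 (congrArg Subtype.val h)⟩ : Helper71.S4eNonOne N)) this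
          simp only [Equiv.Perm.coe_one, id_eq] at h2
          exact h2.symm
        have h3 := congrArg (fun ω : Helper71.S4eNonOne N => ((ω.1 : N) : G)) hω
        simp only [hsmul] at h3
        calc v * g = (g * v * g⁻¹) * g := by rw [← h3]
          _ = g * v := by group
    · intro g hg
      rw [MonoidHom.mem_ker]
      ext ω
      show (((g • ω : Helper71.S4eNonOne N).1 : N) : G) = ((ω.1 : N) : G)
      rw [hsmul]
      have := (Subgroup.mem_centralizer_iff.1 hg) (ω.1 : G) ω.1.2
      rw [← this]
      group
  have hΩ : Fintype.card (Helper71.S4eNonOne N) = 3 := by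
    have h1 := Fintype.card_subtype_compl (fun v : N => v = 1)
    rw [Fintype.card_subtype_eq, ← Nat.card_eq_fintype_card (α := N), hcard] at h1
    have h2 : Fintype.card (Helper71.S4eNonOne N) = Fintype.card {x : N // ¬ x = 1} :=
      Fintype.card_congr (Equiv.refl _)
    rw [h2, h1]
  have hperm : Nat.card (Equiv.Perm (Helper71.S4eNonOne N)) = 6 := by
    rw [Nat.card_eq_fintype_card, Fintype.card_perm, hΩ]
    rfl
  have h1 : (Subgroup.centralizer (N : Set G)).index = Nat.card ρ.range := by
    have h := Subgroup.index_ker ρ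
    rw [hker] at h
    exact h
  rw [h1, ← hperm]
  exact Subgroup.card_subgroup_dvd_card ρ.range

/-- The centre has odd order when `N ∩ Z(G) = 1` for the largest normal `2`-subgroup `N`. -/
theorem odd_card_center (N : Subgroup G)
    (hmax : ∀ M : Subgroup G, M.Normal → IsPGroup 2 M → M ≤ N)
    (hNZ : N ⊓ Subgroup.center G = ⊥) : Odd (Nat.card (Subgroup.center G)) := by
  by_contra hodd
  rw [Nat.not_odd_iff_even] at hodd
  have h2 : 2 ∣ Nat.card (Subgroup.center G) := hodd.two_dvd
  obtain ⟨z, hz⟩ := exists_prime_orderOf_dvd_card' 2 h2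
  have hz' : orderOf (z : G) = 2 := by rw [Subgroup.orderOf_coe]; exact hz
  have hnorm : (Subgroup.zpowers (z : G)).Normal := by
    constructor
    intro a ha g
    have hcen : a ∈ Subgroup.center G :=
      (Subgroup.zpowers_le.2 z.2) ha
    have : g * a * g⁻¹ = a := by
      rw [Subgroup.mem_center_iff.1 hcen g, mul_inv_cancel_right]
    rw [this]
    exact ha
  have hpg : IsPGroup 2 (Subgroup.zpowers (z : G)) := by
    apply IsPGroup.of_card (n := 1)
    rw [Nat.card_zpowers, hz', pow_one]
  have hle := hmax _ hnorm hpg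
  have hzN : (z : G) ∈ N := hle (Subgroup.mem_zpowers _)
  have hz1 : (z : G) ∈ N ⊓ Subgroup.center G := ⟨hzN, z.2⟩
  rw [hNZ, Subgroup.mem_bot] at hz1
  rw [hz1, orderOf_one] at hz'
  omega

end Cfsg.Agent.Helper82.RootUnity
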