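import Mathlib
import Cfsg.Prelude.Def_Blocks
import Cfsg.Agent.Helper82.RootUnityF
import Cfsg.Agent.Helper76.CharCentral

/-!
# Root-of-unity values on `2`-singular elements: the `S₄` case, a linear character faithful on
the centre (helper82)
-/

set_option autoImplicit false

namespace Cfsg.Agent.Helper82.RootUnity

open Cfsg Cfsg.Agent.Helper15
open scoped ComplexConjugate

universe u

variable {G : Type u} [Group G] [Finite G]

theorem exists_linear_faithful_center (N : Subgroup G) [hN : N.Normal] (hcard : Nat.card N = 4)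
    (χ : IrrCharacter G) (hfaith : ∀ g : G, (χ : G → ℂ) g = (χ : G → ℂ) 1 → g = 1)
    (hdeg : (χ : G → ℂ) 1 = 3) (hneg : ∀ x ∈ N, x ≠ 1 → (χ : G → ℂ) x = -1)
    (hcent : Subgroup.centralizer (N : Set G) = N ⊔ Subgroup.center G)
    (hodd : Odd (Nat.card (Subgroup.center G))) :
    ∃ ν : G → ℂ, IsCharacter G ν ∧ ν 1 = 1 ∧ ∀ z ∈ Subgroup.center G, ν z ^ 8 = 1 → z = 1 := by
  classical
  haveI : Fintype G := Fintype.ofFinite G
  haveI : Fintype N := Fintype.ofFinite N
  letI := Helper74.irrFintype G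
  letI := Helper74.irrFintype N
  have hχc := Helper74.irr_isCharacter χ
  set Φ : G → ℂ := (χ : G → ℂ) * (χ : G → ℂ) with hΦdef
  have hΦ : IsCharacter G Φ := Helper74.isCharacter_mul hχc hχc
  have hΦapp : ∀ g, Φ g = (χ : G → ℂ) g * (χ : G → ℂ) g := fun g => rfl
  choose b hb using fun ψ : IrrCharacter G => Helper74.isCharacter_inner_irr_nat hΦ ψ
  have hdec : Φ = ∑ ψ : IrrCharacter G, (b ψ : ℂ) • (ψ : G → ℂ) := by
    conv_lhs => rw [Helper74.isCharacter_eq_sum_irr hΦ]
    exact Finset.sum_congr rfl (fun ψ _ => by rw [hb ψ])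
  choose kk hkk using fun ψ : IrrCharacter G => Helper74.isCharacter_inner_irr_nat
    (Helper74.isCharacter_restrict N (Helper74.irr_isCharacter ψ)) (Helper79.principalIrr N)
  have hprin : ∀ x : N, ((Helper79.principalIrr N : IrrCharacter N) : N → ℂ) x = 1 := fun _ => rfl
  have hΦN : classInner (fun x : N => Φ x)
      ((Helper79.principalIrr N : IrrCharacter N) : N → ℂ) = 3 := by
    rw [Helper74.classInner_def]
    have hsum : ∑ x : N, Φ x * conj (((Helper79.principalIrr N : IrrCharacter N) : N → ℂ) x) =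
        12 := by
      rw [← Finset.add_sum_erase Finset.univ _ (Finset.mem_univ (1 : N))]
      have h1 : Φ ((1 : N) : G) *
          conj (((Helper79.principalIrr N : IrrCharacter N) : N → ℂ) 1) = 9 := by
        rw [Subgroup.coe_one, hΦapp, hdeg, hprin]
        simp
        norm_num
      have h2 : ∀ x ∈ Finset.univ.erase (1 : N), Φ (x : G) *
          conj (((Helper79.principalIrr N : IrrCharacter N) : N → ℂ) x) = 1 := by
        intro x hx
        have hx1 : x ≠ 1 := (Finset.mem_erase.1 hx).1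
        rw [hΦapp, hneg x x.2 (fun h => hx1 (Subtype.ext h)), hprin]
        simp
      rw [h1, Finset.sum_congr rfl h2, Finset.sum_const,
        Finset.card_erase_of_mem (Finset.mem_univ _), Finset.card_univ,
        ← Nat.card_eq_fintype_card, hcard]
      norm_num
    rw [hsum, hcard]
    norm_num
  have hsum3 : ∑ ψ, b ψ * kk ψ = 3 := by
    have hdecN : (fun x : N => Φ x) =
        ∑ ψ : IrrCharacter G, (b ψ : ℂ) • (fun x : N => (ψ : G → ℂ) x) := by
      funext x
      conv_lhs => rw [hdec]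
      simp only [Finset.sum_apply, Pi.smul_apply]
    have : ((∑ ψ, b ψ * kk ψ : ℕ) : ℂ) = 3 := by
      rw [← hΦN, hdecN, Helper74.classInner_sum_left]
      push_cast
      refine Finset.sum_congr rfl (fun ψ _ => ?_)
      rw [Helper74.classInner_smul_left, hkk ψ]
    exact_mod_cast this
  have hconst : ∀ ψ : IrrCharacter G, kk ψ ≠ 0 → ∀ x : N, (ψ : G → ℂ) x = (kk ψ : ℂ) := by
    intro ψ hk x
    have hkk' : classInner (fun n : N => (ψ : G → ℂ) n) (fun _ : N => (1 : ℂ)) = (kk ψ : ℂ) :=
      hkk ψ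
    have hne : classInner (fun n : N => (ψ : G → ℂ) n) (fun _ : N => (1 : ℂ)) ≠ 0 := by
      rw [hkk']
      exact_mod_cast hk
    have hcl := clifford_restrict N ψ.2 (Helper79.isIrrCharacter_one (G := N)) hne
    have horb : conjOrbit N (fun _ : N => (1 : ℂ)) = {fun _ => 1} := by
      ext φ
      rw [mem_conjOrbit, Finset.mem_singleton]
      constructor
      · rintro ⟨g, rfl⟩
        funext n
        rfl
      · intro h
        exact ⟨1, by rw [h, conjFun_one]⟩
    rw [horb, Finset.sum_singleton, hkk'] at hcl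
    have := congrFun hcl x
    simp only [Pi.smul_apply, smul_eq_mul, mul_one] at this
    exact this
  have hidx6 : (Subgroup.centralizer (N : Set G)).index ≤ 6 :=
    Nat.le_of_dvd (by norm_num) (index_centralizer_dvd_six N hcard)
  have hdle : ∀ ψ : IrrCharacter G, kk ψ ≠ 0 →
      charDegree (ψ : G → ℂ) = kk ψ ∧ kk ψ ≤ 2 := by
    intro ψ hk
    have hc := hconst ψ hk
    have hdk : charDegree (ψ : G → ℂ) = kk ψ := by
      have h1 := hc 1
      rw [Subgroup.coe_one, ← Helper74.charDegree_cast (Helper74.irr_isCharacter ψ)] at h1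
      exact_mod_cast h1
    refine ⟨hdk, ?_⟩
    have hNle : N ≤ Helper74.charCenter ψ := by
      intro x hx
      rw [Helper74.mem_charCenter_iff, hc ⟨x, hx⟩, hdk]
      simp
    have hCle : Subgroup.centralizer (N : Set G) ≤ Helper74.charCenter ψ := by
      rw [hcent]
      exact sup_le hNle (Helper74.center_le_charCenter ψ)
    have h1 := Helper74.charDegree_sq_mul_card_charCenter_le ψ
    have h2 := Subgroup.card_le_of_le hCle
    have h3 := Subgroup.card_mul_index (Subgroup.centralizer (N : Set G))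
    have hCpos : 0 < Nat.card (Subgroup.centralizer (N : Set G)) := Nat.card_pos
    rw [hdk] at h1
    by_contra hcon
    push Not at hcon
    have h9 : 9 ≤ kk ψ ^ 2 := by nlinarith
    have h5 : 9 * Nat.card (Subgroup.centralizer (N : Set G)) ≤
        kk ψ ^ 2 * Nat.card (Helper74.charCenter ψ) := Nat.mul_le_mul h9 h2
    have h6 : Nat.card G ≤ Nat.card (Subgroup.centralizer (N : Set G)) * 6 := by
      rw [← h3]
      exact Nat.mul_le_mul_left _ hidx6
    omega
  obtain ⟨ν, hbν, hkν, hk1⟩ : ∃ ν : IrrCharacter G, b ν ≠ 0 ∧ kk ν ≠ 0 ∧ kk ν = 1 := by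
    by_contra hcon
    push Not at hcon
    have h2 : 2 ∣ ∑ ψ, b ψ * kk ψ := by
      apply Finset.dvd_sum
      intro ψ _
      by_cases hbψ : b ψ = 0
      · rw [hbψ, zero_mul]; exact dvd_zero _
      by_cases hkψ : kk ψ = 0
      · rw [hkψ, mul_zero]; exact dvd_zero _
      have h1 := hcon ψ hbψ hkψ
      have h2 := (hdle ψ hkψ).2
      have h3 : 1 ≤ kk ψ := Nat.pos_of_ne_zero hkψ
      have : kk ψ = 2 := by omega
      rw [this]
      exact Dvd.intro_left _ rfl
    rw [hsum3] at h2
    omega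
  have hνc : IsCharacter G (ν : G → ℂ) := Helper74.irr_isCharacter ν
  have hν1 : (ν : G → ℂ) 1 = 1 := by
    rw [← Helper74.charDegree_cast hνc, (hdle ν hkν).1, hk1]
    simp
  refine ⟨(ν : G → ℂ), hνc, hν1, ?_⟩
  intro z hz hz8
  obtain ⟨c, hc⟩ := Helper76.irr_exists_central_scalar χ.2 z hz
  -- `c ^ 2 * conj (ν z) = 1`
  have hinner : classInner Φ (ν : G → ℂ) ≠ 0 := by
    rw [hb ν]
    exact_mod_cast hbν
  rw [Helper74.classInner_def] at hinner
  have hS0 : ∑ g : G, Φ g * conj ((ν : G → ℂ) g) ≠ 0 := by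
    intro h0
    apply hinner
    rw [h0, mul_zero]
  have hshift : ∑ g : G, Φ g * conj ((ν : G → ℂ) g) =
      (c ^ 2 * conj ((ν : G → ℂ) z)) * ∑ g : G, Φ g * conj ((ν : G → ℂ) g) := by
    rw [Finset.mul_sum]
    rw [← Fintype.sum_equiv (Equiv.mulLeft z) (fun g => Φ (z * g) * conj ((ν : G → ℂ) (z * g)))
      (fun g => Φ g * conj ((ν : G → ℂ) g)) (fun g => rfl)]
    refine Finset.sum_congr rfl (fun g _ => ?_)
    rw [hΦapp, hΦapp, hc g, linChar_mul hνc hν1, map_mul]
    ring
  have hc2 : c ^ 2 * conj ((ν : G → ℂ) z) = 1 := by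
    have h1 : (c ^ 2 * conj ((ν : G → ℂ) z) - 1) * ∑ g : G, Φ g * conj ((ν : G → ℂ) g) = 0 := by
      rw [sub_mul, one_mul, ← hshift, sub_self]
    rcases mul_eq_zero.1 h1 with h | h
    · exact sub_eq_zero.1 h
    · exact absurd h hS0
  have hνz : (ν : G → ℂ) z * conj ((ν : G → ℂ) z) = 1 := by
    rw [Helper74.mul_conj_eq_norm_sq, linChar_norm hνc hν1 z]
    simp
  have hνc2 : (ν : G → ℂ) z = c ^ 2 := by
    calc (ν : G → ℂ) z = (ν : G → ℂ) z * (c ^ 2 * conj ((ν : G → ℂ) z)) := by rw [hc2, mul_one]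
      _ = c ^ 2 * ((ν : G → ℂ) z * conj ((ν : G → ℂ) z)) := by ring
      _ = c ^ 2 := by rw [hνz, mul_one]
  have hc16 : c ^ 16 = 1 := by
    have : c ^ 16 = (c ^ 2) ^ 8 := by ring
    rw [this, ← hνc2, hz8]
  have hpow : ∀ (k : ℕ) (g : G), (χ : G → ℂ) (z ^ k * g) = c ^ k * (χ : G → ℂ) g := by
    intro k
    induction k with
    | zero => intro g; simp
    | succ k ih =>
      intro g
      rw [pow_succ, mul_assoc, ih, hc g, pow_succ]
      ring
  have hcm : c ^ orderOf z = 1 := by
    have h1 := hpow (orderOf z) 1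
    rw [pow_orderOf_eq_one, mul_one, hdeg] at h1
    have h3 : (3 : ℂ) ≠ 0 := by norm_num
    have : (c ^ orderOf z - 1) * 3 = 0 := by rw [sub_mul, ← h1]; ring
    rcases mul_eq_zero.1 this with h | h
    · exact sub_eq_zero.1 h
    · exact absurd h h3
  have hmodd : Odd (orderOf z) := by
    have h1 : orderOf z ∣ Nat.card (Subgroup.center G) := by
      have : orderOf (⟨z, hz⟩ : Subgroup.center G) = orderOf z := Subgroup.orderOf_mk z hz
      rw [← this]
      exact orderOf_dvd_natCard _
    exact Odd.of_dvd_nat hodd h1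
  have hcop : Nat.Coprime 16 (orderOf z) := by
    have : Nat.Coprime 2 (orderOf z) := Nat.coprime_two_left.2 hmodd
    exact Nat.Coprime.pow_left 4 this
  have hc1 : c = 1 := by
    have := pow_gcd_eq_one.2 ⟨hc16, hcm⟩
    rw [hcop.gcd_eq_one, pow_one] at this
    exact this
  apply hfaith
  have := hc 1
  rw [mul_one, hc1, one_mul] at this
  exact this

end Cfsg.Agent.Helper82.RootUnity
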