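import Mathlib
import Cfsg.Prelude.Def_Blocks
import Cfsg.Agent.Helper82.RootUnityG

/-!
# Root-of-unity values on `2`-singular elements: the `S₄` complement (helper82)
-/

set_option autoImplicit false

namespace Cfsg.Agent.Helper82.RootUnity

open Cfsg Cfsg.Agent.Helper15
open scoped ComplexConjugate

universe u

variable {G : Type u} [Group G] [Finite G]

theorem exists_S4_complement (N : Subgroup G) [hN : N.Normal] (hcard : Nat.card N = 4)
    (S : Sylow 2 G) (hNS : N ≤ (S : Subgroup G)) (hS : Nat.card (S : Subgroup G) = 8)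
    (hmax : ∀ M : Subgroup G, M.Normal → IsPGroup 2 M → M ≤ N)
    (hcent : Subgroup.centralizer (N : Set G) = N ⊔ Subgroup.center G)
    {ν : G → ℂ} (hνc : IsCharacter G ν) (hν1 : ν 1 = 1)
    (hνZ : ∀ z ∈ Subgroup.center G, ν z ^ 8 = 1 → z = 1) :
    ∃ H : Subgroup G, Nonempty (↥H ≃* Equiv.Perm (Fin 4)) ∧ H ⊓ Subgroup.center G = ⊥ ∧
      H ⊔ Subgroup.center G = ⊤ := by
  classical
  set Z := Subgroup.center G with hZ
  set C := Subgroup.centralizer (N : Set G) with hC
  -- the subgroup `H`
  let H : Subgroup G :=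
    { carrier := {g | ν g ^ 8 = 1}
      one_mem' := by simp [hν1]
      mul_mem' := by
        intro a b ha hb
        simp only [Set.mem_setOf_eq] at *
        rw [linChar_mul hνc hν1, mul_pow, ha, hb, one_mul]
      inv_mem' := by
        intro a ha
        simp only [Set.mem_setOf_eq] at *
        rw [linChar_inv hνc hν1, inv_pow, ha, inv_one] }
  have hHmem : ∀ g : G, g ∈ H ↔ ν g ^ 8 = 1 := fun g => Iff.rfl
  haveI hHn : H.Normal := by
    constructor
    intro a ha g
    rw [hHmem] at *
    rw [linChar_conj hνc hν1]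
    exact ha
  have hpow8 : ∀ g : G, g ^ 8 = 1 → g ∈ H := by
    intro g hg
    rw [hHmem, ← linChar_pow hνc hν1, hg, hν1]
  have hS8 : ∀ s ∈ (S : Subgroup G), s ^ 8 = 1 := by
    intro s hs
    have := pow_card_eq_one' (G := (S : Subgroup G)) (x := ⟨s, hs⟩)
    rw [hS] at this
    have h2 := congrArg Subtype.val this
    simpa using h2
  have hSH : (S : Subgroup G) ≤ H := fun s hs => hpow8 s (hS8 s hs)
  have hNH : N ≤ H := hNS.trans hSH
  have hHZ : H ⊓ Z = ⊥ := by
    rw [eq_bot_iff]
    intro z hz
    rw [Subgroup.mem_bot]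
    exact hνZ z hz.2 ((hHmem z).1 hz.1)
  have hZ8 : ∀ z ∈ Z, z ^ 8 = 1 → z = 1 := by
    intro z hz h8
    have : z ∈ H ⊓ Z := ⟨hpow8 z h8, hz⟩
    rw [hHZ, Subgroup.mem_bot] at this
    exact this
  -- `S` is not normal
  have hSnn : ¬ (S : Subgroup G).Normal := by
    intro hn
    have := Subgroup.card_le_of_le (hmax _ hn S.2)
    omega
  -- decomposition of elements of `C`
  have hCdec : ∀ a ∈ C, ∃ x ∈ N, ∃ z ∈ Z, x * z = a := by
    intro a ha
    rw [hcent] at ha
    have h' : a ∈ ((N ⊔ Z : Subgroup G) : Set G) := ha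
    rw [Subgroup.mul_normal] at h'
    obtain ⟨x, hx, z, hz, rfl⟩ := Set.mem_mul.1 h'
    exact ⟨x, hx, z, hz, rfl⟩
  have hNC : N ≤ C := by rw [hcent]; exact le_sup_left
  have hZC : Z ≤ C := by rw [hcent]; exact le_sup_right
  -- an element of `S` outside `C`
  obtain ⟨y, hyS, hyN⟩ : ∃ y ∈ (S : Subgroup G), y ∉ N := by
    by_contra hcon
    push Not at hcon
    have := Subgroup.card_le_of_le (show (S : Subgroup G) ≤ N from hcon)
    omega
  have hyC : y ∉ C := by
    intro hy
    obtain ⟨x, hx, z, hz, hxz⟩ := hCdec y hy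
    have hzS : z ∈ (S : Subgroup G) := by
      have : z = x⁻¹ * y := by rw [← hxz]; group
      rw [this]
      exact (S : Subgroup G).mul_mem ((S : Subgroup G).inv_mem (hNS hx)) hyS
    have hz1 := hZ8 z hz (hS8 z hzS)
    rw [hz1, mul_one] at hxz
    exact hyN (hxz ▸ hx)
  -- `A = H ⊔ C` is everything
  set A := H ⊔ C with hA
  have hCA : C ≤ A := le_sup_right
  have hHA : H ≤ A := le_sup_left
  haveI hCn : C.Normal := Subgroup.normal_centralizer
  haveI hAn : A.Normal := Subgroup.sup_normal H C
  have hyA : y ∈ A := hHA (hSH hyS)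
  set r := C.relIndex A with hr
  have hr6 : r * A.index = C.index := Subgroup.relIndex_mul_index hCA
  have hC6 : C.index ∣ 6 := index_centralizer_dvd_six N hcard
  have hrdvd : r ∣ 6 := (Dvd.intro _ hr6).trans hC6
  haveI hCAn : (C.subgroupOf A).Normal := Subgroup.Normal.subgroupOf hCn A
  have hyr : y ^ r ∈ C := by
    have h1 : ((⟨y, hyA⟩ : A) : A ⧸ C.subgroupOf A) ^ r = 1 := by
      have : r = Nat.card (A ⧸ C.subgroupOf A) := rfl
      rw [this]
      exact pow_card_eq_one'
    rw [← QuotientGroup.mk_pow, QuotientGroup.eq_one_iff, Subgroup.mem_subgroupOf] at h1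
    simpa using h1
  have hy8 : y ^ 8 = 1 := hS8 y hyS
  have hr26 : r = 2 ∨ r = 6 := by
    have hle : r ≤ 6 := Nat.le_of_dvd (by norm_num) hrdvd
    have hpos : 0 < r := Nat.pos_of_dvd_of_pos hrdvd (by norm_num)
    interval_cases r
    · exfalso; apply hyC; simpa using hyr
    · left; rfl
    · exfalso
      apply hyC
      have : y = (y ^ 3) ^ 3 * (y ^ 8)⁻¹ := by group
      rw [this, hy8, inv_one, mul_one]
      exact C.pow_mem hyr 3
    · omega
    · omega
    · right; rfl
  have hr6' : r = 6 := by
    rcases hr26 with h2 | h6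
    · exfalso
      apply hSnn
      -- every element of `A` of order dividing `8` lies in `S`
      have hidx2 : (C.subgroupOf A).index = 2 := h2
      have hkey : ∀ a ∈ A, a ^ 8 = 1 → a ∈ (S : Subgroup G) := by
        intro a haA ha8
        obtain ⟨s', hs', z, hz, hsz⟩ : ∃ s' ∈ (S : Subgroup G), ∃ z ∈ Z, s' * z = a := by
          by_cases haC : a ∈ C
          · obtain ⟨x, hx, z, hz, hxz⟩ := hCdec a haC
            exact ⟨x, hNS hx, z, hz, hxz⟩
          · have h1 : (⟨y, hyA⟩ : A)⁻¹ * ⟨a, haA⟩ ∈ C.subgroupOf A := by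
              rw [Subgroup.mul_mem_iff_of_index_two hidx2]
              constructor
              · intro h
                exfalso
                apply hyC
                have := (C.subgroupOf A).inv_mem h
                rw [inv_inv, Subgroup.mem_subgroupOf] at this
                exact this
              · intro h
                exfalso
                apply haC
                rw [Subgroup.mem_subgroupOf] at h
                exact h
            rw [Subgroup.mem_subgroupOf] at h1
            have h1' : y⁻¹ * a ∈ C := by simpa using h1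
            obtain ⟨x, hx, z, hz, hxz⟩ := hCdec _ h1'
            refine ⟨y * x, (S : Subgroup G).mul_mem hyS (hNS hx), z, hz, ?_⟩
            rw [mul_assoc, hxz]
            group
        have hcomm : Commute s' z := Subgroup.mem_center_iff.1 hz s'
        have hz8 : z ^ 8 = 1 := by
          have := hcomm.mul_pow 8
          rw [hsz, ha8, hS8 s' hs', one_mul] at this
          exact this.symm
        have hz1 := hZ8 z hz hz8
        rw [hz1, mul_one] at hsz
        exact hsz ▸ hs'
      constructor
      intro s hs g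
      apply hkey
      · exact hAn.conj_mem s (hHA (hSH hs)) g
      · rw [conj_pow, hS8 s hs, mul_one, mul_inv_cancel]
    · exact h6
  have hAtop : A = ⊤ := by
    rw [← Subgroup.index_eq_one]
    rw [hr6'] at hr6
    have hle : C.index ≤ 6 := Nat.le_of_dvd (by norm_num) hC6
    have hpos : 0 < A.index := Nat.pos_of_ne_zero (Subgroup.index_ne_zero_of_finite)
    nlinarith
  have hHZtop : H ⊔ Z = ⊤ := by
    rw [← hAtop, hA, hcent, ← sup_assoc, sup_eq_left.2 hNH]
  -- `H ≅ S₄`
  have hnot2 : ¬ IsPGroup 2 H := by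
    intro h
    have := Subgroup.card_le_of_le (hSH.trans (hmax H hHn h))
    omega
  let V : Subgroup H := N.subgroupOf H
  haveI hVn : V.Normal := Subgroup.Normal.subgroupOf hN H
  have hVcard : Nat.card V = 4 := by
    rw [← hcard]
    exact Nat.card_congr (Subgroup.subgroupOfEquivOfLe hNH).toEquiv
  have hVC : Subgroup.centralizer (V : Set H) ≤ V := by
    intro h hh
    rw [Subgroup.mem_centralizer_iff] at hh
    have hhC : (h : G) ∈ C := by
      rw [hC, Subgroup.mem_centralizer_iff]
      intro x hx
      have := hh ⟨x, hNH hx⟩ (by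
        show (⟨x, hNH hx⟩ : H) ∈ N.subgroupOf H
        rw [Subgroup.mem_subgroupOf]
        exact hx)
      exact congrArg Subtype.val this
    obtain ⟨x, hx, z, hz, hxz⟩ := hCdec _ hhC
    have hzH : z ∈ H := by
      have : z = x⁻¹ * (h : G) := by rw [← hxz]; group
      rw [this]
      exact H.mul_mem (H.inv_mem (hNH hx)) h.2
    have hz1 : z = 1 := by
      have : z ∈ H ⊓ Z := ⟨hzH, hz⟩
      rw [hHZ, Subgroup.mem_bot] at this
      exact this
    rw [hz1, mul_one] at hxz
    show h ∈ N.subgroupOf H
    rw [Subgroup.mem_subgroupOf, ← hxz]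
    exact hx
  obtain ⟨f, hf⟩ := Helper71.exists_injective_perm_of_normal_four V hVcard hVC hnot2
  have hperm : Nat.card (Equiv.Perm (Fin 4)) = 24 := by
    rw [Nat.card_perm, Nat.card_fin]
    rfl
  have hcardH : Nat.card H = 24 := by
    have h1 : Nat.card H ∣ 24 := by
      have h2 : Nat.card H = Nat.card f.range :=
        Nat.card_congr (MonoidHom.ofInjective hf).toEquiv
      rw [h2]
      have h3 := Subgroup.card_subgroup_dvd_card f.range
      rw [hperm] at h3
      exact h3
    have h2 : 8 ∣ Nat.card H := by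
      rw [← hS]
      exact Subgroup.card_dvd_of_le hSH
    have hle : Nat.card H ≤ 24 := Nat.le_of_dvd (by norm_num) h1
    obtain ⟨t, ht⟩ := h2
    have ht3 : t ≤ 3 := by omega
    have htpos : 0 < t := by
      rcases Nat.eq_zero_or_pos t with h | h
      · rw [h, mul_zero] at ht
        have := Nat.card_pos (α := H)
        omega
      · exact h
    interval_cases t
    · exfalso
      apply hnot2
      exact IsPGroup.of_card (n := 3) (by rw [ht]; norm_num)
    · exfalso
      rw [ht] at h1
      norm_num at h1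
    · rw [ht]
  have hbij : Function.Bijective f := by
    apply hf.bijective_of_nat_card_le
    rw [hcardH, hperm]
  exact ⟨H, ⟨MulEquiv.ofBijective f hbij⟩, hHZ, hHZtop⟩

end Cfsg.Agent.Helper82.RootUnity
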