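import Mathlib
import Cfsg.Agent.Helper34.NoSimple3960
import Cfsg.Agent.Helper82.Kill126B

/-!
# S2490, piece (S-Z) of WANTED #4202: `simple_of_normal_3960`

A group of order `7920` in which every proper nontrivial normal subgroup has order `3960` is simple.
-/

set_option autoImplicit false
set_option linter.style.haveILetI false
set_option linter.unusedVariables false
set_option maxHeartbeats 800000

namespace Cfsg.Agent.Helper82.S2490

open Subgroup
open scoped Pointwise

theorem simple_of_normal_3960 {G : Type*} [Group G] [Finite G] (hG : Nat.card G = 7920)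
    (h : ∀ N : Subgroup G, N.Normal → N ≠ ⊥ → N ≠ ⊤ → Nat.card N = 3960) : IsSimpleGroup G := by
  classical
  have hnt : Nontrivial G := by
    rw [← Finite.one_lt_card_iff_nontrivial, hG]; norm_num
  by_contra hsimple
  obtain ⟨N, hNn, hNbot, hNtop⟩ : ∃ N : Subgroup G, N.Normal ∧ N ≠ ⊥ ∧ N ≠ ⊤ := by
    by_contra hcon
    push Not at hcon
    apply hsimple
    exact { exists_pair_ne := hnt.exists_pair_ne
            eq_bot_or_eq_top_of_normal := fun N hN => by
              by_contra h'; push Not at h'; exact h'.2 (hcon N hN h'.1) }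
  have hN : Nat.card N = 3960 := h N hNn hNbot hNtop
  have hidx2 : N.index = 2 := by
    have := N.card_mul_index
    rw [hN, hG] at this
    omega
  -- `↥N` is not simple
  have hNnt : Nontrivial N := by
    rw [← Finite.one_lt_card_iff_nontrivial, hN]; norm_num
  have hNns : ¬ IsSimpleGroup N := fun hs =>
    Cfsg.Agent.Helper34.NoSimple3960.no_simple_3960 (G := N) hN
  obtain ⟨L₀, hL₀n, hL₀bot, hL₀top⟩ : ∃ L : Subgroup N, L.Normal ∧ L ≠ ⊥ ∧ L ≠ ⊤ := by
    by_contra hcon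
    push Not at hcon
    apply hNns
    exact { exists_pair_ne := hNnt.exists_pair_ne
            eq_bot_or_eq_top_of_normal := fun L hL => by
              by_contra h'; push Not at h'; exact h'.2 (hcon L hL h'.1) }
  -- `L ≤ N`, normalized by `N`
  obtain ⟨L, hLdef⟩ : ∃ L : Subgroup G, L = L₀.map N.subtype := ⟨_, rfl⟩
  have hLN : L ≤ N := by
    rw [hLdef]; intro x hx
    obtain ⟨y, -, rfl⟩ := Subgroup.mem_map.mp hx
    exact y.2
  have hLcard : Nat.card L = Nat.card L₀ := by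
    rw [hLdef, Subgroup.card_map_of_injective N.subtype_injective]
  have hLbot : L ≠ ⊥ := by
    intro hb
    apply hL₀bot
    rw [← Subgroup.card_eq_one, ← hLcard, hb, Subgroup.card_bot]
  have hLlt : Nat.card L < 3960 := by
    rw [hLcard, ← hN]
    exact lt_of_le_of_ne (Subgroup.card_le_card_group L₀)
      (fun hc => hL₀top (Subgroup.eq_top_of_card_eq L₀ hc))
  have hi : ∀ n ∈ N, ∀ l ∈ L, n * l * n⁻¹ ∈ L := by
    intro n hn l hl
    rw [hLdef] at hl ⊢
    obtain ⟨y, hy, rfl⟩ := Subgroup.mem_map.mp hl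
    exact Subgroup.mem_map.mpr ⟨⟨n, hn⟩ * y * ⟨n, hn⟩⁻¹, hL₀n.conj_mem y hy ⟨n, hn⟩, rfl⟩
  -- an element outside `N`
  obtain ⟨g, hg⟩ : ∃ g : G, g ∉ N := by
    by_contra hcon
    push Not at hcon
    exact hNtop (Subgroup.eq_top_iff' N |>.mpr hcon)
  -- index two: products of two non-members are members
  have hmul : ∀ a b : G, a ∉ N → b ∉ N → a * b ∈ N := by
    intro a b ha hb
    exact (Subgroup.mul_mem_iff_of_index_two hidx2).mpr ⟨fun h' => absurd h' ha, fun h' => absurd h' hb⟩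
  have hinv : ∀ a : G, a ∉ N → a⁻¹ ∉ N := fun a ha h' => ha (by simpa using N.inv_mem h')
  -- the conjugate `L2 = g L g⁻¹`
  obtain ⟨L2, hL2def⟩ : ∃ L2 : Subgroup G, L2 = L.map (MulAut.conj g).toMonoidHom := ⟨_, rfl⟩
  have hmemL2 : ∀ y : G, y ∈ L2 ↔ g⁻¹ * y * g ∈ L := by
    intro y
    rw [hL2def, Subgroup.mem_map_equiv]
    simp [MulAut.conj_symm_apply]
  have hL2card : Nat.card L2 = Nat.card L := by
    rw [hL2def]
    exact Subgroup.card_map_of_injective (MulAut.conj g).injective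
  have hL2N : L2 ≤ N := by
    intro y hy
    have h1 := hLN ((hmemL2 y).mp hy)
    have h2 := hNn.conj_mem _ h1 g
    have e : g * (g⁻¹ * y * g) * g⁻¹ = y := by group
    rwa [e] at h2
  have hii : ∀ x : G, x ∉ N → ∀ l ∈ L, x * l * x⁻¹ ∈ L2 := by
    intro x hx l hl
    rw [hmemL2]
    have h1 : g⁻¹ * x ∈ N := hmul _ _ (hinv g hg) hx
    have h2 := hi _ h1 l hl
    have e : g⁻¹ * x * l * (g⁻¹ * x)⁻¹ = g⁻¹ * (x * l * x⁻¹) * g := by group
    rwa [e] at h2
  have hiii : ∀ n ∈ N, ∀ y ∈ L2, n * y * n⁻¹ ∈ L2 := by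
    intro n hn y hy
    rw [hmemL2] at hy ⊢
    have h1 : g⁻¹ * n * g⁻¹⁻¹ ∈ N := hNn.conj_mem n hn g⁻¹
    have h2 := hi _ h1 _ hy
    have e : g⁻¹ * n * g⁻¹⁻¹ * (g⁻¹ * y * g) * (g⁻¹ * n * g⁻¹⁻¹)⁻¹ = g⁻¹ * (n * y * n⁻¹) * g := by
      group
    rwa [e] at h2
  have hiv : ∀ x : G, x ∉ N → ∀ y ∈ L2, x * y * x⁻¹ ∈ L := by
    intro x hx y hy
    rw [hmemL2] at hy
    have h1 : x * g ∈ N := hmul _ _ hx hg
    have h2 := hi _ h1 _ hy
    have e : x * g * (g⁻¹ * y * g) * (x * g)⁻¹ = x * y * x⁻¹ := by group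
    rwa [e] at h2
  -- `D = L ⊓ L2` and `J = L ⊔ L2` are normal in `G`
  have hDn : (L ⊓ L2).Normal := by
    refine ⟨fun a ha x => ?_⟩
    by_cases hx : x ∈ N
    · exact ⟨hi x hx a ha.1, hiii x hx a ha.2⟩
    · exact ⟨hiv x hx a ha.2, hii x hx a ha.1⟩
  have hJn : (L ⊔ L2).Normal := by
    refine ⟨fun a ha x => ?_⟩
    have hmap : (L ⊔ L2).map (MulAut.conj x).toMonoidHom ≤ L ⊔ L2 := by
      rw [Subgroup.map_sup]
      apply sup_le
      · rintro y ⟨l, hl, rfl⟩
        show x * l * x⁻¹ ∈ L ⊔ L2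
        by_cases hx : x ∈ N
        · exact (le_sup_left : L ≤ L ⊔ L2) (hi x hx l hl)
        · exact (le_sup_right : L2 ≤ L ⊔ L2) (hii x hx l hl)
      · rintro y ⟨l, hl, rfl⟩
        show x * l * x⁻¹ ∈ L ⊔ L2
        by_cases hx : x ∈ N
        · exact (le_sup_right : L2 ≤ L ⊔ L2) (hiii x hx l hl)
        · exact (le_sup_left : L ≤ L ⊔ L2) (hiv x hx l hl)
    exact hmap (Subgroup.mem_map.mpr ⟨a, ha, rfl⟩)
  -- `D = ⊥`
  have hD : L ⊓ L2 = ⊥ := by
    by_contra hDbot
    have hDtop : L ⊓ L2 ≠ ⊤ := by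
      intro ht
      apply hNtop
      rw [eq_top_iff, ← ht]
      exact inf_le_left.trans hLN
    have h1 := h _ hDn hDbot hDtop
    have h2 : Nat.card (L ⊓ L2 : Subgroup G) ≤ Nat.card L := Subgroup.card_le_of_le inf_le_left
    omega
  -- `|J| = 3960`
  have hJ : Nat.card (L ⊔ L2 : Subgroup G) = 3960 := by
    apply h _ hJn
    · intro hb
      apply hLbot
      rw [eq_bot_iff, ← hb]
      exact le_sup_left
    · intro ht
      apply hNtop
      rw [eq_top_iff, ← ht]
      exact sup_le hLN hL2N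
  -- `|J| ≤ |L| |L2|`
  have hL2norm : L2 ≤ normalizer (L : Set G) := by
    intro y hy
    rw [Subgroup.mem_normalizer_iff]
    intro l
    constructor
    · intro hl
      exact hi y (hL2N hy) l hl
    · intro hl
      have h1 := hi y⁻¹ (N.inv_mem (hL2N hy)) _ hl
      have e : y⁻¹ * (y * l * y⁻¹) * y⁻¹⁻¹ = l := by group
      rwa [e] at h1
  have hJle : Nat.card (L ⊔ L2 : Subgroup G) ≤ Nat.card L * Nat.card L2 := by
    have hset : ((L2 ⊔ L : Subgroup G) : Set G) = (L2 : Set G) * (L : Set G) :=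
      Subgroup.coe_mul_of_left_le_normalizer_right L2 L hL2norm
    have h1 : Nat.card (L ⊔ L2 : Subgroup G) = Nat.card ((L2 : Set G) * (L : Set G) : Set G) := by
      rw [← hset, sup_comm]; rfl
    rw [h1, mul_comm]
    exact Set.natCard_mul_le
  -- `|L| |L2| ≤ |N| |D|`
  have hle := Cfsg.Agent.Helper82.Kill126B.card_mul_card_le hLN hL2N
  rw [hD, Subgroup.card_bot, hN, hL2card] at hle
  rw [hJ, hL2card] at hJle
  -- `|L|² = 3960` is impossible
  have hsq : Nat.card L * Nat.card L = 3960 := by omega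
  generalize Nat.card L = c at hsq hLlt
  have hc : c ≤ 63 := by
    by_contra hc
    push Not at hc
    have : 64 * 64 ≤ c * c := Nat.mul_le_mul (by omega) (by omega)
    omega
  interval_cases c <;> omega

end Cfsg.Agent.Helper82.S2490
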