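import Mathlib

set_option autoImplicit false

/-!
# Self-dual modules: symplectic + orthogonal decomposition (helper82)
-/

namespace Cfsg.Agent.Helper82

open Module

section basic

variable {F : Type*} [Field F] {G : Type*} [Group G]
variable {W : Type*} [AddCommGroup W] [Module F W]

/-- A bilinear form is invariant under a representation. -/
def FormInv (ρ : Representation F G W) (B : LinearMap.BilinForm F W) : Prop :=
  ∀ g x y, B (ρ g x) (ρ g y) = B x y

/-- No nonzero fixed vectors. -/
def NoFixed (ρ : Representation F G W) : Prop := ∀ x, (∀ g, ρ g x = x) → x = 0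

/-- Invariant subspace. -/
def SubInv (ρ : Representation F G W) (M : Submodule F W) : Prop := ∀ g, ∀ x ∈ M, ρ g x ∈ M

/-- Restriction of a representation to an invariant subspace. -/
def resRep (ρ : Representation F G W) (M : Submodule F W) (h : SubInv ρ M) :
    Representation F G ↥M :=
  (Subrepresentation.mk M (fun g _ hv => h g _ hv)).toRepresentation

@[simp]
theorem resRep_coe (ρ : Representation F G W) (M : Submodule F W) (h : SubInv ρ M) (g : G)
    (x : ↥M) : ((resRep ρ M h g x : ↥M) : W) = ρ g x := rfl

theorem FormInv.apply_left {ρ : Representation F G W} {B : LinearMap.BilinForm F W}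
    (h : FormInv ρ B) (g : G) (x y : W) : B (ρ g x) y = B x (ρ g⁻¹ y) := by
  have := h g x (ρ g⁻¹ y)
  rw [← Module.End.mul_apply, ← map_mul, mul_inv_cancel, map_one, Module.End.one_apply] at this
  exact this

theorem FormInv.apply_right {ρ : Representation F G W} {B : LinearMap.BilinForm F W}
    (h : FormInv ρ B) (g : G) (x y : W) : B x (ρ g y) = B (ρ g⁻¹ x) y := by
  rw [h.apply_left, inv_inv]

theorem noFixed_resRep {ρ : Representation F G W} (hρ : NoFixed ρ) (M : Submodule F W)
    (h : SubInv ρ M) : NoFixed (resRep ρ M h) := by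
  intro x hx
  apply Subtype.ext
  apply hρ
  intro g
  exact congrArg Subtype.val (hx g)

theorem formInv_restrict {ρ : Representation F G W} {B : LinearMap.BilinForm F W}
    (hB : FormInv ρ B) (M : Submodule F W) (h : SubInv ρ M) :
    FormInv (resRep ρ M h) (B.restrict M) := by
  intro g x y
  exact hB g x y

/-- left orthogonal complement -/
def leftPerp (B : LinearMap.BilinForm F W) (N : Submodule F W) : Submodule F W :=
  B.flip.orthogonal N

theorem mem_leftPerp {B : LinearMap.BilinForm F W} {N : Submodule F W} {x : W} :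
    x ∈ leftPerp B N ↔ ∀ n ∈ N, B x n = 0 := by
  unfold leftPerp
  rw [LinearMap.BilinForm.mem_orthogonal_iff]
  rfl

theorem subInv_leftPerp {ρ : Representation F G W} {B : LinearMap.BilinForm F W}
    (hB : FormInv ρ B) {N : Submodule F W} (hN : SubInv ρ N) : SubInv ρ (leftPerp B N) := by
  intro g x hx
  rw [mem_leftPerp] at hx ⊢
  intro n hn
  rw [hB.apply_left]
  exact hx _ (hN g⁻¹ n hn)

theorem finrank_leftPerp [FiniteDimensional F W] {B : LinearMap.BilinForm F W}
    (hB : B.Nondegenerate) (N : Submodule F W) :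
    finrank F (leftPerp B N) = finrank F W - finrank F N :=
  LinearMap.BilinForm.finrank_orthogonal hB.flip N

end basic

end Cfsg.Agent.Helper82

namespace Cfsg.Agent.Helper82

open Module

section sym

variable {F : Type*} [Field F] [CharP F 2] {G : Type*} [Group G] [Finite G]
variable {W : Type*} [AddCommGroup W] [Module F W]

/-- In characteristic 2, a symmetric invariant form on a module with no fixed vectors
(and `|G|` invertible) is alternating. -/
theorem sym_isAlt [NeZero (Nat.card G : F)] (ρ : Representation F G W)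
    (B : LinearMap.BilinForm F W)
    (hρ : NoFixed ρ) (hB : FormInv ρ B) (hsym : ∀ x y, B x y = B y x) : ∀ x, B x x = 0 := by
  classical
  have : Fintype G := Fintype.ofFinite G
  -- q x = B x x is additive
  have hadd : ∀ x y, B (x + y) (x + y) = B x x + B y y := by
    intro x y
    simp only [map_add, LinearMap.add_apply]
    rw [hsym y x]
    have : B x y + B x y = 0 := CharTwo.add_self_eq_zero _
    linear_combination this
  by_contra hcon
  push Not at hcon
  obtain ⟨x0, hx0⟩ := hcon
  -- the fixed vector
  let y : W := ∑ g : G, ρ g x0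
  have hyfix : ∀ g, ρ g y = y := by
    intro g
    show ρ g (∑ h : G, ρ h x0) = ∑ h : G, ρ h x0
    rw [map_sum]
    refine Fintype.sum_equiv (Equiv.mulLeft g) _ _ (fun h => ?_)
    rw [Equiv.coe_mulLeft, map_mul, Module.End.mul_apply]
  have hy0 : y = 0 := hρ y hyfix
  -- compute q y via additivity
  have hsumq : ∀ (s : Finset G), B (∑ g ∈ s, ρ g x0) (∑ g ∈ s, ρ g x0) = s.card • B x0 x0 := by
    intro s
    induction s using Finset.induction_on with
    | empty => simp
    | insert a s ha ih =>
      rw [Finset.sum_insert ha, hadd, ih, hB a x0 x0, Finset.card_insert_of_notMem ha,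
        add_smul, one_smul, add_comm]
  have := hsumq Finset.univ
  change B y y = _ at this
  rw [hy0, map_zero, Finset.card_univ, nsmul_eq_mul,
    Fintype.card_eq_nat_card] at this
  rcases mul_eq_zero.1 this.symm with h | h
  · exact NeZero.ne _ h
  · exact hx0 h

end sym

end Cfsg.Agent.Helper82

namespace Cfsg.Agent.Helper82

open Module

section maschke

variable {F : Type*} [Field F] {G : Type*} [Group G] [Finite G] [NeZero (Nat.card G : F)]
variable {W : Type*} [AddCommGroup W] [Module F W]

open scoped MonoidAlgebra in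
/-- Maschke: invariant subspaces have invariant complements. -/
theorem maschke_compl (ρ : Representation F G W) (M : Submodule F W) (hM : SubInv ρ M) :
    ∃ C : Submodule F W, SubInv ρ C ∧ IsCompl M C := by
  have hss : IsSemisimpleModule F[G] ρ.asModule := inferInstance
  have hcl : ComplementedLattice (Subrepresentation ρ) :=
    (Representation.isSemisimpleRepresentation_iff_isSemisimpleModule_asModule ρ).2 hss
  obtain ⟨σ, hσ⟩ := hcl.exists_isCompl (Subrepresentation.mk M (fun g _ hv => hM g _ hv))
  refine ⟨σ.toSubmodule, fun g x hx => σ.apply_mem_toSubmodule g hx, ?_⟩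
  constructor
  · rw [disjoint_iff]
    have := congrArg Subrepresentation.toSubmodule (disjoint_iff.1 hσ.1)
    exact this
  · rw [codisjoint_iff]
    have := congrArg Subrepresentation.toSubmodule (codisjoint_iff.1 hσ.2)
    exact this

/-- relative Maschke: complement of `R` inside `M`. -/
theorem maschke_compl_rel (ρ : Representation F G W) (R M : Submodule F W) (hR : SubInv ρ R)
    (hM : SubInv ρ M) (hRM : R ≤ M) :
    ∃ C : Submodule F W, SubInv ρ C ∧ C ≤ M ∧ R ⊓ C = ⊥ ∧ R ⊔ C = M := by
  obtain ⟨C, hC, hRC⟩ := maschke_compl ρ R hR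
  refine ⟨C ⊓ M, fun g x hx => ⟨hC g x hx.1, hM g x hx.2⟩, inf_le_right, ?_, ?_⟩
  · rw [← inf_assoc, hRC.inf_eq_bot, bot_inf_eq]
  · rw [← sup_inf_assoc_of_le C hRM, hRC.sup_eq_top, top_inf_eq]

end maschke

end Cfsg.Agent.Helper82

namespace Cfsg.Agent.Helper82

open Module

section combine

variable {F : Type*} [Field F] {G : Type*} [Group G]
variable {W : Type*} [AddCommGroup W] [Module F W]

theorem projOnto_add {M1 M2 : Submodule F W} (hc : IsCompl M1 M2) (x : W) :
    ((M1.projectionOnto M2 hc x : ↥M1) : W) + ((M2.projectionOnto M1 hc.symm x : ↥M2) : W) = x := by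
  rw [Submodule.coe_projectionOnto_apply, Submodule.coe_projectionOnto_apply]
  exact Submodule.projection_add_projection_eq_self hc x

theorem proj_equivariant (ρ : Representation F G W) (M1 M2 : Submodule F W)
    (h1 : SubInv ρ M1) (h2 : SubInv ρ M2) (hc : IsCompl M1 M2) (g : G) (x : W) :
    M1.projectionOnto M2 hc (ρ g x) = resRep ρ M1 h1 g (M1.projectionOnto M2 hc x) := by
  have hx := projOnto_add hc x
  set a := M1.projectionOnto M2 hc x with ha
  set b := M2.projectionOnto M1 hc.symm x with hb
  have h3 : ρ g x = ((resRep ρ M1 h1 g a : ↥M1) : W) + ((resRep ρ M2 h2 g b : ↥M2) : W) := by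
    rw [resRep_coe, resRep_coe, ← map_add, hx]
  rw [h3, map_add, Submodule.projectionOnto_apply_left,
    Submodule.projectionOnto_apply_right, add_zero]

theorem combine_forms [FiniteDimensional F W] (ρ : Representation F G W)
    (M1 M2 : Submodule F W)
    (h1 : SubInv ρ M1) (h2 : SubInv ρ M2) (hc : IsCompl M1 M2)
    (A1 : LinearMap.BilinForm F ↥M1) (A2 : LinearMap.BilinForm F ↥M2)
    (ha1 : ∀ x, A1 x x = 0) (ha2 : ∀ x, A2 x x = 0)
    (hi1 : FormInv (resRep ρ M1 h1) A1) (hi2 : FormInv (resRep ρ M2 h2) A2)
    (hn1 : A1.SeparatingLeft) (hn2 : A2.SeparatingLeft) :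
    ∃ A : LinearMap.BilinForm F W, (∀ x, A x x = 0) ∧ FormInv ρ A ∧ A.Nondegenerate := by
  let π1 := M1.projectionOnto M2 hc
  let π2 := M2.projectionOnto M1 hc.symm
  refine ⟨A1.comp π1 π1 + A2.comp π2 π2, ?_, ?_, ?_⟩
  · intro x
    simp only [LinearMap.add_apply, LinearMap.BilinForm.comp_apply, ha1, ha2, add_zero]
  · intro g x y
    simp only [LinearMap.add_apply, LinearMap.BilinForm.comp_apply]
    rw [show π1 (ρ g x) = resRep ρ M1 h1 g (π1 x) from proj_equivariant ρ M1 M2 h1 h2 hc g x,
      show π1 (ρ g y) = resRep ρ M1 h1 g (π1 y) from proj_equivariant ρ M1 M2 h1 h2 hc g y,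
      show π2 (ρ g x) = resRep ρ M2 h2 g (π2 x) from proj_equivariant ρ M2 M1 h2 h1 hc.symm g x,
      show π2 (ρ g y) = resRep ρ M2 h2 g (π2 y) from proj_equivariant ρ M2 M1 h2 h1 hc.symm g y,
      hi1, hi2]
  · apply LinearMap.BilinForm.Nondegenerate.ofSeparatingLeft
    intro x hx
    have e1 : π1 x = 0 := by
      apply hn1
      intro m1
      have := hx (m1 : W)
      simp only [LinearMap.add_apply, LinearMap.BilinForm.comp_apply] at this
      rw [show π1 (m1 : W) = m1 from Submodule.projectionOnto_apply_left hc m1,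
        show π2 (m1 : W) = 0 from Submodule.projectionOnto_apply_right hc.symm m1,
        map_zero, add_zero] at this
      exact this
    have e2 : π2 x = 0 := by
      apply hn2
      intro m2
      have := hx (m2 : W)
      simp only [LinearMap.add_apply, LinearMap.BilinForm.comp_apply] at this
      rw [show π2 (m2 : W) = m2 from Submodule.projectionOnto_apply_left hc.symm m2,
        show π1 (m2 : W) = 0 from Submodule.projectionOnto_apply_right hc m2,
        map_zero, zero_add] at this
      exact this
    have hx' := projOnto_add hc x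
    rw [show M1.projectionOnto M2 hc x = 0 from e1,
      show M2.projectionOnto M1 hc.symm x = 0 from e2] at hx'
    simpa using hx'.symm

end combine

end Cfsg.Agent.Helper82

namespace Cfsg.Agent.Helper82

open Module

section hyp

variable {F : Type*} [Field F] [CharP F 2] {G : Type*} [Group G] [Finite G]
  [NeZero (Nat.card G : F)]
variable {W : Type*} [AddCommGroup W] [Module F W] [FiniteDimensional F W]

theorem hyperbolic_form (ρ : Representation F G W) (B : LinearMap.BilinForm F W)
    (hB : B.Nondegenerate) (hinv : FormInv ρ B) (R : Submodule F W) (hR : SubInv ρ R)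
    (hb : ∀ r ∈ R, ∀ r' ∈ R, B r r' = 0)
    (hc : finrank F W = 2 * finrank F R) :
    ∃ A : LinearMap.BilinForm F W, (∀ x, A x x = 0) ∧ FormInv ρ A ∧ A.Nondegenerate := by
  obtain ⟨C, hC, hRC⟩ := maschke_compl ρ R hR
  let π := R.projectionOnto C hRC
  let π' := C.projectionOnto R hRC.symm
  let T : LinearMap.BilinForm F W := B.comp (C.subtype ∘ₗ π') (R.subtype ∘ₗ π)
  have hT : ∀ x y, T x y = B (π' x : W) (π y : W) := fun x y => rfl
  let T' : LinearMap.BilinForm F W := B.flip.comp (R.subtype ∘ₗ π) (C.subtype ∘ₗ π')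
  have hT' : ∀ x y, T' x y = B (π' y : W) (π x : W) := fun x y => rfl
  have hperp : leftPerp B R = R := by
    symm
    apply Submodule.eq_of_le_of_finrank_eq
    · intro r hr
      rw [mem_leftPerp]
      exact fun n hn => hb r hr n hn
    · rw [finrank_leftPerp hB, hc]; omega
  refine ⟨T + T', ?_, ?_, ?_⟩
  · intro x
    simp only [LinearMap.add_apply, hT, hT']
    exact CharTwo.add_self_eq_zero _
  · intro g x y
    simp only [LinearMap.add_apply, hT, hT']
    rw [show π (ρ g x) = resRep ρ R hR g (π x) from proj_equivariant ρ R C hR hC hRC g x,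
      show π (ρ g y) = resRep ρ R hR g (π y) from proj_equivariant ρ R C hR hC hRC g y,
      show π' (ρ g x) = resRep ρ C hC g (π' x) from proj_equivariant ρ C R hC hR hRC.symm g x,
      show π' (ρ g y) = resRep ρ C hC g (π' y) from proj_equivariant ρ C R hC hR hRC.symm g y]
    simp only [resRep_coe, hinv g]
  · apply LinearMap.BilinForm.Nondegenerate.ofSeparatingLeft
    intro x hx
    have hπR : ∀ r2 : ↥R, π (r2 : W) = r2 := fun r2 => Submodule.projectionOnto_apply_left hRC r2
    have hπ'R : ∀ r2 : ↥R, π' (r2 : W) = 0 := fun r2 =>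
      Submodule.projectionOnto_apply_right hRC.symm r2
    have hπ'C : ∀ c2 : ↥C, π' (c2 : W) = c2 := fun c2 =>
      Submodule.projectionOnto_apply_left hRC.symm c2
    have hπC : ∀ c2 : ↥C, π (c2 : W) = 0 := fun c2 =>
      Submodule.projectionOnto_apply_right hRC c2
    -- step 1
    have hc0 : π' x = 0 := by
      have h1 : (π' x : W) ∈ leftPerp B R := by
        rw [mem_leftPerp]
        intro r2 hr2
        have := hx r2
        simp only [LinearMap.add_apply, hT, hT'] at this
        rw [hπR ⟨r2, hr2⟩, hπ'R ⟨r2, hr2⟩] at this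
        simpa using this
      rw [hperp] at h1
      have h2 : (π' x : W) ∈ R ⊓ C := ⟨h1, (π' x).2⟩
      rw [hRC.inf_eq_bot] at h2
      exact Subtype.ext ((Submodule.mem_bot F).1 h2)
    have hr0 : π x = 0 := by
      have h1 : ∀ z, B z (π x : W) = 0 := by
        intro z
        have hz := projOnto_add hRC z
        rw [← hz, map_add, LinearMap.add_apply, hb _ (π z).2 _ (π x).2, zero_add]
        have := hx (π' z : W)
        simp only [LinearMap.add_apply, hT, hT'] at this
        rw [hπ'C, hπC, hc0] at this
        simp only [ZeroMemClass.coe_zero, map_zero, LinearMap.zero_apply, zero_add] at this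
        exact this
      exact Subtype.ext (hB.2 _ h1)
    have := projOnto_add hRC x
    rw [show R.projectionOnto C hRC x = 0 from hr0,
      show C.projectionOnto R hRC.symm x = 0 from hc0] at this
    simpa using this.symm

end hyp

end Cfsg.Agent.Helper82

namespace Cfsg.Agent.Helper82

open Module

universe u

section main

theorem isCompl_of_disjoint_of_finrank {F : Type*} [Field F] {W : Type*} [AddCommGroup W] [Module F W]
    [FiniteDimensional F W] (M N : Submodule F W) (hdisj : M ⊓ N = ⊥)
    (hdim : finrank F M + finrank F N = finrank F W) : IsCompl M N := by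
  refine ⟨disjoint_iff.2 hdisj, codisjoint_iff.2 ?_⟩
  apply Submodule.eq_top_of_finrank_eq
  have := Submodule.finrank_sup_add_finrank_inf_eq M N
  rw [hdisj, finrank_bot, add_zero] at this
  rw [this, hdim]

variable {F : Type*} [Field F] [CharP F 2] {G : Type*} [Group G] [Finite G]
  [NeZero (Nat.card G : F)]

theorem exists_alt_form :
    ∀ (d : ℕ) (W : Type u) [AddCommGroup W] [Module F W] [FiniteDimensional F W]
      (ρ : Representation F G W) (B : LinearMap.BilinForm F W),
      finrank F W = d → NoFixed ρ → FormInv ρ B → B.Nondegenerate →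
      ∃ A : LinearMap.BilinForm F W, (∀ x, A x x = 0) ∧ FormInv ρ A ∧ A.Nondegenerate := by
  intro d
  induction d using Nat.strong_induction_on with
  | _ d ih =>
  intro W _ _ _ ρ B hd hfix hinv hB
  -- the symmetric kernel
  let K : Submodule F W := LinearMap.ker (B - B.flip)
  have hK : ∀ y, y ∈ K ↔ ∀ x, B y x = B x y := by
    intro y
    rw [LinearMap.mem_ker, LinearMap.sub_apply, sub_eq_zero]
    constructor
    · intro h x
      have := congrArg (fun f => f x) h
      simpa using this
    · intro h
      ext x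
      simpa using h x
  have hKinv : SubInv ρ K := by
    intro g y hy
    rw [hK] at hy ⊢
    intro x
    rw [hinv.apply_left, hy, hinv.apply_right]
  by_cases hK0 : K = ⊥
  · refine ⟨B + B.flip, ?_, ?_, ?_⟩
    · intro x
      simp only [LinearMap.add_apply, LinearMap.BilinForm.flip_apply]
      exact CharTwo.add_self_eq_zero _
    · intro g x y
      simp only [LinearMap.add_apply, LinearMap.BilinForm.flip_apply, hinv g]
    · apply LinearMap.BilinForm.Nondegenerate.ofSeparatingLeft
      intro x hx
      have : x ∈ K := by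
        rw [hK]
        intro y
        have := hx y
        simp only [LinearMap.add_apply, LinearMap.BilinForm.flip_apply] at this
        have h2 : B x y = - B y x := eq_neg_of_add_eq_zero_left this
        rw [h2, CharTwo.neg_eq]
      rw [hK0] at this
      exact (Submodule.mem_bot F).1 this
  by_cases hK1 : K = ⊤
  · have hsym : ∀ x y, B x y = B y x := fun x y => (hK x).1 (hK1 ▸ Submodule.mem_top) y
    exact ⟨B, sym_isAlt ρ B hfix hinv hsym, hinv, hB⟩
  -- general case
  let L : Submodule F W := leftPerp B K
  have hLinv : SubInv ρ L := subInv_leftPerp hinv hKinv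
  have hKd : finrank F K < d := hd ▸ Submodule.finrank_lt hK1
  have hKpos : 0 < finrank F K := by
    rw [pos_iff_ne_zero]
    intro h
    exact hK0 (Submodule.finrank_eq_zero.1 h)
  have hLd : finrank F L = d - finrank F K := by rw [finrank_leftPerp hB, hd]
  by_cases hR : K ⊓ L = ⊥
  · -- Case 1
    have hcompl : IsCompl K L := isCompl_of_disjoint_of_finrank K L hR (by rw [hLd, hd]; omega)
    have hsK : (B.restrict K).SeparatingLeft := by
      intro x hx
      have h1 : (x : W) ∈ K ⊓ L := by
        refine ⟨x.2, ?_⟩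
        show (x : W) ∈ leftPerp B K
        rw [mem_leftPerp]
        intro n hn
        exact hx ⟨n, hn⟩
      rw [hR] at h1
      exact Subtype.ext ((Submodule.mem_bot F).1 h1)
    have hsL : (B.restrict L).SeparatingLeft := by
      intro x hx
      apply Subtype.ext
      apply hB.1
      intro z
      have hz := projOnto_add hcompl z
      rw [← hz, map_add]
      have h1 : B (x : W) (K.projectionOnto L hcompl z : W) = 0 :=
        (mem_leftPerp.1 x.2) _ (K.projectionOnto L hcompl z).2
      have h2 : B (x : W) (L.projectionOnto K hcompl.symm z : W) = 0 :=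
        hx (L.projectionOnto K hcompl.symm z)
      rw [h1, h2, add_zero]
    obtain ⟨A1, ha1, hi1, hn1⟩ := ih (finrank F K) hKd ↥K (resRep ρ K hKinv) (B.restrict K) rfl
      (noFixed_resRep hfix K hKinv) (formInv_restrict hinv K hKinv)
      (LinearMap.BilinForm.Nondegenerate.ofSeparatingLeft hsK)
    obtain ⟨A2, ha2, hi2, hn2⟩ := ih (finrank F L) (by rw [hLd]; omega) ↥L (resRep ρ L hLinv)
      (B.restrict L) rfl
      (noFixed_resRep hfix L hLinv) (formInv_restrict hinv L hLinv)
      (LinearMap.BilinForm.Nondegenerate.ofSeparatingLeft hsL)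
    exact combine_forms ρ K L hKinv hLinv hcompl A1 A2 ha1 ha2 hi1 hi2 hn1.1 hn2.1
  · -- Case 2
    let R : Submodule F W := K ⊓ L
    have hRinv : SubInv ρ R := fun g x hx => ⟨hKinv g x hx.1, hLinv g x hx.2⟩
    have hRK : ∀ r ∈ R, ∀ x, B r x = B x r := fun r hr => (hK r).1 hr.1
    have hRR : ∀ r ∈ R, ∀ r' ∈ R, B r r' = 0 := fun r hr r' hr' =>
      (mem_leftPerp.1 hr.2) r' hr'.1
    let Rp : Submodule F W := leftPerp B R
    have hRpinv : SubInv ρ Rp := subInv_leftPerp hinv hRinv
    have hRle : R ≤ Rp := fun r hr => mem_leftPerp.2 (fun n hn => hRR r hr n hn)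
    have hRpd : finrank F Rp = d - finrank F R := by rw [finrank_leftPerp hB, hd]
    have hRpos : 0 < finrank F R := by
      rw [pos_iff_ne_zero]
      intro h
      exact hR (Submodule.finrank_eq_zero.1 h)
    have hRle' : finrank F R ≤ finrank F Rp := Submodule.finrank_mono hRle
    have hRd : finrank F R ≤ d := hd ▸ Submodule.finrank_le R
    obtain ⟨M1, hM1inv, hM1le, hRM1, hRM1sup⟩ :=
      maschke_compl_rel ρ R Rp hRinv hRpinv hRle
    have hM1d : finrank F R + finrank F M1 = finrank F Rp := by
      have := Submodule.finrank_sup_add_finrank_inf_eq R M1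
      rw [hRM1, hRM1sup, finrank_bot, add_zero] at this
      exact this.symm
    -- double perp
    have hdouble : leftPerp B Rp = R := by
      symm
      apply Submodule.eq_of_le_of_finrank_eq
      · intro r hr
        rw [mem_leftPerp]
        intro z hz
        rw [hRK r hr]
        exact (mem_leftPerp.1 hz) r hr
      · rw [finrank_leftPerp hB, hRpd, hd]; omega
    have hM1perp : ∀ x ∈ M1, (∀ y ∈ M1, B x y = 0) → x = 0 := by
      intro x hx hxy
      have h1 : x ∈ leftPerp B Rp := by
        rw [mem_leftPerp]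
        intro z hz
        rw [← hRM1sup] at hz
        obtain ⟨r, hr, m, hm, rfl⟩ := Submodule.mem_sup.1 hz
        rw [map_add, (mem_leftPerp.1 (hM1le hx)) r hr, hxy m hm, add_zero]
      rw [hdouble] at h1
      have h2 : x ∈ R ⊓ M1 := ⟨h1, hx⟩
      rw [hRM1] at h2
      exact (Submodule.mem_bot F).1 h2
    let P : Submodule F W := leftPerp B M1
    have hPinv : SubInv ρ P := subInv_leftPerp hinv hM1inv
    have hPd : finrank F P = d - finrank F M1 := by rw [finrank_leftPerp hB, hd]
    have hM1d' : finrank F M1 ≤ d := hd ▸ Submodule.finrank_le M1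
    have hcompl : IsCompl M1 P := by
      apply isCompl_of_disjoint_of_finrank
      · rw [eq_bot_iff]
        intro x hx
        rw [Submodule.mem_bot]
        exact hM1perp x hx.1 (fun y hy => (mem_leftPerp.1 hx.2) y hy)
      · rw [hPd, hd]; omega
    have hsM1 : (B.restrict M1).SeparatingLeft := by
      intro x hx
      apply Subtype.ext
      exact hM1perp x x.2 (fun y hy => hx ⟨y, hy⟩)
    have hsP : (B.restrict P).SeparatingLeft := by
      intro x hx
      apply Subtype.ext
      apply hB.1
      intro z
      have hz := projOnto_add hcompl z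
      rw [← hz, map_add]
      have h1 : B (x : W) (M1.projectionOnto P hcompl z : W) = 0 :=
        (mem_leftPerp.1 x.2) _ (M1.projectionOnto P hcompl z).2
      have h2 : B (x : W) (P.projectionOnto M1 hcompl.symm z : W) = 0 :=
        hx (P.projectionOnto M1 hcompl.symm z)
      rw [h1, h2, add_zero]
    obtain ⟨A1, ha1, hi1, hn1⟩ := ih (finrank F M1) (by omega) ↥M1 (resRep ρ M1 hM1inv)
      (B.restrict M1) rfl
      (noFixed_resRep hfix M1 hM1inv) (formInv_restrict hinv M1 hM1inv)
      (LinearMap.BilinForm.Nondegenerate.ofSeparatingLeft hsM1)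
    -- hyperbolic part
    have hRP : R ≤ P := by
      intro r hr
      rw [mem_leftPerp]
      intro m hm
      rw [hRK r hr]
      exact (mem_leftPerp.1 (hM1le hm)) r hr
    let RP : Submodule F ↥P := R.comap P.subtype
    have hRPd : finrank F RP = finrank F R := (Submodule.comapSubtypeEquivOfLe hRP).finrank_eq
    obtain ⟨A2, ha2, hi2, hn2⟩ := hyperbolic_form (resRep ρ P hPinv) (B.restrict P)
      (LinearMap.BilinForm.Nondegenerate.ofSeparatingLeft hsP) (formInv_restrict hinv P hPinv)
      RP (fun g x hx => hRinv g _ hx) (fun r hr r' hr' => hRR _ hr _ hr')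
      (by rw [hRPd, hPd]; omega)
    exact combine_forms ρ M1 P hM1inv hPinv hcompl A1 A2 ha1 ha2 hi1 hi2 hn1.1 hn2.1

end main

end Cfsg.Agent.Helper82

namespace Cfsg.Agent.Helper82

open Module

section odd

variable {F : Type*} [Field F] {G : Type*} [Group G]
variable {V : Type*} [AddCommGroup V] [Module F V] [FiniteDimensional F V]

theorem selfdual_odd (h2 : (2 : F) ≠ 0)
    (ρ : Representation F G V) (B : LinearMap.BilinForm F V) (hB : B.Nondegenerate)
    (hinv : FormInv ρ B) :
    ∃ U W : Submodule F V, IsCompl U W ∧ SubInv ρ U ∧ SubInv ρ W ∧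
      (∀ x ∈ U, (∀ y ∈ U, (B - B.flip) x y = 0) → x = 0) ∧
      (∀ x ∈ W, (∀ y ∈ W, (B + B.flip) x y = 0) → x = 0) := by
  classical
  let σ : Module.End F V := B.flip.symmCompOfNondegenerate B hB
  have hσ : ∀ w v, B (σ w) v = B v w := fun w v =>
    LinearMap.BilinForm.symmCompOfNondegenerate_left_apply B.flip hB v w
  -- σ commutes with ρ g
  have hσρ : ∀ g x, σ (ρ g x) = ρ g (σ x) := by
    intro g x
    apply sub_eq_zero.1
    apply hB.1
    intro v
    rw [map_sub, LinearMap.sub_apply, hσ, hinv.apply_left g (σ x) v, hσ, hinv.apply_right, sub_self]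
  -- isometry
  have hσiso : ∀ a b, B (σ a) (σ b) = B a b := by
    intro a b
    rw [hσ, hσ]
  let T : Module.End F V := σ + 1
  have hTσ : Commute T σ := by
    show Commute (σ + 1) σ
    exact (Commute.refl σ).add_left (Commute.one_left σ)
  have hT1 : ∀ a b, B (T a) (σ b) = B a (T b) := by
    intro a b
    show B ((σ + 1) a) (σ b) = B a ((σ + 1) b)
    simp only [LinearMap.add_apply, Module.End.one_apply, map_add, hσiso]
    ring
  have hTn : ∀ n a b, B ((T ^ n) a) ((σ ^ n) b) = B a ((T ^ n) b) := by
    intro n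
    induction n with
    | zero => intro a b; simp
    | succ n ih =>
      intro a b
      have e1 : (T ^ (n + 1)) a = T ((T ^ n) a) := by rw [pow_succ', Module.End.mul_apply]
      have e2 : (σ ^ (n + 1)) b = σ ((σ ^ n) b) := by rw [pow_succ', Module.End.mul_apply]
      have e3 : T ((σ ^ n) b) = (σ ^ n) (T b) := by
        rw [← Module.End.mul_apply, (hTσ.pow_right n).eq, Module.End.mul_apply]
      have e4 : (T ^ (n + 1)) b = (T ^ n) (T b) := by rw [pow_succ, Module.End.mul_apply]
      rw [e1, e2, hT1, e3, ih, e4]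
  -- choose n
  obtain ⟨n, hn1, hn⟩ : ∃ n : ℕ, 1 ≤ n ∧
      IsCompl (LinearMap.ker (T ^ n)) (LinearMap.range (T ^ n)) := by
    have := (LinearMap.eventually_isCompl_ker_pow_range_pow T).and (Filter.eventually_ge_atTop 1)
    obtain ⟨n, hn⟩ := this.exists
    exact ⟨n, hn.2, hn.1⟩
  have hTρ1 : ∀ g x, T (ρ g x) = ρ g (T x) := by
    intro g x
    show (σ + 1) (ρ g x) = ρ g ((σ + 1) x)
    simp only [LinearMap.add_apply, Module.End.one_apply, map_add, hσρ]
  have hTρ : ∀ (m : ℕ) g x, (T ^ m) (ρ g x) = ρ g ((T ^ m) x) := by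
    intro m
    induction m with
    | zero => intro g x; simp
    | succ m ih =>
      intro g x
      rw [pow_succ', Module.End.mul_apply, Module.End.mul_apply, ih, hTρ1]
  have hTσn : ∀ x, (T ^ n) (σ x) = σ ((T ^ n) x) := by
    intro x
    rw [← Module.End.mul_apply, ((hTσ.pow_left n)).eq, Module.End.mul_apply]
  refine ⟨LinearMap.ker (T ^ n), LinearMap.range (T ^ n), hn, ?_, ?_, ?_, ?_⟩
  · intro g x hx
    rw [LinearMap.mem_ker] at hx ⊢
    rw [hTρ, hx, map_zero]
  · intro g x hx
    obtain ⟨y, rfl⟩ := hx
    exact ⟨ρ g y, hTρ n g y⟩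
  all_goals
    have hσU : ∀ u ∈ LinearMap.ker (T ^ n), σ u ∈ LinearMap.ker (T ^ n) := by
      intro u hu
      rw [LinearMap.mem_ker] at hu ⊢
      rw [hTσn, hu, map_zero]
    have hUW : ∀ u ∈ LinearMap.ker (T ^ n), ∀ w ∈ LinearMap.range (T ^ n), B u w = 0 := by
      intro u hu w hw
      obtain ⟨b, rfl⟩ := hw
      rw [← hTn, LinearMap.mem_ker.1 hu, map_zero, LinearMap.zero_apply]
    have hWU : ∀ w ∈ LinearMap.range (T ^ n), ∀ u ∈ LinearMap.ker (T ^ n), B w u = 0 := by
      intro w hw u hu
      rw [← hσ]
      exact hUW _ (hσU u hu) w hw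
    have hdecomp : ∀ v : V, ∃ u ∈ LinearMap.ker (T ^ n), ∃ w ∈ LinearMap.range (T ^ n),
        u + w = v := by
      intro v
      have : v ∈ LinearMap.ker (T ^ n) ⊔ LinearMap.range (T ^ n) := by
        rw [hn.sup_eq_top]; exact Submodule.mem_top
      exact Submodule.mem_sup.1 this
  · intro x hx hxy
    have h0 : x - σ x = 0 := by
      apply hB.1
      intro v
      obtain ⟨u, hu, w, hw, rfl⟩ := hdecomp v
      rw [map_add, hUW _ (Submodule.sub_mem _ hx (hσU x hx)) w hw, add_zero, map_sub,
        LinearMap.sub_apply, hσ]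
      have := hxy u hu
      simpa [LinearMap.sub_apply, LinearMap.BilinForm.flip_apply] using this
    have hσx : σ x = x := (sub_eq_zero.1 h0).symm
    have hTx : T x = (2 : F) • x := by
      show (σ + 1) x = _
      rw [LinearMap.add_apply, hσx, Module.End.one_apply, two_smul]
    have hTm : ∀ m : ℕ, (T ^ m) x = ((2 : F) ^ m) • x := by
      intro m
      induction m with
      | zero => simp
      | succ m ih =>
        rw [pow_succ', Module.End.mul_apply, ih, map_smul, hTx, smul_smul, pow_succ]
    have := hTm n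
    rw [LinearMap.mem_ker.1 hx] at this
    rcases smul_eq_zero.1 this.symm with h | h
    · exact absurd (pow_eq_zero_iff (by omega) |>.1 h) h2
    · exact h
  · intro x hx hxy
    have hTxW : T x ∈ LinearMap.range (T ^ n) := by
      obtain ⟨b, rfl⟩ := hx
      refine ⟨T b, ?_⟩
      rw [← Module.End.mul_apply, ← pow_succ, pow_succ', Module.End.mul_apply]
    have h0 : T x = 0 := by
      apply hB.1
      intro v
      obtain ⟨u, hu, w, hw, rfl⟩ := hdecomp v
      rw [map_add, hWU _ hTxW u hu, zero_add]
      show B ((σ + 1) x) w = 0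
      rw [LinearMap.add_apply, Module.End.one_apply, map_add, LinearMap.add_apply, hσ]
      have := hxy w hw
      simp only [LinearMap.add_apply, LinearMap.BilinForm.flip_apply] at this
      rw [add_comm]; exact this
    have hxU : x ∈ LinearMap.ker (T ^ n) := by
      rw [LinearMap.mem_ker]
      obtain ⟨k, rfl⟩ : ∃ k, n = k + 1 := ⟨n - 1, by omega⟩
      rw [pow_succ, Module.End.mul_apply, h0, map_zero]
    have : x ∈ LinearMap.ker (T ^ n) ⊓ LinearMap.range (T ^ n) := ⟨hxU, hx⟩
    rw [hn.inf_eq_bot] at this
    exact (Submodule.mem_bot F).1 this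

end odd

end Cfsg.Agent.Helper82

namespace Cfsg.Agent.Helper82

open Module

universe u

section two

variable {F : Type*} [Field F] [CharP F 2] {G : Type*} [Group G] [Finite G]
  [NeZero (Nat.card G : F)]
variable {V : Type u} [AddCommGroup V] [Module F V] [FiniteDimensional F V]

theorem selfdual_two
    (ρ : Representation F G V) (B : LinearMap.BilinForm F V) (hB : B.Nondegenerate)
    (hinv : FormInv ρ B) :
    ∃ U W : Submodule F V, IsCompl U W ∧ SubInv ρ U ∧ SubInv ρ W ∧
      (∃ A : LinearMap.BilinForm F V, (∀ x, A x x = 0) ∧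
         (∀ g, ∀ x ∈ U, ∀ y ∈ U, A (ρ g x) (ρ g y) = A x y) ∧
         (∀ x ∈ U, (∀ y ∈ U, A x y = 0) → x = 0)) ∧
      (∃ S : LinearMap.BilinForm F V, (∀ x y, S x y = S y x) ∧
         (∀ g, ∀ x ∈ W, ∀ y ∈ W, S (ρ g x) (ρ g y) = S x y) ∧
         (∀ x ∈ W, (∀ y ∈ W, S x y = 0) → x = 0)) ∧
      (∀ g, ∀ w ∈ W, ρ g w = w) := by
  classical
  have : Fintype G := Fintype.ofFinite G
  set c : F := (Nat.card G : F) with hc
  have hc0 : c ≠ 0 := NeZero.ne _
  let Sg : Module.End F V := ∑ g : G, ρ g
  have hSg : ∀ x, Sg x = ∑ g : G, ρ g x := fun x => by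
    show (∑ g : G, ρ g) x = _
    rw [LinearMap.sum_apply]
  let π : Module.End F V := c⁻¹ • Sg
  have hπ : ∀ x, π x = c⁻¹ • ∑ g : G, ρ g x := fun x => by
    show (c⁻¹ • Sg) x = _
    rw [LinearMap.smul_apply, hSg]
  have hπfix : ∀ g x, ρ g (π x) = π x := by
    intro g x
    rw [hπ, map_smul, map_sum]
    congr 1
    refine Fintype.sum_equiv (Equiv.mulLeft g) _ _ (fun h => ?_)
    rw [Equiv.coe_mulLeft, map_mul, Module.End.mul_apply]
  have hπρ : ∀ g x, π (ρ g x) = π x := by
    intro g x
    rw [hπ, hπ]
    congr 1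
    refine Fintype.sum_equiv (Equiv.mulRight g) _ _ (fun h => ?_)
    rw [Equiv.coe_mulRight, map_mul, Module.End.mul_apply]
  have hπ_of_fixed : ∀ x, (∀ g, ρ g x = x) → π x = x := by
    intro x hx
    rw [hπ]
    simp only [hx, Finset.sum_const, Finset.card_univ]
    rw [← Nat.cast_smul_eq_nsmul F, smul_smul, Fintype.card_eq_nat_card, ← hc,
      inv_mul_cancel₀ hc0, one_smul]
  have hidem : IsIdempotentElem π := by
    show π * π = π
    ext x
    rw [Module.End.mul_apply]
    exact hπ_of_fixed _ (fun g => hπfix g x)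
  have hcompl : IsCompl (LinearMap.ker π) (LinearMap.range π) :=
    (LinearMap.IsIdempotentElem.isCompl hidem).symm
  have hBπ : ∀ x y, B (π x) y = B x (π y) := by
    intro x y
    rw [hπ, hπ, map_smul, LinearMap.smul_apply, map_smul, map_sum, LinearMap.sum_apply, map_sum]
    congr 1
    refine Fintype.sum_equiv (Equiv.inv G) _ _ (fun h => ?_)
    rw [Equiv.inv_apply, hinv.apply_left]
  have hUinv : SubInv ρ (LinearMap.ker π) := by
    intro g x hx
    rw [LinearMap.mem_ker] at hx ⊢
    rw [hπρ, hx]
  have hWfix : ∀ g, ∀ w ∈ LinearMap.range π, ρ g w = w := by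
    intro g w hw
    obtain ⟨z, rfl⟩ := hw
    exact hπfix g z
  have hWinv : SubInv ρ (LinearMap.range π) := by
    intro g x hx
    rw [hWfix g x hx]; exact hx
  have hUW : ∀ u ∈ LinearMap.ker π, ∀ w ∈ LinearMap.range π, B u w = 0 := by
    intro u hu w hw
    obtain ⟨z, rfl⟩ := hw
    rw [← hBπ, LinearMap.mem_ker.1 hu, map_zero, LinearMap.zero_apply]
  have hdecomp : ∀ v : V, ∃ u ∈ LinearMap.ker π, ∃ w ∈ LinearMap.range π, u + w = v := by
    intro v
    have : v ∈ LinearMap.ker π ⊔ LinearMap.range π := by
      rw [hcompl.sup_eq_top]; exact Submodule.mem_top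
    exact Submodule.mem_sup.1 this
  have hsU : (B.restrict (LinearMap.ker π)).SeparatingLeft := by
    intro x hx
    apply Subtype.ext
    apply hB.1
    intro v
    obtain ⟨u, hu, w, hw, rfl⟩ := hdecomp v
    rw [map_add, hUW _ x.2 w hw, add_zero]
    exact hx ⟨u, hu⟩
  have hfixU : NoFixed (resRep ρ (LinearMap.ker π) hUinv) := by
    intro x hx
    apply Subtype.ext
    have h1 : π (x : V) = x := hπ_of_fixed _ (fun g => congrArg Subtype.val (hx g))
    rw [LinearMap.mem_ker.1 x.2] at h1
    exact h1.symm
  obtain ⟨AU, haU, hiU, hnU⟩ := exists_alt_form (finrank F (LinearMap.ker π))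
    ↥(LinearMap.ker π) (resRep ρ (LinearMap.ker π) hUinv) (B.restrict (LinearMap.ker π)) rfl
    hfixU (formInv_restrict hinv _ hUinv)
    (LinearMap.BilinForm.Nondegenerate.ofSeparatingLeft hsU)
  let πU := (LinearMap.ker π).projectionOnto (LinearMap.range π) hcompl
  let πW := (LinearMap.range π).projectionOnto (LinearMap.ker π) hcompl.symm
  refine ⟨LinearMap.ker π, LinearMap.range π, hcompl, hUinv, hWinv, ?_, ?_, hWfix⟩
  · refine ⟨AU.comp πU πU, ?_, ?_, ?_⟩
    · intro x
      rw [LinearMap.BilinForm.comp_apply, haU]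
    · intro g x _ y _
      rw [LinearMap.BilinForm.comp_apply, LinearMap.BilinForm.comp_apply,
        show πU (ρ g x) = resRep ρ _ hUinv g (πU x) from
          proj_equivariant ρ _ _ hUinv hWinv hcompl g x,
        show πU (ρ g y) = resRep ρ _ hUinv g (πU y) from
          proj_equivariant ρ _ _ hUinv hWinv hcompl g y, hiU]
    · intro x hx hxy
      have h1 : (⟨x, hx⟩ : ↥(LinearMap.ker π)) = 0 := by
        apply hnU.1
        intro y
        have := hxy y y.2
        rw [LinearMap.BilinForm.comp_apply,
          show πU x = ⟨x, hx⟩ from Submodule.projectionOnto_apply_left hcompl ⟨x, hx⟩,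
          show πU (y : V) = y from Submodule.projectionOnto_apply_left hcompl y] at this
        exact this
      exact congrArg Subtype.val h1
  · let b := Module.finBasis F ↥(LinearMap.range π)
    let ψ : Fin (finrank F ↥(LinearMap.range π)) → (V →ₗ[F] F) := fun i => (b.coord i) ∘ₗ πW
    let S : LinearMap.BilinForm F V := ∑ i, LinearMap.BilinForm.linMulLin (ψ i) (ψ i)
    have hS : ∀ x y, S x y = ∑ i, ψ i x * ψ i y := by
      intro x y
      show (∑ i, LinearMap.BilinForm.linMulLin (ψ i) (ψ i)) x y = _
      rw [LinearMap.BilinForm.sum_apply]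
      rfl
    refine ⟨S, ?_, ?_, ?_⟩
    · intro x y
      rw [hS, hS]
      exact Finset.sum_congr rfl (fun i _ => mul_comm _ _)
    · intro g x hx y hy
      rw [hWfix g x hx, hWfix g y hy]
    · intro x hx hxy
      have h1 : πW x = 0 := by
        rw [← b.forall_coord_eq_zero_iff]
        intro j
        have := hxy (b j : V) (b j).2
        rw [hS] at this
        have hψ : ∀ i, ψ i (b j : V) = if i = j then 1 else 0 := by
          intro i
          show b.coord i (πW (b j : V)) = _
          rw [show πW (b j : V) = b j from Submodule.projectionOnto_apply_left hcompl.symm (b j),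
            Basis.coord_apply, Basis.repr_self, Finsupp.single_apply]
          simp only [eq_comm]
        simp only [hψ, mul_ite, mul_one, mul_zero, Finset.sum_ite_eq', Finset.mem_univ,
          if_true] at this
        exact this
      rw [show πW x = ⟨x, hx⟩ from Submodule.projectionOnto_apply_left hcompl.symm ⟨x, hx⟩] at h1
      exact congrArg Subtype.val h1

end two

end Cfsg.Agent.Helper82
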