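import Mathlib
import Cfsg.Prelude.Def_Blocks
import Cfsg.Agent.Helper15.ElemFacts
import Cfsg.Agent.Helper15.LinChar
import Cfsg.Agent.Helper15.CliffordCorr
import Cfsg.Agent.Helper74.CharBasic
import Cfsg.Agent.Helper74.CharCenter
import Cfsg.Agent.Helper76.CharCentral
import Cfsg.Agent.Helper80.Pullback

/-!
# Faithful characters of groups acted on "semiregularly": degree bounds (helper82)

* `card_le_charDegree_of_semiregular`: a faithful character of a nontrivial abelian group `A`,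
  invariant under a family of `|I|` automorphisms any two of which agree only at `1`, has degree
  at least `|I|`.
* `succ_card_le_charDegree_sq_of_class_two`: a faithful character of a nonabelian group `A` of
  class two whose proper invariant normal subgroups are central and with
  `(|I| + 1) |Z(A)| ≤ |A|` has degree `d` with `|I| + 1 ≤ d²`.
-/

set_option autoImplicit false

namespace Cfsg.Agent.Helper82.TISylow

open Cfsg
open scoped ComplexConjugate commutatorElement

universe u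

variable {A : Type u} [Group A] [Finite A]

/-- decomposition with natural multiplicities -/
theorem exists_nat_decomp [Fintype (IrrCharacter A)] {ξ : A → ℂ} (hξ : IsCharacter A ξ) :
    ∃ a : IrrCharacter A → ℕ, ξ = ∑ lam : IrrCharacter A, (a lam : ℂ) • (lam : A → ℂ) := by
  classical
  haveI : Fintype A := Fintype.ofFinite A
  choose a ha using fun lam : IrrCharacter A => Helper74.isCharacter_inner_irr_nat hξ lam
  refine ⟨a, ?_⟩
  have h := Helper74.isCharacter_eq_sum_irr hξ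
  conv_lhs => rw [h]
  refine Finset.sum_congr rfl fun lam _ => ?_
  rw [ha lam]

theorem apply_of_decomp [Fintype (IrrCharacter A)] {ξ : A → ℂ} {a : IrrCharacter A → ℕ}
    (h : ξ = ∑ lam : IrrCharacter A, (a lam : ℂ) • (lam : A → ℂ)) (g : A) :
    ξ g = ∑ lam : IrrCharacter A, (a lam : ℂ) * (lam : A → ℂ) g := by
  conv_lhs => rw [h]
  simp only [Finset.sum_apply, Pi.smul_apply, smul_eq_mul]

/-- a constituent separating `c` from `1` -/
theorem exists_constituent_ne [Fintype (IrrCharacter A)] {ξ : A → ℂ} {a : IrrCharacter A → ℕ}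
    (h : ξ = ∑ lam : IrrCharacter A, (a lam : ℂ) • (lam : A → ℂ)) {c : A} (hc : ξ c ≠ ξ 1) :
    ∃ ψ : IrrCharacter A, a ψ ≠ 0 ∧ (ψ : A → ℂ) c ≠ (ψ : A → ℂ) 1 := by
  by_contra hcon
  push Not at hcon
  apply hc
  rw [apply_of_decomp h, apply_of_decomp h]
  refine Finset.sum_congr rfl fun lam _ => ?_
  by_cases h0 : a lam = 0
  · rw [h0]; simp
  · rw [hcon lam h0]

theorem charDegree_eq_of_decomp [Fintype (IrrCharacter A)] {ξ : A → ℂ} (hξ : IsCharacter A ξ)
    {a : IrrCharacter A → ℕ}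
    (h : ξ = ∑ lam : IrrCharacter A, (a lam : ℂ) • (lam : A → ℂ)) :
    charDegree ξ = ∑ lam : IrrCharacter A, a lam * charDegree (lam : A → ℂ) := by
  have h1 : (charDegree ξ : ℂ) = ((∑ lam : IrrCharacter A, a lam * charDegree (lam : A → ℂ) : ℕ) : ℂ) := by
    rw [Helper74.charDegree_cast hξ, apply_of_decomp h]
    push_cast
    refine Finset.sum_congr rfl fun lam _ => ?_
    rw [Helper74.charDegree_cast (Helper74.irr_isCharacter lam)]
  exact_mod_cast h1

/-- **Abelian case.** -/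
theorem card_le_charDegree_of_semiregular {I : Type*} [Finite I]
    (hA : ∀ a b : A, a * b = b * a) (e : I → A ≃* A)
    (hsemi : ∀ i j, i ≠ j → ∀ r, e i r = e j r → r = 1)
    {ξ : A → ℂ} (hξ : IsCharacter A ξ) (hinv : ∀ i r, ξ (e i r) = ξ r)
    (hfaith : ∀ r, ξ r = ξ 1 → r = 1) (hne : ∃ r : A, r ≠ 1) :
    Nat.card I ≤ charDegree ξ := by
  classical
  haveI : Fintype A := Fintype.ofFinite A
  haveI : Fintype I := Fintype.ofFinite I
  letI := Helper74.irrFintype A
  obtain ⟨a, hdec⟩ := exists_nat_decomp hξ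
  have ha : ∀ lam : IrrCharacter A, classInner ξ (lam : A → ℂ) = (a lam : ℂ) := by
    intro lam
    conv_lhs => rw [hdec]
    rw [Helper74.classInner_sum_left]
    rw [Finset.sum_eq_single lam]
    · rw [Helper74.classInner_smul_left, Helper74.irr_inner_self, mul_one]
    · intro μ _ hμ
      rw [Helper74.classInner_smul_left, Helper74.irr_inner_ne hμ, mul_zero]
    · intro hn; exact absurd (Finset.mem_univ _) hn
  have hlin : ∀ lam : IrrCharacter A, (lam : A → ℂ) 1 = 1 := fun lam =>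
    Helper15.irr_one_eq_one_of_comm hA lam.2
  obtain ⟨r₀, hr₀⟩ := hne
  obtain ⟨μ, hμ0, hμr⟩ := exists_constituent_ne hdec (c := r₀) (fun h => hr₀ (hfaith _ h))
  rw [hlin μ] at hμr
  have hμc := Helper74.irr_isCharacter μ
  -- the conjugates of `μ`
  let μi : I → IrrCharacter A := fun i => ⟨fun r => (μ : A → ℂ) (e i r),
    Helper80.IsIrrCharacter.comp_surjective μ.2 (e i).toMonoidHom (e i).surjective⟩
  have hμi : ∀ i r, ((μi i : IrrCharacter A) : A → ℂ) r = (μ : A → ℂ) (e i r) := fun i r => rfl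
  have hai : ∀ i, a (μi i) = a μ := by
    intro i
    have h1 : classInner ξ ((μi i : IrrCharacter A) : A → ℂ) = classInner ξ (μ : A → ℂ) := by
      have h2 := Helper15.classInner_comp_mulEquiv (e i) ξ (μ : A → ℂ)
      rw [← h2]
      congr 1
      funext r
      exact (hinv i r).symm
    rw [ha, ha] at h1
    exact_mod_cast h1
  have hinj : Function.Injective μi := by
    intro i j hij
    by_contra hne
    apply hμr
    have hval : ∀ r, (μ : A → ℂ) (e i r) = (μ : A → ℂ) (e j r) := by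
      intro r
      rw [← hμi i r, ← hμi j r, hij]
    let f : A → A := fun r => e i r * (e j r)⁻¹
    have hf : Function.Injective f := by
      intro r s hrs
      have hrs' : e i r * (e j r)⁻¹ = e i s * (e j s)⁻¹ := hrs
      have h1 : e i (r * s⁻¹) = e j (r * s⁻¹) := by
        rw [map_mul, map_mul, map_inv, map_inv]
        calc e i r * (e i s)⁻¹ = (e i r * (e j r)⁻¹) * e j r * (e i s)⁻¹ := by group
          _ = e i s * (e j s)⁻¹ * e j r * (e i s)⁻¹ := by rw [hrs']
          _ = e i s * ((e j s)⁻¹ * e j r) * (e i s)⁻¹ := by group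
          _ = ((e j s)⁻¹ * e j r) * e i s * (e i s)⁻¹ := by rw [hA (e i s) ((e j s)⁻¹ * e j r)]
          _ = (e j s)⁻¹ * e j r := by group
          _ = e j r * (e j s)⁻¹ := hA _ _
      have := hsemi i j hne _ h1
      exact mul_inv_eq_one.1 this
    obtain ⟨s, hs⟩ := (Finite.injective_iff_surjective.1 hf) r₀
    have h2 : (μ : A → ℂ) (e i s) = (μ : A → ℂ) r₀ * (μ : A → ℂ) (e j s) := by
      rw [← Helper15.linChar_mul hμc (hlin μ), ← hs]
      have h5 : e i s = f s * e j s := by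
        show e i s = e i s * (e j s)⁻¹ * e j s
        group
      rw [← h5]
    rw [hval s] at h2
    have h3 := Helper15.linChar_ne_zero hμc (hlin μ) (e j s)
    have h4 : (1 : ℂ) * (μ : A → ℂ) (e j s) = (μ : A → ℂ) r₀ * (μ : A → ℂ) (e j s) := by
      rw [one_mul]; exact h2
    exact (mul_right_cancel₀ h3 h4).symm
  have hdeg : charDegree ξ = ∑ lam : IrrCharacter A, a lam := by
    rw [charDegree_eq_of_decomp hξ hdec]
    refine Finset.sum_congr rfl fun lam _ => ?_
    have : charDegree (lam : A → ℂ) = 1 := by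
      have h1 := Helper74.charDegree_cast (Helper74.irr_isCharacter lam)
      rw [hlin lam] at h1
      exact_mod_cast h1
    rw [this, mul_one]
  rw [hdeg, Nat.card_eq_fintype_card]
  calc Fintype.card I = (Finset.univ.image μi).card := by
        rw [Finset.card_image_of_injective _ hinj, Finset.card_univ]
    _ = ∑ lam ∈ Finset.univ.image μi, 1 := by simp
    _ ≤ ∑ lam ∈ Finset.univ.image μi, a lam := by
        apply Finset.sum_le_sum
        intro lam hlam
        obtain ⟨i, -, rfl⟩ := Finset.mem_image.1 hlam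
        rw [hai i]; omega
    _ ≤ ∑ lam, a lam := Finset.sum_le_sum_of_subset (Finset.subset_univ _)

/-- central elements acting trivially under `ψ` -/
def centKer (ψ : A → ℂ) : Subgroup A where
  carrier := {z | z ∈ Subgroup.center A ∧ ∀ g, ψ (z * g) = ψ g}
  one_mem' := ⟨Subgroup.one_mem _, fun g => by rw [one_mul]⟩
  mul_mem' := by
    rintro z w ⟨hz, hz'⟩ ⟨hw, hw'⟩
    exact ⟨Subgroup.mul_mem _ hz hw, fun g => by rw [mul_assoc, hz', hw']⟩
  inv_mem' := by
    rintro z ⟨hz, hz'⟩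
    refine ⟨Subgroup.inv_mem _ hz, fun g => ?_⟩
    have := hz' (z⁻¹ * g)
    rw [mul_inv_cancel_left] at this
    exact this.symm

theorem mem_centKer {ψ : A → ℂ} {z : A} :
    z ∈ centKer ψ ↔ z ∈ Subgroup.center A ∧ ∀ g, ψ (z * g) = ψ g := Iff.rfl

/-- the radical of the commutator pairing modulo `centKer ψ`, for a group of class two -/
def rad (hcomm : ∀ x y : A, ⁅x, y⁆ ∈ Subgroup.center A) (ψ : A → ℂ) : Subgroup A where
  carrier := {g | ∀ h, ⁅h, g⁆ ∈ centKer ψ}
  one_mem' := by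
    show ∀ h : A, ⁅h, (1 : A)⁆ ∈ centKer ψ
    intro h
    rw [commutatorElement_one_right]; exact Subgroup.one_mem _
  mul_mem' := by
    intro g₁ g₂ h1 h2
    show ∀ h : A, ⁅h, g₁ * g₂⁆ ∈ centKer ψ
    intro h
    have h1 : ∀ h : A, ⁅h, g₁⁆ ∈ centKer ψ := h1
    have h2 : ∀ h : A, ⁅h, g₂⁆ ∈ centKer ψ := h2
    have hid : ⁅h, g₁ * g₂⁆ = ⁅h, g₁⁆ * ⁅h, g₂⁆ := by
      have hz := Subgroup.mem_center_iff.1 (hcomm h g₂) g₁
      calc ⁅h, g₁ * g₂⁆ = ⁅h, g₁⁆ * (g₁ * ⁅h, g₂⁆) * g₁⁻¹ := by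
            simp only [commutatorElement_def]; group
        _ = ⁅h, g₁⁆ * (⁅h, g₂⁆ * g₁) * g₁⁻¹ := by rw [hz]
        _ = ⁅h, g₁⁆ * ⁅h, g₂⁆ := by group
    rw [hid]; exact Subgroup.mul_mem _ (h1 h) (h2 h)
  inv_mem' := by
    intro g hg
    show ∀ h : A, ⁅h, g⁻¹⁆ ∈ centKer ψ
    intro h
    have hg : ∀ h : A, ⁅h, g⁆ ∈ centKer ψ := hg
    have hid : ⁅h, g⁻¹⁆ = (⁅h, g⁆)⁻¹ := by
      have hz := Subgroup.mem_center_iff.1 (Subgroup.inv_mem _ (hcomm h g)) g⁻¹
      calc ⁅h, g⁻¹⁆ = g⁻¹ * (⁅h, g⁆)⁻¹ * g := by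
            simp only [commutatorElement_def]; group
        _ = (⁅h, g⁆)⁻¹ * g⁻¹ * g := by rw [hz]
        _ = (⁅h, g⁆)⁻¹ := by group
    rw [hid]; exact Subgroup.inv_mem _ (hg h)

theorem mem_rad {hcomm : ∀ x y : A, ⁅x, y⁆ ∈ Subgroup.center A} {ψ : A → ℂ} {g : A} :
    g ∈ rad hcomm ψ ↔ ∀ h : A, ⁅h, g⁆ ∈ centKer ψ := Iff.rfl

theorem rad_normal (hcomm : ∀ x y : A, ⁅x, y⁆ ∈ Subgroup.center A) (ψ : A → ℂ) :
    (rad hcomm ψ).Normal := by
  constructor
  intro g hg k
  rw [mem_rad] at hg ⊢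
  intro h
  have hz := Subgroup.mem_center_iff.1 (hcomm (k⁻¹ * h * k) g) k
  have hid : ⁅h, k * g * k⁻¹⁆ = ⁅k⁻¹ * h * k, g⁆ := by
    calc ⁅h, k * g * k⁻¹⁆ = k * ⁅k⁻¹ * h * k, g⁆ * k⁻¹ := by
          simp only [commutatorElement_def]; group
      _ = ⁅k⁻¹ * h * k, g⁆ * k * k⁻¹ := by rw [hz]
      _ = ⁅k⁻¹ * h * k, g⁆ := by group
  rw [hid]; exact hg _

theorem rad_invariant (hcomm : ∀ x y : A, ⁅x, y⁆ ∈ Subgroup.center A) (ψ : A → ℂ)
    (e : A ≃* A) (hfix : ∀ z ∈ Subgroup.center A, e z = z) {g : A} (hg : g ∈ rad hcomm ψ) :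
    e g ∈ rad hcomm ψ := by
  rw [mem_rad] at hg ⊢
  intro h
  have h1 : ⁅h, e g⁆ = e ⁅e.symm h, g⁆ := by
    rw [map_commutatorElement, MulEquiv.apply_symm_apply]
  rw [h1, hfix _ (hcomm _ _)]
  exact hg _

/-- **Class two case.** -/
theorem succ_card_le_charDegree_sq_of_class_two {I : Type*} [Finite I]
    (e : I → A ≃* A)
    (hcomm : ∀ x y : A, ⁅x, y⁆ ∈ Subgroup.center A)
    (hmin : ∀ S : Subgroup A, S.Normal → S ≠ ⊤ → (∀ i, ∀ s ∈ S, e i s ∈ S) →
      S ≤ Subgroup.center A)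
    (hfix : ∀ i, ∀ z ∈ Subgroup.center A, e i z = z)
    (hcard : Nat.card I * Nat.card (Subgroup.center A) + Nat.card (Subgroup.center A)
      ≤ Nat.card A)
    (hnab : ∃ x y : A, x * y ≠ y * x)
    {ξ : A → ℂ} (hξ : IsCharacter A ξ) (hfaith : ∀ r, ξ r = ξ 1 → r = 1) :
    Nat.card I + 1 ≤ charDegree ξ ^ 2 := by
  classical
  haveI : Fintype A := Fintype.ofFinite A
  letI := Helper74.irrFintype A
  obtain ⟨a, hdec⟩ := exists_nat_decomp hξ
  obtain ⟨x, y, hxy⟩ := hnab
  have hc1 : ⁅x, y⁆ ≠ 1 := by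
    rw [Ne, commutatorElement_eq_one_iff_mul_comm]; exact hxy
  obtain ⟨ψ, hψ0, hψc⟩ := exists_constituent_ne hdec (c := ⁅x, y⁆) (fun h => hc1 (hfaith _ h))
  have hψch := Helper74.irr_isCharacter ψ
  have hrad_ne : rad hcomm (ψ : A → ℂ) ≠ ⊤ := by
    intro htop
    have hy : y ∈ rad hcomm (ψ : A → ℂ) := by rw [htop]; trivial
    have := ((mem_rad.1 hy) x).2 1
    rw [mul_one] at this
    exact hψc this
  have hrad_le := hmin _ (rad_normal hcomm (ψ : A → ℂ)) hrad_ne
    (fun i s hs => rad_invariant hcomm (ψ : A → ℂ) (e i) (hfix i) hs)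
  have hvanish : ∀ g, g ∉ Subgroup.center A → (ψ : A → ℂ) g = 0 := by
    intro g hg
    have hgr : g ∉ rad hcomm (ψ : A → ℂ) := fun h => hg (hrad_le h)
    have hex : ∃ h : A, ⁅h, g⁆ ∉ centKer (ψ : A → ℂ) := by
      by_contra hcon
      push Not at hcon
      exact hgr (mem_rad.2 hcon)
    obtain ⟨h, hh⟩ := hex
    obtain ⟨cz, hcz⟩ := Helper76.irr_exists_central_scalar ψ.2 ⁅h, g⁆ (hcomm h g)
    have hcz1 : cz ≠ 1 := by
      intro h1
      apply hh
      exact ⟨hcomm h g, fun k => by rw [hcz, h1, one_mul]⟩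
    have hcl := Helper74.isClassFunction_of_isCharacter hψch
    have h2 : (ψ : A → ℂ) (h * g * h⁻¹) = (ψ : A → ℂ) g := hcl g h
    have h3 : h * g * h⁻¹ = ⁅h, g⁆ * g := by rw [commutatorElement_def]; group
    rw [h3, hcz] at h2
    have h4 : (cz - 1) * (ψ : A → ℂ) g = 0 := by rw [sub_mul, h2, one_mul, sub_self]
    rcases mul_eq_zero.1 h4 with h | h
    · exact absurd (sub_eq_zero.1 h) hcz1
    · exact h
  have hsum := Helper74.sum_norm_sq_irr ψ
  have hle : (Nat.card A : ℝ) ≤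
      (Nat.card (Subgroup.center A) : ℝ) * (charDegree (ψ : A → ℂ) : ℝ) ^ 2 := by
    rw [← hsum]
    have h1 : ∑ g : A, ‖(ψ : A → ℂ) g‖ ^ 2 =
        ∑ g ∈ Finset.univ.filter (fun g : A => g ∈ Subgroup.center A), ‖(ψ : A → ℂ) g‖ ^ 2 := by
      symm
      apply Finset.sum_subset (Finset.filter_subset _ _)
      intro g _ hg
      have hg' : g ∉ Subgroup.center A := by
        intro hmem
        exact hg (Finset.mem_filter.2 ⟨Finset.mem_univ _, hmem⟩)
      rw [hvanish g hg']; simp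
    rw [h1]
    calc ∑ g ∈ Finset.univ.filter (fun g : A => g ∈ Subgroup.center A), ‖(ψ : A → ℂ) g‖ ^ 2
        ≤ ∑ _g ∈ Finset.univ.filter (fun g : A => g ∈ Subgroup.center A),
            (charDegree (ψ : A → ℂ) : ℝ) ^ 2 := by
          apply Finset.sum_le_sum
          intro g _
          have := Helper74.norm_le_charDegree hψch g
          exact pow_le_pow_left₀ (norm_nonneg _) this 2
      _ = (Nat.card (Subgroup.center A) : ℝ) * (charDegree (ψ : A → ℂ) : ℝ) ^ 2 := by
          rw [Finset.sum_const, nsmul_eq_mul]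
          congr 2
          rw [Nat.card_eq_fintype_card, Fintype.card_subtype]
  have hle' : Nat.card A ≤ Nat.card (Subgroup.center A) * charDegree (ψ : A → ℂ) ^ 2 := by
    exact_mod_cast hle
  have hdeg : charDegree (ψ : A → ℂ) ≤ charDegree ξ := by
    rw [charDegree_eq_of_decomp hξ hdec]
    calc charDegree (ψ : A → ℂ) ≤ a ψ * charDegree (ψ : A → ℂ) :=
          Nat.le_mul_of_pos_left _ (Nat.pos_of_ne_zero hψ0)
      _ ≤ ∑ lam : IrrCharacter A, a lam * charDegree (lam : A → ℂ) :=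
          Finset.single_le_sum (f := fun lam : IrrCharacter A => a lam * charDegree (lam : A → ℂ))
            (fun _ _ => Nat.zero_le _) (Finset.mem_univ ψ)
  have hZpos : 0 < Nat.card (Subgroup.center A) := Nat.card_pos
  have h5 : (Nat.card I + 1) * Nat.card (Subgroup.center A)
      ≤ charDegree (ψ : A → ℂ) ^ 2 * Nat.card (Subgroup.center A) := by
    calc (Nat.card I + 1) * Nat.card (Subgroup.center A)
        = Nat.card I * Nat.card (Subgroup.center A) + Nat.card (Subgroup.center A) := by ring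
      _ ≤ Nat.card A := hcard
      _ ≤ Nat.card (Subgroup.center A) * charDegree (ψ : A → ℂ) ^ 2 := hle'
      _ = charDegree (ψ : A → ℂ) ^ 2 * Nat.card (Subgroup.center A) := by ring
  have h6 := Nat.le_of_mul_le_mul_right h5 hZpos
  exact h6.trans (Nat.pow_le_pow_left hdeg 2)

end Cfsg.Agent.Helper82.TISylow
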