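import Mathlib
import Cfsg.Agent.Helper1.CoprimeSylow
import Cfsg.Agent.Helper48.CoprimeGen

/-!
# Coprime action of a `p`-group with "Frobenius-like" centralizers: group theory

Let `P` be a `p`-subgroup of the finite group `G` normalizing a `p'`-subgroup `K`, not centralizing
it, such that `C_K(y) = C_K(P)` for every `1 ≠ y ∈ P` (this holds when `P` is a TI Sylow
`p`-subgroup).  A minimal `P`-invariant subgroup `R ≤ K` not centralized by `P` is a `q`-group,
`[P,R] = R`, its proper `P`-invariant normal subgroups are central, and either `R` is abelian with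
`P` acting semiregularly, or `R` has class two with `C_R(P) = Z(R)` and `P` semiregular on
`R/Z(R)`, whence `(|P|+1)|Z(R)| ≤ |R|`.
-/

set_option autoImplicit false

namespace Cfsg.Agent.Helper82.TISylow

open scoped commutatorElement

variable {G : Type*} [Group G]

/-- `P` centralizes `S` elementwise. -/
def Cent (P S : Subgroup G) : Prop := ∀ s ∈ S, ∀ a ∈ P, s * a = a * s

/-- `S` is invariant under conjugation by `P`. -/
def Inv (P S : Subgroup G) : Prop := ∀ a ∈ P, ∀ s ∈ S, a * s * a⁻¹ ∈ S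

theorem Inv.le_normalizer {P S : Subgroup G} (h : Inv P S) : P ≤ Subgroup.normalizer (S : Set G) :=
  Helper48.mem_normalizer_of_forall_conj_mem h

theorem inv_of_le_normalizer {P S : Subgroup G} (h : P ≤ Subgroup.normalizer (S : Set G)) :
    Inv P S := fun a ha s hs => (Subgroup.mem_normalizer_iff.1 (h ha) s).1 hs

theorem Inv.inv_conj {P S : Subgroup G} (h : Inv P S) {a s : G} (ha : a ∈ P) (hs : s ∈ S) :
    a⁻¹ * s * a ∈ S := by
  have := h a⁻¹ (P.inv_mem ha) s hs
  rwa [inv_inv] at this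

/-- If `a` has `p`-power order, `t` has `p'`-order and commutes with `a`, and `a r a⁻¹ = t r`,
then `t = 1`. -/
theorem eq_one_of_conj_eq_mul {p : ℕ} [Fact p.Prime] {a r t : G} {k : ℕ} (ha : a ^ (p ^ k) = 1)
    (ht : (orderOf t).Coprime p) (hat : a * t = t * a) (h : a * r * a⁻¹ = t * r) : t = 1 := by
  have hat' : ∀ n : ℕ, a * t ^ n * a⁻¹ = t ^ n := by
    intro n
    have : Commute a (t ^ n) := (show Commute a t from hat).pow_right n
    rw [this.eq, mul_assoc, mul_inv_cancel, mul_one]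
  have key : ∀ n : ℕ, a ^ n * r * (a ^ n)⁻¹ = t ^ n * r := by
    intro n
    induction n with
    | zero => simp
    | succ n ih =>
      calc a ^ (n + 1) * r * (a ^ (n + 1))⁻¹ = a * (a ^ n * r * (a ^ n)⁻¹) * a⁻¹ := by
            rw [pow_succ']; group
        _ = a * (t ^ n * r) * a⁻¹ := by rw [ih]
        _ = (a * t ^ n * a⁻¹) * (a * r * a⁻¹) := by group
        _ = t ^ n * (t * r) := by rw [hat' n, h]
        _ = t ^ (n + 1) * r := by rw [pow_succ]; group
  have h1 := key (p ^ k)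
  rw [ha, one_mul, inv_one, mul_one] at h1
  have h2 : t ^ (p ^ k) = 1 := by
    have : t ^ (p ^ k) * r = 1 * r := by rw [← h1, one_mul]
    exact mul_right_cancel this
  have h3 : orderOf t ∣ p ^ k := orderOf_dvd_of_pow_eq_one h2
  have h4 : (orderOf t).Coprime (p ^ k) := Nat.Coprime.pow_right k ht
  have h5 : orderOf t = 1 := Nat.Coprime.eq_one_of_dvd h4 h3
  exact orderOf_eq_one_iff.1 h5

theorem coprime_orderOf_of_mem [Finite G] {p : ℕ} [hp : Fact p.Prime] {R : Subgroup G}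
    (hR : ¬ p ∣ Nat.card R) {t : G} (ht : t ∈ R) : (orderOf t).Coprime p := by
  have h1 : orderOf (⟨t, ht⟩ : R) ∣ Nat.card R := orderOf_dvd_natCard _
  rw [Subgroup.orderOf_mk] at h1
  exact ((Nat.Prime.coprime_iff_not_dvd hp.out).2 (fun h => hR (h.trans h1))).symm

theorem commutator_le_of_inv {P R : Subgroup G} (hinv : Inv P R) : ⁅P, R⁆ ≤ R := by
  rw [Subgroup.commutator_le]
  intro a ha r hr
  rw [commutatorElement_def]
  exact R.mul_mem (hinv a ha r hr) (R.inv_mem hr)

theorem inv_commutator {P R : Subgroup G} (hinv : Inv P R) : Inv P ⁅P, R⁆ := by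
  intro a ha s hs
  have h1 : (⁅P, R⁆).map (MulAut.conj a).toMonoidHom ≤ ⁅P, R⁆ := by
    rw [Subgroup.map_commutator]
    apply Subgroup.commutator_mono
    · rintro _ ⟨b, hb, rfl⟩
      exact P.mul_mem (P.mul_mem ha hb) (P.inv_mem ha)
    · rintro _ ⟨r, hr, rfl⟩
      exact hinv a ha r hr
  exact h1 ⟨s, hs, rfl⟩

/-- If `P` (a `p`-group) centralizes `[P,R]`, `R` a `P`-invariant `p'`-group, then `P` centralizes
`R`. -/
theorem cent_of_cent_commutator [Finite G] {p : ℕ} [Fact p.Prime] {P R : Subgroup G}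
    (hP : IsPGroup p P) (hR : ¬ p ∣ Nat.card R) (hinv : Inv P R) (h : Cent P ⁅P, R⁆) :
    Cent P R := by
  intro r hr a ha
  have htT : ⁅a, r⁆ ∈ ⁅P, R⁆ := Subgroup.commutator_mem_commutator ha hr
  have htR : ⁅a, r⁆ ∈ R := commutator_le_of_inv hinv htT
  obtain ⟨k, hk⟩ := hP ⟨a, ha⟩
  have hak : a ^ (p ^ k) = 1 := by
    have := congrArg Subtype.val hk
    simpa using this
  have h1 : ⁅a, r⁆ = 1 := by
    apply eq_one_of_conj_eq_mul (p := p) hak (coprime_orderOf_of_mem hR htR) (h _ htT a ha).symm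
      (r := r)
    rw [commutatorElement_def]; group
  rw [commutatorElement_eq_one_iff_mul_comm] at h1
  exact h1.symm

section minimal

variable [Finite G]

/-- A minimal `P`-invariant subgroup of `K` not centralized by `P`. -/
theorem exists_minimal_noncent (P K : Subgroup G) (hinv : Inv P K) (hnc : ¬ Cent P K) :
    ∃ R : Subgroup G, R ≤ K ∧ Inv P R ∧ ¬ Cent P R ∧
      ∀ S : Subgroup G, S ≤ R → S ≠ R → Inv P S → Cent P S := by
  obtain ⟨R, ⟨hRK, hRinv, hRnc⟩, hmin⟩ := WellFounded.has_min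
    (wellFounded_lt : WellFounded (α := Subgroup G) (· < ·))
    {R : Subgroup G | R ≤ K ∧ Inv P R ∧ ¬ Cent P R} ⟨K, le_rfl, hinv, hnc⟩
  refine ⟨R, hRK, hRinv, hRnc, ?_⟩
  intro S hSR hne hSinv
  by_contra hSnc
  exact hmin S ⟨hSR.trans hRK, hSinv, hSnc⟩ (lt_of_le_of_ne hSR hne)

variable {p : ℕ} [hp : Fact p.Prime] {P R : Subgroup G}

/-- the minimal subgroup is a `q`-group -/
theorem exists_prime_isPGroup (hP : IsPGroup p P) (hR : ¬ p ∣ Nat.card R) (hinv : Inv P R)
    (hnc : ¬ Cent P R) (hmin : ∀ S : Subgroup G, S ≤ R → S ≠ R → Inv P S → Cent P S) :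
    ∃ q : ℕ, q.Prime ∧ IsPGroup q R := by
  by_contra hcon
  push Not at hcon
  apply hnc
  have hcop : (Nat.card P).Coprime (Nat.card R) := by
    obtain ⟨k, hk⟩ := IsPGroup.iff_card.1 hP
    rw [hk]
    exact Nat.Coprime.pow_left k ((Nat.Prime.coprime_iff_not_dvd hp.out).2 hR)
  have hsolv : Group.IsSolvable P := by
    have := hP.isNilpotent
    infer_instance
  have hle : R ≤ R ⊓ Subgroup.centralizer (P : Set G) := by
    apply Helper48.le_of_forall_sylow_le inf_le_left
    intro q hq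
    obtain ⟨Q, hQ⟩ := Helper1.exists_invariant_sylow P R hinv.le_normalizer hcop (Or.inl hsolv) q
    refine ⟨Q, ?_⟩
    have hSR : (Q : Subgroup R).map R.subtype ≤ R := by
      rintro _ ⟨x, -, rfl⟩
      exact x.2
    have hne : (Q : Subgroup R).map R.subtype ≠ R := by
      intro heq
      apply hcon q hq.out
      intro r
      have hr : (r : G) ∈ (Q : Subgroup R).map R.subtype := by
        rw [heq]; exact r.2
      obtain ⟨x, hx, hxr⟩ := hr
      obtain ⟨k, hk⟩ := Q.2 ⟨x, hx⟩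
      refine ⟨k, ?_⟩
      have h1 : x = r := Subtype.ext hxr
      rw [← h1]
      have := congrArg Subtype.val hk
      simpa using this
    have hc := hmin _ hSR hne (inv_of_le_normalizer hQ)
    intro s hs
    exact Subgroup.mem_inf.2 ⟨hSR hs, Subgroup.mem_centralizer_iff.2
      (fun a ha => (hc s hs a ha).symm)⟩
  intro r hr a ha
  have := (Subgroup.mem_inf.1 (hle hr)).2
  rw [Subgroup.mem_centralizer_iff] at this
  exact (this a ha).symm

/-- `[P,R] = R` for the minimal subgroup. -/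
theorem commutator_eq_of_minimal (hP : IsPGroup p P) (hR : ¬ p ∣ Nat.card R) (hinv : Inv P R)
    (hnc : ¬ Cent P R) (hmin : ∀ S : Subgroup G, S ≤ R → S ≠ R → Inv P S → Cent P S) :
    ⁅P, R⁆ = R := by
  by_contra hne
  exact hnc (cent_of_cent_commutator hP hR hinv
    (hmin _ (commutator_le_of_inv hinv) hne (inv_commutator hinv)))

/-- Proper `P`-invariant normal subgroups of the minimal subgroup are central. -/
theorem central_of_proper_normal_inv (hP : IsPGroup p P) (hR : ¬ p ∣ Nat.card R)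
    (hinv : Inv P R) (hnc : ¬ Cent P R)
    (hmin : ∀ S : Subgroup G, S ≤ R → S ≠ R → Inv P S → Cent P S)
    (S : Subgroup G) (hSR : S ≤ R) (hSne : S ≠ R) (hSn : ∀ r ∈ R, ∀ s ∈ S, r * s * r⁻¹ ∈ S)
    (hSinv : Inv P S) : ∀ s ∈ S, ∀ r ∈ R, s * r = r * s := by
  have hc : Cent P S := hmin S hSR hSne hSinv
  have hSP : ⁅S, P⁆ = ⊥ := by
    rw [eq_bot_iff, Subgroup.commutator_le]
    intro s hs a ha
    rw [Subgroup.mem_bot, commutatorElement_eq_one_iff_mul_comm]
    exact hc s hs a ha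
  have h1 : ⁅⁅R, S⁆, P⁆ = ⊥ := by
    rw [eq_bot_iff, ← hSP]
    apply Subgroup.commutator_mono _ le_rfl
    rw [Subgroup.commutator_le]
    intro r hr s hs
    rw [commutatorElement_def]
    exact S.mul_mem (hSn r hr s hs) (S.inv_mem hs)
  have h2 : ⁅⁅S, P⁆, R⁆ = ⊥ := by
    rw [hSP, Subgroup.commutator_bot_left]
  have h3 := Subgroup.commutator_commutator_eq_bot_of_rotate h1 h2
  rw [commutator_eq_of_minimal hP hR hinv hnc hmin] at h3
  intro s hs r hr
  have h4 : ⁅r, s⁆ ∈ ⁅R, S⁆ := Subgroup.commutator_mem_commutator hr hs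
  rw [h3, Subgroup.mem_bot, commutatorElement_eq_one_iff_mul_comm] at h4
  exact h4.symm

/-- A subgroup `S ≤ R` centralized by `P` with `[R,S]` centralized by `P` is central in `R`. -/
theorem central_of_cent (hP : IsPGroup p P) (hR : ¬ p ∣ Nat.card R)
    (hinv : Inv P R) (hnc : ¬ Cent P R)
    (hmin : ∀ S : Subgroup G, S ≤ R → S ≠ R → Inv P S → Cent P S)
    (S : Subgroup G) (hc : Cent P S) (hc2 : Cent P ⁅R, S⁆) :
    ∀ s ∈ S, ∀ r ∈ R, s * r = r * s := by
  have hSP : ⁅S, P⁆ = ⊥ := by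
    rw [eq_bot_iff, Subgroup.commutator_le]
    intro s hs a ha
    rw [Subgroup.mem_bot, commutatorElement_eq_one_iff_mul_comm]
    exact hc s hs a ha
  have h1 : ⁅⁅R, S⁆, P⁆ = ⊥ := by
    rw [eq_bot_iff, Subgroup.commutator_le]
    intro s hs a ha
    rw [Subgroup.mem_bot, commutatorElement_eq_one_iff_mul_comm]
    exact hc2 s hs a ha
  have h2 : ⁅⁅S, P⁆, R⁆ = ⊥ := by
    rw [hSP, Subgroup.commutator_bot_left]
  have h3 := Subgroup.commutator_commutator_eq_bot_of_rotate h1 h2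
  rw [commutator_eq_of_minimal hP hR hinv hnc hmin] at h3
  intro s hs r hr
  have h4 : ⁅r, s⁆ ∈ ⁅R, S⁆ := Subgroup.commutator_mem_commutator hr hs
  rw [h3, Subgroup.mem_bot, commutatorElement_eq_one_iff_mul_comm] at h4
  exact h4.symm

theorem inv_commutator_self (hinv : Inv P R) : Inv P ⁅R, R⁆ := by
  intro a ha s hs
  have h1 : (⁅R, R⁆).map (MulAut.conj a).toMonoidHom ≤ ⁅R, R⁆ := by
    rw [Subgroup.map_commutator]
    apply Subgroup.commutator_mono
    · rintro _ ⟨r, hr, rfl⟩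
      exact hinv a ha r hr
    · rintro _ ⟨r, hr, rfl⟩
      exact hinv a ha r hr
  exact h1 ⟨s, hs, rfl⟩

/-- the centre of `R`, as a subgroup of `G` -/
def zen (R : Subgroup G) : Subgroup G := R ⊓ Subgroup.centralizer (R : Set G)

theorem mem_zen {R : Subgroup G} {z : G} : z ∈ zen R ↔ z ∈ R ∧ ∀ r ∈ R, r * z = z * r := by
  unfold zen
  rw [Subgroup.mem_inf, Subgroup.mem_centralizer_iff]
  rfl

theorem zen_le (R : Subgroup G) : zen R ≤ R := inf_le_left

theorem inv_zen (hinv : Inv P R) : Inv P (zen R) := by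
  intro a ha z hz
  rw [mem_zen] at hz ⊢
  refine ⟨hinv a ha z hz.1, ?_⟩
  intro r hr
  have h1 := hz.2 (a⁻¹ * r * a) (hinv.inv_conj ha hr)
  calc r * (a * z * a⁻¹) = a * ((a⁻¹ * r * a) * z) * a⁻¹ := by group
    _ = a * (z * (a⁻¹ * r * a)) * a⁻¹ := by rw [h1]
    _ = a * z * a⁻¹ * r := by group

theorem zen_normal (R : Subgroup G) : ∀ r ∈ R, ∀ z ∈ zen R, r * z * r⁻¹ ∈ zen R := by
  intro r hr z hz
  have h1 := (mem_zen.1 hz).2 r hr
  have : r * z * r⁻¹ = z := by rw [h1]; group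
  rw [this]; exact hz

theorem commutator_self_normal (R : Subgroup G) :
    ∀ r ∈ R, ∀ s ∈ ⁅R, R⁆, r * s * r⁻¹ ∈ ⁅R, R⁆ := by
  intro r hr s hs
  have h1 : (⁅R, R⁆).map (MulAut.conj r).toMonoidHom ≤ ⁅R, R⁆ := by
    rw [Subgroup.map_commutator]
    apply Subgroup.commutator_mono
    · rintro _ ⟨x, hx, rfl⟩
      exact R.mul_mem (R.mul_mem hr hx) (R.inv_mem hr)
    · rintro _ ⟨x, hx, rfl⟩
      exact R.mul_mem (R.mul_mem hr hx) (R.inv_mem hr)
  exact h1 ⟨s, hs, rfl⟩

/-- Structure of the minimal subgroup in the nonabelian case. -/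
theorem nonabelian_structure (hP : IsPGroup p P) (hR : ¬ p ∣ Nat.card R)
    (hinv : Inv P R) (hnc : ¬ Cent P R)
    (hmin : ∀ S : Subgroup G, S ≤ R → S ≠ R → Inv P S → Cent P S)
    (hT : ∀ y ∈ P, y ≠ 1 → ∀ r ∈ R, r * y = y * r → ∀ a ∈ P, r * a = a * r)
    (hder : ⁅R, R⁆ ≠ R) (hnab : ∃ r ∈ R, ∃ s ∈ R, r * s ≠ s * r) :
    ⁅R, R⁆ ≤ zen R ∧ Cent P (zen R) ∧
      (∀ y ∈ P, y ≠ 1 → ∀ r ∈ R, ⁅y, r⁆ ∈ zen R → r ∈ zen R) := by
  have hzne : zen R ≠ R := by
    intro h
    obtain ⟨r, hr, s, hs, hrs⟩ := hnab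
    have hs' : s ∈ zen R := by rw [h]; exact hs
    exact hrs ((mem_zen.1 hs').2 r hr)
  have h2 : Cent P (zen R) := hmin _ (zen_le R) hzne (inv_zen hinv)
  have h1 : ⁅R, R⁆ ≤ zen R := by
    intro s hs
    have hsR : s ∈ R := by
      have : ⁅R, R⁆ ≤ R := by
        rw [Subgroup.commutator_le]
        intro a ha b hb
        rw [commutatorElement_def]
        exact R.mul_mem (R.mul_mem (R.mul_mem ha hb) (R.inv_mem ha)) (R.inv_mem hb)
      exact this hs
    rw [mem_zen]
    refine ⟨hsR, fun r hr => ?_⟩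
    have hle : ⁅R, R⁆ ≤ R := by
      rw [Subgroup.commutator_le]
      intro a ha b hb
      rw [commutatorElement_def]
      exact R.mul_mem (R.mul_mem (R.mul_mem ha hb) (R.inv_mem ha)) (R.inv_mem hb)
    exact (central_of_proper_normal_inv hP hR hinv hnc hmin _ hle hder
      (commutator_self_normal R) (inv_commutator_self hinv) s hs r hr).symm
  refine ⟨h1, h2, ?_⟩
  intro y hy hy1 r hr ht
  have htR : ⁅y, r⁆ ∈ R := zen_le R ht
  obtain ⟨k, hk⟩ := hP ⟨y, hy⟩
  have hyk : y ^ (p ^ k) = 1 := by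
    have := congrArg Subtype.val hk
    simpa using this
  have h3 : ⁅y, r⁆ = 1 := by
    apply eq_one_of_conj_eq_mul (p := p) hyk (coprime_orderOf_of_mem hR htR)
      (h2 _ ht y hy).symm (r := r)
    rw [commutatorElement_def]; group
  rw [commutatorElement_eq_one_iff_mul_comm] at h3
  have h4 := hT y hy hy1 r hr h3.symm
  -- `r` is centralized by `P`, hence central
  have h5 := central_of_cent hP hR hinv hnc hmin (R ⊓ Subgroup.centralizer (P : Set G))
    (fun s hs a ha => ((Subgroup.mem_centralizer_iff.1 (Subgroup.mem_inf.1 hs).2) a ha).symm)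
    (fun s hs a ha => by
      have hs' : s ∈ ⁅R, R⁆ := Subgroup.commutator_mono le_rfl inf_le_left hs
      exact h2 s (h1 hs') a ha)
  rw [mem_zen]
  refine ⟨hr, fun r' hr' => ?_⟩
  have hrmem : r ∈ R ⊓ Subgroup.centralizer (P : Set G) :=
    Subgroup.mem_inf.2 ⟨hr, Subgroup.mem_centralizer_iff.2 (fun a ha => (h4 a ha).symm)⟩
  exact (h5 r hrmem r' hr').symm

/-- counting: `(|P| + 1) |Z(R)| ≤ |R|` when `P` is semiregular on `R / Z(R)` -/
theorem card_mul_zen_le (hinv : Inv P R) (hcz : Cent P (zen R))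
    (hsemi : ∀ y ∈ P, y ≠ 1 → ∀ r ∈ R, ⁅y, r⁆ ∈ zen R → r ∈ zen R)
    {r₀ : G} (hr₀ : r₀ ∈ R) (hr₀z : r₀ ∉ zen R) :
    Nat.card P * Nat.card (zen R) + Nat.card (zen R) ≤ Nat.card R := by
  let f : (P × zen R) ⊕ zen R → R := fun x =>
    match x with
    | Sum.inl az => ⟨(az.1 : G) * r₀ * (az.1 : G)⁻¹ * (az.2 : G),
        R.mul_mem (hinv _ az.1.2 _ hr₀) (zen_le R az.2.2)⟩
    | Sum.inr z => ⟨(z : G), zen_le R z.2⟩
  have hf : Function.Injective f := by
    rintro (⟨a, z⟩ | z) (⟨b, z'⟩ | z') h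
    · have h1 : (a : G) * r₀ * (a : G)⁻¹ * (z : G) = (b : G) * r₀ * (b : G)⁻¹ * (z' : G) :=
        congrArg Subtype.val h
      -- `y = b⁻¹ a`
      have hy : ((b : G)⁻¹ * (a : G)) ∈ P := P.mul_mem (P.inv_mem b.2) a.2
      have hzz : (z' : G) * (z : G)⁻¹ ∈ zen R := (zen R).mul_mem z'.2 ((zen R).inv_mem z.2)
      have hcomm : ⁅(b : G)⁻¹ * (a : G), r₀⁆ = (b : G)⁻¹ * ((z' : G) * (z : G)⁻¹) * (b : G) := by
        have h2 : (a : G) * r₀ * (a : G)⁻¹ = (b : G) * r₀ * (b : G)⁻¹ * ((z' : G) * (z : G)⁻¹) := by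
          calc (a : G) * r₀ * (a : G)⁻¹ = ((a : G) * r₀ * (a : G)⁻¹ * (z : G)) * (z : G)⁻¹ := by group
            _ = ((b : G) * r₀ * (b : G)⁻¹ * (z' : G)) * (z : G)⁻¹ := by rw [h1]
            _ = (b : G) * r₀ * (b : G)⁻¹ * ((z' : G) * (z : G)⁻¹) := by group
        rw [commutatorElement_def]
        calc (b : G)⁻¹ * (a : G) * r₀ * ((b : G)⁻¹ * (a : G))⁻¹ * r₀⁻¹
            = (b : G)⁻¹ * ((a : G) * r₀ * (a : G)⁻¹) * (b : G) * r₀⁻¹ := by group
          _ = (b : G)⁻¹ * ((b : G) * r₀ * (b : G)⁻¹ * ((z' : G) * (z : G)⁻¹)) * (b : G) * r₀⁻¹ := by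
              rw [h2]
          _ = r₀ * ((b : G)⁻¹ * ((z' : G) * (z : G)⁻¹) * (b : G)) * r₀⁻¹ := by group
          _ = (b : G)⁻¹ * ((z' : G) * (z : G)⁻¹) * (b : G) := by
              have hmem : (b : G)⁻¹ * ((z' : G) * (z : G)⁻¹) * (b : G) ∈ zen R :=
                (inv_zen hinv).inv_conj b.2 hzz
              have := (mem_zen.1 hmem).2 r₀ hr₀
              rw [this]; group
      have hmem : ⁅(b : G)⁻¹ * (a : G), r₀⁆ ∈ zen R := by
        rw [hcomm]
        exact (inv_zen hinv).inv_conj b.2 hzz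
      have hy1 : (b : G)⁻¹ * (a : G) = 1 := by
        by_contra hne
        exact hr₀z (hsemi _ hy hne r₀ hr₀ hmem)
      have hab : a = b := by
        apply Subtype.ext
        have : (a : G) = (b : G) * ((b : G)⁻¹ * (a : G)) := by group
        rw [this, hy1, mul_one]
      subst hab
      have hz : z = z' := by
        apply Subtype.ext
        exact mul_left_cancel h1
      rw [hz]
    · exfalso
      have h1 : (a : G) * r₀ * (a : G)⁻¹ * (z : G) = (z' : G) := congrArg Subtype.val h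
      have h2 : (a : G) * r₀ * (a : G)⁻¹ ∈ zen R := by
        have : (a : G) * r₀ * (a : G)⁻¹ = (z' : G) * (z : G)⁻¹ := by rw [← h1]; group
        rw [this]
        exact (zen R).mul_mem z'.2 ((zen R).inv_mem z.2)
      have h3 := (inv_zen hinv).inv_conj a.2 h2
      have : (a : G)⁻¹ * ((a : G) * r₀ * (a : G)⁻¹) * (a : G) = r₀ := by group
      rw [this] at h3
      exact hr₀z h3
    · exfalso
      have h1 : (z : G) = (b : G) * r₀ * (b : G)⁻¹ * (z' : G) := congrArg Subtype.val h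
      have h2 : (b : G) * r₀ * (b : G)⁻¹ ∈ zen R := by
        have : (b : G) * r₀ * (b : G)⁻¹ = (z : G) * (z' : G)⁻¹ := by rw [h1]; group
        rw [this]
        exact (zen R).mul_mem z.2 ((zen R).inv_mem z'.2)
      have h3 := (inv_zen hinv).inv_conj b.2 h2
      have : (b : G)⁻¹ * ((b : G) * r₀ * (b : G)⁻¹) * (b : G) = r₀ := by group
      rw [this] at h3
      exact hr₀z h3
    · have h0 : ((f (Sum.inr z) : R) : G) = ((f (Sum.inr z') : R) : G) := by rw [h]
      have h1 : (z : G) = (z' : G) := h0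
      rw [Subtype.ext h1]
  have := Nat.card_le_card_of_injective f hf
  rwa [Nat.card_sum, Nat.card_prod] at this

end minimal

section avg

/-- Averaging over a finite group of automorphisms of a commutative group: an element of the
subgroup generated by the `φ a r * r⁻¹` that is fixed by all `φ a` has order dividing `|P|`. -/
theorem pow_card_eq_one_of_fixed {A : Type*} [CommGroup A] {P : Type*} [Group P] [Fintype P]
    (φ : P → A → A) (hmul : ∀ a r s, φ a (r * s) = φ a r * φ a s)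
    (hcomp : ∀ a b r, φ a (φ b r) = φ (a * b) r)
    (z : A) (hz : ∀ a, φ a z = z)
    (hmem : z ∈ Subgroup.closure {x : A | ∃ a r, x = φ a r * r⁻¹}) :
    z ^ Fintype.card P = 1 := by
  classical
  let π : A →* A :=
    { toFun := fun r => ∏ a : P, φ a r
      map_one' := by
        have h1 : ∀ a : P, φ a 1 = 1 := by
          intro a
          have := hmul a 1 1
          rw [mul_one] at this
          exact (mul_eq_left).1 this.symm
        simp [h1]
      map_mul' := by
        intro r s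
        simp only [hmul]
        rw [Finset.prod_mul_distrib] }
  have hπ : ∀ r, π r = ∏ a : P, φ a r := fun r => rfl
  have hinvar : ∀ b r, π (φ b r) = π r := by
    intro b r
    rw [hπ, hπ]
    simp only [hcomp]
    exact Fintype.prod_equiv (Equiv.mulRight b) _ _ (fun a => rfl)
  have hker : Subgroup.closure {x : A | ∃ a r, x = φ a r * r⁻¹} ≤ π.ker := by
    rw [Subgroup.closure_le]
    rintro x ⟨a, r, rfl⟩
    rw [SetLike.mem_coe, MonoidHom.mem_ker, map_mul, map_inv, hinvar, mul_inv_cancel]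
  have h1 : π z = 1 := MonoidHom.mem_ker.1 (hker hmem)
  rw [hπ] at h1
  simp only [hz] at h1
  rw [Finset.prod_const, Finset.card_univ] at h1
  exact h1

variable [Finite G] {p : ℕ} [hp : Fact p.Prime] {P R : Subgroup G}

/-- **Fixed points in the abelian case**: if `R` is an abelian `p'`-group, `P` a `p`-group
normalizing `R` with `[P,R] = R`, then `C_R(P) = 1`. -/
theorem eq_one_of_cent_of_abelian (hP : IsPGroup p P) (hR : ¬ p ∣ Nat.card R) (hinv : Inv P R)
    (hab : ∀ r ∈ R, ∀ s ∈ R, r * s = s * r) (hcomm : ⁅P, R⁆ = R) {z : G} (hz : z ∈ R)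
    (hc : ∀ a ∈ P, z * a = a * z) : z = 1 := by
  classical
  letI : CommGroup R :=
    { (inferInstance : Group R) with
      mul_comm := fun a b => Subtype.ext (hab a a.2 b b.2) }
  haveI : Fintype P := Fintype.ofFinite P
  let φ : P → R → R := fun a r => ⟨(a : G) * (r : G) * (a : G)⁻¹, hinv a a.2 r r.2⟩
  have hφ : ∀ (a : P) (r : R), ((φ a r : R) : G) = (a : G) * (r : G) * (a : G)⁻¹ := fun a r => rfl
  have hmul : ∀ a r s, φ a (r * s) = φ a r * φ a s := by
    intro a r s
    apply Subtype.ext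
    rw [Subgroup.coe_mul, hφ, hφ, hφ, Subgroup.coe_mul]
    group
  have hcomp : ∀ a b r, φ a (φ b r) = φ (a * b) r := by
    intro a b r
    apply Subtype.ext
    rw [hφ, hφ, hφ, Subgroup.coe_mul]
    group
  have hfix : ∀ a, φ a ⟨z, hz⟩ = ⟨z, hz⟩ := by
    intro a
    apply Subtype.ext
    rw [hφ]
    show (a : G) * z * (a : G)⁻¹ = z
    rw [← hc a a.2]; group
  have hmem : (⟨z, hz⟩ : R) ∈ Subgroup.closure {x : R | ∃ a r, x = φ a r * r⁻¹} := by
    have h1 : ⁅P, R⁆ ≤ (Subgroup.closure {x : R | ∃ a r, x = φ a r * r⁻¹}).map R.subtype := by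
      rw [Subgroup.commutator_le]
      intro a ha r hr
      refine ⟨φ ⟨a, ha⟩ ⟨r, hr⟩ * (⟨r, hr⟩ : R)⁻¹, Subgroup.subset_closure ⟨_, _, rfl⟩, ?_⟩
      rw [commutatorElement_def]
      rfl
    have h2 : z ∈ (Subgroup.closure {x : R | ∃ a r, x = φ a r * r⁻¹}).map R.subtype := by
      apply h1
      rw [hcomm]; exact hz
    obtain ⟨x, hx, hxz⟩ := h2
    have : x = ⟨z, hz⟩ := Subtype.ext hxz
    rw [← this]; exact hx
  have h1 := pow_card_eq_one_of_fixed φ hmul hcomp ⟨z, hz⟩ hfix hmem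
  have h2 : z ^ Fintype.card P = 1 := by
    have := congrArg Subtype.val h1
    simpa using this
  have h3 : orderOf z ∣ Fintype.card P := orderOf_dvd_of_pow_eq_one h2
  obtain ⟨k, hk⟩ := IsPGroup.iff_card.1 hP
  rw [← Nat.card_eq_fintype_card, hk] at h3
  have h4 : (orderOf z).Coprime (p ^ k) := Nat.Coprime.pow_right k (coprime_orderOf_of_mem hR hz)
  exact orderOf_eq_one_iff.1 (Nat.Coprime.eq_one_of_dvd h4 h3)

/-- conjugation by an element of `P` as an automorphism of the `P`-invariant subgroup `R` -/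
def cjE (hinv : Inv P R) (a : P) : R ≃* R where
  toFun r := ⟨(a : G) * (r : G) * (a : G)⁻¹, hinv a a.2 r r.2⟩
  invFun r := ⟨(a : G)⁻¹ * (r : G) * (a : G), hinv.inv_conj a.2 r.2⟩
  left_inv r := by
    apply Subtype.ext
    show (a : G)⁻¹ * ((a : G) * (r : G) * (a : G)⁻¹) * (a : G) = (r : G)
    group
  right_inv r := by
    apply Subtype.ext
    show (a : G) * ((a : G)⁻¹ * (r : G) * (a : G)) * (a : G)⁻¹ = (r : G)
    group
  map_mul' r s := by
    apply Subtype.ext
    show (a : G) * ((r : G) * (s : G)) * (a : G)⁻¹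
      = ((a : G) * (r : G) * (a : G)⁻¹) * ((a : G) * (s : G) * (a : G)⁻¹)
    group

theorem cjE_coe (hinv : Inv P R) (a : P) (r : R) :
    ((cjE hinv a r : R) : G) = (a : G) * (r : G) * (a : G)⁻¹ := rfl

end avg

end Cfsg.Agent.Helper82.TISylow
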