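import Mathlib
import Cfsg.Prelude.Def_Blocks
import Cfsg.Prelude.Def_Local
import Cfsg.Agent.Lib.Cores
import Cfsg.Agent.Helper62.PSolvDual
import Cfsg.Agent.Helper74.CharBasic
import Cfsg.Agent.Helper82.TISylowGroup
import Cfsg.Agent.Helper82.TISylowChar

/-!
# `p`-solvable groups with a TI Sylow `p`-subgroup and a small faithful character (helper82)

If `G` is `p`-solvable with a TI Sylow `p`-subgroup `P` and a faithful character `χ` with
`χ(1)² ≤ |P|`, then `P ⊴ G`.
-/

set_option autoImplicit false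

namespace Cfsg.Agent.Helper82.TISylow

open Cfsg
open scoped Pointwise commutatorElement

universe u

theorem normal_of_ti_sylow_of_faithful {G : Type u} [Group G] [Finite G] (p : ℕ) [hp : Fact p.Prime]
    (hsolv : IsPSolvable p G) (P : Sylow p G)
    (hTI : ∀ g : G, g ∉ Subgroup.normalizer ((P : Subgroup G) : Set G) →
      (P : Subgroup G) ⊓ (MulAut.conj g • (P : Subgroup G)) = ⊥)
    (χ : G → ℂ) (hχ : IsCharacter G χ) (hfaith : ∀ g : G, χ g = χ 1 → g = 1)
    (hdeg : charDegree χ ^ 2 ≤ Nat.card ↥(P : Subgroup G)) : (P : Subgroup G).Normal := by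
  classical
  by_contra hnn
  have hex : ∃ g : G, g ∉ Subgroup.normalizer ((P : Subgroup G) : Set G) := by
    by_contra hcon
    push Not at hcon
    apply hnn
    rw [← Subgroup.normalizer_eq_top_iff]
    exact eq_top_iff.2 (fun g _ => hcon g)
  obtain ⟨g₀, hg₀⟩ := hex
  have hPne : (P : Subgroup G) ≠ ⊥ := by
    intro h
    apply hnn
    rw [h]
    infer_instance
  have hPp : IsPGroup p (P : Subgroup G) := P.isPGroup'
  -- `O_p(G) = 1`
  have hO : pCore p G = ⊥ := by
    rw [eq_bot_iff, ← hTI g₀ hg₀]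
    apply le_inf (Lib.pCore_le_sylow P)
    intro x hx
    rw [Subgroup.mem_pointwise_smul_iff_inv_smul_mem]
    haveI : (pCore p G).Characteristic := Lib.pCore_characteristic p
    have hn : (pCore p G).Normal := Subgroup.normal_of_characteristic _
    have h1 : g₀⁻¹ * x * g₀ ∈ pCore p G := by
      have := hn.conj_mem x hx g₀⁻¹
      rwa [inv_inv] at this
    have h2 : (MulAut.conj g₀)⁻¹ • x = g₀⁻¹ * x * g₀ := by
      rw [← map_inv, MulAut.smul_def, MulAut.conj_apply, inv_inv]
    rw [h2]
    exact Lib.pCore_le_sylow P h1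
  haveI hKc : (pPrimeCore p G).Characteristic := Lib.pPrimeCore_characteristic p
  have hKn : (pPrimeCore p G).Normal := Subgroup.normal_of_characteristic _
  have hKcop : (Nat.card (pPrimeCore p G)).Coprime p := Lib.card_pPrimeCore_coprime p
  have hKp : ¬ p ∣ Nat.card (pPrimeCore p G) := by
    intro h
    have := Nat.Coprime.eq_one_of_dvd hKcop.symm h
    exact hp.out.one_lt.ne' this
  have hcent := Helper62.centralizer_pPrimeCore_le_of_isPSolvable hsolv hO
  -- `P` does not centralize `K`
  have hnc : ¬ Cent (P : Subgroup G) (pPrimeCore p G) := by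
    intro hc
    have hPK : (P : Subgroup G) ≤ pPrimeCore p G := fun a ha =>
      hcent (Subgroup.mem_centralizer_iff.2 (fun k hk => hc k hk a ha))
    apply hPne
    rw [eq_bot_iff]
    intro a ha
    rw [Subgroup.mem_bot]
    obtain ⟨k, hk⟩ := hPp ⟨a, ha⟩
    have hak : a ^ (p ^ k) = 1 := by
      have := congrArg Subtype.val hk
      simpa using this
    have h3 : orderOf a ∣ p ^ k := orderOf_dvd_of_pow_eq_one hak
    have h4 : (orderOf a).Coprime (p ^ k) :=
      Nat.Coprime.pow_right k (coprime_orderOf_of_mem hKp (hPK ha))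
    exact orderOf_eq_one_iff.1 (Nat.Coprime.eq_one_of_dvd h4 h3)
  have hinvK : Inv (P : Subgroup G) (pPrimeCore p G) := fun a _ k hk => hKn.conj_mem k hk a
  -- property (T)
  have hT : ∀ y ∈ (P : Subgroup G), y ≠ 1 → ∀ k ∈ pPrimeCore p G, k * y = y * k →
      ∀ a ∈ (P : Subgroup G), k * a = a * k := by
    intro y hy hy1 k hk hky a ha
    have hkN : k ∈ Subgroup.normalizer ((P : Subgroup G) : Set G) := by
      by_contra hkn
      have h1 := hTI k hkn
      have h2 : y ∈ (P : Subgroup G) ⊓ (MulAut.conj k • (P : Subgroup G)) := by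
        refine Subgroup.mem_inf.2 ⟨hy, ?_⟩
        rw [Subgroup.mem_pointwise_smul_iff_inv_smul_mem]
        have h3 : (MulAut.conj k)⁻¹ • y = k⁻¹ * y * k := by
          rw [← map_inv, MulAut.smul_def, MulAut.conj_apply, inv_inv]
        rw [h3]
        have h4 : k⁻¹ * y * k = y := by
          rw [mul_assoc, ← hky]; group
        rw [h4]; exact hy
      rw [h1] at h2
      exact hy1 (Subgroup.mem_bot.1 h2)
    have h1 : ⁅k, a⁆ ∈ (P : Subgroup G) := by
      rw [commutatorElement_def]
      have := (Subgroup.mem_normalizer_iff.1 hkN a).1 ha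
      have h2 : k * a * k⁻¹ * a⁻¹ = (k * a * k⁻¹) * a⁻¹ := by group
      rw [h2]
      exact Subgroup.mul_mem _ this (Subgroup.inv_mem _ ha)
    have h2 : ⁅k, a⁆ ∈ pPrimeCore p G := by
      rw [commutatorElement_def]
      have := hKn.conj_mem k⁻¹ (Subgroup.inv_mem _ hk) a
      have h3 : k * a * k⁻¹ * a⁻¹ = k * (a * k⁻¹ * a⁻¹) := by group
      rw [h3]
      exact Subgroup.mul_mem _ hk this
    have h3 : ⁅k, a⁆ = 1 := by
      obtain ⟨m, hm⟩ := hPp ⟨⁅k, a⁆, h1⟩
      have hm' : ⁅k, a⁆ ^ (p ^ m) = 1 := by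
        have := congrArg Subtype.val hm
        simpa using this
      have h4 : orderOf ⁅k, a⁆ ∣ p ^ m := orderOf_dvd_of_pow_eq_one hm'
      have h5 : (orderOf ⁅k, a⁆).Coprime (p ^ m) :=
        Nat.Coprime.pow_right m (coprime_orderOf_of_mem hKp h2)
      exact orderOf_eq_one_iff.1 (Nat.Coprime.eq_one_of_dvd h5 h4)
    exact commutatorElement_eq_one_iff_mul_comm.1 h3
  obtain ⟨R, hRK, hRinv, hRnc, hRmin⟩ :=
    exists_minimal_noncent (P : Subgroup G) (pPrimeCore p G) hinvK hnc
  have hRp : ¬ p ∣ Nat.card R := fun h => hKp (h.trans (Subgroup.card_dvd_of_le hRK))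
  have hTR : ∀ y ∈ (P : Subgroup G), y ≠ 1 → ∀ r ∈ R, r * y = y * r →
      ∀ a ∈ (P : Subgroup G), r * a = a * r :=
    fun y hy hy1 r hr => hT y hy hy1 r (hRK hr)
  obtain ⟨q, hq, hRq⟩ := exists_prime_isPGroup hPp hRp hRinv hRnc hRmin
  have hcommPR := commutator_eq_of_minimal hPp hRp hRinv hRnc hRmin
  -- the restricted character
  have hξ : IsCharacter R (fun r : R => χ r) := Helper74.isCharacter_restrict R hχ
  have hξf : ∀ r : R, (fun r : R => χ r) r = (fun r : R => χ r) 1 → r = 1 :=
    fun r h => Subtype.ext (hfaith r h)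
  have hξdeg : charDegree (fun r : R => χ r) = charDegree χ := rfl
  have hcl := Helper74.isClassFunction_of_isCharacter hχ
  have hξinv : ∀ (a : (P : Subgroup G)) (r : R),
      (fun r : R => χ r) (cjE hRinv a r) = (fun r : R => χ r) r := fun a r => hcl r a
  have hRne : ∃ r : R, r ≠ 1 := by
    by_contra hcon
    push Not at hcon
    apply hRnc
    intro r hr a _
    have := congrArg Subtype.val (hcon ⟨r, hr⟩)
    have h1 : r = 1 := this
    rw [h1, one_mul, mul_one]
  have hPcard : 1 < Nat.card (P : Subgroup G) := by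
    rw [Subgroup.one_lt_card_iff_ne_bot]
    exact hPne
  by_cases hab : ∀ r ∈ R, ∀ s ∈ R, r * s = s * r
  · -- abelian case
    have hfixfree := fun {z : G} (hz : z ∈ R) (hc : ∀ a ∈ (P : Subgroup G), z * a = a * z) =>
      eq_one_of_cent_of_abelian hPp hRp hRinv hab hcommPR hz hc
    have hsemi : ∀ a b : (P : Subgroup G), a ≠ b → ∀ r : R,
        cjE hRinv a r = cjE hRinv b r → r = 1 := by
      intro a b hab' r h
      have h1 : (a : G) * r * (a : G)⁻¹ = (b : G) * r * (b : G)⁻¹ := congrArg Subtype.val h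
      have hy : (b : G)⁻¹ * (a : G) ∈ (P : Subgroup G) :=
        Subgroup.mul_mem _ (Subgroup.inv_mem _ b.2) a.2
      have hy1 : (b : G)⁻¹ * (a : G) ≠ 1 := by
        intro h2
        apply hab'
        apply Subtype.ext
        have : (a : G) = (b : G) * ((b : G)⁻¹ * (a : G)) := by group
        rw [this, h2, mul_one]
      have hry : (r : G) * ((b : G)⁻¹ * (a : G)) = ((b : G)⁻¹ * (a : G)) * (r : G) := by
        have h2 : (r : G) = (b : G)⁻¹ * ((a : G) * r * (a : G)⁻¹) * (b : G) := by
          rw [h1]; group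
        calc (r : G) * ((b : G)⁻¹ * (a : G))
            = ((b : G)⁻¹ * ((a : G) * r * (a : G)⁻¹) * (b : G)) * ((b : G)⁻¹ * (a : G)) := by
              rw [← h2]
          _ = ((b : G)⁻¹ * (a : G)) * (r : G) := by group
      have := hfixfree r.2 (hTR _ hy hy1 r r.2 hry)
      exact Subtype.ext this
    have h1 := card_le_charDegree_of_semiregular
      (fun r s : R => Subtype.ext (hab r r.2 s s.2)) (cjE hRinv) hsemi hξ hξinv hξf hRne
    rw [hξdeg] at h1
    have h2 : Nat.card (P : Subgroup G) ^ 2 ≤ Nat.card (P : Subgroup G) :=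
      (Nat.pow_le_pow_left h1 2).trans hdeg
    nlinarith
  · -- nonabelian case
    push Not at hab
    obtain ⟨r, hr, s, hs, hrs⟩ := hab
    haveI : Fact q.Prime := ⟨hq⟩
    have hder : ⁅R, R⁆ ≠ R := by
      intro heq
      haveI : Group.IsNilpotent R := hRq.isNilpotent
      haveI : Nontrivial R := by
        obtain ⟨r', hr'⟩ := hRne
        exact ⟨⟨r', 1, hr'⟩⟩
      have h1 := Group.IsSolvable.commutator_lt_top_of_nontrivial R
      have h2 : Subgroup.map R.subtype (commutator R) = Subgroup.map R.subtype ⊤ := by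
        rw [Subgroup.map_subtype_commutator, heq, ← MonoidHom.range_eq_map, Subgroup.range_subtype]
      have h3 := Subgroup.map_injective R.subtype_injective h2
      rw [h3] at h1
      exact lt_irrefl _ h1
    obtain ⟨h1, h2, h3⟩ :=
      nonabelian_structure hPp hRp hRinv hRnc hRmin hTR hder ⟨r, hr, s, hs, hrs⟩
    have hsz : s ∉ zen R := fun hz => hrs ((mem_zen.1 hz).2 r hr)
    have hcard := card_mul_zen_le hRinv h2 h3 hs hsz
    -- bridging to the subtype `R`
    have hcenter : ∀ z : R, z ∈ Subgroup.center R ↔ (z : G) ∈ zen R := by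
      intro z
      rw [Subgroup.mem_center_iff, mem_zen]
      constructor
      · intro h
        refine ⟨z.2, fun r' hr' => ?_⟩
        exact congrArg Subtype.val (h ⟨r', hr'⟩)
      · intro h g
        exact Subtype.ext (h.2 g g.2)
    have hzen_eq : zen R = (Subgroup.center R).map R.subtype := by
      ext z
      constructor
      · intro hz
        exact ⟨⟨z, zen_le R hz⟩, (hcenter _).2 hz, rfl⟩
      · rintro ⟨z', hz', rfl⟩
        exact (hcenter z').1 hz'
    have hcardZ : Nat.card (zen R) = Nat.card (Subgroup.center R) := by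
      rw [hzen_eq]
      exact Subgroup.card_map_of_injective R.subtype_injective
    rw [hcardZ] at hcard
    have hcomm' : ∀ x y : R, ⁅x, y⁆ ∈ Subgroup.center R := by
      intro x y
      rw [hcenter]
      apply h1
      have : ((⁅x, y⁆ : R) : G) = ⁅(x : G), (y : G)⁆ := rfl
      rw [this]
      exact Subgroup.commutator_mem_commutator x.2 y.2
    have hmin' : ∀ S : Subgroup R, S.Normal → S ≠ ⊤ →
        (∀ a : (P : Subgroup G), ∀ s ∈ S, cjE hRinv a s ∈ S) → S ≤ Subgroup.center R := by
      intro S hSn hSne hSinv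
      have hle : S.map R.subtype ≤ R := by
        rintro _ ⟨x, -, rfl⟩
        exact x.2
      have hne : S.map R.subtype ≠ R := by
        intro heq
        apply hSne
        rw [eq_top_iff]
        intro x _
        have hx : (x : G) ∈ S.map R.subtype := by rw [heq]; exact x.2
        obtain ⟨x', hx', hxx⟩ := hx
        have : x' = x := Subtype.ext hxx
        rw [← this]; exact hx'
      have hnorm : ∀ r' ∈ R, ∀ s' ∈ S.map R.subtype, r' * s' * r'⁻¹ ∈ S.map R.subtype := by
        rintro r' hr' _ ⟨x, hx, rfl⟩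
        exact ⟨⟨r', hr'⟩ * x * (⟨r', hr'⟩ : R)⁻¹, hSn.conj_mem x hx _, rfl⟩
      have hinv' : Inv (P : Subgroup G) (S.map R.subtype) := by
        rintro a ha _ ⟨x, hx, rfl⟩
        exact ⟨cjE hRinv ⟨a, ha⟩ x, hSinv ⟨a, ha⟩ x hx, rfl⟩
      have hcen := central_of_proper_normal_inv hPp hRp hRinv hRnc hRmin _ hle hne hnorm hinv'
      intro x hx
      rw [Subgroup.mem_center_iff]
      intro g
      apply Subtype.ext
      exact (hcen (x : G) ⟨x, hx, rfl⟩ (g : G) g.2).symm
    have hfix' : ∀ a : (P : Subgroup G), ∀ z ∈ Subgroup.center R, cjE hRinv a z = z := by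
      intro a z hz
      apply Subtype.ext
      rw [cjE_coe]
      have := h2 (z : G) ((hcenter z).1 hz) a a.2
      rw [← this]; group
    have h4 := succ_card_le_charDegree_sq_of_class_two (cjE hRinv) hcomm' hmin' hfix' hcard
      ⟨⟨r, hr⟩, ⟨s, hs⟩, fun h => hrs (congrArg Subtype.val h)⟩ hξ hξf
    rw [hξdeg] at h4
    omega

end Cfsg.Agent.Helper82.TISylow
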