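import Cfsg.Agent.Helper39.U34.Data

/-!
# S3663 (helper39 #9232): piece (W) `w0_mem` (helper82, backup)

`w0 ∈ W`: every block sum of `w0` vanishes mod 5.  Route: `det3 a b z = dot (cross a b) z`, and the
block sum only depends on the normalised cross product `nrm (cross (pt a) (pt b))`, which takes
exactly 208 values (the 208 secant lines of the hermitian unital).  The kernel checks
(i) every pair `a ≠ b` has its normalised cross product in the table `lineCodes`
(4160 cross products), (ii) the 208 block sums vanish (208 × 65 dot products).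
-/

set_option autoImplicit false

namespace Cfsg.Agent.Helper82.U34W

open Cfsg.Agent.Helper39.U34

/-- the cross product in characteristic 2 -/
def cross (a b : Vec) : Vec :=
  ![a 1 * b 2 + a 2 * b 1, a 0 * b 2 + a 2 * b 0, a 0 * b 1 + a 1 * b 0]

/-- the standard bilinear form -/
def dot (c z : Vec) : GF16 := c 0 * z 0 + c 1 * z 1 + c 2 * z 2

theorem det3_eq (a b z : Vec) : det3 a b z = dot (cross a b) z := by
  have h0 : cross a b 0 = a 1 * b 2 + a 2 * b 1 := rfl
  have h1 : cross a b 1 = a 0 * b 2 + a 2 * b 0 := rfl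
  have h2 : cross a b 2 = a 0 * b 1 + a 1 * b 0 := rfl
  unfold det3 dot
  rw [h0, h1, h2]
  ring

theorem dot_nrm (c z : Vec) : dot (nrm c) z = (lead c)⁻¹ * dot c z := by
  unfold dot nrm
  ring

theorem eq_zero_of_lead (c : Vec) (h : lead c = 0) : ∀ i, c i = 0 := by
  unfold lead at h
  split_ifs at h with h0 h1
  · intro i
    fin_cases i
    · exact h0
    · exact h1
    · exact h
  · exact absurd h h1
  · exact absurd h h0

theorem dot_nrm_eq_zero_iff (c z : Vec) : dot (nrm c) z = 0 ↔ dot c z = 0 := by
  rw [dot_nrm]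
  by_cases h : lead c = 0
  · have hc := eq_zero_of_lead c h
    have hd : dot c z = 0 := by
      unfold dot
      rw [hc 0, hc 1, hc 2]
      ring
    rw [hd, mul_zero]
  · constructor
    · intro h0
      rcases mul_eq_zero.1 h0 with h1 | h1
      · exact absurd (inv_eq_zero.1 h1) h
      · exact h1
    · intro h0
      rw [h0, mul_zero]

/-- the block sum attached to a (dual) vector -/
def S (c : Vec) : ZMod 5 := ∑ z : Fin 65, if dot c (pt z) = 0 then w0 z else 0

theorem bsum_eq (a b : Fin 65) : bsum w0 a b = S (nrm (cross (pt a) (pt b))) := by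
  unfold bsum S
  refine Finset.sum_congr rfl fun z _ => ?_
  by_cases h : dot (cross (pt a) (pt b)) (pt z) = 0
  · have h' : Blk a b z := by
      unfold Blk
      rw [det3_eq]
      exact h
    rw [if_pos h', if_pos ((dot_nrm_eq_zero_iff _ _).2 h)]
  · have h' : ¬ Blk a b z := by
      unfold Blk
      rw [det3_eq]
      exact h
    rw [if_neg h', if_neg (fun h'' => h ((dot_nrm_eq_zero_iff _ _).1 h''))]

theorem GF16_ext (x y : GF16) (h : x.n = y.n) : x = y := by
  cases x
  cases y
  simp only at h
  subst h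
  rfl

theorem mkVec_code (v : Vec) : mkVec (code v) = v := by
  have h0 := (v 0).h
  have h1 := (v 1).h
  have h2 := (v 2).h
  funext i
  fin_cases i
  · apply GF16_ext
    show code v % 16 = (v 0).n
    unfold code
    omega
  · apply GF16_ext
    show code v / 16 % 16 = (v 1).n
    unfold code
    omega
  · apply GF16_ext
    show code v / 256 % 16 = (v 2).n
    unfold code
    omega

/-- the codes of the 208 normalised cross products (the secant lines) -/
def lineCodes : List ℕ :=
  [1, 16, 33, 49, 65, 81, 97, 113, 145, 177, 209, 225, 256, 273, 289, 305,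
   321, 337, 353, 369, 385, 401, 417, 433, 449, 465, 481, 497, 513, 528, 529, 545,
   561, 625, 641, 673, 689, 705, 721, 753, 769, 784, 785, 801, 817, 881, 897, 929,
   945, 961, 977, 1009, 1025, 1040, 1041, 1089, 1105, 1121, 1153, 1169, 1185, 1217, 1249, 1265,
   1281, 1296, 1297, 1345, 1361, 1377, 1409, 1425, 1441, 1473, 1505, 1521, 1537, 1552, 1553, 1601,
   1617, 1633, 1665, 1681, 1697, 1729, 1761, 1777, 1793, 1808, 1809, 1825, 1841, 1905, 1921, 1953,
   1969, 1985, 2001, 2033, 2065, 2081, 2097, 2113, 2129, 2145, 2161, 2177, 2193, 2209, 2225, 2241,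
   2257, 2273, 2289, 2305, 2320, 2321, 2369, 2385, 2401, 2433, 2449, 2465, 2497, 2529, 2545, 2577,
   2593, 2609, 2625, 2641, 2657, 2673, 2689, 2705, 2721, 2737, 2753, 2769, 2785, 2801, 2817, 2832,
   2833, 2849, 2865, 2929, 2945, 2977, 2993, 3009, 3025, 3057, 3089, 3105, 3121, 3137, 3153, 3169,
   3185, 3201, 3217, 3233, 3249, 3265, 3281, 3297, 3313, 3329, 3344, 3345, 3361, 3377, 3441, 3457,
   3489, 3505, 3521, 3537, 3569, 3585, 3600, 3601, 3649, 3665, 3681, 3713, 3729, 3745, 3777, 3809,
   3825, 3857, 3873, 3889, 3905, 3921, 3937, 3953, 3969, 3985, 4001, 4017, 4033, 4049, 4065, 4081]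

set_option maxRecDepth 100000 in
theorem mem_lines : ∀ a b : Fin 65, a ≠ b → code (nrm (cross (pt a) (pt b))) ∈ lineCodes := by
  decide +kernel

set_option maxRecDepth 100000 in
theorem S_lines : ∀ k ∈ lineCodes, S (mkVec k) = 0 := by
  decide +kernel

/-- (W) `w0` lies in `W` -/
theorem w0_mem : w0 ∈ W := by
  rw [mem_W]
  intro a b hab
  rw [bsum_eq, ← mkVec_code (nrm (cross (pt a) (pt b)))]
  exact S_lines _ (mem_lines a b hab)

end Cfsg.Agent.Helper82.U34W
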